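import Groth.Agent.AlgGrp79.Act
import Mathlib.AlgebraicGeometry.AlgClosed.Basic
import Mathlib.AlgebraicGeometry.Morphisms.Smooth

/-! Translations by rational points for an action of an algebraic group over an algebraically closed field. -/

set_option autoImplicit false
universe u

open CategoryTheory MonoidalCategory CartesianMonoidalCategory MonObj AlgebraicGeometry CategoryTheory.Limits
open Groth.Agent.AlgGrp79

namespace Groth.Agent.Var76.ActTrans

set_option backward.isDefEq.respectTransparency false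

section
variable {S : Scheme.{u}} {G X : Over S} [GrpObj G] (a : AlgGrp.Action G X)

/-- left translation of the group by a section -/
noncomputable def lTrans (σ : 𝟙_ (Over S) ⟶ G) : G ≅ G where
  hom := (toUnit G ≫ σ) * 𝟙 G
  inv := (toUnit G ≫ σ)⁻¹ * 𝟙 G
  hom_inv_id := by
    rw [MonObj.comp_mul, GrpObj.comp_inv, ← Category.assoc, toUnit_unique (_ ≫ toUnit G) (toUnit G),
      Category.comp_id, inv_mul_cancel_left]
  inv_hom_id := by
    rw [MonObj.comp_mul, ← Category.assoc, toUnit_unique (_ ≫ toUnit G) (toUnit G),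
      Category.comp_id, mul_inv_cancel_left]

/-- translation of the space by a section of the group -/
noncomputable def xTrans (σ : 𝟙_ (Over S) ⟶ G) : X ≅ X where
  hom := lift (toUnit X ≫ σ) (𝟙 X) ≫ a.act
  inv := lift (toUnit X ≫ σ)⁻¹ (𝟙 X) ≫ a.act
  hom_inv_id := by
    rw [comp_lift_act, GrpObj.comp_inv, ← Category.assoc, toUnit_unique (_ ≫ toUnit X) (toUnit X),
      Category.comp_id, inv_act_act]
  inv_hom_id := by
    rw [comp_lift_act, ← Category.assoc, toUnit_unique (_ ≫ toUnit X) (toUnit X),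
      Category.comp_id, act_inv_act]

theorem comp_xTrans {T : Over S} (x : T ⟶ X) (σ : 𝟙_ (Over S) ⟶ G) :
    x ≫ (xTrans a σ).hom = lift (toUnit T ≫ σ) x ≫ a.act := by
  rw [xTrans, comp_lift_act, ← Category.assoc, toUnit_unique (_ ≫ toUnit X) (toUnit T),
    Category.comp_id]

theorem comp_lTrans {T : Over S} (g : T ⟶ G) (σ : 𝟙_ (Over S) ⟶ G) :
    g ≫ (lTrans σ).hom = (toUnit T ≫ σ) * g := by
  rw [lTrans, MonObj.comp_mul, ← Category.assoc, toUnit_unique (_ ≫ toUnit G) (toUnit T),
    Category.comp_id]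

theorem comp_orbit {T : Over S} (g : T ⟶ G) (o : 𝟙_ (Over S) ⟶ X) :
    g ≫ a.orbitMap o = lift g (toUnit T ≫ o) ≫ a.act := by
  rw [AlgGrp.Action.orbitMap, comp_lift_act, ← Category.assoc,
    toUnit_unique (_ ≫ toUnit G) (toUnit T), Category.comp_id]

theorem lTrans_orbit (σ : 𝟙_ (Over S) ⟶ G) (o : 𝟙_ (Over S) ⟶ X) :
    (lTrans σ).hom ≫ a.orbitMap o = a.orbitMap o ≫ (xTrans a σ).hom := by
  have h := comp_orbit a (𝟙 G) o
  rw [Category.id_comp] at h
  rw [comp_orbit, comp_xTrans, h, ← mul_act']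
  rfl

end

variable {k : Type u} [Field k] [IsAlgClosed k]

/-- the section through a closed point -/
noncomputable def sec (X : Over (Spec (CommRingCat.of k))) [LocallyOfFiniteType X.hom] (x : X.left)
    (hx : IsClosed {x}) : 𝟙_ (Over (Spec (CommRingCat.of k))) ⟶ X :=
  Over.homMk (pointOfClosedPoint X.hom x hx) (pointOfClosedPoint_comp X.hom x hx)

theorem sec_apply (X : Over (Spec (CommRingCat.of k))) [LocallyOfFiniteType X.hom] (x : X.left)
    (hx : IsClosed {x}) (p : Spec (CommRingCat.of k)) : (sec X x hx).left p = x :=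
  pointOfClosedPoint_apply X.hom x hx p

variable {G X : Over (Spec (CommRingCat.of k))} [GrpObj G] (a : AlgGrp.Action G X)

theorem exists_lTrans_eq [LocallyOfFiniteType G.hom] (g g' : G.left) (hg : IsClosed {g})
    (hg' : IsClosed {g'}) :
    ∃ σ : 𝟙_ (Over (Spec (CommRingCat.of k))) ⟶ G, (lTrans σ).hom.left g = g' := by
  refine ⟨sec G g' hg' * (sec G g hg)⁻¹, ?_⟩
  have h : sec G g hg ≫ (lTrans (sec G g' hg' * (sec G g hg)⁻¹)).hom = sec G g' hg' := by
    rw [comp_lTrans, toUnit_unique (toUnit _) (𝟙 _), Category.id_comp, inv_mul_cancel_right]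
  have h1 := congr(($h).left (IsLocalRing.closedPoint k))
  rw [Over.comp_left, Scheme.Hom.comp_apply, sec_apply, sec_apply] at h1
  exact h1

/-- the orbit map of a transitive action hits every closed point -/
theorem exists_orbit_eq [LocallyOfFiniteType X.hom]
    (htrans : ∀ x x' : 𝟙_ (Over (Spec (CommRingCat.of k))) ⟶ X,
      ∃ σ : 𝟙_ (Over (Spec (CommRingCat.of k))) ⟶ G, lift σ x ≫ a.act = x')
    (o : 𝟙_ (Over (Spec (CommRingCat.of k))) ⟶ X) (y : X.left) (hy : IsClosed {y}) :
    ∃ g : G.left, (a.orbitMap o).left g = y := by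
  obtain ⟨σ, hσ⟩ := htrans o (sec X y hy)
  have h : σ ≫ a.orbitMap o = sec X y hy := by
    rw [comp_orbit, toUnit_unique (toUnit _) (𝟙 _), Category.id_comp, hσ]
  refine ⟨σ.left (IsLocalRing.closedPoint k), ?_⟩
  have h1 := congr(($h).left (IsLocalRing.closedPoint k))
  rw [Over.comp_left, Scheme.Hom.comp_apply, sec_apply] at h1
  exact h1

theorem denseRange_orbit [LocallyOfFiniteType X.hom]
    (htrans : ∀ x x' : 𝟙_ (Over (Spec (CommRingCat.of k))) ⟶ X,
      ∃ σ : 𝟙_ (Over (Spec (CommRingCat.of k))) ⟶ G, lift σ x ≫ a.act = x')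
    (o : 𝟙_ (Over (Spec (CommRingCat.of k))) ⟶ X) : DenseRange (a.orbitMap o).left := by
  have : JacobsonSpace X.left := LocallyOfFiniteType.jacobsonSpace X.hom
  refine Dense.mono (fun y hy => exists_orbit_eq a htrans o y hy) ?_
  exact dense_iff_closure_eq.2 closure_closedPoints

end Groth.Agent.Var76.ActTrans
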