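import Groth.Agent.Cyc90.FlatRelDim
import Groth.Agent.E4O.FibreComp
import Groth.Agent.WC97.Dim
import Groth.Agent.TopDim50.Basic
import Mathlib.AlgebraicGeometry.Noetherian
import Mathlib.AlgebraicGeometry.Morphisms.FinitePresentation
import Mathlib.Topology.Constructible

/-! Dimensions of fibres of morphisms of schemes of finite type over a field. -/

set_option autoImplicit false
universe u

open CategoryTheory CategoryTheory.Limits AlgebraicGeometry TopologicalSpace Topology
open Groth.Agent.WC97 (tdegN tdeg tdeg_eq_natCast kStr kStr_comp)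
open Groth.Agent.E4O (fdeg)

namespace Groth.Agent.Var76.FibreBound

variable {k : Type u} [Field k]

/-- A constructible set contains or misses a neighbourhood of a point in its closure. -/
theorem exists_nhd_inter_closure {Z : Type*} [TopologicalSpace Z] (η : Z) {s : Set Z} (hs : IsConstructible s) :
    ∃ W : Set Z, IsOpen W ∧ η ∈ W ∧ (W ∩ closure {η} ⊆ s ∨ W ∩ closure {η} ⊆ sᶜ) := by
  induction hs using IsConstructible.empty_union_induction with
  | open_retrocompact U hU _ =>
    by_cases hη : η ∈ U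
    · exact ⟨U, hU, hη, Or.inl Set.inter_subset_left⟩
    · refine ⟨Set.univ, isOpen_univ, trivial, Or.inr fun z hz hzU => hη ?_⟩
      exact (specializes_iff_mem_closure.2 hz.2).mem_open hU hzU
  | union s hs t ht h1 h2 =>
    obtain ⟨W, hW, hWη, hW'⟩ := h1
    obtain ⟨W₂, hW₂, hW₂η, hW₂'⟩ := h2
    refine ⟨W ∩ W₂, hW.inter hW₂, ⟨hWη, hW₂η⟩, ?_⟩
    rcases hW' with h | h
    · exact Or.inl fun z hz => Or.inl (h ⟨hz.1.1, hz.2⟩)
    rcases hW₂' with h' | h'
    · exact Or.inl fun z hz => Or.inr (h' ⟨hz.1.2, hz.2⟩)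
    · exact Or.inr fun z hz hz' => hz'.elim (h ⟨hz.1.1, hz.2⟩) (h' ⟨hz.1.2, hz.2⟩)
  | compl s hs h =>
    obtain ⟨W, hW, hWη, hW'⟩ := h
    exact ⟨W, hW, hWη, hW'.symm.imp id fun h z hz hz' => hz' (h hz)⟩

section Points

variable {X : Scheme.{u}} (f : X ⟶ Spec (CommRingCat.of k)) [LocallyOfFiniteType f]

include f in
theorem fdeg_str_eq (x : X) : fdeg f x = tdegN f x := by
  have h := E4O.dim_fibreClosure (f := f) x
  rw [show f ⁻¹' {f x} = Set.univ from
    Set.eq_univ_of_forall fun y => Subsingleton.elim (α := PrimeSpectrum k) _ _, Set.inter_univ,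
    WC97.topologicalKrullDim_closure f x] at h
  exact_mod_cast h.symm

include f in
theorem tdegN_lt {z x : X} (h : z ⤳ x) (hne : z ≠ x) : tdegN f x < tdegN f z := by
  rw [← fdeg_str_eq f, ← fdeg_str_eq f]
  exact E4O.fdeg_lt h (Subsingleton.elim (α := PrimeSpectrum k) _ _) hne

include f in
theorem tdegN_le {z x : X} (h : z ⤳ x) : tdegN f x ≤ tdegN f z := by
  rcases eq_or_ne z x with rfl | hne
  · exact le_rfl
  · exact (tdegN_lt f h hne).le

include f in
theorem eq_of_tdegN_le {z x : X} (h : z ⤳ x) (hle : tdegN f z ≤ tdegN f x) : z = x := by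
  by_contra hne
  exact (tdegN_lt f h hne).not_ge hle

include f in
theorem tdegN_eq_zero {x : X} (hx : IsClosed ({x} : Set X)) : tdegN f x = 0 := by
  have h := WC97.topologicalKrullDim_closure f x
  rw [hx.closure_eq] at h
  have h0 : topologicalKrullDim ↥({x} : Set X) ≤ 0 := topologicalKrullDim_zero_of_discreteTopology _
  rw [h] at h0
  exact Nat.le_zero.1 (by exact_mod_cast h0)

include f in
theorem tdegN_le_dim (x : X) : (tdegN f x : WithBot ℕ∞) ≤ topologicalKrullDim X :=
  (WC97.topologicalKrullDim_closure f x).ge.trans (topologicalKrullDim_subspace_le X _)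

include f in
theorem tdegN_le_dim_of_closure_subset {s : Set X} {x : X} (h : closure {x} ⊆ s) :
    (tdegN f x : WithBot ℕ∞) ≤ topologicalKrullDim ↥s :=
  (WC97.topologicalKrullDim_closure f x).ge.trans (TopDim50.dim_mono h)

include f in
theorem dim_le_of_forall {s : Set X} (hs : IsClosed s) {d : WithBot ℕ∞}
    (h : ∀ x ∈ s, (tdegN f x : WithBot ℕ∞) ≤ d) : topologicalKrullDim ↥s ≤ d := by
  refine TopDim50.dim_le_of_forall_series fun l => ?_
  obtain ⟨η, hη⟩ := QuasiSober.sober (l.last.isIrreducible.image Subtype.val continuous_subtype_val.continuousOn)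
    (hs.isClosedEmbedding_subtypeVal.isClosedMap _ l.last.isClosed)
  have hηs : η ∈ s := by
    obtain ⟨z, _, hz⟩ : η ∈ Subtype.val '' (l.last : Set s) := hη.mem
    exact hz ▸ z.2
  refine le_trans ?_ (h η hηs)
  refine (TopDim50.length_le_dim_of_closed l.last.isClosed l (by exact subset_rfl)).trans ?_
  rw [← WC97.topologicalKrullDim_closure f η, hη.def]
  exact le_of_eq (IsHomeomorph.topologicalKrullDim_eq _
    (IsEmbedding.subtypeVal.homeomorphImage (l.last : Set s)).isHomeomorph)

include f in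
theorem dim_le_of_forall_univ {d : WithBot ℕ∞} (h : ∀ x, (tdegN f x : WithBot ℕ∞) ≤ d) :
    topologicalKrullDim X ≤ d := by
  refine le_trans (le_of_eq ?_) (dim_le_of_forall f isClosed_univ fun x _ => h x)
  exact (IsHomeomorph.topologicalKrullDim_eq _ (Homeomorph.Set.univ X).isHomeomorph).symm

include f in
theorem exists_tdegN_eq_dim [Nonempty X] [NoetherianSpace X] :
    ∃ x : X, (∀ z, z ⤳ x → z = x) ∧ topologicalKrullDim X = (tdegN f x : ℕ) := by
  have hfin := NoetherianSpace.finite_irreducibleComponents (α := X)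
  have hpt : ∀ Z : irreducibleComponents X, ∃ z, (Z : Set X) = closure {z} ∧ ∀ z', z' ⤳ z → z' = z :=
    fun Z => E4O.exists_eq_closure_of_mem_irreducibleComponents Z.2
  choose η hη hmax using hpt
  have := hfin.to_subtype
  have : Nonempty (irreducibleComponents X) :=
    ⟨⟨_, irreducibleComponent_mem_irreducibleComponents (Classical.arbitrary X)⟩⟩
  obtain ⟨Z₀, hZ₀⟩ := Finite.exists_max fun Z => tdegN f (η Z)
  refine ⟨η Z₀, hmax Z₀, le_antisymm (dim_le_of_forall_univ f fun x => ?_) (tdegN_le_dim f _)⟩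
  obtain ⟨Z, hZ, hxZ⟩ := exists_mem_irreducibleComponents_subset_of_isIrreducible _
    (isIrreducible_singleton (x := x))
  have hx : x ∈ closure {η ⟨Z, hZ⟩} := (hη ⟨Z, hZ⟩) ▸ (hxZ rfl)
  exact Nat.cast_le.2 ((tdegN_le f (specializes_iff_mem_closure.2 hx)).trans (hZ₀ ⟨Z, hZ⟩))

include f in
theorem exists_maximal (x : X) : ∃ ξ, ξ ⤳ x ∧ ∀ w, w ⤳ ξ → w = ξ := by
  obtain ⟨Z, hZ, hxZ⟩ := exists_mem_irreducibleComponents_subset_of_isIrreducible _
    (isIrreducible_singleton (x := x))
  obtain ⟨z, rfl, hz⟩ := E4O.exists_eq_closure_of_mem_irreducibleComponents hZ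
  exact ⟨z, specializes_iff_mem_closure.2 (hxZ rfl), hz⟩

end Points

theorem noetherianSpace {X : Scheme.{u}} (f : X ⟶ Spec (CommRingCat.of k)) [LocallyOfFiniteType f]
    [QuasiCompact f] : NoetherianSpace X := by
  have : IsLocallyNoetherian X := LocallyOfFiniteType.isLocallyNoetherian f
  have : CompactSpace X := QuasiCompact.compactSpace_of_compactSpace f
  have : IsNoetherian X := {}
  infer_instance

variable {X Y : Scheme.{u}} {qX : X ⟶ Spec (CommRingCat.of k)} {qY : Y ⟶ Spec (CommRingCat.of k)}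
  [LocallyOfFiniteType qX] [LocallyOfFiniteType qY] (f : X ⟶ Y)

/-- The transcendence degree is additive along a morphism. -/
theorem tdegN_eq_add [LocallyOfFiniteType f] (hf : f ≫ qY = qX) (x : X) :
    tdegN qX x = tdegN qY (f x) + fdeg f x := by
  let : Algebra k (Y.residueField (f x)) := (kStr qY (f x)).toAlgebra
  let : Algebra k (X.residueField x) := (kStr qX x).toAlgebra
  let : Algebra (Y.residueField (f x)) (X.residueField x) := (f.residueFieldMap x).hom.toAlgebra
  have : IsScalarTower k (Y.residueField (f x)) (X.residueField x) :=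
    .of_algebraMap_eq fun r => RingHom.congr_fun (kStr_comp f qX qY hf x) r
  have h := trdeg_add_eq k (Y.residueField (f x)) (A := X.residueField x)
  rw [Cyc90.trdeg_residueField_eq_fdeg f x] at h
  have h1 : Algebra.trdeg k (X.residueField x) = (tdegN qX x : Cardinal.{u}) := tdeg_eq_natCast qX x
  have h2 : Algebra.trdeg k (Y.residueField (f x)) = (tdegN qY (f x) : Cardinal.{u}) := tdeg_eq_natCast qY (f x)
  rw [h1, h2] at h
  exact_mod_cast h.symm

theorem exists_fdeg_eq_dim [LocallyOfFiniteType f] [NoetherianSpace X] {y : Y} (r : ℕ)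
    (hne : (f ⁻¹' {y}).Nonempty) (hr : topologicalKrullDim ↥(f ⁻¹' {y}) = r) :
    ∃ x, f x = y ∧ fdeg f x = r := by
  have hle : ∀ x, f x = y → fdeg f x ≤ r := by
    intro x hx
    have h := (E4O.dim_fibreClosure (f := f) x).ge.trans
      ((TopDim50.dim_mono (Set.inter_subset_right)).trans (hx ▸ hr).le)
    exact_mod_cast h
  obtain ⟨x₀, hx₀, hmax⟩ : ∃ x₀, f x₀ = y ∧ ∀ x, f x = y → fdeg f x ≤ fdeg f x₀ := by
    classical
    let S : Set ℕ := {n | ∃ x, f x = y ∧ fdeg f x = n}
    have hb : BddAbove S := ⟨r, by rintro n ⟨x, hx, rfl⟩; exact hle x hx⟩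
    obtain ⟨x₀, hx₀, h₀⟩ := Nat.sSup_mem (s := S) ⟨_, hne.some, hne.some_mem, rfl⟩ hb
    exact ⟨x₀, hx₀, fun x hx => h₀ ▸ le_csSup hb ⟨x, hx, rfl⟩⟩
  refine ⟨x₀, hx₀, le_antisymm (hle x₀ hx₀) ?_⟩
  have h1 : topologicalKrullDim ↥(f.fiber y) = (r : WithBot ℕ∞) :=
    (IsHomeomorph.topologicalKrullDim_eq _ (f.fiberHomeo y).isHomeomorph).trans hr
  have h2 := (E4O.dim_fiber_le_iff f y ((fdeg f x₀ : ℕ) : WithBot ℕ∞)).2
    fun x hx => Nat.cast_le.2 (hmax x hx)
  rw [h1] at h2
  exact_mod_cast h2

theorem isConstructible_image [LocallyOfFiniteType f] [NoetherianSpace X] [NoetherianSpace Y]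
    [IsLocallyNoetherian Y] {U : Set X} (hU : IsOpen U) : IsConstructible (f '' U) := by
  have : LocallyOfFinitePresentation f := by
    refine HasRingHomProperty.iff_appLE.2 fun U V e => ?_
    have : IsNoetherianRing Γ(Y, U.1) := IsLocallyNoetherian.component_noetherian U
    exact RingHom.FinitePresentation.of_finiteType.1
      (HasRingHomProperty.appLE (P := @LocallyOfFiniteType) f inferInstance U V e)
  have : QuasiCompact f := ⟨fun V _ _ => NoetherianSpace.isCompact _⟩
  exact (f.isLocallyConstructible_image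
    (((NoetherianSpace.isCompact U).isConstructible hU).isLocallyConstructible)).isConstructible

/-- A maximal point in the closure of the image is in the image. -/
theorem mem_range_of_maximal [LocallyOfFiniteType f] [NoetherianSpace X] [NoetherianSpace Y]
    [IsLocallyNoetherian Y] {η : Y} (hη : η ∈ closure (Set.range f)) (hmax : ∀ w, w ⤳ η → w = η) :
    η ∈ Set.range f := by
  obtain ⟨W, hW, hηW, h⟩ := exists_nhd_inter_closure η
    (Set.image_univ (f := f) ▸ isConstructible_image f isOpen_univ)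
  rcases h with h | h
  · exact h ⟨hηW, subset_closure rfl⟩
  have hfin := NoetherianSpace.finite_irreducibleComponents (α := Y)
  let others : Set Y := ⋃₀ (irreducibleComponents Y \ {closure {η}})
  have ho : IsClosed others := by
    rw [show others = ⋃ Z ∈ irreducibleComponents Y \ {closure {η}}, Z from Set.sUnion_eq_biUnion]
    exact (hfin.subset Set.sdiff_subset).isClosed_biUnion
      fun Z hZ => isClosed_of_mem_irreducibleComponents Z hZ.1
  have hη' : η ∉ others := by
    rintro ⟨Z, ⟨hZ, hne⟩, hηZ⟩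
    obtain ⟨z, rfl, -⟩ := E4O.exists_eq_closure_of_mem_irreducibleComponents hZ
    exact hne (congrArg (fun w => closure {w}) (hmax z (specializes_iff_mem_closure.2 hηZ)))
  obtain ⟨y, ⟨hyW, hyo⟩, hy⟩ := mem_closure_iff.1 hη _ (hW.inter ho.isOpen_compl) ⟨hηW, hη'⟩
  refine absurd hy (h ⟨hyW, ?_⟩)
  obtain ⟨Z, hZ, hyZ⟩ := exists_mem_irreducibleComponents_subset_of_isIrreducible _
    (isIrreducible_singleton (x := y))
  by_cases hZη : Z = closure {η}
  · exact hZη ▸ hyZ rfl
  · exact absurd ⟨Z, ⟨hZ, hZη⟩, hyZ rfl⟩ hyo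

end Groth.Agent.Var76.FibreBound
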