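import Groth.Agent.CAlg1.Regular
import Mathlib.RingTheory.Smooth.Kaehler
import Mathlib.RingTheory.Smooth.Basic
import Mathlib.RingTheory.Kaehler.Basic
import Mathlib.RingTheory.Smooth.Locus
import Mathlib.RingTheory.Jacobson.Ring
import Mathlib.FieldTheory.IsAlgClosed.Basic

/-! A regular local ring with rational residue field is formally smooth. -/

universe u

open scoped TensorProduct
open IsLocalRing KaehlerDifferential

namespace Groth.Agent.Var76.RegSmooth

variable {k P S : Type u} [Field k] [CommRing P] [CommRing S] [Algebra k P] [Algebra k S]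
  [Algebra P S] [IsScalarTower k P S]

/-- A regular quotient of a formally smooth local algebra with rational residue field is formally
smooth. -/
theorem formallySmooth_of_surjective [IsLocalRing P] [IsNoetherianRing P]
    [Algebra.FormallySmooth k P] [Algebra.EssFiniteType k P] [IsRegularLocalRing S]
    (hsurj : Function.Surjective (algebraMap P S))
    (hrat : Function.Surjective ((residue P).comp (algebraMap k P))) :
    Algebra.FormallySmooth k S := by
  classical
  have hloc : IsLocalHom (algebraMap P S) := Function.Surjective.isLocalHom _ hsurj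
  set m := maximalIdeal P
  set I := RingHom.ker (algebraMap P S)
  have hIm : I ≤ m := IsLocalRing.le_maximalIdeal (RingHom.ker_ne_top _)
  -- the residue field is `k`
  let σ : P → k := fun a => (hrat (residue P a)).choose
  have hσ : ∀ a, a - algebraMap k P (σ a) ∈ m := fun a => by
    rw [← residue_eq_zero_iff, map_sub, sub_eq_zero]
    exact (hrat (residue P a)).choose_spec.symm
  -- independent elements of the kernel
  let c : I → m.Cotangent := fun y => m.toCotangent ⟨y.1, hIm y.2⟩
  have : Module.Finite k m.Cotangent := by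
    have : Module.Finite P m.Cotangent := Module.Finite.of_surjective m.toCotangent m.toCotangent_surjective
    obtain ⟨s, hs⟩ := (Module.Finite.fg_top : (⊤ : Submodule P m.Cotangent).FG)
    refine ⟨⟨s, eq_top_iff.2 fun x _ => ?_⟩⟩
    have hx : x ∈ Submodule.span P (s : Set m.Cotangent) := hs ▸ trivial
    induction hx using Submodule.span_induction with
    | mem x hx => exact Submodule.subset_span hx
    | zero => exact zero_mem _
    | add x y _ _ hx hy => exact add_mem (hx trivial) (hy trivial)
    | smul a x _ hx =>
      have e : a • x = σ a • x := by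
        rw [← algebraMap_smul P (σ a) x, ← sub_eq_zero, ← sub_smul]
        obtain ⟨x, rfl⟩ := m.toCotangent_surjective x
        rw [← map_smul, Ideal.toCotangent_eq_zero, Submodule.coe_smul, pow_two, smul_eq_mul]
        exact Ideal.mul_mem_mul (hσ a) x.2
      rw [e]
      exact Submodule.smul_mem _ _ (hx trivial)
  obtain ⟨J, eJ, heJ, hJspan, hJli⟩ := exists_linearIndependent' k c
  have : Finite J := hJli.finite
  have : Fintype J := Fintype.ofFinite J
  let x : J → P := fun j => (eJ j).1
  have hxI : ∀ j, x j ∈ I := fun j => (eJ j).2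
  set X := Ideal.span (Set.range x)
  have hXI : X ≤ I := Ideal.span_le.2 (Set.range_subset_iff.2 hxI)
  have hIX : I ≤ X ⊔ m ^ 2 := by
    intro y hy
    have h : c ⟨y, hy⟩ ∈ Submodule.span k (Set.range (c ∘ eJ)) := by
      rw [hJspan]; exact Submodule.subset_span ⟨_, rfl⟩
    obtain ⟨g, hg⟩ := (Submodule.mem_span_range_iff_exists_fun k).1 h
    let z : P := ∑ j, algebraMap k P (g j) * x j
    have hz : z ∈ X := Ideal.sum_mem _ fun j _ =>
      Ideal.mul_mem_left _ _ (Ideal.subset_span ⟨j, rfl⟩)
    have hzy : m.toCotangent ⟨z, hIm (hXI hz)⟩ = m.toCotangent ⟨y, hIm hy⟩ := by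
      show _ = c ⟨y, hy⟩
      rw [← hg, show (⟨z, hIm (hXI hz)⟩ : m) = ∑ j, algebraMap k P (g j) • (⟨x j, hIm (hxI j)⟩ : m) by
        ext; simp [z, Submodule.coe_sum, Algebra.smul_def], map_sum]
      simp only [map_smul, algebraMap_smul]
      rfl
    rw [Ideal.toCotangent_eq] at hzy
    refine Submodule.mem_sup.2 ⟨z, hz, y - z, ?_, by ring⟩
    have := neg_mem hzy
    rwa [show -((⟨z, hIm (hXI hz)⟩ : m).1 - (⟨y, hIm hy⟩ : m).1) = y - z by simp] at this
  -- the kernel is generated by them
  have hXne : X ≠ ⊤ := fun h => (maximalIdeal.isMaximal P).ne_top (top_le_iff.1 (h ▸ hXI.trans hIm))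
  have : Nontrivial (P ⧸ X) := Ideal.Quotient.nontrivial_iff.mpr hXne
  have : IsLocalRing (P ⧸ X) :=
    IsLocalRing.of_surjective' (Ideal.Quotient.mk X) Ideal.Quotient.mk_surjective
  let π : P ⧸ X →+* S := Ideal.Quotient.lift X (algebraMap P S) (fun a ha => hXI ha)
  have hπ : Function.Surjective π := Ideal.Quotient.lift_surjective_of_surjective _ _ hsurj
  obtain ⟨s, hscard, hs⟩ := Submodule.exists_span_set_card_eq_spanRank (maximalIdeal S)
  have hsfin : s.Finite := by
    rw [← Cardinal.lt_aleph0_iff_set_finite, hscard, Submodule.spanRank_finite_iff_fg]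
    exact IsNoetherian.noetherian _
  have hgen : m = X ⊔ Ideal.span (Function.surjInv hsurj '' s) := by
    refine le_antisymm ?_ (sup_le (hXI.trans hIm) (Ideal.span_le.2 ?_))
    · refine Submodule.le_of_le_smul_of_le_jacobson_bot (I := m) (IsNoetherian.noetherian m)
        (IsLocalRing.maximalIdeal_le_jacobson _) fun a ha => ?_
      have hmap : (Ideal.span (Function.surjInv hsurj '' s)).map (algebraMap P S) = maximalIdeal S := by
        rw [Ideal.map_span, ← Set.image_comp, show algebraMap P S ∘ Function.surjInv hsurj = _root_.id from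
          funext (Function.surjInv_eq hsurj), Set.image_id]
        exact hs
      have ha' : algebraMap P S a ∈ (Ideal.span (Function.surjInv hsurj '' s)).map (algebraMap P S) := by
        rw [hmap, IsLocalRing.mem_maximalIdeal, mem_nonunits_iff, isUnit_map_iff]
        exact ha
      obtain ⟨b, hb, hba⟩ := (Ideal.mem_map_iff_of_surjective _ hsurj).1 ha'
      have hab : a - b ∈ I := by simp [I, RingHom.mem_ker, hba]
      obtain ⟨u, hu, v, hv, huv⟩ := Submodule.mem_sup.1 (hIX hab)
      refine Submodule.mem_sup.2 ⟨u + b, add_mem (Submodule.mem_sup_left hu) (Submodule.mem_sup_right hb),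
        v, ?_, by linear_combination huv⟩
      rwa [smul_eq_mul, ← pow_two]
    · rintro _ ⟨t, ht, rfl⟩
      show Function.surjInv hsurj t ∈ m
      rw [IsLocalRing.mem_maximalIdeal, mem_nonunits_iff, ← isUnit_map_iff (algebraMap P S),
        Function.surjInv_eq hsurj]
      exact (IsLocalRing.mem_maximalIdeal t).1 (hs ▸ Submodule.subset_span ht)
  have hle : (maximalIdeal (P ⧸ X)).spanFinrank ≤ (maximalIdeal S).spanFinrank := by
    rw [CAlg1.maximalIdeal_quotient]
    show (Ideal.map (Ideal.Quotient.mk X) m).spanFinrank ≤ _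
    rw [hgen, Ideal.map_sup, Ideal.map_quotient_self, bot_sup_eq, Ideal.map_span, ← Set.image_comp]
    refine (Submodule.spanFinrank_span_le_ncard_of_finite (hsfin.image _)).trans
      ((Set.ncard_image_le hsfin).trans ?_)
    rw [Submodule.spanFinrank, ← hscard]
    exact le_of_eq (Set.cast_ncard hsfin ▸ (Cardinal.toNat_natCast _).symm)
  have hdim : ringKrullDim S ≤ ringKrullDim (P ⧸ X) := ringKrullDim_le_of_surjective π hπ
  have hQ : IsRegularLocalRing (P ⧸ X) := IsRegularLocalRing.of_spanFinrank_maximalIdeal_le _ <|
    le_trans (le_trans (Nat.cast_le.2 hle) (IsRegularLocalRing.spanFinrank_maximalIdeal (R := S)).le) hdim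
  have hdom := CAlg1.isDomain_regular (P ⧸ X)
  have hinj : Function.Injective π := by
    rw [RingHom.injective_iff_ker_eq_bot]
    by_contra hne
    have h1 := CAlg1.ringKrullDim_quotient_succ_le_of_domain hne
    have h2 : ringKrullDim ((P ⧸ X) ⧸ RingHom.ker π) = ringKrullDim S :=
      ringKrullDim_eq_of_ringEquiv (RingHom.quotientKerEquivOfSurjective hπ)
    rw [h2, ← IsRegularLocalRing.spanFinrank_maximalIdeal (R := S)] at h1
    have h3 := h1.trans (ringKrullDim_le_spanFinrank_maximalIdeal (P ⧸ X))
    have h4 : (maximalIdeal S).spanFinrank + 1 ≤ (maximalIdeal (P ⧸ X)).spanFinrank := by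
      exact_mod_cast h3
    omega
  have hIeq : I = X := by
    refine le_antisymm (fun a ha => ?_) hXI
    rw [← Ideal.Quotient.eq_zero_iff_mem]
    exact hinj ((map_zero π).symm ▸ ha)
  -- the conormal sequence is split
  let D₀ : Derivation k P m.Cotangent :=
    Derivation.mk'
      { toFun := fun a => m.toCotangent ⟨a - algebraMap k P (σ a), hσ a⟩
        map_add' := fun a b => by
          rw [← map_add]; congr 1; ext
          show a + b - algebraMap k P (σ (a + b)) = (a - algebraMap k P (σ a)) + (b - algebraMap k P (σ b))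
          have : σ (a + b) = σ a + σ b := by
            apply ((residue P).comp (algebraMap k P)).injective
            rw [map_add, (hrat _).choose_spec, (hrat _).choose_spec, (hrat _).choose_spec, map_add]
          rw [this, map_add]; ring
        map_smul' := fun r a => by
          have : σ (r • a) = r * σ a := by
            apply ((residue P).comp (algebraMap k P)).injective
            rw [map_mul, (hrat _).choose_spec, (hrat _).choose_spec, Algebra.smul_def, map_mul]
            rfl
          rw [RingHom.id_apply]
          refine Eq.trans ?_ (algebraMap_smul P r _)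
          rw [← map_smul]
          congr 1; ext
          show r • a - algebraMap k P (σ (r • a)) = algebraMap k P r * (a - algebraMap k P (σ a))
          rw [this, map_mul, Algebra.smul_def]; ring }
      (fun a b => by
        show m.toCotangent ⟨a * b - _, _⟩ = a • m.toCotangent ⟨b - _, _⟩ + b • m.toCotangent ⟨a - _, _⟩
        rw [← map_smul, ← map_smul, ← map_add, Ideal.toCotangent_eq]
        have hmul : σ (a * b) = σ a * σ b := by
          apply ((residue P).comp (algebraMap k P)).injective
          rw [map_mul, (hrat _).choose_spec, (hrat _).choose_spec, (hrat _).choose_spec, map_mul]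
        simp only [Submodule.coe_add, Submodule.coe_smul, smul_eq_mul, hmul, map_mul, pow_two]
        have := Ideal.mul_mem_mul (neg_mem (hσ a)) (hσ b)
        convert this using 1
        ring)
  let L : Ω[P⁄k] →ₗ[P] m.Cotangent := D₀.liftKaehlerDifferential
  let T := S ⊗[P] Ω[P⁄k]
  have hred : Function.Surjective fun a : S => residue S a := residue_surjective
  -- functionals dual to the differentials of the generators
  obtain ⟨μ, hμ⟩ : ∃ μ : m.Cotangent →ₗ[k] (J → k), ∀ j, μ (c (eJ j)) = Pi.single j 1 := by
    obtain ⟨μ, hμ⟩ := LinearMap.exists_extend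
      ((Finsupp.linearEquivFunOnFinite k k J).toLinearMap.comp (hJli.repr))
    refine ⟨μ, fun j => ?_⟩
    have h := LinearMap.congr_fun hμ ⟨c (eJ j), Submodule.subset_span ⟨j, rfl⟩⟩
    refine h.trans ?_
    show Finsupp.linearEquivFunOnFinite k k J (hJli.repr _) = _
    rw [hJli.repr_eq_single j _ rfl, Finsupp.linearEquivFunOnFinite_single]
  let κ := ResidueField S
  let resP : P →+* κ := (residue S).comp (algebraMap P S)
  let V := J → κ
  let g : Ω[P⁄k] →ₗ[P] V :=
    { toFun := fun ω j => algebraMap k κ (μ (L ω) j)
      map_add' := fun a b => by ext j; simp; rfl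
      map_smul' := fun a ω => by
        ext j
        have e : a • L ω = σ a • L ω := by
          rw [← algebraMap_smul P (σ a), ← sub_eq_zero, ← sub_smul]
          obtain ⟨y, hy⟩ := m.toCotangent_surjective (L ω)
          rw [← hy, ← map_smul, Ideal.toCotangent_eq_zero, Submodule.coe_smul, pow_two, smul_eq_mul]
          exact Ideal.mul_mem_mul (hσ a) y.2
        have e2 : resP a = algebraMap k κ (σ a) := by
          show residue S (algebraMap P S a) = _
          rw [← sub_eq_zero, IsScalarTower.algebraMap_apply k S κ, IsScalarTower.algebraMap_apply k P S,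
            IsLocalRing.ResidueField.algebraMap_eq, ← map_sub, ← map_sub, residue_eq_zero_iff]
          exact fun h => (IsLocalRing.mem_maximalIdeal _).1 (hσ a) ((isUnit_map_iff _ _).1 h)
        show algebraMap k κ (μ (L (a • ω)) j) = a • algebraMap k κ (μ (L ω) j)
        rw [map_smul, e, map_smul, Pi.smul_apply, smul_eq_mul, map_mul, Algebra.smul_def,
          IsScalarTower.algebraMap_apply P S κ, IsLocalRing.ResidueField.algebraMap_eq]
        exact congrArg (· * _) e2.symm }
  let G : T →ₗ[S] V := LinearMap.liftBaseChange S g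
  have : Module.Projective S T := inferInstance
  obtain ⟨ℓ, hℓ⟩ := Module.projective_lifting_property
    (LinearMap.pi fun j => (Algebra.linearMap S κ).comp (LinearMap.proj j) : (J → S) →ₗ[S] V) G
    (fun v => ⟨fun j => (residue_surjective (v j)).choose, funext fun j => (residue_surjective (v j)).choose_spec⟩)
  let e : J → T := fun j => 1 ⊗ₜ D k P (x j)
  let M : Matrix J J S := Matrix.of fun i j => ℓ (e j) i
  have hres : ∀ i j, residue S (M i j) = (1 : Matrix J J κ) i j := by
    intro i j
    have h1 := congrFun (LinearMap.congr_fun hℓ (e j)) i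
    refine h1.trans ?_
    show (G (e j)) i = _
    rw [LinearMap.liftBaseChange_tmul, one_smul]
    show algebraMap k κ (μ (L (D k P (x j))) i) = _
    have hLx : L (D k P (x j)) = c (eJ j) := by
      rw [Derivation.liftKaehlerDifferential_comp_D]
      show m.toCotangent ⟨_, _⟩ = m.toCotangent ⟨_, _⟩
      have h0 : σ (x j) = 0 := by
        apply ((residue P).comp (algebraMap k P)).injective
        rw [map_zero, (hrat _).choose_spec, residue_eq_zero_iff]
        exact hIm (hxI j)
      congr 1; ext
      show x j - _ = x j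
      rw [h0, map_zero, sub_zero]
    rw [hLx, hμ, Matrix.one_apply, Pi.single_apply]
    split_ifs <;> simp
  have hM : IsUnit M.det := by
    rw [← isUnit_map_iff (residue S), RingHom.map_det,
      show (residue S).mapMatrix M = 1 from Matrix.ext hres, Matrix.det_one]
    exact isUnit_one
  let ℓ' : T →ₗ[S] (J → S) := (Matrix.toLin' M⁻¹).comp ℓ
  have hℓ' : ∀ j, ℓ' (e j) = Pi.single j 1 := fun j => by
    show Matrix.toLin' M⁻¹ (ℓ (e j)) = _
    rw [show ℓ (e j) = M.mulVec (Pi.single j 1) by ext i; simp [M, Matrix.mulVec_single],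
      Matrix.toLin'_apply, Matrix.mulVec_mulVec, Matrix.nonsing_inv_mul _ hM, Matrix.one_mulVec]
  rw [Algebra.FormallySmooth.iff_split_injection (P := P) hsurj]
  let y : J → I.Cotangent := fun j => I.toCotangent ⟨x j, hxI j⟩
  let act : S → I.Cotangent → I.Cotangent := fun s z => (hsurj s).choose • z
  have hact : ∀ (a : P) (s : S) (z : I.Cotangent), algebraMap P S a = s → act s z = a • z := by
    intro a s z h
    obtain ⟨z, rfl⟩ := I.toCotangent_surjective z
    show (hsurj s).choose • _ = _
    rw [← map_smul, ← map_smul, Ideal.toCotangent_eq, Submodule.coe_smul, Submodule.coe_smul,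
      smul_eq_mul, smul_eq_mul, ← sub_mul, pow_two]
    exact Ideal.mul_mem_mul (by simp [I, RingHom.mem_ker, (hsurj s).choose_spec, h]) z.2
  let r : T →ₗ[P] I.Cotangent :=
    { toFun := fun t => ∑ j, act (ℓ' t j) (y j)
      map_add' := fun t t' => by
        rw [← Finset.sum_add_distrib]
        refine Finset.sum_congr rfl fun j _ => ?_
        rw [hact ((hsurj (ℓ' t j)).choose + (hsurj (ℓ' t' j)).choose) (ℓ' (t + t') j) _
          (by simp [(hsurj _).choose_spec]), add_smul]
      map_smul' := fun a t => by
        rw [RingHom.id_apply, Finset.smul_sum]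
        refine Finset.sum_congr rfl fun j _ => ?_
        rw [hact (a * (hsurj (ℓ' t j)).choose) (ℓ' (a • t) j) _
          (by rw [← algebraMap_smul S a t, map_smul]; simp [(hsurj _).choose_spec]), mul_smul] }
  refine ⟨r, LinearMap.ext fun z => ?_⟩
  obtain ⟨⟨a, ha⟩, rfl⟩ := I.toCotangent_surjective z
  obtain ⟨w, hw⟩ := (Submodule.mem_span_range_iff_exists_fun P).1 (show a ∈ X from hIeq ▸ ha)
  rw [LinearMap.comp_apply, kerCotangentToTensor_toCotangent, LinearMap.id_apply]
  have ht : (1 : S) ⊗ₜ[P] D k P a = ∑ j, algebraMap P S (w j) • e j := by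
    rw [← hw, map_sum, TensorProduct.tmul_sum]
    refine Finset.sum_congr rfl fun j _ => ?_
    rw [smul_eq_mul, Derivation.leibniz, TensorProduct.tmul_add, TensorProduct.tmul_smul,
      TensorProduct.tmul_smul, ← algebraMap_smul S (x j),
      show algebraMap P S (x j) = 0 from hxI j, zero_smul, add_zero, ← algebraMap_smul S (w j)]
  show (∑ j, act (ℓ' ((1 : S) ⊗ₜ[P] D k P a) j) (y j)) = _
  have hcoord : ∀ j, ℓ' ((1 : S) ⊗ₜ[P] D k P a) j = algebraMap P S (w j) := fun j => by
    rw [ht, map_sum, Finset.sum_apply]
    simp only [map_smul, hℓ', Pi.smul_apply, Pi.single_apply, smul_eq_mul, mul_ite, mul_one, mul_zero]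
    simp
  simp only [hcoord, hact _ _ _ rfl, y]
  simp only [← map_smul, ← map_sum]
  congr 1
  ext
  simp [← hw]

/-- A finitely generated algebra over an algebraically closed field with regular local rings at
its maximal ideals is smooth. -/
theorem smooth_of_regular {A : Type u} [CommRing A] [Algebra k A] [IsAlgClosed k]
    [Algebra.FiniteType k A]
    (h : ∀ M : Ideal A, ∀ [M.IsMaximal], IsRegularLocalRing (Localization.AtPrime M)) :
    Algebra.Smooth k A := by
  classical
  have : IsNoetherianRing A := Algebra.FiniteType.isNoetherianRing k A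
  have hfp : Algebra.FinitePresentation k A := Algebra.FinitePresentation.of_finiteType.1 ‹_›
  refine { formallySmooth := Algebra.smoothLocus_eq_univ_iff.1 ?_, finitePresentation := hfp }
  suffices hmax : ∀ M : Ideal A, ∀ [M.IsMaximal], Algebra.IsSmoothAt k M by
    refine Set.eq_univ_of_forall fun p => ?_
    obtain ⟨M, hM, hpM⟩ := Ideal.exists_le_maximal p.asIdeal p.isPrime.ne_top
    exact ((PrimeSpectrum.le_iff_specializes p ⟨M, hM.isPrime⟩).1 hpM).mem_open
      Algebra.isOpen_smoothLocus (hmax M)
  intro M _
  have := h M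
  obtain ⟨n, f, hf⟩ := Algebra.FiniteType.iff_quotient_mvPolynomial''.1 ‹Algebra.FiniteType k A›
  let R := MvPolynomial (Fin n) k
  let Q : Ideal R := M.comap f.toRingHom
  have hQ : Q.IsMaximal := Ideal.comap_isMaximal_of_surjective _ hf
  let P := Localization.AtPrime Q
  let g : P →+* Localization.AtPrime M := Localization.localRingHom Q M f.toRingHom rfl
  let : Algebra P (Localization.AtPrime M) := g.toAlgebra
  have hg : ∀ r : R, g (algebraMap R P r) = algebraMap A _ (f r) :=
    fun r => Localization.localRingHom_to_map Q M f.toRingHom rfl r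
  have : IsScalarTower k P (Localization.AtPrime M) := IsScalarTower.of_algebraMap_eq fun r => by
    show _ = g (algebraMap k P r)
    rw [IsScalarTower.algebraMap_apply k R P, hg, AlgHom.commutes, ← IsScalarTower.algebraMap_apply]
  have : Algebra.FormallySmooth R P := Algebra.FormallySmooth.of_isLocalization Q.primeCompl
  have : Algebra.FormallySmooth k P := Algebra.FormallySmooth.comp k R P
  have hsurj : Function.Surjective (algebraMap P (Localization.AtPrime M)) := by
    intro z
    obtain ⟨a, t, rfl⟩ := IsLocalization.exists_mk'_eq M.primeCompl z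
    obtain ⟨a', rfl⟩ := hf a
    obtain ⟨t', ht'⟩ := hf t.1
    have htQ : t' ∈ Q.primeCompl := fun hc => t.2 (ht' ▸ hc)
    refine ⟨IsLocalization.mk' P a' ⟨t', htQ⟩, ?_⟩
    show g _ = _
    rw [Localization.localRingHom_mk']
    congr 1
    exact Subtype.ext ht'
  have hrat : Function.Surjective ((residue P).comp (algebraMap k P)) := by
    let : Field (R ⧸ Q) := Ideal.Quotient.field Q
    have : Algebra.FiniteType k (R ⧸ Q) := inferInstance
    have : Module.Finite k (R ⧸ Q) := finite_of_finite_type_of_isJacobsonRing k _
    have hb := IsAlgClosed.algebraMap_bijective_of_isIntegral (k := k) (K := R ⧸ Q)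
    intro z
    have hres : ∀ r : R, ∃ c : k, r - algebraMap k R c ∈ Q := fun r => by
      obtain ⟨c, hc⟩ := hb.2 (Ideal.Quotient.mk Q r)
      exact ⟨c, Ideal.Quotient.eq.1 hc.symm⟩
    obtain ⟨x, rfl⟩ := residue_surjective z
    obtain ⟨r, t, rfl⟩ := IsLocalization.exists_mk'_eq Q.primeCompl x
    obtain ⟨c₁, hc₁⟩ := hres r
    obtain ⟨c₂, hc₂⟩ := hres t.1
    have hne : c₂ ≠ 0 := by
      rintro rfl
      rw [map_zero, sub_zero] at hc₂
      exact t.2 hc₂
    refine ⟨c₁ / c₂, ?_⟩
    have e : ∀ (r : R) (c : k), r - algebraMap k R c ∈ Q →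
        residue P (algebraMap R P r) = residue P (algebraMap k P c) := by
      intro r c hrc
      rw [← sub_eq_zero, IsScalarTower.algebraMap_apply k R P, ← map_sub, ← map_sub, residue_eq_zero_iff]
      exact (IsLocalization.AtPrime.to_map_mem_maximal_iff P Q _).2 hrc
    have hne' : residue P (algebraMap k P c₂) ≠ 0 :=
      (map_ne_zero ((residue P).comp (algebraMap k P))).2 hne
    apply mul_right_cancel₀ hne'
    show residue P (algebraMap k P (c₁ / c₂)) * _ = _
    rw [← map_mul, ← map_mul, div_mul_cancel₀ _ hne]
    conv_rhs => rw [← e _ _ hc₂, ← map_mul, IsLocalization.mk'_spec]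
    rw [e _ _ hc₁]
  exact formallySmooth_of_surjective hsurj hrat

end Groth.Agent.Var76.RegSmooth
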