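import Groth.Agent.S9414
import Groth.Agent.Var76.RegSmooth
import Groth.Agent.Unr55.SmoothStalkCor
import Groth.Agent.CAlg1.Regular
import Groth.Agent.E4O.DimField
import Mathlib.RingTheory.Spectrum.Prime.FreeLocus
import Mathlib.RingTheory.Ideal.KrullsHeightTheorem

/-! Regularity and smoothness of algebras over an algebraically closed field, via differentials. -/

set_option autoImplicit false
universe u

open scoped TensorProduct
open IsLocalRing

namespace Groth.Agent.Var76.RegKaehler

/-- A Noetherian ring regular at its maximal ideals is regular. -/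
theorem isRegularRing_of_maximal (A : Type u) [CommRing A] [IsNoetherianRing A]
    (h : ∀ M : Ideal A, ∀ [M.IsMaximal], IsRegularLocalRing (Localization.AtPrime M)) :
    IsRegularRing A := by
  refine isRegularRing_iff.2 fun p _ => ?_
  obtain ⟨M, hM, hpM⟩ := Ideal.exists_le_maximal p ‹p.IsPrime›.ne_top
  have := h M
  let R := Localization.AtPrime M
  let q := p.map (algebraMap A R)
  have hd : Disjoint (M.primeCompl : Set A) (p : Set A) := Set.disjoint_left.2 fun a ha hap => ha (hpM hap)
  have : q.IsPrime := IsLocalization.isPrime_of_isPrime_disjoint M.primeCompl R p ‹_› hd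
  have hq : q.comap (algebraMap A R) = p :=
    IsLocalization.comap_map_of_isPrime_disjoint M.primeCompl R ‹_› hd
  have hloc := IsLocalization.isLocalization_isLocalization_atPrime_isLocalization M.primeCompl
    (S := R) (T := Localization.AtPrime q) q
  simp only [hq] at hloc
  have := CAlg1.regular_localization R q
  exact IsRegularLocalRing.of_ringEquiv
    (IsLocalization.algEquiv p.primeCompl (Localization.AtPrime q) (Localization.AtPrime p)).toRingEquiv

variable (k : Type u) [Field k]

open AlgebraicGeometry in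
theorem regular_stalk_iff (R : CommRingCat.{u}) (x : PrimeSpectrum R) :
    IsRegularLocalRing ((Spec R).presheaf.stalk x) ↔ IsRegularLocalRing (Localization.AtPrime x.asIdeal) := by
  let : Algebra ↑R ↑((Spec R).presheaf.stalk x) := StructureSheaf.stalkAlgebra (↑R) x
  have : IsLocalization.AtPrime (↑((Spec R).presheaf.stalk x)) x.asIdeal :=
    StructureSheaf.IsLocalization.to_stalk R x
  let e : Localization.AtPrime x.asIdeal ≃+* ((Spec R).presheaf.stalk x) :=
    (IsLocalization.algEquiv x.asIdeal.primeCompl _ _).toRingEquiv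
  exact ⟨fun h => @IsRegularLocalRing.of_ringEquiv _ _ h _ _ e.symm, fun h => @IsRegularLocalRing.of_ringEquiv _ _ h _ _ e⟩

/-- A smooth algebra over a field is regular. -/
theorem isRegularRing_of_smooth (A : Type u) [CommRing A] [Algebra k A] [Algebra.Smooth k A] :
    IsRegularRing A := by
  open CategoryTheory AlgebraicGeometry in
  have : IsNoetherianRing A := Algebra.FiniteType.isNoetherianRing k A
  refine isRegularRing_iff.2 fun p _ => ?_
  let f : Spec (CommRingCat.of A) ⟶ Spec (CommRingCat.of k) := Spec.map (CommRingCat.ofHom (algebraMap k A))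
  have : Smooth f := by
    rw [HasRingHomProperty.Spec_iff (P := @Smooth)]
    exact RingHom.smooth_algebraMap.2 ‹_›
  let x : Spec (CommRingCat.of A) := ⟨p, ‹_›⟩
  have hx : (f.stalkMap x).hom.FormallySmooth :=
    Scheme.Hom.mem_smoothLocus.1 ((Scheme.Hom.smoothLocus_eq_top f).ge trivial)
  have : IsRegularLocalRing ((Spec (CommRingCat.of k)).presheaf.stalk (f x)) :=
    let y : PrimeSpectrum k := f x
    (regular_stalk_iff (CommRingCat.of k) y).2 (IsRegularRing.isRegularLocalRing_localization y.asIdeal)
  exact (regular_stalk_iff (CommRingCat.of A) x).1 ((Unr55.isRegularLocalRing_stalk_iff_of_smooth f x hx).2 this)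

theorem isDomain_of_regular {A : Type u} [CommRing A] [IsRegularRing A] (hirr : (nilradical A).IsPrime) :
    IsDomain A := by
  have : IsReduced A := isReduced_ofLocalizationMaximal A fun M _ => by
    have := CAlg1.isDomain_regular (Localization.AtPrime M)
    infer_instance
  rw [nilradical_eq_zero] at hirr
  exact @IsDomain.of_bot_isPrime _ _ hirr

theorem finrank_fibre [IsAlgClosed k] {A : Type u} [CommRing A] [Algebra k A] [Algebra.FiniteType k A]
    (m : Ideal A) [m.IsMaximal] :
    Module.finrank m.ResidueField (m.ResidueField ⊗[A] Ω[A⁄k]) = Module.finrank (A ⧸ m) m.Cotangent := by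
  rw [← Groth.Agent.S9414.result k A m]
  let i : A ⧸ m →ₐ[A] m.ResidueField := IsScalarTower.toAlgHom A _ _
  let e : (A ⧸ m) ≃ₐ[A] m.ResidueField := AlgEquiv.ofBijective i m.bijective_algebraMap_quotient_residueField
  let j : (A ⧸ m) ⊗[A] Ω[A⁄k] ≃ₗ[A] m.ResidueField ⊗[A] Ω[A⁄k] :=
    TensorProduct.congr e.toLinearEquiv (LinearEquiv.refl A _)
  refine (congrArg Cardinal.toNat (rank_eq_of_equiv_equiv e j.toAddEquiv e.bijective fun r x => ?_)).symm
  induction x using TensorProduct.induction_on with
  | zero => simp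
  | add a b ha hb => rw [smul_add, map_add, map_add, smul_add, ha, hb]
  | tmul a b => simp [j, TensorProduct.smul_tmul', map_mul]

theorem height_eq [IsAlgClosed k] {A : Type u} [CommRing A] [Algebra k A] [Algebra.FiniteType k A]
    (hirr : (nilradical A).IsPrime) (n : ℕ) (hn : ringKrullDim A = n) (m : Ideal A) [m.IsMaximal] :
    m.height = n := by
  let B := A ⧸ nilradical A
  have : IsDomain B := Ideal.Quotient.isDomain _
  have hle : RingHom.ker (Ideal.Quotient.mk (nilradical A)) ≤ nilradical A := (Ideal.mk_ker).le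
  let m' : Ideal B := m.map (Ideal.Quotient.mk _)
  have hcm : m'.comap (Ideal.Quotient.mk _) = m := by
    rw [Ideal.comap_map_of_surjective _ Ideal.Quotient.mk_surjective, ← RingHom.ker_eq_comap_bot, Ideal.mk_ker]
    exact sup_eq_left.2 (nilradical_le_prime m)
  have : m'.IsMaximal := Ideal.IsMaximal.map_of_surjective_of_ker_le Ideal.Quotient.mk_surjective
    (Ideal.mk_ker.trans_le (nilradical_le_prime m))
  have h1 := E4O.height_maximal_eq k B m'
  have h2 := E4O.ringKrullDim_eq_trdeg k B
  have hB : ringKrullDim B = ringKrullDim A := by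
    have hz : PrimeSpectrum.zeroLocus (nilradical A : Set A) = Set.univ :=
      Set.eq_univ_of_forall fun p => nilradical_le_prime p.asIdeal
    rw [ringKrullDim_quotient, hz]
    exact Order.krullDim_eq_of_orderIso OrderIso.Set.univ
  rw [hB] at h2
  rw [hn] at h2
  have h3 : Cardinal.toNat (Algebra.trdeg k B) = n := by exact_mod_cast h2.symm
  rw [h3] at h1
  rw [← hcm]
  refine le_antisymm ?_ ?_
  · rw [hcm]
    exact WithBot.coe_le_coe.1 ((Ideal.height_le_ringKrullDim_of_ne_top ‹m.IsMaximal›.ne_top).trans hn.le)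
  · rw [← h1, PrimeSpectrum.height_eq_orderHeight ⟨m', inferInstance⟩, PrimeSpectrum.height_eq_orderHeight ⟨m'.comap _, inferInstance⟩]
    exact Order.height_le_height_apply_of_strictMono
      (fun p : PrimeSpectrum B => PrimeSpectrum.comap (Ideal.Quotient.mk (nilradical A)) p)
      (Monotone.strictMono_of_injective (fun p q h => Ideal.comap_mono h)
        (PrimeSpectrum.comap_injective_of_surjective _ Ideal.Quotient.mk_surjective)) ⟨m', inferInstance⟩

theorem spanFinrank_le {A : Type u} [CommRing A] [IsNoetherianRing A] (m : Ideal A) [m.IsMaximal] :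
    (maximalIdeal (Localization.AtPrime m)).spanFinrank ≤ Module.finrank (A ⧸ m) m.Cotangent := by
  classical
  let _ : Field (A ⧸ m) := Ideal.Quotient.field m
  have : Module.Finite A m.Cotangent := Module.Finite.of_surjective m.toCotangent m.toCotangent_surjective
  have : Module.Finite (A ⧸ m) m.Cotangent := Module.Finite.of_restrictScalars_finite A _ _
  let b := Module.finBasis (A ⧸ m) m.Cotangent
  choose a ha using fun i => m.toCotangent_surjective (b i)
  let R := Localization.AtPrime m
  let s : Set R := Set.range fun i => algebraMap A R (a i).1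
  have hcard : s.ncard ≤ Module.finrank (A ⧸ m) m.Cotangent := by
    refine (Finite.card_range_le _).trans ?_
    simp
  have hm : m ≤ Ideal.span (Set.range fun i => (a i).1) ⊔ m * m := by
    intro x hx
    have h := b.span_eq.ge (Submodule.mem_top (x := m.toCotangent ⟨x, hx⟩))
    rw [← b.sum_repr (m.toCotangent ⟨x, hx⟩)] at h
    choose c hc using fun i => Ideal.Quotient.mk_surjective (b.repr (m.toCotangent ⟨x, hx⟩) i)
    have hsum : m.toCotangent ⟨x, hx⟩ = m.toCotangent (∑ i, c i • a i) := by
      rw [map_sum]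
      conv_lhs => rw [← b.sum_repr (m.toCotangent ⟨x, hx⟩)]
      refine Finset.sum_congr rfl fun i _ => ?_
      rw [map_smul, ha, ← hc i]
      exact algebraMap_smul (A ⧸ m) (c i) (b i)
    rw [Ideal.toCotangent_eq, pow_two] at hsum
    refine Submodule.mem_sup.2 ⟨∑ i, c i * (a i).1, ?_, _, hsum, ?_⟩
    · exact Ideal.sum_mem _ fun i _ => Ideal.mul_mem_left _ _ (Ideal.subset_span ⟨i, rfl⟩)
    · simp
  have hs : maximalIdeal R ≤ Ideal.span s := by
    refine Submodule.le_of_le_smul_of_le_jacobson_bot (I := maximalIdeal R) (IsNoetherian.noetherian _)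
      (maximalIdeal_le_jacobson _) ?_
    rw [← Localization.AtPrime.map_eq_maximalIdeal]
    refine (Ideal.map_mono hm).trans (le_of_eq ?_)
    rw [Ideal.map_sup, Ideal.map_mul, Ideal.map_span, smul_eq_mul, ← Set.range_comp]
    rfl
  have heq : maximalIdeal R = Ideal.span s := by
    refine le_antisymm hs (Ideal.span_le.2 ?_)
    rintro _ ⟨i, rfl⟩
    rw [← Localization.AtPrime.map_eq_maximalIdeal]
    exact Ideal.mem_map_of_mem _ (a i).2
  rw [heq]
  exact (Submodule.spanFinrank_span_le_ncard_of_finite (Set.finite_range _)).trans hcard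

theorem finrank_cotangent_le {A : Type u} [CommRing A] [IsNoetherianRing A] (m : Ideal A) [m.IsMaximal] :
    Module.finrank (A ⧸ m) m.Cotangent ≤ (maximalIdeal (Localization.AtPrime m)).spanFinrank := by
  classical
  let R := Localization.AtPrime m
  obtain ⟨G, hG, hspan⟩ := Submodule.FG.exists_span_finset_card_eq_spanFinrank
    (IsNoetherian.noetherian (maximalIdeal R))
  let _ : Field (A ⧸ m) := Ideal.Quotient.field m
  have hrep : ∀ g : G, ∃ a : m, ∃ t : R, IsUnit t ∧ algebraMap A R a.1 = t * g.1 := by
    intro g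
    obtain ⟨a, t, hat⟩ := IsLocalization.exists_mk'_eq m.primeCompl g.1
    have hg : g.1 ∈ maximalIdeal R := hspan ▸ Submodule.subset_span g.2
    have hspec := IsLocalization.mk'_spec R a t
    rw [hat] at hspec
    refine ⟨⟨a, ?_⟩, algebraMap A R t.1, IsLocalization.map_units R t, by rw [← hspec, mul_comm]⟩
    have : algebraMap A R a ∈ maximalIdeal R := hspec ▸ Ideal.mul_mem_right _ _ hg
    exact (IsLocalization.AtPrime.to_map_mem_maximal_iff R m a).1 this
  choose a t ht hat using hrep
  have hmem : ∀ x ∈ m, x ∈ Ideal.span (Set.range fun g => (a g).1) ⊔ m * m := by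
    intro x hx
    have h1 : algebraMap A R x ∈ (Ideal.span (Set.range fun g => (a g).1)).map (algebraMap A R) := by
      rw [Ideal.map_span, ← Set.range_comp]
      have h2 : algebraMap A R x ∈ Ideal.span (G : Set R) := by
        rw [Ideal.span, hspan, ← Localization.AtPrime.map_eq_maximalIdeal]
        exact Ideal.mem_map_of_mem _ hx
      refine Ideal.span_le.2 (fun g hg => ?_) h2
      obtain ⟨w, hw⟩ := ht ⟨g, hg⟩
      have : g = (↑w⁻¹ : R) * algebraMap A R (a ⟨g, hg⟩).1 := by
        rw [hat, ← hw, ← mul_assoc, Units.inv_mul, one_mul]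
      rw [this]
      exact Ideal.mul_mem_left _ _ (Ideal.subset_span ⟨_, rfl⟩)
    obtain ⟨⟨⟨i, hi⟩, s⟩, hs⟩ := (IsLocalization.mem_map_algebraMap_iff m.primeCompl R).1 h1
    rw [← map_mul] at hs
    obtain ⟨c, hc⟩ := (IsLocalization.eq_iff_exists m.primeCompl R).1 hs
    obtain ⟨v, hv⟩ := Ideal.Quotient.mk_surjective (Ideal.Quotient.mk m (c.1 * s.1))⁻¹
    have hne : Ideal.Quotient.mk m (c.1 * s.1) ≠ 0 := fun h =>
      (mul_mem c.2 s.2 : c.1 * s.1 ∈ m.primeCompl) (Ideal.Quotient.eq_zero_iff_mem.1 h)
    have hv1 : 1 - v * (c.1 * s.1) ∈ m := by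
      rw [← Ideal.Quotient.eq_zero_iff_mem, map_sub, map_one, map_mul, hv, inv_mul_cancel₀ hne, sub_self]
    refine Submodule.mem_sup.2 ⟨v * (c.1 * i), ?_, (1 - v * (c.1 * s.1)) * x, Ideal.mul_mem_mul hv1 hx, ?_⟩
    · exact Ideal.mul_mem_left _ _ (Ideal.mul_mem_left _ _ hi)
    · rw [← hc]; ring
  have htop : Submodule.span (A ⧸ m) (Set.range fun g => m.toCotangent (a g)) = ⊤ := by
    refine top_le_iff.1 fun z _ => ?_
    obtain ⟨⟨x, hx⟩, rfl⟩ := m.toCotangent_surjective z
    obtain ⟨y, hy, w, hw, hyw⟩ := Submodule.mem_sup.1 (hmem x hx)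
    obtain ⟨f, hf⟩ := (Ideal.mem_span_range_iff_exists_fun).1 hy
    have hxy : m.toCotangent ⟨x, hx⟩ = m.toCotangent (∑ g, f g • a g) := by
      rw [Ideal.toCotangent_eq, pow_two]
      have : x - ((∑ g, f g • a g : m) : A) = w := by simp [← hyw, ← hf]
      exact this ▸ hw
    rw [hxy, map_sum]
    refine Submodule.sum_mem _ fun g _ => ?_
    rw [map_smul, ← algebraMap_smul (A ⧸ m) (f g) (m.toCotangent (a g))]
    exact Submodule.smul_mem _ _ (Submodule.subset_span ⟨g, rfl⟩)
  rw [← finrank_top (A ⧸ m) m.Cotangent, ← htop, ← hG]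
  exact (finrank_range_le_card _).trans (by simp)

theorem finrank_cotangent_eq_of_regular [IsAlgClosed k] {A : Type u} [CommRing A] [Algebra k A]
    [Algebra.FiniteType k A] (hirr : (nilradical A).IsPrime) (n : ℕ) (hn : ringKrullDim A = n)
    (m : Ideal A) [m.IsMaximal] (h : IsRegularLocalRing (Localization.AtPrime m)) :
    Module.finrank (A ⧸ m) m.Cotangent = n := by
  have : IsNoetherianRing A := Algebra.FiniteType.isNoetherianRing k A
  have h1 := h.spanFinrank_maximalIdeal
  rw [IsLocalization.AtPrime.ringKrullDim_eq_height m, height_eq k hirr n hn m] at h1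
  have h2 : (maximalIdeal (Localization.AtPrime m)).spanFinrank = n := by exact_mod_cast h1
  exact le_antisymm (h2 ▸ finrank_cotangent_le m) (h2 ▸ spanFinrank_le m)

theorem regular_of_finrank_le [IsAlgClosed k] {A : Type u} [CommRing A] [Algebra k A] [Algebra.FiniteType k A]
    (hirr : (nilradical A).IsPrime) (n : ℕ) (hn : ringKrullDim A = n)
    (h : ∀ m : Ideal A, ∀ [m.IsMaximal], Module.finrank (A ⧸ m) m.Cotangent ≤ n) :
    IsRegularRing A := by
  have : IsNoetherianRing A := Algebra.FiniteType.isNoetherianRing k A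
  refine isRegularRing_of_maximal A fun m _ => IsRegularLocalRing.of_spanFinrank_maximalIdeal_le _ ?_
  rw [IsLocalization.AtPrime.ringKrullDim_eq_height m, height_eq k hirr n hn m]
  exact Nat.cast_le.2 ((spanFinrank_le m).trans (h m))

end Groth.Agent.Var76.RegKaehler
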