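import Groth.Agent.Var76.KaehlerFibre
import Mathlib.RingTheory.Smooth.Kaehler
import Mathlib.RingTheory.Smooth.Basic
import Mathlib.RingTheory.Smooth.StandardSmoothOfFree
import Mathlib.RingTheory.Spectrum.Prime.FreeLocus
import Mathlib.LinearAlgebra.Dimension.OrzechProperty

/-! Jet criterion for smooth divisors: the algebraic core of Bertini's theorem. -/

namespace Groth.Agent.Var76.BertiniAlg

universe u

open scoped TensorProduct
open KaehlerDifferential

variable {k A : Type u} [Field k] [CommRing A] [Algebra k A]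

/-- A smooth algebra modulo an element with nowhere vanishing differential is smooth. -/
theorem smooth_quotient [Algebra.Smooth k A] (φ : A)
    (h : ∀ n : Ideal A, ∀ [n.IsMaximal], φ ∈ n →
      (1 : n.ResidueField) ⊗ₜ[A] D k A φ ≠ 0) :
    Algebra.Smooth k (A ⧸ Ideal.span {φ}) := by
  classical
  set I := Ideal.span {φ}
  have hφ : φ ∈ I := Ideal.subset_span rfl
  have : Algebra.FinitePresentation k (A ⧸ I) :=
    Algebra.FinitePresentation.quotient ⟨{φ}, by simp [I]⟩
  refine { formallySmooth := ?_, finitePresentation := this }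
  rw [Algebra.FormallySmooth.iff_split_injection (P := A) Ideal.Quotient.mk_surjective]
  let T := (A ⧸ I) ⊗[A] Ω[A⁄k]
  let e : T := 1 ⊗ₜ D k A φ
  have : Module.Finite A Ω[A⁄k] := inferInstance
  obtain ⟨ℓ, hℓ⟩ : ∃ ℓ : T →ₗ[A ⧸ I] (A ⧸ I), ℓ e = 1 := by
    let K : Ideal (A ⧸ I) := LinearMap.range (LinearMap.applyₗ (R := A ⧸ I) e)
    suffices hK : K = ⊤ by
      obtain ⟨ℓ, hℓ⟩ : (1 : A ⧸ I) ∈ K := hK ▸ trivial
      exact ⟨ℓ, hℓ⟩
    by_contra hK
    obtain ⟨N, hN, hKN⟩ := Ideal.exists_le_maximal K hK
    have hn : (N.comap (Ideal.Quotient.mk I)).IsMaximal :=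
      Ideal.comap_isMaximal_of_surjective _ Ideal.Quotient.mk_surjective
    set n := N.comap (Ideal.Quotient.mk I)
    refine @h n hn (by simp [n, Ideal.Quotient.eq_zero_iff_mem.2 hφ]) ?_
    let π : (A ⧸ I) →ₐ[A] n.ResidueField := Ideal.Quotient.liftₐ I (Algebra.ofId A n.ResidueField)
      (fun x hx => Ideal.algebraMap_residueField_eq_zero.2 (by simp [n, Ideal.Quotient.eq_zero_iff_mem.2 hx]))
    let g : T →ₗ[A] n.ResidueField ⊗[A] Ω[A⁄k] := π.toLinearMap.rTensor _
    have hg : ∀ (b : A ⧸ I) (t : T), b ∈ N → g (b • t) = 0 := by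
      intro b t hb
      obtain ⟨x, rfl⟩ := Ideal.Quotient.mk_surjective b
      show g (algebraMap A (A ⧸ I) x • t) = 0
      rw [algebraMap_smul, map_smul,
        ← algebraMap_smul n.ResidueField, Ideal.algebraMap_residueField_eq_zero.2 (by simpa [n] using hb),
        zero_smul]
    obtain ⟨s, hs⟩ := Module.projective_def'.1 (inferInstance : Module.Projective (A ⧸ I) T)
    have he : e ∈ N • (⊤ : Submodule (A ⧸ I) T) := by
      have hdec : e = Finsupp.linearCombination (A ⧸ I) (_root_.id : T → T) (s e) :=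
        (LinearMap.congr_fun hs e).symm
      rw [hdec, Finsupp.linearCombination_apply, Finsupp.sum]
      refine Submodule.sum_mem _ fun t _ => Submodule.smul_mem_smul (hKN ?_) trivial
      exact ⟨(Finsupp.lapply t).comp s, rfl⟩
    have hzero : g e = 0 := by
      refine Submodule.smul_induction_on he (fun b hb t _ => hg b t hb) fun x y hx hy => ?_
      rw [map_add, hx, hy, add_zero]
    rw [← hzero]
    show _ = π 1 ⊗ₜ[A] D k A φ
    rw [map_one]
  let κ := RingHom.ker (algebraMap A (A ⧸ I))
  have hker : φ ∈ κ := by simpa [κ, RingHom.mem_ker, Ideal.Quotient.eq_zero_iff_mem] using hφ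
  let c : κ.Cotangent := κ.toCotangent ⟨φ, hker⟩
  let μ : (A ⧸ I) →ₗ[A] κ.Cotangent := Submodule.liftQ I (LinearMap.toSpanSingleton A _ c) (by
    intro x hx
    rw [LinearMap.mem_ker, LinearMap.toSpanSingleton_apply, ← map_smul,
      Ideal.toCotangent_eq_zero, Submodule.coe_smul, pow_two, smul_eq_mul]
    exact Ideal.mul_mem_mul (by simpa [κ, RingHom.mem_ker, Ideal.Quotient.eq_zero_iff_mem] using hx) hker)
  refine ⟨μ.comp (ℓ.restrictScalars A), ?_⟩
  refine LinearMap.ext fun z => ?_
  obtain ⟨⟨x, hx⟩, rfl⟩ := κ.toCotangent_surjective z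
  have hxI : x ∈ I := by simpa [κ, RingHom.mem_ker, Ideal.Quotient.eq_zero_iff_mem] using hx
  obtain ⟨y, rfl⟩ := Ideal.mem_span_singleton'.1 hxI
  rw [LinearMap.comp_apply, kerCotangentToTensor_toCotangent, LinearMap.comp_apply,
    LinearMap.restrictScalars_apply, LinearMap.id_apply]
  have : (1 : A ⧸ I) ⊗ₜ[A] D k A (y * φ) = Ideal.Quotient.mk I y • e := by
    rw [Derivation.leibniz, TensorProduct.tmul_add, TensorProduct.tmul_smul, TensorProduct.tmul_smul,
      ← algebraMap_smul (A ⧸ I) φ, Ideal.Quotient.algebraMap_eq, Ideal.Quotient.eq_zero_iff_mem.2 hφ,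
      zero_smul, add_zero, ← algebraMap_smul (A ⧸ I) y, Ideal.Quotient.algebraMap_eq]
  rw [this, map_smul, hℓ, smul_eq_mul, mul_one]
  show μ (Submodule.Quotient.mk y) = _
  rw [Submodule.liftQ_apply, LinearMap.toSpanSingleton_apply, ← map_smul]
  rfl

/-- The differentials of a polynomial algebra over a localisation are generated by the generators
on the base together with the differentials of the variables. -/
theorem span_mvPolynomial {B : Type u} [CommRing B] [Algebra k B] {σ : Type u} {ι : Type*}
    (v : ι → Ω[B⁄k]) (hv : Submodule.span B (Set.range v) = ⊤) :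
    Submodule.span (MvPolynomial σ B) (Set.range (Sum.elim (fun i => map k k B (MvPolynomial σ B) (v i))
      (fun j => D k (MvPolynomial σ B) (MvPolynomial.X j)))) = ⊤ := by
  rw [eq_top_iff, ← span_range_derivation k (MvPolynomial σ B), Submodule.span_le]
  rintro _ ⟨p, rfl⟩
  induction p using MvPolynomial.induction_on with
  | C b =>
    rw [← MvPolynomial.algebraMap_eq, ← map_D k k B (MvPolynomial σ B)]
    have h1 : D k B b ∈ Submodule.span B (Set.range v) := hv ▸ Submodule.mem_top
    have h2 := Submodule.apply_mem_span_image_of_mem_span (map k k B (MvPolynomial σ B)) h1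
    refine Submodule.span_mono ?_ (Submodule.span_le_restrictScalars B (MvPolynomial σ B) _ h2)
    rintro _ ⟨_, ⟨i, rfl⟩, rfl⟩
    exact ⟨.inl i, rfl⟩
  | add p q hp hq => rw [map_add]; exact add_mem hp hq
  | mul_X p j hp =>
    rw [Derivation.leibniz]
    exact add_mem (Submodule.smul_mem _ _ (Submodule.subset_span ⟨.inr j, rfl⟩))
      (Submodule.smul_mem _ _ hp)

/-- Generators of `Ω[A/k]` up to a power of `a` generate `Ω[A_a/k]`. -/
theorem span_away (a : A) {ι : Type*} (v : ι → Ω[A⁄k])
    (hv : ∀ ω : Ω[A⁄k], a • ω ∈ Submodule.span A (Set.range v)) :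
    Submodule.span (Localization.Away a) (Set.range fun i => map k k A (Localization.Away a) (v i)) = ⊤ := by
  rw [eq_top_iff, ← span_range_map_derivation_of_isLocalization k A (Localization.Away a)
    (Submonoid.powers a), Submodule.span_le]
  rintro _ ⟨x, rfl⟩
  set S := Submodule.span (Localization.Away a) (Set.range fun i => map k k A (Localization.Away a) (v i))
  have h2 := Submodule.apply_mem_span_image_of_mem_span (map k k A (Localization.Away a)) (hv (D k A x))
  rw [← Set.range_comp, map_smul, map_D] at h2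
  have h3 : algebraMap A (Localization.Away a) a • D k (Localization.Away a) (algebraMap A _ x) ∈ S := by
    rw [algebraMap_smul]
    exact (Submodule.span_le_restrictScalars A (Localization.Away a) _) h2
  have hu : IsUnit (algebraMap A (Localization.Away a) a) := IsLocalization.Away.algebraMap_isUnit a
  show map k k A (Localization.Away a) (D k A x) ∈ S
  rw [map_D]
  exact (Submodule.smul_mem_iff_of_isUnit S hu).1 h3

/-- Near a prime, a finite module is generated by as many elements as the dimension of its fibre. -/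
theorem exists_generators_near {N : Type u} [AddCommGroup N] [Module A N] [Module.Finite A N]
    (M : Ideal A) [M.IsPrime] :
    ∃ a ∉ M, ∃ v : Fin (Module.finrank M.ResidueField (M.ResidueField ⊗[A] N)) → N,
      ∀ ω : N, a • ω ∈ Submodule.span A (Set.range v) := by
  classical
  have htop : Submodule.span M.ResidueField (Set.range fun ω : N => (1 : M.ResidueField) ⊗ₜ[A] ω) = ⊤ := by
    refine eq_top_iff.2 fun x _ => ?_
    induction x using TensorProduct.induction_on with
    | zero => simp
    | tmul c ω =>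
      rw [show c ⊗ₜ[A] ω = c • ((1 : M.ResidueField) ⊗ₜ[A] ω) by simp [TensorProduct.smul_tmul']]
      exact Submodule.smul_mem _ _ (Submodule.subset_span ⟨ω, rfl⟩)
    | add a b ha hb => exact add_mem (ha trivial) (hb trivial)
  obtain ⟨J, eJ, -, hspan, hli⟩ :=
    exists_linearIndependent' M.ResidueField (fun ω : N => (1 : M.ResidueField) ⊗ₜ[A] ω)
  rw [htop] at hspan
  let b := Module.Basis.mk hli hspan.ge
  let e : Fin (Module.finrank M.ResidueField (M.ResidueField ⊗[A] N)) ≃ J :=
    (Module.finBasis M.ResidueField (M.ResidueField ⊗[A] N)).indexEquiv b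
  obtain ⟨a, ha, hav⟩ := KaehlerFibre.exists_notMem_smul_le M (fun i => eJ (e i)) (by
    rw [eq_top_iff, ← hspan, Submodule.span_le]
    rintro _ ⟨j, rfl⟩
    exact Submodule.subset_span ⟨e.symm j, by simp⟩)
  exact ⟨a, ha, _, hav⟩

open MvPolynomial in
/-- Bad parameters near a maximal ideal lie in a hypersurface, given spanning in the fibre. -/
theorem exists_bad_local_of_span [Algebra.Smooth k A] {m : ℕ} (f : A) (φ : Fin m → A)
    (M : Ideal A) [M.IsMaximal]
    (hF : ∀ l : A, (1 : M.ResidueField) ⊗ₜ[A] ((l, D k A l) : A × Ω[A⁄k]) ∈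
      Submodule.span M.ResidueField (Set.range fun j => (1 : M.ResidueField) ⊗ₜ[A] ((φ j, D k A (φ j)) : A × Ω[A⁄k]))) :
    ∃ a ∉ M, ∃ p : MvPolynomial (Fin m) k, p ≠ 0 ∧ ∀ c : Fin m → k, ∀ n : Ideal A, ∀ [n.IsMaximal],
      a ∉ n → f + ∑ j, c j • φ j ∈ n →
      (1 : n.ResidueField) ⊗ₜ[A] D k A (f + ∑ j, c j • φ j) = 0 → eval c p = 0 := by
  classical
  let F : A →ₗ[k] A × Ω[A⁄k] := LinearMap.prod LinearMap.id (D k A).toLinearMap
  let Φ : Fin m → A × Ω[A⁄k] := fun j => F (φ j)
  let κ := M.ResidueField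
  let t : Fin m → κ ⊗[A] (A × Ω[A⁄k]) := fun j => 1 ⊗ₜ Φ j
  -- the jets span the fibre at `M`
  have hspan : Submodule.span κ (Set.range t) = ⊤ := by
    refine eq_top_iff.2 fun y _ => ?_
    induction y using TensorProduct.induction_on with
    | zero => simp
    | add x y hx hy => exact add_mem (hx trivial) (hy trivial)
    | tmul s x =>
      obtain ⟨b, ω⟩ := x
      rw [show s ⊗ₜ[A] (b, ω) = s • ((1 : κ) ⊗ₜ[A] (b, ω)) by simp [TensorProduct.smul_tmul']]
      refine Submodule.smul_mem _ _ ?_
      have h10 : (1 : κ) ⊗ₜ[A] ((1 : A), (0 : Ω[A⁄k])) ∈ Submodule.span κ (Set.range t) := by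
        simpa [F, t, Φ] using hF 1
      have hω : ∀ ω : Ω[A⁄k], (1 : κ) ⊗ₜ[A] ((0 : A), ω) ∈ Submodule.span κ (Set.range t) := by
        intro ω
        have : ω ∈ Submodule.span A (Set.range (D k A)) := (span_range_derivation k A).symm ▸ trivial
        induction this using Submodule.span_induction with
        | mem x hx =>
          obtain ⟨l, rfl⟩ := hx
          have e : ((0 : A), D k A l) = F l - l • ((1 : A), (0 : Ω[A⁄k])) := by simp [F]
          rw [e, TensorProduct.tmul_sub, TensorProduct.tmul_smul, ← algebraMap_smul κ]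
          exact sub_mem (hF l) (Submodule.smul_mem _ _ h10)
        | zero =>
          rw [show ((0 : A), (0 : Ω[A⁄k])) = (0 : A × Ω[A⁄k]) from rfl, TensorProduct.tmul_zero]
          exact zero_mem _
        | add x y _ _ hx hy =>
          rw [show ((0 : A), x + y) = ((0 : A), x) + ((0 : A), y) by simp, TensorProduct.tmul_add]
          exact add_mem hx hy
        | smul a x _ hx =>
          rw [show ((0 : A), a • x) = a • ((0 : A), x) by simp, TensorProduct.tmul_smul, ← algebraMap_smul κ]
          exact Submodule.smul_mem _ _ hx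
      rw [show (b, ω) = b • ((1 : A), (0 : Ω[A⁄k])) + ((0 : A), ω) by simp, TensorProduct.tmul_add,
        TensorProduct.tmul_smul, ← algebraMap_smul κ]
      exact add_mem (Submodule.smul_mem _ _ h10) (hω ω)
  obtain ⟨J, eJ, heJ, hJspan, hJli⟩ := exists_linearIndependent' κ t
  rw [hspan] at hJspan
  have : Finite J := Finite.of_injective eJ heJ
  have : Fintype J := Fintype.ofFinite J
  obtain ⟨a1, ha1, hgen1⟩ := KaehlerFibre.exists_notMem_smul_le M (fun i => Φ (eJ i)) hJspan
  obtain ⟨a2, ha2, v, hgen2⟩ := exists_generators_near (A := A) (N := Ω[A⁄k]) M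
  let r := Module.finrank κ (κ ⊗[A] Ω[A⁄k])
  obtain ⟨a3, ha3, hrank⟩ : ∃ a3 ∉ M, ∀ n : Ideal A, ∀ [n.IsPrime], a3 ∉ n →
      Module.finrank n.ResidueField (n.ResidueField ⊗[A] (A × Ω[A⁄k])) = Fintype.card J := by
    have : Module.FinitePresentation A (A × Ω[A⁄k]) := Module.finitePresentation_of_projective A _
    obtain ⟨U, hUo, hMU, hU⟩ := IsLocallyConstant.exists_open
      (Module.isLocallyConstant_rankAtStalk (R := A) (M := A × Ω[A⁄k])) ⟨M, inferInstance⟩
    obtain ⟨_, ⟨_, ⟨a, rfl⟩, rfl⟩, hMa, haU⟩ :=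
      PrimeSpectrum.isBasis_basic_opens.exists_subset_of_mem_open hMU hUo
    refine ⟨a, hMa, fun n _ hn => ?_⟩
    rw [Ideal.finrank_fiber_eq_rankAtStalk n, hU ⟨n, inferInstance⟩ (haU hn),
      ← Ideal.finrank_fiber_eq_rankAtStalk M]
    exact Module.finrank_eq_card_basis (Module.Basis.mk hJli hJspan.ge)
  have hcardJ : Fintype.card J = r + 1 := by
    have : Module.FinitePresentation A (A × Ω[A⁄k]) := Module.finitePresentation_of_projective A _
    have : Nontrivial A := ⟨a1, 0, fun h => ha1 (h ▸ M.zero_mem)⟩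
    rw [← Module.finrank_eq_card_basis (Module.Basis.mk hJli hJspan.ge),
      Ideal.finrank_fiber_eq_rankAtStalk M, Module.rankAtStalk_prod, Pi.add_apply,
      Module.rankAtStalk_self, ← Ideal.finrank_fiber_eq_rankAtStalk M, Pi.one_apply, Nat.add_comm]
  set a := a1 * a2 * a3 with hadef
  have ha : a ∉ M := Ideal.IsPrime.mul_notMem inferInstance (Ideal.IsPrime.mul_notMem inferInstance ha1 ha2) ha3
  obtain ⟨N, hN⟩ := (Submodule.mem_span_range_iff_exists_fun A).1 (hgen1 (F f))
  choose Mx hMx using fun j => (Submodule.mem_span_range_iff_exists_fun A).1 (hgen1 (Φ j))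
  let σ := {j : Fin m // j ∉ Set.range eJ}
  let B := Localization.Away a
  let C := MvPolynomial (ULift.{u} σ) B
  let a1' : B := algebraMap A B (a2 * a3) * IsLocalization.Away.invSelf a
  let img : Fin m → C := fun j => if h : j ∈ Set.range eJ then
      -((MvPolynomial.C (algebraMap A B (N h.choose)) +
        ∑ j' : σ, MvPolynomial.C (algebraMap A B (Mx j'.1 h.choose)) * MvPolynomial.X ⟨j'⟩) *
          MvPolynomial.C a1')
    else MvPolynomial.X ⟨⟨j, h⟩⟩
  let g : MvPolynomial (Fin m) k →ₐ[k] C := MvPolynomial.aeval img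
  have hninj : ¬ Function.Injective g := by
    intro hg
    have hgenB := span_away (k := k) a v fun ω => by
      have := Submodule.smul_mem (Submodule.span A (Set.range v)) (a1 * a3) (hgen2 ω)
      rwa [smul_smul, show a1 * a3 * a2 = a by rw [hadef]; ring] at this
    have hgenC := span_mvPolynomial (σ := ULift.{u} σ) _ hgenB
    let e := (Fintype.equivFin (Fin r ⊕ ULift.{u} σ)).symm
    have hle := KaehlerGen.le_of_injective k C g hg (r := Fintype.card (Fin r ⊕ ULift.{u} σ))
      (fun i => Sum.elim (fun i => map k k B C (map k k A B (v i))) (fun j => D k C (MvPolynomial.X j)) (e i))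
      (by rw [← e.surjective.range_comp] at hgenC; exact hgenC)
    have hm : Fintype.card J + Fintype.card σ = m := by
      rw [Fintype.card_congr (Equiv.ofInjective eJ heJ), Fintype.card_subtype_compl, Fintype.card_fin,
        Nat.add_sub_cancel' ((Fintype.card_subtype_le _).trans (Fintype.card_fin m).le)]
    simp only [Fintype.card_sum, Fintype.card_fin, Fintype.card_ulift] at hle
    omega
  obtain ⟨p, hp, hp0⟩ : ∃ p, g p = 0 ∧ p ≠ 0 := by
    simpa [injective_iff_map_eq_zero] using hninj
  refine ⟨a, ha, p, hp0, fun c n _ han hmem hd => ?_⟩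
  have ha1n : a1 ∉ n := fun h => han (n.mul_mem_right _ (n.mul_mem_right _ h))
  have ha3n : a3 ∉ n := fun h => han (n.mul_mem_left _ h)
  let κn := n.ResidueField
  let T : A × Ω[A⁄k] →ₗ[A] κn ⊗[A] (A × Ω[A⁄k]) := TensorProduct.mk A κn _ 1
  have hT : ∀ (x : A) (w : A × Ω[A⁄k]), T (x • w) = algebraMap A κn x • T w := fun x w => by
    rw [map_smul, algebraMap_smul]
  -- the fibre of the jets at `n` is a basis
  have hliN : LinearIndependent κn (fun i => T (Φ (eJ i))) := by
    refine linearIndependent_of_top_le_span_of_card_eq_finrank ?_ (hrank n ha3n).symm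
    intro y _
    induction y using TensorProduct.induction_on with
    | zero => simp
    | add x y hx hy => exact add_mem (hx trivial) (hy trivial)
    | tmul s w =>
      rw [show s ⊗ₜ[A] w = s • T w by simp [T, TensorProduct.smul_tmul']]
      refine Submodule.smul_mem _ _ ?_
      have h2 := Submodule.apply_mem_span_image_of_mem_span T (hgen1 w)
      rw [← Set.range_comp, hT] at h2
      exact (Submodule.smul_mem_iff _ (fun h => ha1n (Ideal.algebraMap_residueField_eq_zero.1 h))).1
        (Submodule.span_le_restrictScalars A κn _ h2)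
  -- the linear system satisfied by `c`
  have hzero : T (F f + ∑ j, c j • Φ j) = 0 := by
    have hF : F f + ∑ j, c j • Φ j = F (f + ∑ j, c j • φ j) := by simp [Φ, map_sum]
    rw [hF]
    set ψ := f + ∑ j, c j • φ j
    rw [show F ψ = ψ • ((1 : A), (0 : Ω[A⁄k])) + (LinearMap.inr A A Ω[A⁄k]) (D k A ψ) by simp [F],
      map_add, hT, Ideal.algebraMap_residueField_eq_zero.2 hmem, zero_smul, zero_add]
    show (LinearMap.inr A A Ω[A⁄k]).baseChange κn (1 ⊗ₜ D k A ψ) = 0
    rw [hd, map_zero]
  let θ : B →+* κn := IsLocalization.Away.lift a (g := algebraMap A κn)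
    ((Ne.isUnit fun h => han (Ideal.algebraMap_residueField_eq_zero.1 h)))
  have hθ : ∀ x, θ (algebraMap A B x) = algebraMap A κn x := fun x => IsLocalization.Away.lift_eq _ _ x
  let θC : C →+* κn := MvPolynomial.eval₂Hom θ fun j => algebraMap k κn (c j.down.1)
  have hC : ∀ b : B, θC (MvPolynomial.C b) = θ b := fun b => MvPolynomial.eval₂Hom_C _ _ b
  have hX : ∀ j : ULift.{u} σ, θC (MvPolynomial.X j) = algebraMap k κn (c j.down.1) :=
    fun j => MvPolynomial.eval₂Hom_X' _ _ j
  have hcomp : ∀ j, θC (img j) = algebraMap k κn (c j) := by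
    intro j
    simp only [img]
    split_ifs with h
    · set i := h.choose
      have hi : eJ i = j := h.choose_spec
      have hsys : ∀ i : J, algebraMap A κn (N i) + algebraMap A κn a1 * algebraMap k κn (c (eJ i)) +
          ∑ j' : σ, algebraMap A κn (Mx j'.1 i) * algebraMap k κn (c j'.1) = 0 := by
        refine Fintype.linearIndependent_iff.1 hliN _ ?_
        have h0 : T (a1 • (F f + ∑ j, c j • Φ j)) = 0 := by rw [hT, hzero, smul_zero]
        have hsplit : ∀ G : Fin m → κn ⊗[A] (A × Ω[A⁄k]),
            ∑ j, G j = (∑ i : J, G (eJ i)) + ∑ j' : σ, G j'.1 := by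
          intro G
          rw [← Finset.sum_filter_add_sum_filter_not Finset.univ (fun j => j ∈ Set.range eJ) G]
          congr 1
          · rw [← Finset.sum_image (fun x _ y _ h => heJ h)]
            exact Finset.sum_congr (by ext; simp [eq_comm]) fun _ _ => rfl
          · exact Finset.sum_subtype _ (by simp) _
        have hc : ∀ (j : Fin m), T (a1 • c j • Φ j) = algebraMap k κn (c j) • T (a1 • Φ j) := by
          intro j
          rw [smul_comm, ← algebraMap_smul A (c j), hT, ← IsScalarTower.algebraMap_apply]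
        rw [smul_add, map_add, Finset.smul_sum, map_sum, hsplit] at h0
        simp only [hc] at h0
        have e1 : T (a1 • F f) = ∑ i, algebraMap A κn (N i) • T (Φ (eJ i)) := by
          rw [← hN, map_sum]; simp only [hT]
        have e3 : ∀ j, T (a1 • Φ j) = ∑ i, algebraMap A κn (Mx j i) • T (Φ (eJ i)) := fun j => by
          rw [← hMx, map_sum]; simp only [hT]
        rw [e1, ← add_assoc, Finset.sum_congr rfl fun (i : J) _ => congrArg (algebraMap k κn (c (eJ i)) • ·) (hT a1 (Φ (eJ i))),
          Finset.sum_congr rfl fun (j' : σ) _ => congrArg (algebraMap k κn (c j'.1) • ·) (e3 j'.1)] at h0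
        simp only [Finset.smul_sum, smul_smul] at h0
        rw [Finset.sum_comm (γ := σ)] at h0
        simp only [add_smul, Finset.sum_smul, Finset.sum_add_distrib]
        rw [← h0]
        refine congrArg₂ (· + ·) (congrArg₂ (· + ·) rfl (Finset.sum_congr rfl fun i _ => ?_))
          (Finset.sum_congr rfl fun i _ => Finset.sum_congr rfl fun j' _ => ?_) <;> rw [mul_comm]
      have hinv : θ a1' * algebraMap A κn a1 = 1 := by
        rw [← hθ a1, ← map_mul, ← map_one θ]
        congr 1
        have h1 := IsLocalization.Away.mul_invSelf (S := B) a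
        have h2 : algebraMap A B a = algebraMap A B a1 * algebraMap A B a2 * algebraMap A B a3 := by
          simp only [a, map_mul]
        simp only [a1', map_mul]
        linear_combination h1 - IsLocalization.Away.invSelf (S := B) a * h2
      have e := hsys i
      rw [hi] at e
      simp only [map_neg, map_mul, map_add, map_sum, hC, hX, hθ]
      linear_combination (algebraMap k κn (c j)) * hinv - θ a1' * e
    · exact hX _
  have hpc : θC (g p) = algebraMap k κn (MvPolynomial.eval c p) := by
    have : θC.comp g.toRingHom = (algebraMap k κn).comp (MvPolynomial.eval c) := by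
      refine MvPolynomial.ringHom_ext (fun s => ?_) (fun j => ?_)
      · simp only [RingHom.comp_apply, AlgHom.toRingHom_eq_coe, RingHom.coe_coe, MvPolynomial.eval_C]
        rw [show g (MvPolynomial.C s) = algebraMap k C s from g.commutes s,
          IsScalarTower.algebraMap_apply k B C, MvPolynomial.algebraMap_eq,
          IsScalarTower.algebraMap_apply k A B]
        rw [hC, hθ]
        exact (IsScalarTower.algebraMap_apply k A κn s).symm
      · simp only [RingHom.comp_apply, AlgHom.toRingHom_eq_coe, RingHom.coe_coe, MvPolynomial.eval_X,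
          g, MvPolynomial.aeval_X]
        exact hcomp j
    exact RingHom.congr_fun this p
  rw [hp, map_zero] at hpc
  exact (algebraMap k κn).injective (by rw [map_zero]; exact hpc.symm)

/-- If the coordinates generate the algebra and one of them is `1`, their jets span every fibre. -/
theorem jets_span_of_adjoin {m : ℕ} (φ : Fin m → A) (hgen : Algebra.adjoin k (Set.range φ) = ⊤)
    (j₀ : Fin m) (hj₀ : φ j₀ = 1) (M : Ideal A) [M.IsPrime] (l : A) :
    (1 : M.ResidueField) ⊗ₜ[A] ((l, D k A l) : A × Ω[A⁄k]) ∈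
      Submodule.span M.ResidueField
        (Set.range fun j => (1 : M.ResidueField) ⊗ₜ[A] ((φ j, D k A (φ j)) : A × Ω[A⁄k])) := by
  set S := Submodule.span M.ResidueField
    (Set.range fun j => (1 : M.ResidueField) ⊗ₜ[A] ((φ j, D k A (φ j)) : A × Ω[A⁄k]))
  let F : A →ₗ[k] A × Ω[A⁄k] := LinearMap.prod LinearMap.id (D k A).toLinearMap
  show (1 : M.ResidueField) ⊗ₜ[A] F l ∈ S
  have hS : ∀ (x : A) (w : A × Ω[A⁄k]), (1 : M.ResidueField) ⊗ₜ[A] w ∈ S →
      (1 : M.ResidueField) ⊗ₜ[A] (x • w) ∈ S := fun x w hw => by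
    rw [TensorProduct.tmul_smul, ← algebraMap_smul M.ResidueField]
    exact Submodule.smul_mem _ _ hw
  have h1 : (1 : M.ResidueField) ⊗ₜ[A] F 1 ∈ S := Submodule.subset_span ⟨j₀, by simp [F, hj₀]⟩
  have hl : l ∈ Algebra.adjoin k (Set.range φ) := hgen ▸ trivial
  induction hl using Algebra.adjoin_induction with
  | mem x hx => obtain ⟨j, rfl⟩ := hx; exact Submodule.subset_span ⟨j, rfl⟩
  | algebraMap r =>
    rw [Algebra.algebraMap_eq_smul_one, map_smul, ← algebraMap_smul A r (F 1)]
    exact hS _ _ h1
  | add x y _ _ hx hy => rw [map_add, TensorProduct.tmul_add]; exact add_mem hx hy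
  | mul x y _ _ hx hy =>
    have e : F (x * y) = x • F y + y • F x - (x * y) • F 1 := by
      refine Prod.ext ?_ ?_
      · simp [F]; ring
      · simp [F]
    rw [e, TensorProduct.tmul_sub, TensorProduct.tmul_add]
    exact sub_mem (add_mem (hS _ _ hy) (hS _ _ hx)) (hS _ _ h1)

open MvPolynomial in
/-- Bad parameters near a maximal ideal lie in a hypersurface. -/
theorem exists_bad_local [Algebra.Smooth k A] {m : ℕ} (f : A) (φ : Fin m → A)
    (M : Ideal A) [M.IsMaximal]
    (hjet : ∀ l : A, ∃ c : Fin m → k, (∑ j, c j • φ j) - l ∈ M ^ 2) :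
    ∃ a ∉ M, ∃ p : MvPolynomial (Fin m) k, p ≠ 0 ∧ ∀ c : Fin m → k, ∀ n : Ideal A, ∀ [n.IsMaximal],
      a ∉ n → f + ∑ j, c j • φ j ∈ n →
      (1 : n.ResidueField) ⊗ₜ[A] D k A (f + ∑ j, c j • φ j) = 0 → eval c p = 0 := by
  classical
  refine exists_bad_local_of_span f φ M ?_
  let F : A →ₗ[k] A × Ω[A⁄k] := LinearMap.prod LinearMap.id (D k A).toLinearMap
  let κ := M.ResidueField
  let t : Fin m → κ ⊗[A] (A × Ω[A⁄k]) := fun j => 1 ⊗ₜ F (φ j)
  show ∀ l : A, (1 : κ) ⊗ₜ[A] F l ∈ Submodule.span κ (Set.range t)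
  intro l
  obtain ⟨c, hc⟩ := hjet l
  have h0 : ∀ x ∈ M ^ 2, (1 : κ) ⊗ₜ[A] F x = 0 := by
    intro x hx
    rw [pow_two] at hx
    refine Submodule.mul_induction_on hx (fun y hy z hz => ?_) (fun y z hy hz => ?_)
    · have : F (y * z) = y • ((z, D k A z) : A × Ω[A⁄k]) + z • (((0 : A), D k A y) : A × Ω[A⁄k]) := by
        simp [F]
      rw [this, TensorProduct.tmul_add, TensorProduct.tmul_smul, TensorProduct.tmul_smul,
        ← algebraMap_smul κ y, ← algebraMap_smul κ z,
        Ideal.algebraMap_residueField_eq_zero.2 hy, Ideal.algebraMap_residueField_eq_zero.2 hz]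
      simp
    · rw [map_add, TensorProduct.tmul_add, hy, hz, add_zero]
  have h1 := h0 _ hc
  rw [map_sub, TensorProduct.tmul_sub, sub_eq_zero] at h1
  rw [← h1, map_sum, TensorProduct.tmul_sum]
  refine Submodule.sum_mem _ fun j _ => ?_
  rw [map_smul, ← algebraMap_smul A (c j), TensorProduct.tmul_smul, ← algebraMap_smul κ]
  exact Submodule.smul_mem _ _ (Submodule.subset_span ⟨j, rfl⟩)

end Groth.Agent.Var76.BertiniAlg
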