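import Groth.Agent.Var76.ZeroScheme
import Groth.Agent.Var76.BertiniAlg
import Groth.Prelude.Def_Formal
import Mathlib.AlgebraicGeometry.IdealSheaf.Subscheme
import Mathlib.AlgebraicGeometry.Morphisms.Smooth
import Mathlib.AlgebraicGeometry.Morphisms.FiniteType
import Mathlib.RingTheory.Jacobson.Ring
import Mathlib.RingTheory.MvPolynomial.Basic

/-! Bertini's theorem for sections spanning the one-jets. -/

universe u

open CategoryTheory CategoryTheory.Limits AlgebraicGeometry Opposite TopologicalSpace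
open scoped TensorProduct

namespace Groth.Agent.Var76.BertiniScheme

open LineBundle ZeroScheme

variable {k : Type u} [Field k] {Y : Scheme.{u}} [Y.Over (Spec (CommRingCat.of k))]

local notation "qY" => (Y ↘ Spec (CommRingCat.of k))

variable (Y) in
/-- The constants, as functions on an open. -/
noncomputable def const (W : Y.Opens) : k →+* Γ(Y, W) :=
  ((Scheme.ΓSpecIso (CommRingCat.of k)).inv ≫ Scheme.Hom.appLE qY ⊤ W le_top).hom

theorem SpecMap_const {W : Y.Opens} (hW : IsAffineOpen W) :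
    Spec.map (CommRingCat.ofHom (const (k := k) Y W)) = hW.fromSpec ≫ qY := by
  show Spec.map ((Scheme.ΓSpecIso (CommRingCat.of k)).inv ≫ Scheme.Hom.appLE qY ⊤ W le_top) = _
  rw [Spec.map_comp, ← IsAffineOpen.SpecMap_appLE_fromSpec qY (isAffineOpen_top _) hW le_top,
    IsAffineOpen.fromSpec_top, Scheme.isoSpec_Spec_inv]

theorem smulMod_app (M : Y.Modules) (a : k) (W : Y.Opens) (m : Γ(M, W)) :
    (Formal.smulMod k M a).app W m = const Y W a • m := rfl

theorem val_comp {M N : Y.Modules} (g : Coh.structureModule Y ⟶ M) (h : M ⟶ N) (W : Y.Opens) :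
    val N (g ≫ h) W = h.app W (val M g W) := rfl

theorem val_add {L : Y.Modules} (g h : Coh.structureModule Y ⟶ L) (W : Y.Opens) :
    val L (g + h) W = val L g W + val L h W := rfl

theorem val_sum {L : Y.Modules} {ι : Type*} (s : Finset ι) (g : ι → (Coh.structureModule Y ⟶ L))
    (W : Y.Opens) : val L (∑ i ∈ s, g i) W = ∑ i ∈ s, val L (g i) W := by
  classical
  induction s using Finset.induction_on with
  | empty => simp only [Finset.sum_empty]; rfl
  | @insert a s ha ih => rw [Finset.sum_insert ha, Finset.sum_insert ha, val_add, ih]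

theorem val_smulMod_comp {L : Y.Modules} (a : k) (g : Coh.structureModule Y ⟶ L) (W : Y.Opens) :
    val L (Formal.smulMod k (Coh.structureModule Y) a ≫ g) W = const Y W a • val L g W := by
  show g.app W ((Formal.smulMod k (Coh.structureModule Y) a).app W (1 : Γ(Y, W))) = _
  let one : Γ(Coh.structureModule Y, W) := (1 : Γ(Y, W))
  show g.app W ((Formal.smulMod k (Coh.structureModule Y) a).app W one) = _
  rw [smulMod_app (Coh.structureModule Y) a W one, Scheme.Modules.Hom.app_smul]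
  rfl

/-- On an affine framed open, the jets of the coordinates span. -/
theorem exists_jet [LocallyOfFiniteType qY] {L : Y.Modules} {m : ℕ} (s : Fin m → (Coh.structureModule Y ⟶ L))
    (hjet : ∀ p : Y, IsClosed ({p} : Set Y) → ∀ l : ↥(L.presheaf.stalk p), ∃ c : Fin m → k,
      (L.presheaf.germ ⊤ p trivial)
          (PicF2.secVal L (∑ i : Fin m, Formal.smulMod k (Coh.structureModule Y) (c i) ≫ s i) ⊤) - l ∈
        (IsLocalRing.maximalIdeal ↥(Y.presheaf.stalk p)) ^ 2 •
          (⊤ : Submodule ↥(Y.presheaf.stalk p) ↥(L.presheaf.stalk p)))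
    {W : Y.Opens} (hW : IsAffineOpen W) {e : Γ(L, W)} (he : IsFrame L W e)
    (φ : Fin m → Γ(Y, W)) (hφ : ∀ i, φ i • e = val L (s i) W)
    (M : Ideal Γ(Y, W)) [M.IsMaximal] (a : Γ(Y, W)) :
    ∃ c : Fin m → k, (∑ i, const Y W (c i) * φ i) - a ∈ M ^ 2 := by
  have : JacobsonSpace Y := LocallyOfFiniteType.jacobsonSpace qY
  let x : Spec Γ(Y, W) := ⟨M, inferInstance⟩
  let p : Y := hW.fromSpec x
  have hpW : p ∈ W := hW.range_fromSpec.le ⟨x, rfl⟩
  have hp : IsClosed ({p} : Set Y) := by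
    refine isClosed_singleton_of_isLocallyClosed_singleton ?_
    have hx : IsClosed ({x} : Set (Spec Γ(Y, W))) :=
      (PrimeSpectrum.isClosed_singleton_iff_isMaximal _).2 ‹_›
    simpa [Set.image_singleton] using hx.isLocallyClosed.image hW.fromSpec.isOpenEmbedding.isInducing
      hW.fromSpec.isOpenEmbedding.isOpen_range.isLocallyClosed
  obtain ⟨c, hc⟩ := hjet p hp (L.presheaf.germ W p hpW (a • e))
  refine ⟨c, ?_⟩
  set α := (∑ i, const Y W (c i) * φ i) - a
  set gm := L.presheaf.germ W p hpW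
  set gr := Y.presheaf.germ W p hpW
  have hgs : ∀ (V : Y.Opens) (hV : p ∈ V) (r : Γ(Y, V)) (y : Γ(L, V)),
      L.presheaf.germ V p hV (r • y) = Y.presheaf.germ V p hV r • L.presheaf.germ V p hV y :=
    fun V hV r y => PresheafOfModules.germ_smul (R := Y.presheaf) L.val p V hV r y
  have hres : ∀ (U V : Y.Opens) (h : V ≤ U) (hV : p ∈ V) (y : Γ(L, U)),
      L.presheaf.germ V p hV (res L h y) = L.presheaf.germ U p (h hV) y :=
    fun U V h hV y => TopCat.Presheaf.germ_res_apply L.presheaf (homOfLE h) p hV y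
  have hmem : gr α • gm e ∈ (IsLocalRing.maximalIdeal ↥(Y.presheaf.stalk p)) ^ 2 •
      (⊤ : Submodule ↥(Y.presheaf.stalk p) ↥(L.presheaf.stalk p)) := by
    rw [← hgs]
    have : gm (α • e) = L.presheaf.germ ⊤ p trivial
        (val L (∑ i : Fin m, Formal.smulMod k (Coh.structureModule Y) (c i) ≫ s i) ⊤) - gm (a • e) := by
      rw [← hres ⊤ W le_top hpW, res_val, val_sum, ← map_sub]
      congr 1
      simp only [α, sub_smul, Finset.sum_smul, val_smulMod_comp, ← hφ, smul_smul]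
    rw [this]
    exact hc
  have hspan : ∀ y : L.presheaf.stalk p, ∃ r : Y.presheaf.stalk p, y = r • gm e := by
    intro y
    obtain ⟨U, hpU, y₀, rfl⟩ := L.presheaf.exists_germ_eq y
    obtain ⟨β, hβ⟩ := (he (U ⊓ W) inf_le_right).2 (res L inf_le_left y₀)
    refine ⟨Y.presheaf.germ _ p (show p ∈ U ⊓ W from ⟨hpU, hpW⟩) β, ?_⟩
    rw [← hres U (U ⊓ W) inf_le_left ⟨hpU, hpW⟩, ← hres W (U ⊓ W) inf_le_right ⟨hpU, hpW⟩, ← hgs]
    exact congrArg _ hβ.symm
  have hinj : ∀ r : Y.presheaf.stalk p, r • gm e = 0 → r = 0 := by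
    intro r hr
    obtain ⟨U, hpU, r₀, rfl⟩ := Y.presheaf.exists_germ_eq r
    have hle : U ⊓ W ≤ U := inf_le_left
    rw [← TopCat.Presheaf.germ_res_apply Y.presheaf (homOfLE hle) p ⟨hpU, hpW⟩, ← hres W (U ⊓ W) inf_le_right ⟨hpU, hpW⟩] at hr
    have hr' : L.presheaf.germ (U ⊓ W) p ⟨hpU, hpW⟩ (fres hle r₀ • res L inf_le_right e) =
        L.presheaf.germ (U ⊓ W) p ⟨hpU, hpW⟩ 0 := (hgs _ _ _ _).trans (hr.trans (map_zero _).symm)
    obtain ⟨V, hpV, i₁, i₂, heq⟩ := L.presheaf.germ_eq p _ _ _ _ hr'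
    rw [← TopCat.Presheaf.germ_res_apply Y.presheaf (homOfLE hle) p ⟨hpU, hpW⟩,
      ← TopCat.Presheaf.germ_res_apply Y.presheaf i₁ p hpV]
    suffices h0 : Y.presheaf.map i₁.op (Y.presheaf.map (homOfLE hle).op r₀) = 0 by rw [h0, map_zero]
    refine (he V ((leOfHom i₁).trans inf_le_right)).1 ?_
    show _ • res L _ e = (0 : Γ(Y, V)) • res L _ e
    rw [zero_smul, map_zero] at *
    rw [← res_res L (inf_le_right : U ⊓ W ≤ W) (leOfHom i₁)]
    rw [← heq]
    exact (res_smul L (leOfHom i₁) _ _).symm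
  have hα : gr α ∈ IsLocalRing.maximalIdeal (Y.presheaf.stalk p) ^ 2 := by
    obtain ⟨r, hr, hr'⟩ : ∃ r ∈ IsLocalRing.maximalIdeal (Y.presheaf.stalk p) ^ 2,
        gr α • gm e = r • gm e := by
      refine Submodule.smul_induction_on hmem (fun r hr y _ => ?_) ?_
      · obtain ⟨r', rfl⟩ := hspan y
        exact ⟨r * r', Ideal.mul_mem_right _ _ hr, smul_smul _ _ _⟩
      · rintro y z ⟨r, hr, rfl⟩ ⟨r', hr', rfl⟩
        exact ⟨r + r', add_mem hr hr', (add_smul _ _ _).symm⟩
    rw [← sub_eq_zero, ← sub_smul] at hr'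
    rwa [sub_eq_zero.1 (hinj _ hr')]
  -- descend from the local ring
  let : Algebra Γ(Y, W) (Y.presheaf.stalk p) := TopCat.Presheaf.algebra_section_stalk Y.presheaf ⟨p, hpW⟩
  have : IsLocalization.AtPrime (Y.presheaf.stalk p) M := hW.isLocalization_stalk' x hpW
  replace hα : algebraMap Γ(Y, W) (Y.presheaf.stalk p) α ∈ (M.map (algebraMap Γ(Y, W) (Y.presheaf.stalk p))) ^ 2 := by
    rw [IsLocalization.AtPrime.map_eq_maximalIdeal M]
    exact hα
  rw [← Ideal.map_pow, IsLocalization.algebraMap_mem_map_algebraMap_iff M.primeCompl] at hα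
  obtain ⟨t, ht, htα⟩ := hα
  obtain ⟨u, hu, v, hv, huv⟩ := Submodule.mem_sup.1
    (show (1 : Γ(Y, W)) ∈ M ^ 2 ⊔ Ideal.span {t} by
      suffices h : M ^ 2 ⊔ Ideal.span {t} = ⊤ by rw [h]; trivial
      by_contra h
      obtain ⟨N, hN, hle⟩ := Ideal.exists_le_maximal _ h
      have hMN : M ≤ N := hN.isPrime.le_of_pow_le (le_sup_left.trans hle)
      exact ht (by
        rw [Ideal.IsMaximal.eq_of_le ‹_› hN.ne_top hMN]
        exact hle (Submodule.mem_sup_right (Ideal.mem_span_singleton_self t))))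
  obtain ⟨w, rfl⟩ := Ideal.mem_span_singleton'.1 hv
  have : α = u * α + w * (t * α) := by rw [← mul_assoc, ← add_mul, huv, one_mul]
  rw [this]
  exact add_mem (Ideal.mul_mem_right _ _ hu) (Ideal.mul_mem_left _ _ htα)

/-- An affine piece of Bertini's theorem. -/
theorem exists_affine [Smooth qY] {L : Y.Modules} {m : ℕ} (s : Fin m → (Coh.structureModule Y ⟶ L))
    (f : Coh.structureModule Y ⟶ L)
    (hjet : ∀ p : Y, IsClosed ({p} : Set Y) → ∀ l : ↥(L.presheaf.stalk p), ∃ c : Fin m → k,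
      (L.presheaf.germ ⊤ p trivial)
          (PicF2.secVal L (∑ i : Fin m, Formal.smulMod k (Coh.structureModule Y) (c i) ≫ s i) ⊤) - l ∈
        (IsLocalRing.maximalIdeal ↥(Y.presheaf.stalk p)) ^ 2 •
          (⊤ : Submodule ↥(Y.presheaf.stalk p) ↥(L.presheaf.stalk p)))
    (hL : FlatMod.IsFinLocFreeOfRank 1 L)
    (W : Y.affineOpens) {e : Γ(L, W.1)} (he : IsFrame L W.1 e) :
    ∃ q : MvPolynomial (Fin m) k, q ≠ 0 ∧ ∀ c : Fin m → k, MvPolynomial.eval c q ≠ 0 →
      Smooth (Spec.map (CommRingCat.ofHom ((Ideal.Quotient.mk ((PicF2.zeroScheme L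
        (f + ∑ i : Fin m, Formal.smulMod k (Coh.structureModule Y) (c i) ≫ s i)).ideal W)).comp
          (const (k := k) Y W.1)))) := by
  classical
  let A := Γ(Y, W.1)
  let : Algebra k A := (const (k := k) Y W.1).toAlgebra
  have hsm : Algebra.Smooth k A := by
    have h1 : Smooth (W.2.fromSpec ≫ qY) := by
      have : IsOpenImmersion W.2.fromSpec := IsAffineOpen.isOpenImmersion_fromSpec W.2
      infer_instance
    rw [← SpecMap_const W.2, HasRingHomProperty.Spec_iff (P := @Smooth)] at h1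
    exact RingHom.smooth_algebraMap.1 h1
  choose φ hφ using fun i => (he W.1 le_rfl).2 (val L (s i) W.1)
  obtain ⟨φ₀, hφ₀⟩ := (he W.1 le_rfl).2 (val L f W.1)
  have hres : res L le_rfl e = e := by simp [res]
  simp only [hres] at hφ hφ₀
  have hloc : ∀ M : MaximalSpectrum A, ∃ a ∉ M.asIdeal, ∃ p : MvPolynomial (Fin m) k, p ≠ 0 ∧
      ∀ c : Fin m → k, ∀ n : Ideal A, ∀ [n.IsMaximal],
        a ∉ n → φ₀ + ∑ j, c j • φ j ∈ n →
        (1 : n.ResidueField) ⊗ₜ[A] KaehlerDifferential.D k A (φ₀ + ∑ j, c j • φ j) = 0 →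
          MvPolynomial.eval c p = 0 := fun M => by
    have := M.isMaximal
    exact BertiniAlg.exists_bad_local φ₀ φ M.asIdeal fun a => by
      obtain ⟨c, hc⟩ := exists_jet s hjet W.2 he φ hφ M.asIdeal a
      exact ⟨c, by simpa [Algebra.smul_def, RingHom.algebraMap_toAlgebra] using hc⟩
  choose a ha p hp0 hp using hloc
  have hspan : Ideal.span (Set.range a) = ⊤ := by
    by_contra h
    obtain ⟨N, hN, hle⟩ := Ideal.exists_le_maximal _ h
    exact ha ⟨N, hN⟩ (hle (Ideal.subset_span ⟨_, rfl⟩))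
  obtain ⟨T, hT⟩ : ∃ T : Finset (MaximalSpectrum A), (1 : A) ∈ Ideal.span (a '' T) := by
    obtain ⟨S, hS, h1⟩ := Submodule.mem_span_finite_of_mem_span
      (show (1 : A) ∈ Ideal.span (Set.range a) from hspan ▸ trivial)
    choose g hg using fun x (hx : x ∈ S) => hS hx
    refine ⟨S.attach.image fun x => g x.1 x.2, Ideal.span_mono ?_ h1⟩
    exact fun x hx => ⟨g x hx, Finset.mem_coe.2 (Finset.mem_image.2 ⟨⟨x, hx⟩, Finset.mem_attach _ _, rfl⟩), hg x hx⟩
  refine ⟨∏ M ∈ T, p M, Finset.prod_ne_zero_iff.2 fun M _ => hp0 M, fun c hc => ?_⟩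
  have hval : (φ₀ + ∑ j, c j • φ j) • e =
      val L (f + ∑ i : Fin m, Formal.smulMod k (Coh.structureModule Y) (c i) ≫ s i) W.1 := by
    simp only [val_add, val_sum, val_smulMod_comp, ← hφ, ← hφ₀, add_smul, Finset.sum_smul, smul_smul,
      Algebra.smul_def, RingHom.algebraMap_toAlgebra]
  rw [ideal_zeroScheme hL W he hval]
  have := BertiniAlg.smooth_quotient (k := k) (φ₀ + ∑ j, c j • φ j) fun n _ hn h0 => by
    have : ¬ Ideal.span (a '' T) ≤ n := fun h => ‹n.IsMaximal›.ne_top ((Ideal.eq_top_iff_one _).2 (h hT))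
    rw [Ideal.span_le, Set.not_subset] at this
    obtain ⟨_, ⟨M, hM, rfl⟩, hMn⟩ := this
    refine hc ?_
    rw [map_prod]
    exact Finset.prod_eq_zero hM (hp M c n hMn hn h0)
  rw [HasRingHomProperty.Spec_iff (P := @Smooth)]
  exact RingHom.smooth_algebraMap.2 this

theorem bertini [Smooth qY] [QuasiCompact qY]
    {L : Y.Modules} (hL : FlatMod.IsFinLocFreeOfRank 1 L) {m : ℕ}
    (s : Fin m → (Coh.structureModule Y ⟶ L)) (f : Coh.structureModule Y ⟶ L)
    (hjet : ∀ p : Y, IsClosed ({p} : Set Y) → ∀ l : ↥(L.presheaf.stalk p), ∃ c : Fin m → k,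
      (L.presheaf.germ ⊤ p trivial)
          (PicF2.secVal L (∑ i : Fin m, Formal.smulMod k (Coh.structureModule Y) (c i) ≫ s i) ⊤) - l ∈
        (IsLocalRing.maximalIdeal ↥(Y.presheaf.stalk p)) ^ 2 •
          (⊤ : Submodule ↥(Y.presheaf.stalk p) ↥(L.presheaf.stalk p))) :
    ∃ q : MvPolynomial (Fin m) k, q ≠ 0 ∧ ∀ c : Fin m → k, MvPolynomial.eval c q ≠ 0 →
      Smooth ((PicF2.zeroScheme L (f + ∑ i : Fin m, Formal.smulMod k (Coh.structureModule Y) (c i) ≫ s i)).subschemeι ≫ qY) := by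
  classical
  have : CompactSpace Y := QuasiCompact.compactSpace_of_compactSpace qY
  have hcov : ∀ y : Y, ∃ W : Y.affineOpens, y ∈ W.1 ∧ ∃ e : Γ(L, W.1), IsFrame L W.1 e := fun y => by
    obtain ⟨U, hyU, e, he⟩ := exists_frame hL y
    obtain ⟨W, hW, hyW, hWU⟩ := exists_isAffineOpen_mem_and_subset hyU
    exact ⟨⟨W, hW⟩, hyW, res L hWU e, he.res hWU⟩
  choose W hyW e he using hcov
  obtain ⟨T, hT⟩ := CompactSpace.isCompact_univ (X := Y) |>.elim_finite_subcover
    (fun y => ((W y).1 : Set Y)) (fun y => (W y).1.2) (fun y _ => Set.mem_iUnion.2 ⟨y, hyW y⟩)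
  choose q hq0 hq using fun y => exists_affine s f hjet hL (W y) (he y)
  refine ⟨∏ y ∈ T, q y, Finset.prod_ne_zero_iff.2 fun y _ => hq0 y, fun c hc => ?_⟩
  rw [map_prod, Finset.prod_ne_zero_iff] at hc
  set I := PicF2.zeroScheme L (f + ∑ i : Fin m, Formal.smulMod k (Coh.structureModule Y) (c i) ≫ s i)
  have : IsZariskiLocalAtSource @Smooth := HasRingHomProperty.instIsZariskiLocalAtSource (Q := RingHom.Smooth)
  rw [IsZariskiLocalAtSource.iff_of_iSup_eq_top (P := @Smooth)
    (fun y : T => I.subschemeι ⁻¹ᵁ (W y.1).1) (by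
      rw [eq_top_iff]
      intro z _
      obtain ⟨y, hy, hz⟩ := Set.mem_iUnion₂.1 (hT (Set.mem_univ (I.subschemeι z)))
      exact Opens.mem_iSup.2 ⟨⟨y, hy⟩, hz⟩)]
  intro y
  have : MorphismProperty.RespectsIso @Smooth := MorphismProperty.IsStableUnderBaseChange.respectsIso
  have : IsOpenImmersion (I.subschemeCover.f (W y.1)) := I.subschemeCover.openCover.map_prop (W y.1)
  rw [← I.opensRange_subschemeCover_map (W y.1), ← MorphismProperty.cancel_left_of_respectsIso
    @Smooth (I.subschemeCover.f (W y.1)).isoOpensRange.hom, Scheme.Hom.isoOpensRange_hom_ι_assoc,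
    reassoc_of% (I.subschemeCover_map_subschemeι (W y.1))]
  have h1 := hq y.1 c (hc y.1 y.2)
  have h2 := I.glueDataObjι_ι (W y.1)
  rw [h2]
  rw [CommRingCat.ofHom_comp, Spec.map_comp, SpecMap_const (W y.1).2] at h1
  exact Eq.mp (congrArg Smooth (Category.assoc _ _ _).symm) h1

end Groth.Agent.Var76.BertiniScheme
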