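import Groth.Agent.Var76.ProjFrame
import Groth.Agent.Var76.BertiniScheme
import Groth.Prelude.Def_CohB1
import Mathlib.RingTheory.MvPolynomial.Ideal

/-! Affine coordinates of projective space and of its closed subschemes. -/

universe u

open CategoryTheory CategoryTheory.Limits AlgebraicGeometry Opposite TopologicalSpace

noncomputable section

set_option backward.isDefEq.respectTransparency false

namespace Groth.Agent.Var76.ProjCoord

open LineBundle ZeroScheme BertiniScheme HomogeneousLocalization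

variable (k : Type u) [Field k] (n : ℕ)

/-- The variable, in degree one. -/
def X₁ (i : Fin (n + 1)) : CohB1.polyGrading n k 1 :=
  ⟨MvPolynomial.X i, MvPolynomial.isHomogeneous_X k i⟩

theorem sum_coeff_smul (h : CohB1.polyGrading n k 1) :
    (h : MvPolynomial (Fin (n + 1)) k) =
      ∑ i, MvPolynomial.coeff (Finsupp.single i 1) h.1 • MvPolynomial.X i := by
  classical
  ext d
  simp only [MvPolynomial.coeff_sum, MvPolynomial.coeff_smul, MvPolynomial.coeff_X, smul_eq_mul,
    mul_ite, mul_one, mul_zero]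
  by_cases hd : d.degree = 1
  · obtain ⟨j, rfl⟩ : d ∈ Set.range (fun i : Fin (n + 1) => Finsupp.single i 1) := by
      rw [Finsupp.range_single_one]; exact hd
    simp [Finsupp.single_left_inj]
  · rw [MvPolynomial.IsHomogeneous.coeff_eq_zero h.2 hd, Finset.sum_eq_zero]
    intro i _
    rw [if_neg]
    rintro rfl
    exact hd (Finsupp.degree_single _ _)

/-- The standard open. -/
abbrev U (j : Fin (n + 1)) : (CohB1.ProjSpace n k).Opens :=
  Proj.basicOpen (CohB1.polyGrading n k) (MvPolynomial.X j)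

theorem isAffineOpen_U (j : Fin (n + 1)) : IsAffineOpen (U k n j) :=
  Proj.isAffineOpen_basicOpen _ _ (X₁ k n j).2 one_pos

theorem exists_mem_U (x : CohB1.ProjSpace n k) : ∃ j, x ∈ U k n j := by
  by_contra hx
  push Not at hx
  have hx' : ∀ j, (MvPolynomial.X j : MvPolynomial (Fin (n + 1)) k) ∈ x.asHomogeneousIdeal :=
    fun j => by
      by_contra h
      exact hx j h
  refine x.not_irrelevant_le ?_
  intro a ha
  rw [HomogeneousIdeal.mem_irrelevant_iff, GradedRing.proj_apply,
    ← DirectSum.Decomposition.decompose'_eq, MvPolynomial.decomposition.decompose'_apply,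
    MvPolynomial.homogeneousComponent_zero, MvPolynomial.C_eq_zero] at ha
  have hmem : a ∈ Ideal.span (Set.range (MvPolynomial.X : Fin (n + 1) → MvPolynomial (Fin (n + 1)) k)) := by
    rw [← Set.image_univ, MvPolynomial.mem_ideal_span_X_image]
    intro m hm
    obtain ⟨i, hi⟩ : ∃ i, m i ≠ 0 := by
      by_contra hc
      push Not at hc
      rw [show m = 0 from Finsupp.ext hc] at hm
      exact (MvPolynomial.mem_support_iff.1 hm) ha
    exact ⟨i, trivial, hi⟩
  exact Ideal.span_le.2 (Set.range_subset_iff.2 hx') hmem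

theorem isFinLocFreeOfRank :
    FlatMod.IsFinLocFreeOfRank 1 (Twist.twistProjSpace n k 1) :=
  Frames.isFinLocFreeOfRank_of_frames _ fun x => by
    obtain ⟨j, hj⟩ := exists_mem_U k n x
    exact ⟨U k n j, hj, _, ProjFrame.isFrame (CohB1.polyGrading n k) (X₁ k n j)⟩

/-- The fraction `h / X_j`. -/
def frac (j : Fin (n + 1)) (h : CohB1.polyGrading n k 1) :
    Away (CohB1.polyGrading n k) (MvPolynomial.X j) :=
  HomogeneousLocalization.mk ⟨1, h, X₁ k n j, ⟨1, pow_one _⟩⟩

theorem const_eq (j : Fin (n + 1)) :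
    CommRingCat.ofHom (const (k := k) (CohB1.ProjSpace n k) (U k n j)) =
      CommRingCat.ofHom (algebraMap k (CohB1.polyGrading n k 0)) ≫
      CommRingCat.ofHom (fromZeroRingHom (CohB1.polyGrading n k) _) ≫
      Proj.awayToSection (CohB1.polyGrading n k) (MvPolynomial.X j) := by
  let f : MvPolynomial (Fin (n + 1)) k := MvPolynomial.X j
  have hf : f ∈ CohB1.polyGrading n k 1 := (X₁ k n j).2
  have hU : IsAffineOpen (U k n j) := isAffineOpen_U k n j
  have h1 : hU.isoSpec.inv = Spec.map (Proj.awayToSection (CohB1.polyGrading n k) f) ≫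
      (Proj.basicOpenIsoSpec (CohB1.polyGrading n k) f hf one_pos).inv := by
    rw [Iso.eq_comp_inv, Proj.basicOpenIsoSpec_hom]
    show hU.isoSpec.inv ≫ (U k n j).toSpecΓ ≫ _ = _
    rw [← hU.isoSpec_hom, Iso.inv_hom_id_assoc]
  apply Spec.map_injective
  rw [SpecMap_const hU, Spec.map_comp, Spec.map_comp,
    ← Proj.awayι_toSpecZero (CohB1.polyGrading n k) f hf one_pos]
  show (hU.isoSpec.inv ≫ (U k n j).ι) ≫ CohB1.ProjSpace.toSpec n k = _
  rw [h1]
  simp only [CohB1.ProjSpace.toSpec, Category.assoc, ← Proj.basicOpenIsoSpec_inv_ι]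
  rfl

/-- The fractions `X_i / X_j` generate the coordinate ring of the standard open. -/
theorem exists_eval₂_eq (j : Fin (n + 1)) (x : Γ(CohB1.ProjSpace n k, U k n j)) :
    ∃ p : MvPolynomial (Fin (n + 1)) k, MvPolynomial.eval₂ (const (k := k) _ (U k n j))
      (fun i => Proj.awayToSection (CohB1.polyGrading n k) (MvPolynomial.X j) (frac k n j (X₁ k n i))) p = x := by
  let 𝒜 := CohB1.polyGrading n k
  let f : MvPolynomial (Fin (n + 1)) k := MvPolynomial.X j
  let a := Proj.awayToSection 𝒜 f
  obtain ⟨z, rfl⟩ : ∃ z, a z = x :=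
    (ConcreteCategory.bijective_of_isIso
      (Proj.basicOpenIsoAway 𝒜 f (X₁ k n j).2 one_pos).hom).2 x
  obtain ⟨c, rfl⟩ := HomogeneousLocalization.mk_surjective z
  obtain ⟨m, hm⟩ := c.den_mem
  have hm : f ^ m = c.den.1 := hm
  refine ⟨c.num.1, ?_⟩
  let cst : k →+* Away 𝒜 f := (fromZeroRingHom 𝒜 _).comp (algebraMap k (𝒜 0))
  have hc : const (k := k) (CohB1.ProjSpace n k) (U k n j) = a.hom.comp cst :=
    congrArg CommRingCat.Hom.hom (const_eq k n j)
  rw [hc]
  show MvPolynomial.eval₂ (a.hom.comp cst) (a.hom ∘ fun i => frac k n j (X₁ k n i)) c.num.1 = _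
  rw [← MvPolynomial.eval₂_comp_left a.hom cst]
  refine congrArg a.hom (HomogeneousLocalization.val_injective _ ?_)
  let L := Localization (Submonoid.powers f)
  let v : Away 𝒜 f →+* L := algebraMap (Away 𝒜 f) L
  show v _ = _
  rw [MvPolynomial.eval₂_comp_left v, HomogeneousLocalization.val_mk, Localization.mk_eq_mk',
    IsLocalization.eq_mk'_iff_mul_eq]
  have hdeg : c.num.1.IsHomogeneous m := by
    by_cases h0 : c.num.1 = 0
    · rw [h0]; exact MvPolynomial.isHomogeneous_zero _ _ _
    have h1 : c.num.1.IsHomogeneous c.deg := c.num.2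
    have h2 : c.den.1.IsHomogeneous c.deg := c.den.2
    have h3 : c.den.1.IsHomogeneous m := hm ▸ (MvPolynomial.isHomogeneous_X_pow j m)
    rw [← h2.inj_right h3 (hm ▸ pow_ne_zero _ (MvPolynomial.X_ne_zero j))]
    exact h1
  have hv : ∀ i, v (frac k n j (X₁ k n i)) * algebraMap _ L f = algebraMap _ L (MvPolynomial.X i) := fun i => by
    show (frac k n j (X₁ k n i)).val * _ = _
    rw [frac, HomogeneousLocalization.val_mk, Localization.mk_eq_mk']
    exact IsLocalization.mk'_spec _ _ _
  have hcst : ∀ r, v (cst r) = algebraMap _ L (MvPolynomial.C r) := fun r => by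
    show (cst r).val = _
    exact (Localization.mk_one_eq_algebraMap _)
  show MvPolynomial.eval₂ (v.comp cst) (v ∘ fun i => frac k n j (X₁ k n i)) c.num.1 *
    algebraMap _ L c.den.1 = algebraMap _ L c.num.1
  rw [← hm]
  conv_rhs => rw [c.num.1.as_sum, map_sum]
  rw [MvPolynomial.eval₂_eq, Finset.sum_mul]
  refine Finset.sum_congr rfl fun d hd => ?_
  have hd' : d.degree = m := by
    by_contra hne
    exact MvPolynomial.mem_support_iff.1 hd (hdeg.coeff_eq_zero hne)
  rw [MvPolynomial.monomial_eq, map_mul, RingHom.comp_apply, hcst, mul_assoc, map_pow, ← hd',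
    Finsupp.degree_apply, ← Finset.prod_pow_eq_pow_sum, ← Finset.prod_mul_distrib, Finsupp.prod, map_prod]
  refine congrArg _ (Finset.prod_congr rfl fun i _ => ?_)
  rw [map_pow, Function.comp_apply, ← mul_pow, hv]

variable {k n} {X : Scheme.{u}} [X.Over (Spec (CommRingCat.of k))] (ι : X ⟶ CohB1.ProjSpace n k)

/-- The coordinate `X_i / X_j` on the piece of `X` over the standard open. -/
def coord (j : Fin (n + 1)) (h : CohB1.polyGrading n k 1) : Γ(X, ι ⁻¹ᵁ U k n j) :=
  ι.app (U k n j) (Proj.awayToSection (CohB1.polyGrading n k) (MvPolynomial.X j) (frac k n j h))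

theorem app_const (hι : ι ≫ CohB1.ProjSpace.toSpec n k = X ↘ Spec (CommRingCat.of k))
    (V : (CohB1.ProjSpace n k).Opens) (r : k) :
    ι.app V (const (k := k) _ V r) = const (k := k) X (ι ⁻¹ᵁ V) r := by
  show ι.app V (Scheme.Hom.appLE _ ⊤ V _ ((Scheme.ΓSpecIso (CommRingCat.of k)).inv r)) =
    Scheme.Hom.appLE _ ⊤ (ι ⁻¹ᵁ V) _ ((Scheme.ΓSpecIso (CommRingCat.of k)).inv r)
  rw [← ConcreteCategory.comp_apply, Scheme.Hom.app_eq_appLE, Scheme.Hom.appLE_comp_appLE]
  have e : ι ≫ (CohB1.ProjSpace n k ↘ Spec (CommRingCat.of k)) = X ↘ Spec (CommRingCat.of k) := hι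
  simp only [e]

theorem adjoin_coord [IsClosedImmersion ι]
    (hι : ι ≫ CohB1.ProjSpace.toSpec n k = X ↘ Spec (CommRingCat.of k)) (j : Fin (n + 1)) :
    letI := (const (k := k) X (ι ⁻¹ᵁ U k n j)).toAlgebra
    Algebra.adjoin k (Set.range fun i => coord ι j (X₁ k n i)) = ⊤ := by
  letI := (const (k := k) X (ι ⁻¹ᵁ U k n j)).toAlgebra
  rw [eq_top_iff]
  intro y _
  have : Function.Surjective (ι.app (U k n j)) :=
    Scheme.Hom.app_surjective ι _ (isAffineOpen_U k n j)
  obtain ⟨x, rfl⟩ := this y
  obtain ⟨p, rfl⟩ := exists_eval₂_eq k n j x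
  rw [Algebra.adjoin_range_eq_range_aeval]
  refine ⟨p, ?_⟩
  show MvPolynomial.eval₂ _ _ p = (ι.app (U k n j)).hom _
  rw [MvPolynomial.eval₂_comp_left (ι.app (U k n j)).hom]
  congr 1
  exact RingHom.ext fun r => (app_const ι hι _ r).symm

omit [X.Over (Spec (CommRingCat.of k))] in
theorem coord_self (j : Fin (n + 1)) : coord ι j (X₁ k n j) = 1 := by
  have : frac k n j (X₁ k n j) = 1 := HomogeneousLocalization.val_injective _ (by
    rw [frac, HomogeneousLocalization.val_mk, HomogeneousLocalization.val_one]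
    exact Localization.mk_self_mk (M := MvPolynomial (Fin (n + 1)) k) _ _)
  rw [coord, this, map_one]
  exact map_one _

theorem coord_eq_sum (hι : ι ≫ CohB1.ProjSpace.toSpec n k = X ↘ Spec (CommRingCat.of k))
    (j : Fin (n + 1)) (h : CohB1.polyGrading n k 1) :
    coord ι j h = ∑ i, const (k := k) X (ι ⁻¹ᵁ U k n j) (MvPolynomial.coeff (Finsupp.single i 1) h.1) *
      coord ι j (X₁ k n i) := by
  let a := Proj.awayToSection (CohB1.polyGrading n k) (MvPolynomial.X j)
  let cst : k →+* Away (CohB1.polyGrading n k) (MvPolynomial.X j) :=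
    (fromZeroRingHom _ _).comp (algebraMap k (CohB1.polyGrading n k 0))
  have hc : const (k := k) (CohB1.ProjSpace n k) (U k n j) = a.hom.comp cst :=
    congrArg CommRingCat.Hom.hom (const_eq k n j)
  have key : frac k n j h = ∑ i, cst (MvPolynomial.coeff (Finsupp.single i 1) h.1) * frac k n j (X₁ k n i) := by
    refine HomogeneousLocalization.val_injective _ ?_
    let v : Away (CohB1.polyGrading n k) (MvPolynomial.X j) →+*
      Localization (Submonoid.powers (MvPolynomial.X j : MvPolynomial (Fin (n + 1)) k)) := algebraMap _ _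
    show v (frac k n j h) =
      v (∑ i, cst (MvPolynomial.coeff (Finsupp.single i 1) h.1) * frac k n j (X₁ k n i))
    have hv : ∀ g : CohB1.polyGrading n k 1, v (frac k n j g) =
        Localization.mk g.1 (⟨MvPolynomial.X j, ⟨1, pow_one _⟩⟩ : Submonoid.powers (MvPolynomial.X j : MvPolynomial (Fin (n + 1)) k)) := fun g =>
      HomogeneousLocalization.val_mk _
    have hcst : ∀ r, v (cst r) = algebraMap _ _ (MvPolynomial.C (σ := Fin (n + 1)) r) := fun r =>
      Localization.mk_one_eq_algebraMap _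
    rw [map_sum]
    simp only [map_mul, hv, hcst]
    simp only [← Localization.mk_one_eq_algebraMap, Localization.mk_mul, one_mul,
      ← Localization.mk_sum, ← MvPolynomial.smul_eq_C_mul]
    exact congrArg (Localization.mk · _) (sum_coeff_smul k n h)
  rw [coord, key, map_sum, map_sum]
  refine Finset.sum_congr rfl fun i _ => ?_
  rw [map_mul, map_mul, coord, ← app_const ι hι, hc]
  rfl

end Groth.Agent.Var76.ProjCoord
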