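import Groth.Agent.Var76.ZeroScheme
import Mathlib.Algebra.Category.ModuleCat.Sheaf.Free

/-! Morphisms from global sections, and rank one from frames. -/

universe u

open CategoryTheory CategoryTheory.Limits AlgebraicGeometry Opposite TopologicalSpace

namespace Groth.Agent.Var76.Frames

open LineBundle ZeroScheme

variable {X : Scheme.{u}}

/-- The morphism from the structure sheaf given by a global section. -/
noncomputable def ofSection (L : X.Modules) (g : Γ(L, ⊤)) : Coh.structureModule X ⟶ L :=
  L.unitHomEquiv.symm ⟨fun U => res L (le_top : U.unop ≤ ⊤) g,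
    fun {U _} i => res_res L (le_top : U.unop ≤ ⊤) (leOfHom i.unop) g⟩

theorem val_ofSection (L : X.Modules) (g : Γ(L, ⊤)) (W : X.Opens) :
    val L (ofSection L g) W = res L le_top g :=
  congrFun (congrArg Subtype.val (L.unitHomEquiv.apply_symm_apply _)) (op W)

/-- A module with frames around every point is locally free of rank one. -/
theorem isFinLocFreeOfRank_of_frames (L : X.Modules)
    (h : ∀ x : X, ∃ U : X.Opens, x ∈ U ∧ ∃ e : Γ(L, U), IsFrame L U e) :
    FlatMod.IsFinLocFreeOfRank 1 L := by
  intro x
  obtain ⟨U, hxU, e, he⟩ := h x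
  refine ⟨U, hxU, ?_⟩
  have hle : U.ι ''ᵁ ⊤ ≤ U := U.ι_image_top.le
  let g : Γ(L.restrict U.ι, ⊤) := (L.restrictAppIso U.ι ⊤).inv (res L hle e)
  let ψ := ofSection (L.restrict U.ι) g
  have : IsIso ψ := by
    suffices h : ∀ W, IsIso (ψ.app W) from Scheme.Modules.Hom.isIso_iff_isIso_app.2 h
    intro W
    rw [ConcreteCategory.isIso_iff_bijective]
    have hW : U.ι ''ᵁ W ≤ U := by
      exact (Scheme.Hom.image_mono U.ι (le_top : W ≤ ⊤)).trans hle
    have key : (fun a : Γ((↑U : Scheme.{u}), W) => (L.restrictAppIso U.ι W).hom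
        (ψ.app W (a : Γ(Coh.structureModule (↑U : Scheme.{u}), W)))) =
        (fun b : Γ(X, U.ι ''ᵁ W) => b • res L hW e) ∘ fun a => (U.ι.appIso W).inv a := by
      funext a
      have h1 : ψ.app W (a : Γ(Coh.structureModule (↑U : Scheme.{u}), W)) =
          a • res (L.restrict U.ι) le_top g := by
        rw [← val_ofSection (L.restrict U.ι) g W]
        let one : Γ(Coh.structureModule (↑U : Scheme.{u}), W) := (1 : Γ((↑U : Scheme.{u}), W))
        show _ = a • ψ.app W one
        rw [← Scheme.Modules.Hom.app_smul]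
        exact congrArg (ψ.app W) (mul_one a).symm
      show _ = (U.ι.appIso W).inv a • res L hW e
      rw [h1, Scheme.Modules.smul_restrictAppIso_hom_apply]
      congr 1
      let e' := res L hle e
      show res L (Scheme.Hom.image_mono U.ι (le_top : W ≤ ⊤))
        ((L.restrictAppIso U.ι ⊤).hom ((L.restrictAppIso U.ι ⊤).inv e')) = _
      rw [show (L.restrictAppIso U.ι ⊤).hom ((L.restrictAppIso U.ι ⊤).inv e') = e' from
        ConcreteCategory.congr_hom (L.restrictAppIso U.ι ⊤).inv_hom_id e', res_res]
    have hb : Function.Bijective (fun a : Γ((↑U : Scheme.{u}), W) => (L.restrictAppIso U.ι W).hom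
        (ψ.app W (a : Γ(Coh.structureModule (↑U : Scheme.{u}), W)))) := by
      rw [key]
      exact (he _ hW).comp (ConcreteCategory.bijective_of_isIso _)
    exact (Function.Bijective.of_comp_iff' (ConcreteCategory.bijective_of_isIso _) _).1 hb
  exact ⟨(asIso ψ).symm ≪≫ (coproductUniqueIso fun _ : Fin 1 => Coh.structureModule (↑U : Scheme.{u})).symm⟩

end Groth.Agent.Var76.Frames
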