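import Groth.Prelude.Def_FlatMod2
import Groth.Prelude.Def_PicF2
import Mathlib.AlgebraicGeometry.Modules.Sheaf
import Mathlib.CategoryTheory.Limits.Shapes.Products

/-! Local frames of a rank one locally free module and the zero scheme of a section. -/

universe u

open CategoryTheory CategoryTheory.Limits AlgebraicGeometry Opposite TopologicalSpace

namespace Groth.Agent.Var76.LineBundle

variable {X : Scheme.{u}}

/-- The restriction of a section. -/
noncomputable abbrev res (L : X.Modules) {U V : X.Opens} (h : V ≤ U) (m : Γ(L, U)) : Γ(L, V) :=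
  L.presheaf.map (homOfLE h).op m

theorem res_res (L : X.Modules) {U V W : X.Opens} (h : V ≤ U) (h' : W ≤ V) (m : Γ(L, U)) :
    res L h' (res L h m) = res L (h'.trans h) m := by
  simp only [res, ← ConcreteCategory.comp_apply, ← Functor.map_comp, ← op_comp, homOfLE_comp]

theorem res_smul (L : X.Modules) {U V : X.Opens} (h : V ≤ U) (a : Γ(X, U)) (m : Γ(L, U)) :
    res L h (a • m) = X.presheaf.map (homOfLE h).op a • res L h m :=
  L.map_smul (homOfLE h) a m

/-- `e` freely generates `L` over every open contained in `U`. -/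
def IsFrame (L : X.Modules) (U : X.Opens) (e : Γ(L, U)) : Prop :=
  ∀ (V : X.Opens) (h : V ≤ U), Function.Bijective (fun a : Γ(X, V) => a • res L h e)

theorem IsFrame.res {L : X.Modules} {U V : X.Opens} {e : Γ(L, U)} (he : IsFrame L U e) (h : V ≤ U) :
    IsFrame L V (LineBundle.res L h e) := by
  intro W hW
  rw [res_res]
  exact he W (hW.trans h)

theorem exists_frame {L : X.Modules} (hL : FlatMod.IsFinLocFreeOfRank 1 L) (x : X) :
    ∃ U : X.Opens, x ∈ U ∧ ∃ e : Γ(L, U), IsFrame L U e := by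
  obtain ⟨U, hxU, ⟨φ⟩⟩ := hL x
  let ψ : L.restrict U.ι ≅ Coh.structureModule (↑U : Scheme.{u}) := φ ≪≫ coproductUniqueIso _
  let one : Γ(Coh.structureModule (↑U : Scheme.{u}), ⊤) := (1 : Γ((↑U : Scheme.{u}), ⊤))
  let e₀ : Γ(L, U.ι ''ᵁ ⊤) := (L.restrictAppIso U.ι ⊤).hom (ψ.inv.app ⊤ one)
  have key : ∀ W : (↑U : Scheme.{u}).Opens,
      Function.Bijective (fun a : Γ(X, U.ι ''ᵁ W) => a • res L (Scheme.Hom.image_mono U.ι (le_top : W ≤ ⊤)) e₀) := by
    intro W
    have hb : Function.Bijective (fun a : Γ((↑U : Scheme.{u}), W) =>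
        ((ψ.inv.app W ≫ (L.restrictAppIso U.ι W).hom) : _ ⟶ Γ(L, U.ι ''ᵁ W))
          (a : Γ(Coh.structureModule (↑U : Scheme.{u}), W))) :=
      ConcreteCategory.bijective_of_isIso (ψ.inv.app W ≫ (L.restrictAppIso U.ι W).hom)
    have hk : Function.Bijective (fun a : Γ(X, U.ι ''ᵁ W) => (U.ι.appIso W).hom a) :=
      ConcreteCategory.bijective_of_isIso _
    have heq : (fun a : Γ(X, U.ι ''ᵁ W) => a • res L (Scheme.Hom.image_mono U.ι (le_top : W ≤ ⊤)) e₀) =
        (fun a : Γ((↑U : Scheme.{u}), W) =>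
          ((ψ.inv.app W ≫ (L.restrictAppIso U.ι W).hom) : _ ⟶ Γ(L, U.ι ''ᵁ W))
            (a : Γ(Coh.structureModule (↑U : Scheme.{u}), W))) ∘
        (fun a : Γ(X, U.ι ''ᵁ W) => (U.ι.appIso W).hom a) := by
      funext a
      let a' : Γ((↑U : Scheme.{u}), W) := (U.ι.appIso W).hom a
      have h1 : (a' : Γ(Coh.structureModule (↑U : Scheme.{u}), W)) =
          a' • (Coh.structureModule (↑U : Scheme.{u})).presheaf.map (homOfLE (le_top : W ≤ ⊤)).op one := by
        show a' = a' * ((↑U : Scheme.{u}).presheaf.map (homOfLE (le_top : W ≤ ⊤)).op) 1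
        rw [map_one, mul_one]
      have h2 : ψ.inv.app W ((Coh.structureModule (↑U : Scheme.{u})).presheaf.map (homOfLE (le_top : W ≤ ⊤)).op one) =
          (L.restrict U.ι).presheaf.map (homOfLE (le_top : W ≤ ⊤)).op (ψ.inv.app ⊤ one) :=
        ConcreteCategory.congr_hom (ψ.inv.mapPresheaf.naturality (homOfLE (le_top : W ≤ ⊤)).op) one
      show _ = (L.restrictAppIso U.ι W).hom (ψ.inv.app W (a' : Γ(Coh.structureModule (↑U : Scheme.{u}), W)))
      have h3 : ψ.inv.app W (a' : Γ(Coh.structureModule (↑U : Scheme.{u}), W)) =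
          a' • (L.restrict U.ι).presheaf.map (homOfLE (le_top : W ≤ ⊤)).op (ψ.inv.app ⊤ one) := by
        rw [← h2, ← Scheme.Modules.Hom.app_smul]
        exact congrArg (ψ.inv.app W) h1
      rw [h3, ← Scheme.Modules.smul_apply, Scheme.Modules.smul_restrictAppIso_hom_apply,
        Scheme.Modules.smul_apply, show (U.ι.appIso W).inv a' = a from
        ConcreteCategory.congr_hom (U.ι.appIso W).hom_inv_id a]
      rfl
    rw [heq]
    exact hb.comp hk
  have hU : U.ι ''ᵁ ⊤ = U := U.ι_image_top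
  refine ⟨U, hxU, res L hU.ge e₀, ?_⟩
  intro V hV
  rw [res_res]
  obtain ⟨W, rfl⟩ : ∃ W : (↑U : Scheme.{u}).Opens, U.ι ''ᵁ W = V :=
    ⟨U.ι ⁻¹ᵁ V, by rw [Scheme.Hom.image_preimage_eq_opensRange_inf, U.opensRange_ι, inf_eq_right.2 hV]⟩
  exact key W

end Groth.Agent.Var76.LineBundle
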