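import Groth.Agent.Var76.RegBasic
import Groth.Agent.ValVan29.Vanish
import Groth.Agent.Crv77.FiniteSupp

/-! Twists on projective space and the behaviour of regularity in short exact sequences. -/

universe u

open CategoryTheory Limits AlgebraicGeometry TopologicalSpace Opposite

noncomputable section

set_option maxSynthPendingDepth 6

namespace Groth.Agent.Var76.Reg

open Crv77

variable {n : ℕ} {A : Type u} [CommRing A]

theorem hgen (n : ℕ) (A : Type u) [CommRing A] : (HomogeneousIdeal.irrelevant (CohB1.polyGrading n A)).toIdeal =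
    Ideal.span (CohB1.polyGrading n A 1 : Set (MvPolynomial (Fin (n + 1)) A)) := by
  classical
  exact
  Amp73.span_degree_one (𝒜 := CohB1.polyGrading n A) _ (fun f hf => by
    obtain ⟨i, -, rfl⟩ := Finset.mem_image.1 hf
    exact MvPolynomial.isHomogeneous_X A i) (ValVan29.generated (R := A) (N := n))

theorem isInvertible_twist (d : ℤ) : PicF.IsInvertible (Twist.twistProjSpace n A d) :=
  EGA73.isInvertible_twist (hgen n A) d

variable (F : (CohB1.ProjSpace n A).Modules)

theorem nonempty_twist_add {a b c : ℤ} (h : a + b = c) :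
    Nonempty (CohB1.tensorMod (Twist.twistProjSpace n A a) (Twist.twistProjSpace n A b) ≅
      Twist.twistProjSpace n A c) := by
  subst h
  exact EGA73.nonempty_twist_tensor_iso (hgen n A) a b

theorem nonempty_tw_tw {a b c : ℤ} (h : a + b = c) : Nonempty (tw n A (tw n A F a) b ≅ tw n A F c) := by
  obtain ⟨e⟩ := nonempty_twist_add (n := n) (A := A) h
  exact ⟨EGA73.tensAssoc' F _ _ ≪≫ EGA73.tensIso (Iso.refl F) e⟩

theorem nonempty_twist_zero : Nonempty (Twist.twistProjSpace n A 0 ≅ Coh.structureModule (CohB1.ProjSpace n A)) :=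
  EGA73.nonempty_twist_zero_iso (𝒜 := CohB1.polyGrading n A)

theorem nonempty_tw_zero : Nonempty (tw n A F 0 ≅ F) := by
  obtain ⟨e⟩ := nonempty_twist_zero (n := n) (A := A)
  exact ⟨EGA73.tensIso (Iso.refl F) e ≪≫ EGA73.tensUnitRight F⟩

theorem sub_tw_tw {a b c : ℤ} (h : a + b = c) {i : ℕ}
    (hs : Subsingleton (Coh.HH (CohB1.ProjSpace n A) (tw n A F c) i)) :
    Subsingleton (Coh.HH (CohB1.ProjSpace n A) (tw n A (tw n A F a) b) i) := by
  obtain ⟨e⟩ := nonempty_tw_tw F h
  exact ValVan29.subsingleton_hh_of_iso e.symm i hs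

theorem exists_shortExact_tw {S : ShortComplex (CohB1.ProjSpace n A).Modules} (hS : S.ShortExact) (d : ℤ) :
    ∃ T : ShortComplex (CohB1.ProjSpace n A).Modules, T.ShortExact ∧ T.X₁ = tw n A S.X₁ d ∧
      T.X₂ = tw n A S.X₂ d ∧ T.X₃ = tw n A S.X₃ d :=
  Crv77.shortExact_twist (Mero90.isFinLocFreeOfRank_of_isInvertible (isInvertible_twist d)) hS

omit F in
theorem subsingleton_hh_X₁ {X : Scheme.{u}} {R : Type u} [CommRing R] [X.Over (Spec (CommRingCat.of R))]
    {S : ShortComplex X.Modules} (hS : S.ShortExact) (q : ℕ) (h₃ : Subsingleton (Coh.HH X S.X₃ q))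
    (h₂ : Subsingleton (Coh.HH X S.X₂ (q + 1))) : Subsingleton (Coh.HH X S.X₁ (q + 1)) := by
  refine subsingleton_of_forall_eq 0 fun x => ?_
  obtain ⟨y, rfl⟩ := (exact_δ_f R hS q x).1 (h₂.elim _ _)
  rw [h₃.elim y 0, map_zero]

variable {S : ShortComplex (CohB1.ProjSpace n A).Modules} (hS : S.ShortExact)

omit F
include hS

theorem sub_tw_X₂ {i : ℕ} {d : ℤ} (h₁ : Subsingleton (Coh.HH (CohB1.ProjSpace n A) (tw n A S.X₁ d) i))
    (h₃ : Subsingleton (Coh.HH (CohB1.ProjSpace n A) (tw n A S.X₃ d) i)) :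
    Subsingleton (Coh.HH (CohB1.ProjSpace n A) (tw n A S.X₂ d) i) := by
  obtain ⟨T, hT, e₁, e₂, e₃⟩ := exists_shortExact_tw hS d
  rw [← e₂]
  exact ValVan29.subsingleton_hh_X₂ hT i (e₁ ▸ h₁) (e₃ ▸ h₃)

theorem sub_tw_X₃ {i : ℕ} {d : ℤ} (h₂ : Subsingleton (Coh.HH (CohB1.ProjSpace n A) (tw n A S.X₂ d) i))
    (h₁ : Subsingleton (Coh.HH (CohB1.ProjSpace n A) (tw n A S.X₁ d) (i + 1))) :
    Subsingleton (Coh.HH (CohB1.ProjSpace n A) (tw n A S.X₃ d) i) := by
  obtain ⟨T, hT, e₁, e₂, e₃⟩ := exists_shortExact_tw hS d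
  rw [← e₃]
  exact ValVan29.subsingleton_hh_X₃ hT i (e₂ ▸ h₂) (e₁ ▸ h₁)

theorem sub_tw_X₁ {i : ℕ} {d : ℤ} (h₃ : Subsingleton (Coh.HH (CohB1.ProjSpace n A) (tw n A S.X₃ d) i))
    (h₂ : Subsingleton (Coh.HH (CohB1.ProjSpace n A) (tw n A S.X₂ d) (i + 1))) :
    Subsingleton (Coh.HH (CohB1.ProjSpace n A) (tw n A S.X₁ d) (i + 1)) := by
  obtain ⟨T, hT, e₁, e₂, e₃⟩ := exists_shortExact_tw hS d
  rw [← e₁]
  exact subsingleton_hh_X₁ (R := A) hT i (e₃ ▸ h₃) (e₂ ▸ h₂)

end Groth.Agent.Var76.Reg

end

namespace Groth.Agent.Var76.Reg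

/-- A closed subset of dimension at most zero of a noetherian sober space is a finite set of closed points. -/
theorem finite_and_isClosed_singleton_of_dim_le_zero {T : Type*} [TopologicalSpace T] [NoetherianSpace T] [T0Space T]
    [QuasiSober T] {S : Set T} (hS : IsClosed S) (hdim : topologicalKrullDim S ≤ 0) :
    S.Finite ∧ ∀ x ∈ S, IsClosed ({x} : Set T) := by
  have hspec : ∀ x y : S, x ⤳ y → x = y := fun x y h => by
    let cx : IrreducibleCloseds S := ⟨closure {x}, isIrreducible_singleton.closure, isClosed_closure⟩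
    let cy : IrreducibleCloseds S := ⟨closure {y}, isIrreducible_singleton.closure, isClosed_closure⟩
    have hle : cy ≤ cx := specializes_iff_closure_subset.1 h
    rcases hle.lt_or_eq with hlt | he
    · have h1 := Order.LTSeries.length_le_krullDim (LTSeries.mk 1 ![cy, cx] (Fin.strictMono_iff_lt_succ.2 fun i => by fin_cases i; exact hlt))
      exact absurd (h1.trans hdim) (by simp)
    · have : closure {y} = closure ({x} : Set S) := congrArg IrreducibleCloseds.carrier he
      exact (inseparable_iff_closure_eq.2 this.symm).eq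
  have hcl : ∀ x ∈ S, IsClosed ({x} : Set T) := fun x hx => by
    refine closure_subset_iff_isClosed.1 fun y hy => ?_
    have hyS : y ∈ S := hS.closure_subset_iff.2 (Set.singleton_subset_iff.2 hx) hy
    have := hspec ⟨x, hx⟩ ⟨y, hyS⟩ ((subtype_specializes_iff ..).2 (specializes_iff_mem_closure.2 hy))
    exact (congrArg Subtype.val this).symm
  have : QuasiSober S := hS.isClosedEmbedding_subtypeVal.quasiSober
  have hfinite : Finite S := by
    have hcomp : ∀ x : S, irreducibleComponent x = {x} := fun x => by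
      refine Set.eq_singleton_iff_unique_mem.2 ⟨mem_irreducibleComponent, fun y hy => ?_⟩
      obtain ⟨g, hg⟩ := QuasiSober.sober (isIrreducible_irreducibleComponent (x := x)) isClosed_irreducibleComponent
      exact (hspec g y (hg.specializes hy)).symm.trans (hspec g x (hg.specializes mem_irreducibleComponent))
    have hfin : (irreducibleComponents S).Finite := NoetherianSpace.finite_irreducibleComponents
    have := hfin.to_subtype
    refine Finite.of_injective (fun x : S => (⟨irreducibleComponent x, irreducibleComponent_mem_irreducibleComponents x⟩ :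
      irreducibleComponents S)) fun x y hxy => ?_
    have h := congrArg Subtype.val hxy
    simp only [hcomp] at h
    exact Set.singleton_injective h
  exact ⟨Set.toFinite S, hcl⟩

end Groth.Agent.Var76.Reg
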