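import Groth.Agent.Var76.LineBundle
import Mathlib.AlgebraicGeometry.IdealSheaf.Basic

/-! The zero scheme of a section of a line bundle, computed in a frame. -/

universe u

open CategoryTheory CategoryTheory.Limits AlgebraicGeometry Opposite TopologicalSpace

namespace Groth.Agent.Var76.ZeroScheme

open LineBundle

variable {X : Scheme.{u}}

/-- Restriction of functions. -/
noncomputable abbrev fres {U V : X.Opens} (h : V ≤ U) (a : Γ(X, U)) : Γ(X, V) :=
  X.presheaf.map (homOfLE h).op a

theorem fres_fres {U V W : X.Opens} (h : V ≤ U) (h' : W ≤ V) (a : Γ(X, U)) :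
    fres h' (fres h a) = fres (h'.trans h) a := by
  simp only [fres, ← ConcreteCategory.comp_apply, ← Functor.map_comp, ← op_comp, homOfLE_comp]

theorem eq_of_locally (L : X.Modules) {U : X.Opens} (s t : Γ(L, U))
    (h : ∀ x ∈ U, ∃ (W : X.Opens) (hW : W ≤ U), x ∈ W ∧ res L hW s = res L hW t) : s = t := by
  choose W hW hx he using h
  exact TopCat.Sheaf.eq_of_locally_eq' (⟨L.presheaf, L.isSheaf⟩ : TopCat.Sheaf Ab X)
    (fun x : U => W x.1 x.2) U (fun x => homOfLE (hW x.1 x.2))
    (fun y hy => Opens.mem_iSup.2 ⟨⟨y, hy⟩, hx y hy⟩) s t (fun x => he x.1 x.2)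

/-- Basic opens of an affine on which the bundle has a frame, finitely many covering. -/
theorem exists_frame_cover {L : X.Modules} (hL : FlatMod.IsFinLocFreeOfRank 1 L) {V : X.Opens}
    (hV : IsAffineOpen V) :
    ∃ S : Finset Γ(X, V), (⨆ g : S, X.basicOpen g.1) = V ∧
      ∀ g ∈ S, ∃ e : Γ(L, X.basicOpen g), IsFrame L (X.basicOpen g) e := by
  classical
  let T : Set Γ(X, V) := {g | ∃ e : Γ(L, X.basicOpen g), IsFrame L (X.basicOpen g) e}
  have hT : Ideal.span T = ⊤ := by
    rw [← hV.iSup_basicOpen_eq_self_iff]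
    refine le_antisymm (iSup_le fun g => X.basicOpen_le _) fun x hx => ?_
    obtain ⟨U, hxU, e, he⟩ := exists_frame hL x
    obtain ⟨g, hgU, hxg⟩ := hV.exists_basicOpen_le ⟨x, hxU⟩ hx
    exact Opens.mem_iSup.2 ⟨⟨g, ⟨res L hgU e, he.res hgU⟩⟩, hxg⟩
  obtain ⟨S, hS, h1⟩ := Submodule.mem_span_finite_of_mem_span
    (show (1 : Γ(X, V)) ∈ Ideal.span T from hT ▸ trivial)
  refine ⟨S, ?_, fun g hg => hS hg⟩
  have := hV.iSup_basicOpen_eq_self_iff (s := (S : Set Γ(X, V))).2
    (Ideal.eq_top_iff_one _ |>.2 h1)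
  exact this

/-- A section killed on a basic open is killed by a power of the function. -/
theorem exists_pow_smul_eq_zero {L : X.Modules} (hL : FlatMod.IsFinLocFreeOfRank 1 L) {V : X.Opens}
    (hV : IsAffineOpen V) (g : Γ(X, V)) (y : Γ(L, V)) (hy : res L (X.basicOpen_le g) y = 0) :
    ∃ N : ℕ, g ^ N • y = 0 := by
  classical
  obtain ⟨S, hS, hfr⟩ := exists_frame_cover hL hV
  have key : ∀ h ∈ S, ∃ N : ℕ, res L (X.basicOpen_le h) (g ^ N • y) = 0 := by
    intro h hh
    obtain ⟨e, he⟩ := hfr h hh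
    have haff := hV.basicOpen h
    obtain ⟨t, ht⟩ := (he (X.basicOpen h) le_rfl).2 (res L (X.basicOpen_le h) y)
    let g' := fres (X.basicOpen_le h) g
    have hle : X.basicOpen g' ≤ X.basicOpen g := by
      show X.basicOpen (X.presheaf.map _ g) ≤ _
      rw [Scheme.basicOpen_res]; exact inf_le_right
    have h0 : fres (X.basicOpen_le g') t = 0 := by
      refine (he (X.basicOpen g') (X.basicOpen_le g')).1 ?_
      show fres (X.basicOpen_le g') t • res L _ e = (0 : Γ(X, X.basicOpen g')) • res L _ e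
      rw [zero_smul]
      have e1 := congrArg (res L (X.basicOpen_le g')) ht
      rw [res_smul, res_res, res_res, ← res_res L (X.basicOpen_le g) hle, hy] at e1
      exact e1.trans (map_zero _)
    have := haff.isLocalization_basicOpen g'
    obtain ⟨⟨_, N, rfl⟩, hN⟩ := (IsLocalization.map_eq_zero_iff (Submonoid.powers g')
      Γ(X, X.basicOpen g') t).1 h0
    refine ⟨N, ?_⟩
    rw [res_smul, map_pow, ← ht, smul_smul]
    show (g' ^ N * t) • _ = _
    rw [hN, zero_smul]
  choose N hN using key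
  refine ⟨∑ h : S, N h.1 h.2, eq_of_locally L _ _ fun x hx => ?_⟩
  obtain ⟨h, hxh⟩ := Opens.mem_iSup.1 (hS.ge hx)
  refine ⟨_, X.basicOpen_le h.1, hxh, ?_⟩
  obtain ⟨d, hd⟩ := Nat.exists_eq_add_of_le
    (Finset.single_le_sum (f := fun h : S => N h.1 h.2) (fun _ _ => Nat.zero_le _) (Finset.mem_univ h))
  rw [hd, Nat.add_comm, pow_add, mul_smul, res_smul, hN h.1 h.2, smul_zero]; exact (map_zero _).symm

/-- On an affine open, being locally a multiple of a section means being a multiple. -/
theorem mem_of_locally {L : X.Modules} (hL : FlatMod.IsFinLocFreeOfRank 1 L) {V : X.Opens}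
    (hV : IsAffineOpen V) (σ y : Γ(L, V))
    (h : ∀ x ∈ V, ∃ (W : X.Opens) (hW : W ≤ V), x ∈ W ∧ ∃ b : Γ(X, W), res L hW y = b • res L hW σ) :
    ∃ b : Γ(X, V), y = b • σ := by
  let I : Ideal Γ(X, V) := (Submodule.span Γ(X, V) {σ}).comap (LinearMap.toSpanSingleton Γ(X, V) _ y)
  suffices hI : I = ⊤ by
    have : (1 : Γ(X, V)) ∈ I := hI ▸ trivial
    obtain ⟨b, hb⟩ := Submodule.mem_span_singleton.1 this
    exact ⟨b, by simpa using hb.symm⟩
  rw [← Ideal.span_eq I, ← hV.self_le_iSup_basicOpen_iff]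
  intro x hx
  obtain ⟨W, hW, hxW, b, hb⟩ := h x hx
  obtain ⟨g, hgW, hxg⟩ := hV.exists_basicOpen_le ⟨x, hxW⟩ hx
  have := hV.isLocalization_basicOpen g
  obtain ⟨⟨β, _, n, rfl⟩, hβ⟩ := IsLocalization.surj (Submonoid.powers g) (fres hgW b)
  have h0 : res L (X.basicOpen_le g) (g ^ n • y - β • σ) = 0 := by
    have e1 := congrArg (res L hgW) hb
    rw [res_smul, res_res, res_res] at e1
    show L.presheaf.map _ _ = 0
    rw [map_sub]
    show res L _ (g ^ n • y) - res L _ (β • σ) = 0
    rw [res_smul, res_smul, e1, smul_smul, sub_eq_zero]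
    congr 1
    rw [mul_comm]
    exact hβ
  obtain ⟨N, hN⟩ := exists_pow_smul_eq_zero hL hV g _ h0
  have hmem : g ^ (N + n + 1) ∈ I := by
    show (g ^ (N + n + 1)) • y ∈ Submodule.span _ {σ}
    refine Submodule.mem_span_singleton.2 ⟨g ^ (N + 1) * β, ?_⟩
    rw [smul_sub, sub_eq_zero, smul_smul, smul_smul] at hN
    have := congrArg (g • ·) hN
    simp only [smul_smul] at this
    rw [show g ^ (N + 1) * β = g * (g ^ N * β) by ring, ← this]
    congr 1; ring
  exact Opens.mem_iSup.2 ⟨⟨g ^ (N + n + 1), hmem⟩, by rw [Scheme.basicOpen_pow _ _ (Nat.succ_pos _)]; exact hxg⟩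

/-- The value of a section over an open. -/
noncomputable abbrev val (L : X.Modules) (s : Coh.structureModule X ⟶ L) (U : X.Opens) : Γ(L, U) :=
  PicF2.secVal L s U

theorem res_val (L : X.Modules) (s : Coh.structureModule X ⟶ L) {U V : X.Opens} (h : V ≤ U) :
    res L h (val L s U) = val L s V := by
  have := ConcreteCategory.congr_hom (s.mapPresheaf.naturality (homOfLE h).op)
    (1 : Γ(X, U))
  refine Eq.trans (Eq.symm this) ?_
  show s.app V (X.presheaf.map (homOfLE h).op (1 : Γ(X, U))) = s.app V (1 : Γ(X, V))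
  rw [map_one]

variable (L : X.Modules) (s : Coh.structureModule X ⟶ L)

/-- `a` is, around each point, a multiple of the coordinate of the section. -/
def locIdeal (hL : FlatMod.IsFinLocFreeOfRank 1 L) (V : X.Opens) : Ideal Γ(X, V) where
  carrier := {a | ∀ x ∈ V, ∃ (W : X.Opens) (hW : W ≤ V), x ∈ W ∧ ∃ (e : Γ(L, W)) (c b : Γ(X, W)),
    IsFrame L W e ∧ c • e = val L s W ∧ fres hW a = b * c}
  add_mem' {a a'} ha ha' x hx := by
    obtain ⟨W, hW, hxW, e, c, b, he, hc, hb⟩ := ha x hx
    obtain ⟨W', hW', hxW', e', c', b', he', hc', hb'⟩ := ha' x hx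
    let e₁ := res L (inf_le_left : W ⊓ W' ≤ W) e
    obtain ⟨v, hv⟩ := (he' (W ⊓ W') inf_le_right).2 e₁
    have hcc : fres inf_le_right c' = fres (inf_le_left : W ⊓ W' ≤ W) c * v := by
      refine (he' (W ⊓ W') inf_le_right).1 ?_
      show fres _ c' • res L _ e' = (fres _ c * v) • res L _ e'
      rw [mul_smul, show v • _ = _ from hv, ← res_smul, ← res_smul, hc, hc', res_val, res_val]
    refine ⟨W ⊓ W', inf_le_left.trans hW, ⟨hxW, hxW'⟩, e₁, fres inf_le_left c,
      fres inf_le_left b + fres inf_le_right b' * v, he.res _, by rw [← res_smul, hc, res_val], ?_⟩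
    have h1 := congrArg (fres (inf_le_left : W ⊓ W' ≤ W)) hb
    have h2 := congrArg (fres (inf_le_right : W ⊓ W' ≤ W')) hb'
    rw [fres_fres] at h1 h2
    simp only [fres, map_mul, map_add] at h1 h2 hcc ⊢
    rw [h1, h2, hcc]; ring
  zero_mem' x hx := by
    obtain ⟨U, hxU, e, he⟩ := exists_frame hL x
    obtain ⟨c, hc⟩ := (he (U ⊓ V) inf_le_left).2 (val L s (U ⊓ V))
    exact ⟨U ⊓ V, inf_le_right, ⟨hxU, hx⟩, _, c, 0, he.res _, hc, by simp [fres]⟩
  smul_mem' r {a} ha x hx := by
    obtain ⟨W, hW, hxW, e, c, b, he, hc, hb⟩ := ha x hx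
    refine ⟨W, hW, hxW, e, c, fres hW r * b, he, hc, ?_⟩
    show X.presheaf.map _ (r * a) = _
    rw [map_mul, mul_assoc, ← hb]

variable {L s}

/-- On an affine framed open the local condition is divisibility by the coordinate. -/
theorem mem_locIdeal_iff (hL : FlatMod.IsFinLocFreeOfRank 1 L) {W : X.Opens} (hW : IsAffineOpen W)
    {e : Γ(L, W)} {c : Γ(X, W)} (he : IsFrame L W e) (hc : c • e = val L s W) (a : Γ(X, W)) :
    a ∈ locIdeal L s hL W ↔ a ∈ Ideal.span {c} := by
  constructor
  · intro ha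
    obtain ⟨b, hb⟩ := mem_of_locally hL hW (val L s W) (a • e) fun x hx => by
      obtain ⟨W', hW', hxW', e', c', b, he', hc', hb⟩ := ha x hx
      obtain ⟨μ, hμ⟩ := (he' W' le_rfl).2 (res L hW' e)
      refine ⟨W', hW', hxW', b * μ, ?_⟩
      rw [res_smul, res_val, show X.presheaf.map (homOfLE hW').op a = fres hW' a from rfl, hb,
        ← hc', ← hμ, smul_smul, smul_smul, show res L le_rfl e' = e' by simp [res]]
      congr 1
      ring
    refine Ideal.mem_span_singleton'.2 ⟨b, (he W le_rfl).1 ?_⟩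
    show (b * c) • res L le_rfl e = a • res L le_rfl e
    rw [show res L le_rfl e = e by simp [res], hb, mul_smul, hc]
  · intro ha x hx
    obtain ⟨b, rfl⟩ := Ideal.mem_span_singleton'.1 ha
    exact ⟨W, le_rfl, hx, e, c, b, he, hc, by simp [fres]⟩

theorem locIdeal_le_zeroIdealOn (hL : FlatMod.IsFinLocFreeOfRank 1 L) {V : X.Opens}
    (hV : IsAffineOpen V) :
    locIdeal L s hL V ≤ (show Ideal Γ(X, V) from PicF2.zeroIdealOn L s V) := by
  intro a ha m'
  let m : Γ(L, V) := m'
  refine mem_of_locally hL hV (val L s V) (a • m) fun x hx => ?_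
  obtain ⟨W, hW, hxW, e, c, b, he, hc, hb⟩ := ha x hx
  obtain ⟨μ, hμ⟩ := (he W le_rfl).2 (res L hW m)
  refine ⟨W, hW, hxW, b * μ, ?_⟩
  rw [res_smul, res_val, show X.presheaf.map (homOfLE hW).op a = fres hW a from rfl, hb, ← hc, ← hμ,
    smul_smul, smul_smul, show res L le_rfl e = e by simp [res]]
  congr 1
  ring

/-- The local ideals form an ideal sheaf. -/
noncomputable def locSheaf (hL : FlatMod.IsFinLocFreeOfRank 1 L) : X.IdealSheafData where
  ideal V := locIdeal L s hL V.1
  map_ideal_basicOpen V g := by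
    classical
    have hV := V.2
    refine le_antisymm (Ideal.map_le_iff_le_comap.2 fun a ha x hx => ?_) fun b hb => ?_
    · obtain ⟨W, hW, hxW, e, c, d, he, hc, hd⟩ := ha x (X.basicOpen_le g hx)
      refine ⟨W ⊓ X.basicOpen g, inf_le_right, ⟨hxW, hx⟩, _, fres inf_le_left c, fres inf_le_left d,
        he.res inf_le_left, by rw [← res_smul, hc, res_val], ?_⟩
      have := congrArg (fres (inf_le_left : W ⊓ X.basicOpen g ≤ W)) hd
      rw [fres_fres] at this
      show fres inf_le_right (fres (X.basicOpen_le g) a) = _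
      rw [fres_fres]
      simpa [fres] using this
    · have := hV.isLocalization_basicOpen g
      obtain ⟨⟨a₀, _, n, rfl⟩, ha₀⟩ := IsLocalization.surj (Submonoid.powers g) b
      have hmem : fres (X.basicOpen_le g) a₀ ∈ locIdeal L s hL (X.basicOpen g) := by
        show algebraMap Γ(X, V.1) Γ(X, X.basicOpen g) a₀ ∈ _
        rw [← ha₀]
        exact Ideal.mul_mem_right _ _ hb
      obtain ⟨S, hS, hfr⟩ := exists_frame_cover hL hV
      have key : ∀ h ∈ S, ∃ N : ℕ, fres (X.basicOpen_le h) (g ^ N * a₀) ∈ locIdeal L s hL (X.basicOpen h) := by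
        intro h hh
        obtain ⟨e, he⟩ := hfr h hh
        have haff := hV.basicOpen h
        obtain ⟨c, hc⟩ := (he (X.basicOpen h) le_rfl).2 (val L s (X.basicOpen h))
        replace hc : c • e = val L s (X.basicOpen h) := by simpa [res] using hc
        let g' := fres (X.basicOpen_le h) g
        have haff' := haff.basicOpen g'
        have hle : X.basicOpen g' ≤ X.basicOpen g := by
          show X.basicOpen (X.presheaf.map _ g) ≤ _
          rw [Scheme.basicOpen_res]; exact inf_le_right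
        have h1 : fres hle (fres (X.basicOpen_le g) a₀) ∈ locIdeal L s hL (X.basicOpen g') := by
          intro x hx
          obtain ⟨W, hW, hxW, e', c', d, he', hc', hd⟩ := hmem x (hle hx)
          refine ⟨W ⊓ X.basicOpen g', inf_le_right, ⟨hxW, hx⟩, _, fres inf_le_left c', fres inf_le_left d,
            he'.res inf_le_left, by rw [← res_smul, hc', res_val], ?_⟩
          have := congrArg (fres (inf_le_left : W ⊓ X.basicOpen g' ≤ W)) hd
          rw [fres_fres] at this
          rw [fres_fres]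
          simpa [fres] using this
        rw [mem_locIdeal_iff hL haff' (he.res (X.basicOpen_le g'))
          (c := fres (X.basicOpen_le g') c) (by rw [← res_smul, hc, res_val])] at h1
        obtain ⟨d, hd⟩ := Ideal.mem_span_singleton'.1 h1
        have := haff.isLocalization_basicOpen g'
        obtain ⟨⟨β, _, m, rfl⟩, hβ⟩ := IsLocalization.surj (Submonoid.powers g') d
        set a' := fres (X.basicOpen_le h) a₀
        have h2 : algebraMap Γ(X, X.basicOpen h) Γ(X, X.basicOpen g') (g' ^ m * a') =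
            algebraMap Γ(X, X.basicOpen h) Γ(X, X.basicOpen g') (β * c) := by
          rw [map_mul, map_mul, ← hβ]
          have : algebraMap Γ(X, X.basicOpen h) Γ(X, X.basicOpen g') a' = d * fres (X.basicOpen_le g') c := by
            rw [hd]
            show fres (X.basicOpen_le g') (fres (X.basicOpen_le h) a₀) = _
            rw [fres_fres, fres_fres]
          rw [this]
          show _ = d * algebraMap _ _ (g' ^ m) * fres (X.basicOpen_le g') c
          ring
        obtain ⟨⟨_, N, rfl⟩, hN⟩ := (IsLocalization.eq_iff_exists (Submonoid.powers g')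
          Γ(X, X.basicOpen g')).1 h2
        refine ⟨N + m, (mem_locIdeal_iff hL haff he hc _).2 (Ideal.mem_span_singleton'.2 ⟨g' ^ N * β, ?_⟩)⟩
        show g' ^ N * β * c = fres (X.basicOpen_le h) (g ^ (N + m) * a₀)
        rw [show fres (X.basicOpen_le h) (g ^ (N + m) * a₀) = g' ^ (N + m) * a' by simp [g', a', fres],
          pow_add, mul_assoc, mul_assoc]
        exact hN.symm
      choose N hN using key
      let M := ∑ h : S, N h.1 h.2
      have hglob : g ^ M * a₀ ∈ locIdeal L s hL V.1 := by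
        intro x hx
        obtain ⟨h, hxh⟩ := Opens.mem_iSup.1 (hS.ge hx)
        obtain ⟨d, hd⟩ := Nat.exists_eq_add_of_le
          (Finset.single_le_sum (f := fun h : S => N h.1 h.2) (fun _ _ => Nat.zero_le _) (Finset.mem_univ h))
        have hmem' : fres (X.basicOpen_le h.1) (g ^ M * a₀) ∈ locIdeal L s hL (X.basicOpen h.1) := by
          rw [show M = N h.1 h.2 + d from hd, pow_add, mul_right_comm,
            show ∀ p q, fres (X.basicOpen_le h.1) (p * q) = fres _ p * fres _ q from fun p q => map_mul _ p q]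
          exact Ideal.mul_mem_right _ _ (hN h.1 h.2)
        obtain ⟨W, hW, hxW, e', c', d', he', hc', hd'⟩ := hmem' x hxh
        exact ⟨W, hW.trans (X.basicOpen_le _), hxW, e', c', d', he', hc', by rw [← hd', fres_fres]⟩
      show b ∈ Ideal.map (algebraMap Γ(X, V.1) Γ(X, X.basicOpen g)) _
      refine (IsLocalization.mem_map_algebraMap_iff (Submonoid.powers g) _).2
        ⟨⟨⟨_, hglob⟩, ⟨g ^ (M + n), M + n, rfl⟩⟩, ?_⟩
      show b * algebraMap _ _ (g ^ (M + n)) = algebraMap _ _ (g ^ M * a₀)
      rw [pow_add, map_mul, map_mul, ← ha₀]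
      ring

/-- The zero scheme on a framed affine open is cut out by the coordinate of the section. -/
theorem ideal_zeroScheme (hL : FlatMod.IsFinLocFreeOfRank 1 L) (W : X.affineOpens)
    {e : Γ(L, W.1)} {c : Γ(X, W.1)} (he : IsFrame L W.1 e) (hc : c • e = val L s W.1) :
    (PicF2.zeroScheme L s).ideal W = Ideal.span {c} := by
  refine le_antisymm (fun a ha => ?_) fun a ha => ?_
  · obtain ⟨b', hb'⟩ := Scheme.IdealSheafData.ideal_ofIdeals_le
      (fun U : X.affineOpens => show Ideal Γ(X, U) from PicF2.zeroIdealOn L s U.1) W ha e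
    let b : Γ(X, W.1) := b'
    have hb : a • e = b • val L s W.1 := hb'
    refine Ideal.mem_span_singleton'.2 ⟨b, (he W.1 le_rfl).1 ?_⟩
    show (b * c) • res L le_rfl e = a • res L le_rfl e
    rw [show res L le_rfl e = e by simp [res], mul_smul, hc]
    exact hb.symm
  · have h : locSheaf (s := s) hL ≤ PicF2.zeroScheme L s :=
      Scheme.IdealSheafData.le_ofIdeals_iff.2 fun V => locIdeal_le_zeroIdealOn hL V.2
    exact h W ((mem_locIdeal_iff hL W.2 he hc a).2 ha)

end Groth.Agent.Var76.ZeroScheme
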