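import Groth.Agent.Omega57.Sect
import Groth.Agent.Omega57.StalkZero
import Groth.Agent.QC70.Hom
import Groth.Prelude.Def_OmAff

/-! The canonical derivation into the sheaf of differentials is universal. -/

universe u

open CategoryTheory CategoryTheory.Limits AlgebraicGeometry TopologicalSpace Opposite
open Groth.Agent.QC70

set_option backward.isDefEq.respectTransparency false

noncomputable section

namespace Groth.Agent.Var76.OmegaUniv

variable {X Y : Scheme.{u}} {f : X ⟶ Y}

theorem Der.map_mul {F : X.Modules} (D : OmegaSh.Der f F) (W : X.Opens) (a b : Γ(X, W)) :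
    D.app W (a * b) = a • D.app W b + b • D.app W a :=
  D.d_mul (X := op W) a b

theorem Der.res {F : X.Modules} (D : OmegaSh.Der f F) {W W' : X.Opens} (h : W' ≤ W) (a : Γ(X, W)) :
    D.app W' (resO X h a) = QC70.res F h (D.app W a) :=
  D.d_map (X := op W) (Y := op W') (homOfLE h).op a

theorem Der.appLE {F : X.Modules} (D : OmegaSh.Der f F) {U : X.Opens} {V : Y.Opens} (h : U ≤ f ⁻¹ᵁ V)
    (c : Γ(Y, V)) : D.app U (f.appLE V U h c) = 0 := by
  rw [Scheme.Hom.appLE, ConcreteCategory.comp_apply]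
  show D.app U (resO X h (f.app V c)) = 0
  rw [Der.res]
  have h0 : D.app (f ⁻¹ᵁ V) (f.app V c) = 0 := D.d_app (X := op V) c
  rw [h0, QC70.res_zero]

theorem dOmega_app [QuasiSeparated f] (W : X.Opens) (a : Γ(X, W)) :
    (OmegaSh.dOmega f).app W a = OmegaSh.dSect f W a := rfl

variable [QuasiSeparated f]

/-- On an affine chart the differentials generate the sections. -/
theorem sect_induction {U : X.Opens} (hU : IsAffineOpen U) {V : Y.Opens} (hV : IsAffineOpen V)
    (h : U ≤ f ⁻¹ᵁ V) {P : Γ(Omega.sheaf f, U) → Prop}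
    (hd : ∀ a, P (OmegaSh.dSect f U a)) (h0 : P 0) (hadd : ∀ x y, P x → P y → P (x + y))
    (hsmul : ∀ (a : Γ(X, U)) x, P x → P (a • x)) (x : Γ(Omega.sheaf f, U)) : P x := by
  letI := (f.appLE V U h).hom.toAlgebra
  have := Omega57.isIso_toSect f hU hV h
  obtain ⟨z, rfl⟩ := (ConcreteCategory.bijective_of_isIso (OmAff.toSect f V U h)).2 x
  have hz : z ∈ Submodule.span Γ(X, U) (Set.range (KaehlerDifferential.D Γ(Y, V) Γ(X, U))) := by
    rw [KaehlerDifferential.span_range_derivation]; trivial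
  induction hz using Submodule.span_induction with
  | mem y hy =>
    obtain ⟨a, rfl⟩ := hy
    exact (OmAff.toSect_d f V U h a).symm ▸ hd a
  | zero => rw [map_zero]; exact h0
  | add y z _ _ hy hz => rw [map_add]; exact hadd _ _ hy hz
  | smul a y _ hy =>
    exact (map_smul (OmAff.toSect f V U h).hom a y).symm ▸ hsmul a _ hy

variable {F : X.Modules} (D : OmegaSh.Der f F)

/-- A derivation factors on an affine chart. -/
theorem exists_linear {U : X.Opens} (hU : IsAffineOpen U) {V : Y.Opens} (hV : IsAffineOpen V)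
    (h : U ≤ f ⁻¹ᵁ V) :
    ∃ l : Γ(Omega.sheaf f, U) →ₗ[Γ(X, U)] Γ(F, U),
      ∀ a, l (OmegaSh.dSect f U a) = D.app U a := by
  let δ : (OmAff.sectMod F U).Derivation (f.appLE V U h) :=
    ModuleCat.Derivation.mk (fun b => D.app U b) (fun a b => map_add _ a b)
      (fun a b => Der.map_mul D U a b) (fun c => Der.appLE D h c)
  have := Omega57.isIso_toSect f hU hV h
  let g := inv (OmAff.toSect f V U h) ≫ δ.desc
  refine ⟨g.hom, fun a => ?_⟩
  show δ.desc (inv (OmAff.toSect f V U h) (OmegaSh.dSect f U a)) = _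
  rw [← OmAff.toSect_d f V U h a, ← ConcreteCategory.comp_apply (OmAff.toSect f V U h), IsIso.hom_inv_id]
  exact δ.desc_d a

theorem app_basicOpen {U : X.Opens} (hU : IsAffineOpen U) (φ : HomOn (Omega.sheaf f) F U)
    (hφ : ∀ a, φ.app U le_rfl (OmegaSh.dSect f U a) = D.app U a)
    (g : Γ(X, U)) (a : Γ(X, X.basicOpen g)) :
    φ.app _ (X.basicOpen_le g) (OmegaSh.dSect f _ a) = D.app _ a := by
  let W := X.basicOpen g
  have hW : W ≤ U := X.basicOpen_le g
  have hres : ∀ b : Γ(X, U), φ.app W hW (OmegaSh.dSect f W (resO X hW b)) = D.app W (resO X hW b) := by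
    intro b
    rw [OmegaSh.dSect_map f hW b, Der.res]
    refine (φ.app_res le_rfl hW _).trans ?_
    rw [hφ]
  letI : Algebra Γ(X, U) Γ(X, W) := (X.presheaf.map (homOfLE hW).op).hom.toAlgebra
  have : IsLocalization.Away g Γ(X, W) := hU.isLocalization_basicOpen g
  obtain ⟨n, b, hb⟩ := IsLocalization.Away.surj g a
  have hb' : a * resO X hW (g ^ n) = resO X hW b := by
    rw [resO_pow]; exact hb
  have hu : IsUnit (resO X hW (g ^ n)) := by
    rw [resO_pow]; exact (RingedSpace.isUnit_res_basicOpen _ g).pow n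
  have h1 := hres b
  rw [← hb', OmegaSh.dSect_mul, Der.map_mul, map_add, map_smul, map_smul, hres] at h1
  exact hu.smul_left_cancel.mp (add_left_cancel h1)

variable (f) in
/-- The canonical derivation is universal. -/
theorem isUniversal : OmegaSh.IsUniversal (OmegaSh.dOmega f) := by
  have : (Omega.sheaf f).IsQuasicoherent := Omega57.isQuasicoherent_omega f
  intro F D
  have hcov : ∀ x : X, ∃ (U : X.Opens) (V : Y.Opens),
      IsAffineOpen U ∧ IsAffineOpen V ∧ x ∈ U ∧ U ≤ f ⁻¹ᵁ V := by
    intro x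
    obtain ⟨_, ⟨V, hV, rfl⟩, hxV, -⟩ := Y.isBasis_affineOpens.exists_subset_of_mem_open
      (show f x ∈ (⊤ : Y.Opens) from trivial) (⊤ : Y.Opens).isOpen
    obtain ⟨_, ⟨U, hU, rfl⟩, hxU, hle⟩ := X.isBasis_affineOpens.exists_subset_of_mem_open
      (show x ∈ f ⁻¹ᵁ V from hxV) (f ⁻¹ᵁ V).isOpen
    exact ⟨U, V, hU, hV, hxU, hle⟩
  choose U V hU hV hxU hle using hcov
  choose l hl using fun x => exists_linear D (hU x) (hV x) (hle x)
  let φ : ∀ x, HomOn (Omega.sheaf f) F (U x) := fun x => HomOn.ofLinear (hU x) (l x)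
  have hφ : ∀ x a, (φ x).app (U x) le_rfl (OmegaSh.dSect f (U x) a) = D.app (U x) a := by
    intro x a
    rw [HomOn.ofLinear_app_self]
    exact hl x a
  have hd : ∀ (x : X) (W : X.Opens) (hWU : W ≤ U x) (a : Γ(X, W)),
      (φ x).app W hWU (OmegaSh.dSect f W a) = D.app W a := by
    intro x W hWU a
    refine section_ext F _ _ fun p hp => ?_
    obtain ⟨g, hg, hpg⟩ := (hU x).exists_basicOpen_le ⟨p, hp⟩ (hWU hp)
    refine ⟨X.basicOpen g, hg, hpg, ?_⟩
    rw [← (φ x).app_res hWU hg, ← Der.res]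
    rw [show QC70.res (Omega.sheaf f) hg (OmegaSh.dSect f W a) =
      OmegaSh.dSect f (X.basicOpen g) (resO X hg a) from (OmegaSh.dSect_map f hg a).symm]
    exact app_basicOpen D (hU x) (φ x) (hφ x) g _
  have hcomp : HomOn.Compatible φ := by
    intro i j W hi hj s
    refine section_ext F _ _ fun p hp => ?_
    obtain ⟨g, hg, hpg⟩ := (hU i).exists_basicOpen_le ⟨p, hp⟩ (hi hp)
    refine ⟨X.basicOpen g, hg, hpg, ?_⟩
    rw [← (φ i).app_res hi hg, ← (φ j).app_res hj hg]
    generalize QC70.res (Omega.sheaf f) hg s = t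
    induction t using sect_induction ((hU i).basicOpen g) (hV i)
      ((X.basicOpen_le g).trans (hle i)) with
    | hd a => rw [hd, hd]
    | h0 => rw [map_zero, map_zero]
    | hadd y z hy hz => rw [map_add, map_add, hy, hz]
    | hsmul a y hy => rw [map_smul, map_smul, hy]
  have htop : (⊤ : X.Opens) ≤ ⨆ x, U x := fun p _ => Opens.mem_iSup.mpr ⟨p, hxU p⟩
  let ψ := HomOn.glue hcomp htop
  refine ⟨ψ.toHom, ?_, ?_⟩
  · refine PresheafOfModules.Derivation.ext (funext fun W => AddMonoidHom.ext fun a => ?_)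
    show ψ.app W.unop le_top (OmegaSh.dSect f W.unop a) = D.app W.unop a
    refine section_ext F _ _ fun p hp => ?_
    refine ⟨W.unop ⊓ U p, inf_le_left, ⟨hp, hxU p⟩, ?_⟩
    rw [← ψ.app_res le_top inf_le_left, HomOn.glue_app hcomp htop le_top p inf_le_right, ← Der.res]
    rw [show QC70.res (Omega.sheaf f) inf_le_left (OmegaSh.dSect f W.unop a) =
      OmegaSh.dSect f (W.unop ⊓ U p) (resO X inf_le_left a) from (OmegaSh.dSect_map f inf_le_left a).symm]
    exact hd p _ _ _
  · intro β hβ
    refine Scheme.Modules.hom_ext _ _ fun W => ?_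
    ext s
    show β.app W s = ψ.app W le_top s
    refine section_ext F _ _ fun p hp => ?_
    obtain ⟨g, hg, hpg⟩ := (hU p).exists_basicOpen_le ⟨p, hp⟩ (hxU p)
    refine ⟨X.basicOpen g, hg, hpg, ?_⟩
    rw [← QC70.app_res, ← ψ.app_res le_top hg, HomOn.glue_app hcomp htop le_top p (X.basicOpen_le g)]
    generalize QC70.res (Omega.sheaf f) hg s = t
    induction t using sect_induction ((hU p).basicOpen g) (hV p)
      ((X.basicOpen_le g).trans (hle p)) with
    | hd a =>
      rw [hd]
      have := congrArg (fun E : OmegaSh.Der f F => E.app (X.basicOpen g) a) hβ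
      exact this
    | h0 => rw [map_zero, map_zero]
    | hadd y z hy hz => rw [map_add, map_add, hy, hz]
    | hsmul a y hy => rw [Scheme.Modules.Hom.app_smul, hy, LinearMap.map_smul]

variable (f) in
/-- Any universal derivation is the canonical one up to isomorphism. -/
theorem exists_iso {Ω : X.Modules} (d : OmegaSh.Der f Ω) (hd : OmegaSh.IsUniversal d) :
    ∃ e : Omega.sheaf f ≅ Ω, (OmegaSh.dOmega f).postcomp e.hom.val = d := by
  obtain ⟨α, hα, -⟩ := isUniversal f Ω d
  obtain ⟨β, hβ, -⟩ := hd (Omega.sheaf f) (OmegaSh.dOmega f)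
  refine ⟨⟨α, β, ?_, ?_⟩, hα⟩
  · refine (isUniversal f _ (OmegaSh.dOmega f)).unique ?_ (PresheafOfModules.Derivation.ext rfl)
    refine PresheafOfModules.Derivation.ext (funext fun W => AddMonoidHom.ext fun a => ?_)
    have h1 := congrArg (fun E : OmegaSh.Der f Ω => E.app W.unop a) hα
    have h2 := congrArg (fun E : OmegaSh.Der f (Omega.sheaf f) => E.app W.unop a) hβ
    exact (congrArg (β.app W.unop) h1).trans h2
  · refine (hd Ω d).unique ?_ (PresheafOfModules.Derivation.ext rfl)
    refine PresheafOfModules.Derivation.ext (funext fun W => AddMonoidHom.ext fun a => ?_)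
    have h1 := congrArg (fun E : OmegaSh.Der f Ω => E.app W.unop a) hα
    have h2 := congrArg (fun E : OmegaSh.Der f (Omega.sheaf f) => E.app W.unop a) hβ
    exact (congrArg (α.app W.unop) h2).trans h1

end Groth.Agent.Var76.OmegaUniv
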