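import Groth.Agent.Amp73.ProjAmple
import Groth.Agent.Amp73.TensorFrame
import Groth.Agent.EGA73.TwistInvertible
import Groth.Prelude.Def_CohB1

/-! Multiplication by a homogeneous element of degree one on twisted modules. -/

universe u

open CategoryTheory Limits AlgebraicGeometry TopologicalSpace Opposite GrTilde

noncomputable section

set_option backward.isDefEq.respectTransparency false

namespace Groth.Agent.Var76.Reg

open EGA73 LineBundle

variable {R A : Type u} [CommRing R] [CommRing A] [Algebra R A] {𝒜 : ℕ → Submodule R A} [GradedAlgebra 𝒜]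

/-- The product of sections of `O(d)` with a homogeneous element of degree one. -/
def mulSect (g : 𝒜 1) {d e : ℤ} (h : e = d + 1) (U : (Opens (ProjectiveSpectrum.top 𝒜))ᵒᵖ)
    (t : Twist.sectN (𝒜 := 𝒜) d U) : Twist.sectN (𝒜 := 𝒜) e U :=
  castTwist (show ((1 : ℕ) : ℤ) + d = e by omega) (ofTildeFun _ U
    (twistMul t (toTildeFun ((1 : ℕ) : ℤ) U
      (Twist.resN (((1 : ℕ) : ℤ)) (homOfLE (le_top (a := U.unop))).op (Twist.globalOf 𝒜 g)))))

theorem mulSect_apply (g : 𝒜 1) {d e : ℤ} (h : e = d + 1) (U : (Opens (ProjectiveSpectrum.top 𝒜))ᵒᵖ)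
    (t : Twist.sectN (𝒜 := 𝒜) d U) (x : U.unop) :
    ((mulSect g h U t).1 x).1 =
      (t.1 x).1 * Localization.mk (g : A) (1 : x.1.asHomogeneousIdeal.toIdeal.primeCompl) := by
  rw [mulSect, castTwist_apply]
  rfl

theorem sectN_ext {d : ℤ} {U : (Opens (ProjectiveSpectrum.top 𝒜))ᵒᵖ} {s t : Twist.sectN (𝒜 := 𝒜) d U}
    (h : ∀ x : U.unop, (s.1 x).1 = (t.1 x).1) : s = t :=
  Subtype.ext (funext fun x => Subtype.ext (h x))

theorem mulSect_add (g : 𝒜 1) {d e : ℤ} (h : e = d + 1) (U : (Opens (ProjectiveSpectrum.top 𝒜))ᵒᵖ)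
    (s t : Twist.sectN (𝒜 := 𝒜) d U) : mulSect g h U (s + t) = mulSect g h U s + mulSect g h U t :=
  sectN_ext fun x => (mulSect_apply g h U (s + t) x).trans ((add_mul _ _ _).trans
    (congrArg₂ (· + ·) (mulSect_apply g h U s x).symm (mulSect_apply g h U t x).symm))

theorem mulSect_smul (g : 𝒜 1) {d e : ℤ} (h : e = d + 1) (U : (Opens (ProjectiveSpectrum.top 𝒜))ᵒᵖ)
    (c : Twist.O (𝒜 := 𝒜) U) (t : Twist.sectN (𝒜 := 𝒜) d U) : mulSect g h U (c • t) = c • mulSect g h U t :=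
  sectN_ext fun x => (mulSect_apply g h U (c • t) x).trans
    ((congrArg (· * _) (Twist.coe_smul_val d x.1 (c.1 x) (t.1 x))).trans ((mul_assoc _ _ _).trans
      ((congrArg (_ * ·) (mulSect_apply g h U t x).symm).trans
        (Twist.coe_smul_val e x.1 (c.1 x) ((mulSect g h U t).1 x)).symm)))

theorem mulSect_res (g : 𝒜 1) {d e : ℤ} (h : e = d + 1) {U V : (Opens (ProjectiveSpectrum.top 𝒜))ᵒᵖ} (i : U ⟶ V)
    (t : Twist.sectN (𝒜 := 𝒜) d U) : mulSect g h V (Twist.resN d i t) = Twist.resN e i (mulSect g h U t) :=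
  sectN_ext fun x => (mulSect_apply g h V _ x).trans (mulSect_apply g h U t (i.unop x)).symm

/-- Multiplication by a homogeneous element of degree one, on presheaves of abelian groups. -/
def mulPreAb (g : 𝒜 1) {d e : ℤ} (h : e = d + 1) : Twist.twistPre 𝒜 d ⟶ Twist.twistPre 𝒜 e where
  app U := AddCommGrpCat.ofHom (AddMonoidHom.mk' (fun t => mulSect g h U t) (mulSect_add g h U))
  naturality U V i := by
    ext t
    exact mulSect_res g h i t

/-- Multiplication by a homogeneous element of degree one on twisting sheaves. -/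
def mulX (g : 𝒜 1) {d e : ℤ} (h : e = d + 1) : Twist.twist 𝒜 d ⟶ Twist.twist 𝒜 e :=
  ⟨PresheafOfModules.homMk (M₁ := (Twist.twist 𝒜 d).val) (M₂ := (Twist.twist 𝒜 e).val) (mulPreAb g h)
    fun U c t => mulSect_smul g h U c t⟩

theorem mulX_app_apply (g : 𝒜 1) {d e : ℤ} (h : e = d + 1) (U : (Proj 𝒜).Opens)
    (t : Γ(Twist.twist 𝒜 d, U)) (x : U) :
    (((mulX g h).app U t : Twist.sectN (𝒜 := 𝒜) e (op U)).1 x).1 =
      ((t : Twist.sectN (𝒜 := 𝒜) d (op U)).1 x).1 *
        Localization.mk (g : A) (1 : x.1.asHomogeneousIdeal.toIdeal.primeCompl) :=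
  mulSect_apply g h (op U) t x

theorem mulX_comm (g g' : 𝒜 1) {c d d' e : ℤ} (h₁ : d = c + 1) (h₂ : e = d + 1) (h₃ : d' = c + 1)
    (h₄ : e = d' + 1) : mulX g h₁ ≫ mulX g' h₂ = mulX g' h₃ ≫ mulX g h₄ := by
  refine Scheme.Modules.hom_ext _ _ fun U => ?_
  ext t
  refine sectN_ext (fun x => ?_)
  refine (mulX_app_apply g' h₂ U _ x).trans ?_
  refine (congrArg (· * _) (mulX_app_apply g h₁ U t x)).trans ?_
  refine Eq.trans ?_ (mulX_app_apply g h₄ U _ x).symm
  refine Eq.trans ?_ (congrArg (· * _) (mulX_app_apply g' h₃ U t x)).symm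
  ring

theorem isFrame_unit {b : ℤ} {U : Opens (ProjectiveSpectrum.top 𝒜)} (e : TwistUnit (𝒜 := 𝒜) b U) :
    IsFrame (Twist.twist 𝒜 b) (show (Proj 𝒜).Opens from U) e.fwd :=
  fun _ hV => smul_unit_bijective (e.res hV)

/-- The unit section `g ^ n` of `O(n)` on `D₊(g)`. -/
def gUnit (g : 𝒜 1) (n : ℤ) : TwistUnit (𝒜 := 𝒜) n (ProjectiveSpectrum.basicOpen 𝒜 (g : A)) where
  fwd := castTwist (by simp) (powUnit 𝒜 g.2 n).fwd
  bwd := castTwist (by simp) (powUnit 𝒜 g.2 n).bwd
  mul_eq x := by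
    rw [castTwist_apply, castTwist_apply]
    exact (powUnit 𝒜 g.2 n).mul_eq x

theorem mulX_gUnit (g : 𝒜 1) {d e : ℤ} (h : e = d + 1) :
    (mulX g h).app (Proj.basicOpen 𝒜 (g : A)) (gUnit g d).fwd = (gUnit g e).fwd := by
  refine sectN_ext (fun x => ?_)
  refine (mulX_app_apply g h _ _ x).trans ?_
  show ((gUnit g d).fwd.1 x).1 * _ = _
  simp only [gUnit, castTwist_apply]
  show Localization.mk _ _ * Localization.mk _ _ = Localization.mk _ _
  rw [Localization.mk_mul, Localization.mk_eq_mk_iff, Localization.r_iff_exists]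
  refine ⟨1, ?_⟩
  subst h
  simp only [OneMemClass.coe_one, one_mul, mul_one]
  rw [← pow_succ, ← pow_add, ← pow_add]
  congr 1
  omega

section Whisk

variable {X : Scheme.{u}} (F : X.Modules)

/-- Tensoring a morphism with a fixed module on the left. -/
def whiskL {G G' : X.Modules} (g : G ⟶ G') : CohB1.tensorMod F G ⟶ CohB1.tensorMod F G' :=
  (Mod48.shf (O := X.sheaf)).map
    (MonoidalCategory.whiskerLeft (Mod48.pre (O := X.sheaf) F) ((Mod48.fgt (O := X.sheaf)).map g))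

theorem whiskL_comp {G G' G'' : X.Modules} (g : G ⟶ G') (g' : G' ⟶ G'') :
    whiskL F (g ≫ g') = whiskL F g ≫ whiskL F g' :=
  (Mod48.tL (O := X.sheaf) F).map_comp g g'

theorem whiskL_tm {G G' : X.Modules} (g : G ⟶ G') {U : X.Opens} (m : Γ(F, U)) (n : Γ(G, U)) :
    (whiskL F g).app U (Amp73.tm F G m n) = Amp73.tm F G' m (g.app U n) := by
  rw [Amp73.tm_eq, Amp73.tm_eq]
  have h := congrArg (fun φ => φ.app (op U)) (Mod48.shfU_naturality
    (MonoidalCategory.whiskerLeft (Mod48.pre (O := X.sheaf) F) ((Mod48.fgt (O := X.sheaf)).map g)))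
  exact (ConcreteCategory.congr_hom h (Mero90.tq m n)).symm

end Whisk

/-- Multiplication by a homogeneous element of degree one on twists of a module. -/
def twMul (F : (Proj 𝒜).Modules) (g : 𝒜 1) {d e : ℤ} (h : e = d + 1) :
    CohB1.tensorMod F (Twist.twist 𝒜 d) ⟶ CohB1.tensorMod F (Twist.twist 𝒜 e) :=
  whiskL F (mulX g h)

theorem twMul_comm (F : (Proj 𝒜).Modules) (g g' : 𝒜 1) {c d d' e : ℤ} (h₁ : d = c + 1) (h₂ : e = d + 1)
    (h₃ : d' = c + 1) (h₄ : e = d' + 1) : twMul F g h₁ ≫ twMul F g' h₂ = twMul F g' h₃ ≫ twMul F g h₄ := by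
  rw [twMul, twMul, twMul, twMul, ← whiskL_comp, mulX_comm g g' h₁ h₂ h₃ h₄, whiskL_comp]

/-- On an open where `g` is invertible, multiplication by `g` is bijective on sections. -/
theorem twMul_bijective (F : (Proj 𝒜).Modules) (g : 𝒜 1) {d e : ℤ} (h : e = d + 1) {V : (Proj 𝒜).Opens}
    (hV : V ≤ Proj.basicOpen 𝒜 (g : A)) : Function.Bijective ((twMul F g h).app V) := by
  have hd := isFrame_unit (gUnit g d)
  have he := isFrame_unit (gUnit g e)
  have key : ∀ m : Γ(F, V), (twMul F g h).app V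
      (Amp73.tm F _ m (LineBundle.res (Twist.twist 𝒜 d) hV (gUnit g d).fwd)) =
      Amp73.tm F _ m (LineBundle.res (Twist.twist 𝒜 e) hV (gUnit g e).fwd) := fun m => by
    refine (whiskL_tm F (mulX g h) m _).trans (congrArg (Amp73.tm F _ m) ?_)
    refine (ConcreteCategory.congr_hom ((mulX g h).mapPresheaf.naturality (homOfLE hV).op) (gUnit g d).fwd).trans ?_
    exact congrArg (LineBundle.res (Twist.twist 𝒜 e) hV) (mulX_gUnit g h)
  constructor
  · intro a b hab
    obtain ⟨m, rfl⟩ := Amp73.exists_eq_tm_frame hd hV a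
    obtain ⟨m', rfl⟩ := Amp73.exists_eq_tm_frame hd hV b
    rw [Amp73.tm_frame_injective he hV m m' ((key m).symm.trans (hab.trans (key m')))]
  · intro z
    obtain ⟨m, rfl⟩ := Amp73.exists_eq_tm_frame he hV z
    exact ⟨_, key m⟩

end Groth.Agent.Var76.Reg

end
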