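import Groth.Agent.Var76.RegGen
import Groth.Agent.Pn71.Cohomology

/-! The presentation of a regular module by the twists of its space of sections. -/

universe u

open CategoryTheory Limits AlgebraicGeometry TopologicalSpace Opposite

noncomputable section

set_option maxSynthPendingDepth 6

namespace Groth.Agent.Var76.Reg

open Crv77 LineBundle

section General

theorem tR_map_sum {C : Type u} [SmallCategory C] {J : GrothendieckTopology C} {O : Sheaf J CommRingCat.{u}}
    (L : ModSite.Mod O) {M N : ModSite.Mod O} {κ : Type*} (s : Finset κ) (f : κ → (M ⟶ N)) :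
    (Mod48.tR L).map (∑ j ∈ s, f j) = ∑ j ∈ s, (Mod48.tR L).map (f j) :=
  (Mod48.tR L).map_sum f s

variable {X : Scheme.{u}}

theorem whiskR_sum (L : X.Modules) {M N : X.Modules} {κ : Type*} (s : Finset κ) (f : κ → (M ⟶ N)) :
    whiskR (∑ j ∈ s, f j) L = ∑ j ∈ s, whiskR (f j) L :=
  tR_map_sum (O := X.sheaf) L s f

theorem whiskR_id (L M : X.Modules) : whiskR (𝟙 M) L = 𝟙 (CohB1.tensorMod M L) :=
  (Mod48.tR (O := X.sheaf) L).map_id M

theorem chain3 {C : Type*} [Category C] {A A' B B' D D' Z Z' : C} {a : A ⟶ A'} {b : A' ⟶ B'} {c : B' ⟶ D'}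
    {d : D' ⟶ Z'} {b' : A ⟶ B} {a₁ : B ⟶ B'} {c' : B ⟶ D} {a₂ : D ⟶ D'} {d' : D ⟶ Z} {p : Z ⟶ Z'}
    (h₁ : a ≫ b = b' ≫ a₁) (h₂ : a₁ ≫ c = c' ≫ a₂) (h₃ : a₂ ≫ d = d' ≫ p) :
    a ≫ b ≫ c ≫ d = (b' ≫ c' ≫ d') ≫ p := by
  rw [reassoc_of% h₁, reassoc_of% h₂, h₃, Category.assoc, Category.assoc]

/-- Tensoring an isomorphism on the left. -/
def whiskLIso (M : X.Modules) {L L' : X.Modules} (i : L ≅ L') : CohB1.tensorMod M L ≅ CohB1.tensorMod M L' where
  hom := whiskL M i.hom
  inv := whiskL M i.inv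
  hom_inv_id := by rw [← whiskL_comp, i.hom_inv_id]; exact (Mod48.tL (O := X.sheaf) M).map_id L
  inv_hom_id := by rw [← whiskL_comp, i.inv_hom_id]; exact (Mod48.tL (O := X.sheaf) M).map_id L'

/-- The right unit, natural in the module. -/
def unitR (M : X.Modules) : CohB1.tensorMod M (Coh.structureModule X) ≅ M :=
  (((Mod48.tensSymm (O := X.sheaf) (Coh.structureModule X)).app M).symm :
    CohB1.tensorMod M (Coh.structureModule X) ≅ CohB1.tensorMod (Coh.structureModule X) M) ≪≫ EGA73.tensUnitLeft M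

theorem unitR_naturality {M M' : X.Modules} (p : M ⟶ M') :
    whiskR p (Coh.structureModule X) ≫ (unitR M').hom = (unitR M).hom ≫ p := by
  have h1 : whiskR p (Coh.structureModule X) ≫
      (Mod48.tensSymm (O := X.sheaf) (Coh.structureModule X)).inv.app M' =
      (Mod48.tensSymm (O := X.sheaf) (Coh.structureModule X)).inv.app M ≫ whiskL _ p :=
    (Mod48.tensSymm (O := X.sheaf) (Coh.structureModule X)).inv.naturality p
  have h2 : whiskL (Coh.structureModule X) p ≫ (EGA73.tensUnitLeft M').hom = (EGA73.tensUnitLeft M).hom ≫ p :=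
    (Mod48.tensUnit (O := X.sheaf)).hom.naturality p
  exact (Category.assoc _ _ _).symm.trans ((congrArg (· ≫ _) h1).trans ((Category.assoc _ _ _).trans
    ((congrArg (_ ≫ ·) h2).trans (Category.assoc _ _ _).symm)))

theorem tensAssoc_naturality {M M' : X.Modules} (p : M ⟶ M') (G H : X.Modules) :
    whiskR (whiskR p G) H ≫ (EGA73.tensAssoc' M' G H).hom =
      (EGA73.tensAssoc' M G H).hom ≫ whiskR p (CohB1.tensorMod G H) :=
  (Mod48.tensAssocNat (O := X.sheaf) G H).hom.naturality p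

/-- `(M ⊗ G) ⊗ H = M` naturally, when `G ⊗ H` is trivial. -/
theorem exists_natIso_tensor {G H : X.Modules} (i : CohB1.tensorMod G H ≅ Coh.structureModule X) :
    ∃ a : ∀ M : X.Modules, CohB1.tensorMod (CohB1.tensorMod M G) H ≅ M,
      ∀ (M M' : X.Modules) (p : M ⟶ M'), whiskR (whiskR p G) H ≫ (a M').hom = (a M).hom ≫ p :=
  ⟨fun M => EGA73.tensAssoc' M G H ≪≫ whiskLIso M i ≪≫ unitR M,
    fun _ _ p => chain3 (tensAssoc_naturality p G H) (whiskR_whiskL p i.hom) (unitR_naturality p)⟩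

end General

variable {n : ℕ} {k : Type u} [Field k]

theorem surjective_hmap_of_fac {X : Scheme.{u}} [X.Over (Spec (CommRingCat.of k))] {M N M' N' : X.Modules}
    {f : M ⟶ N} {g : M' ⟶ N'} (a : M ⟶ M') (b : N ⟶ N') [IsIso b] (h : f ≫ b = a ≫ g) [IsIso a]
    (hg : Function.Surjective (hmap k g 0)) : Function.Surjective (hmap k f 0) := by
  intro x
  obtain ⟨y, hy⟩ := hg (hmap k b 0 x)
  refine ⟨hmap k (inv a) 0 y, (hEquiv k (asIso b) 0).injective ?_⟩
  show hmap k b 0 (hmap k f 0 _) = hmap k b 0 x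
  rw [← hy, hmap_comp, hmap_comp, h, IsIso.inv_hom_id_assoc]

theorem unitHom_comp {X : Scheme.{u}} {M N : X.Modules} (t : Γ(M, ⊤)) (f : M ⟶ N) :
    EGA73.unitHom M t ≫ f = EGA73.unitHom N (f.app ⊤ t) := by
  refine Scheme.Modules.hom_ext _ _ fun U => ?_
  ext c
  show f.app U ((EGA73.unitHom M t).app U c) = (EGA73.unitHom N (f.app ⊤ t)).app U c
  refine (congrArg (f.app U) (EGA73.unitHom_app M t U c)).trans ?_
  refine (Scheme.Modules.Hom.app_smul f _ _).trans ?_
  refine Eq.trans ?_ (EGA73.unitHom_app N (f.app ⊤ t) U c).symm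
  exact congrArg (fun q => (show Γ(X, U) from c) • q) (QC70.app_res f _ t)

/-- A spanned module with finite dimensional space of sections receives an epimorphism from a free one which is
surjective on sections. -/
theorem exists_freeMod_epi_surjective {X : Scheme.{u}} [X.Over (Spec (CommRingCat.of k))] [CompactSpace X]
    (M : X.Modules) (hM : Coh.IsCoh M) (hsp : ∀ x : X, ∃ U : X.Opens, x ∈ U ∧ IsAffineOpen U ∧ Amp73.SpanAt M U)
    [Module.Finite k (Coh.HH X M 0)] :
    ∃ (b : ℕ) (p : FlatMod.freeMod X b ⟶ M), Epi p ∧ Function.Surjective (hmap k p 0) := by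
  let v := Module.finBasis k (Coh.HH X M 0)
  let p : FlatMod.freeMod X (Module.finrank k (Coh.HH X M 0)) ⟶ M := Sigma.desc fun j => toHom (v j)
  have hsurj : Function.Surjective (hmap k p 0) := by
    intro x
    refine LinearMap.range_eq_top.1 (eq_top_iff.2 ?_) x
    rw [← v.span_eq, Submodule.span_le]
    rintro _ ⟨j, rfl⟩
    let one : Coh.HH X (Coh.structureModule X) 0 := (sec (Coh.structureModule X)).symm (1 : Γ(X, ⊤))
    refine ⟨hmap k (Sigma.ι (fun _ : Fin (Module.finrank k (Coh.HH X M 0)) => Coh.structureModule X) j) 0 one,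
      (sec M).injective ?_⟩
    rw [hmap_comp, show Sigma.ι _ j ≫ p = toHom (v j) from Sigma.ι_desc _ _, sec_hmap]
    exact (congrArg _ ((sec (Coh.structureModule X)).apply_symm_apply _)).trans (toHom_app_one (v j))
  refine ⟨_, p, ?_, hsurj⟩
  have := Amp73.epi_desc_of_span hM.1 (fun t : Γ(M, ⊤) => t) hsp
  have hfac : ∀ t : Γ(M, ⊤), ∃ a, a ≫ p = EGA73.unitHom M t := fun t => by
    obtain ⟨x, rfl⟩ := (sec M).surjective t
    obtain ⟨y, rfl⟩ := hsurj x
    exact ⟨EGA73.unitHom _ (sec _ y), by rw [unitHom_comp, sec_hmap]⟩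
  choose a ha using hfac
  have hd : Sigma.desc a ≫ p = Sigma.desc fun t : Γ(M, ⊤) => EGA73.unitHom M t :=
    Sigma.hom_ext _ _ fun t => by rw [Sigma.ι_desc_assoc, ha, Sigma.ι_desc]
  exact epi_of_epi_fac hd

/-- A regular module is a quotient of twists with a kernel one step more regular. -/
theorem Reg.exists_presentation {F : (CohB1.ProjSpace n k).Modules} (hF : Coh.IsCoh F) {m : ℤ}
    (hr : Reg n k F m) :
    ∃ (b : ℕ) (φ : (∐ fun _ : Fin b => Twist.twistProjSpace n k (-m)) ⟶ F),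
      Epi φ ∧ Reg n k (kernel φ) (m + 1) := by
  have hFm : Coh.IsCoh (tw n k F m) :=
    Amp73.isCoh_tensorMod hF (Amp73.isCoh_of_isInvertible (isInvertible_twist m))
  have := finite_hh_tw F hF m 0
  obtain ⟨b, p, hp, hps⟩ := exists_freeMod_epi_surjective (k := k) (tw n k F m) hFm (hr.spanned hF le_rfl)
  let N : (CohB1.ProjSpace n k).Modules := Twist.twistProjSpace n k (-m)
  obtain ⟨i⟩ := nonempty_twist_zero (n := n) (A := k)
  obtain ⟨e₁⟩ := nonempty_twist_add (n := n) (A := k) (show -m + m = 0 by ring)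
  obtain ⟨e₂⟩ := nonempty_twist_add (n := n) (A := k) (show m + -m = 0 by ring)
  obtain ⟨α, hα⟩ := exists_natIso_tensor (e₁ ≪≫ i)
  obtain ⟨β, -⟩ := exists_natIso_tensor (e₂ ≪≫ i)
  let P := FlatMod.freeMod (CohB1.ProjSpace n k) b
  let u : CohB1.tensorMod (Coh.structureModule (CohB1.ProjSpace n k)) N ≅ N := EGA73.tensUnitLeft N
  let inj : ∀ j : Fin b, Coh.structureModule (CohB1.ProjSpace n k) ⟶ P := fun j =>
    Sigma.ι (fun _ : Fin b => Coh.structureModule (CohB1.ProjSpace n k)) j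
  let prj : ∀ j : Fin b, P ⟶ Coh.structureModule (CohB1.ProjSpace n k) := fun j =>
    Sigma.desc (Function.update (fun _ => 0) j (𝟙 _))
  have htot : ∑ j, prj j ≫ inj j = 𝟙 P := Sigma.hom_ext _ _ fun l => by
    rw [Preadditive.comp_sum, Category.comp_id, Finset.sum_eq_single l]
    · simp [prj, inj]
    · intro j _ hj
      simp [prj, Function.update_of_ne (Ne.symm hj)]
    · simp
  let q : (∐ fun _ : Fin b => N) ⟶ CohB1.tensorMod P N := Sigma.desc fun j => u.inv ≫ whiskR (inj j) N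
  let s : CohB1.tensorMod P N ⟶ ∐ fun _ : Fin b => N :=
    ∑ j, whiskR (prj j) N ≫ u.hom ≫ Sigma.ι (fun _ : Fin b => N) j
  have hsq : s ≫ q = 𝟙 _ := by
    rw [Preadditive.sum_comp]
    simp only [q, Category.assoc, Sigma.ι_desc, Iso.hom_inv_id_assoc, ← whiskR_comp]
    rw [← whiskR_sum, htot, whiskR_id]
  have hq : Epi q := epi_of_epi_fac hsq
  let p' : CohB1.tensorMod P N ⟶ CohB1.tensorMod (tw n k F m) N := whiskR p N
  have hp' : Epi p' := by
    have hS : (ShortComplex.mk (kernel.ι p) p (kernel.condition p)).ShortExact := KData.kernel_shortExact p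
    obtain ⟨w, hT⟩ := shortExact_whiskR (isInvertible_twist (-m)) hS
    exact hT.epi_g
  let φ : (∐ fun _ : Fin b => N) ⟶ F := q ≫ p' ≫ (β F).hom
  have hφ : Epi φ := inferInstance
  refine ⟨b, φ, hφ, fun i hi => ?_⟩
  have hS := KData.kernel_shortExact φ
  have hE : ∀ q d, ¬ (q = 0 ∧ 0 ≤ -m + d) → ¬ (q = n ∧ -m + d ≤ -((n : ℤ) + 1)) →
      Subsingleton (Coh.HH (CohB1.ProjSpace n k) (tw n k (∐ fun _ : Fin b => N) d) q) := fun q d h₀ h₁ => by
    refine ValVan29.subsingleton_hh_of_iso (EGA73.tensIso (biproduct.isoCoproduct _) (Iso.refl _)) q ?_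
    refine QC70.biproduct_induction (fun M => Subsingleton (Coh.HH _ (tw n k M d) q))
      (fun M h => ValVan29.subsingleton_hh_of_isZero (ValVan29.isZero_tensorMod h (isInvertible_twist d)) q)
      (fun S hS a c => sub_tw_X₂ hS a c) _ fun _ => ?_
    obtain ⟨t⟩ := nonempty_twist_add (n := n) (A := k) (show -m + d = -m + d from rfl)
    exact ValVan29.subsingleton_hh_of_iso t.symm q (Pn71.subsingleton_hh n k _ q h₀ h₁)
  rcases Nat.lt_or_ge n i with hin | hin
  · have := hF.1
    have := (QC70.isCoh_biproduct (fun _ : Fin b => N)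
      fun _ => Amp73.isCoh_of_isInvertible (isInvertible_twist (-m))).1
    have := QC70.isQuasicoherent_of_iso (biproduct.isoCoproduct fun _ : Fin b => N) this
    exact subsingleton_hh_gt n k _ (isQCoh_tw n k _ (QC70.isQuasicoherent_kernel φ) _) i hin
  obtain ⟨i', rfl⟩ : ∃ i', i = i' + 1 := ⟨i - 1, by omega⟩
  rcases Nat.eq_zero_or_pos i' with rfl | hi'
  · obtain ⟨w, hT⟩ := shortExact_twMap hS (m + 1 - ((0 + 1 : ℕ) : ℤ))
    have hsur : Function.Surjective (hmap k (twMap φ (m + 1 - ((0 + 1 : ℕ) : ℤ))) 0) := by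
      rw [show m + 1 - ((0 + 1 : ℕ) : ℤ) = m by push_cast; ring]
      have hφ' : twMap φ m = twMap q m ≫ twMap p' m ≫ twMap (β F).hom m := by
        show whiskR _ _ = _
        rw [whiskR_comp, whiskR_comp]
        rfl
      have h1 : Function.Surjective (hmap k (twMap q m) 0) := fun x => ⟨hmap k (twMap s m) 0 x, by
        rw [hmap_comp, show twMap s m ≫ twMap q m = 𝟙 _ from ((whiskR_comp s q _).symm.trans
          ((congrArg (whiskR · _) hsq).trans (whiskR_id _ _))), hmap_id]⟩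
      have h2 : Function.Surjective (hmap k (twMap p' m) 0) :=
        surjective_hmap_of_fac (α P).hom (α (tw n k F m)).hom (hα _ _ p) hps
      have : IsIso (twMap (β F).hom m) := ⟨twMap (β F).inv m, by
        show whiskR _ _ ≫ whiskR _ _ = _
        rw [← whiskR_comp, Iso.hom_inv_id, whiskR_id], by
        show whiskR _ _ ≫ whiskR _ _ = _
        rw [← whiskR_comp, Iso.inv_hom_id, whiskR_id]⟩
      have h3 : Function.Surjective (hmap k (twMap (β F).hom m) 0) :=
        (hEquiv k (asIso (twMap (β F).hom m)) 0).surjective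
      intro x
      obtain ⟨y, rfl⟩ := h3 x
      obtain ⟨z, rfl⟩ := h2 y
      obtain ⟨w', rfl⟩ := h1 z
      exact ⟨w', by rw [hmap_comp, hmap_comp, hφ']⟩
    refine subsingleton_of_forall_eq 0 fun x => ?_
    obtain ⟨y, rfl⟩ := (exact_δ_f k hT 0 x).1 ((hE 1 _ (by omega) (by push_cast; omega)).elim _ _)
    exact (exact_g_δ k hT 0 y).2 (hsur y)
  · exact sub_tw_X₁ hS (hr.vanish hF.1 hi' (by push_cast; omega))
      (hE _ _ (by omega) (by push_cast; omega))

/-- A quotient of twists by a regular kernel is regular. -/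
theorem reg_of_presentation {F : (CohB1.ProjSpace n k).Modules} {m : ℤ} {b : ℕ}
    (φ : (∐ fun _ : Fin b => Twist.twistProjSpace n k (-m)) ⟶ F) [Epi φ] (hK : Reg n k (kernel φ) (m + 1))
    {i : ℕ} (hi : 1 ≤ i) : Subsingleton (Coh.HH (CohB1.ProjSpace n k) (tw n k F (m - i)) i) := by
  refine sub_tw_X₃ (KData.kernel_shortExact φ) ?_ ?_
  · refine ValVan29.subsingleton_hh_of_iso (EGA73.tensIso (biproduct.isoCoproduct _) (Iso.refl _)) i ?_
    refine QC70.biproduct_induction (fun M => Subsingleton (Coh.HH _ (tw n k M (m - i)) i))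
      (fun M h => ValVan29.subsingleton_hh_of_isZero (ValVan29.isZero_tensorMod h (isInvertible_twist _)) i)
      (fun S hS a c => sub_tw_X₂ hS a c) _ fun _ => ?_
    obtain ⟨t⟩ := nonempty_twist_add (n := n) (A := k) (show -m + (m - i) = -(i : ℤ) by ring)
    exact ValVan29.subsingleton_hh_of_iso t.symm i (Pn71.subsingleton_hh n k _ i (by omega) (by omega))
  · have := hK (i + 1) (by omega)
    rwa [show m + 1 - ((i + 1 : ℕ) : ℤ) = m - i by push_cast; ring] at this

end Groth.Agent.Var76.Reg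

end
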