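import Groth.Agent.E4O.DimField
import Groth.Agent.TopDim50.Basic
import Groth.Agent.Var76.BertiniScheme
import Mathlib.AlgebraicGeometry.FunctionField
import Mathlib.AlgebraicGeometry.Morphisms.FiniteType
import Mathlib.RingTheory.AlgebraicIndependent.TranscendenceBasis

/-! Dimension and transcendence degree of varieties. -/

universe u

open CategoryTheory CategoryTheory.Limits AlgebraicGeometry TopologicalSpace Opposite

set_option backward.isDefEq.respectTransparency false

namespace Groth.Agent.Var76.VarDim

variable {k : Type u} [Field k] {X : Scheme.{u}} [X.Over (Spec (CommRingCat.of k))]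

local notation "qX" => (X ↘ Spec (CommRingCat.of k))

theorem finiteType_const [LocallyOfFiniteType qX] {W : X.Opens} (hW : IsAffineOpen W) :
    letI := (BertiniScheme.const (k := k) X W).toAlgebra
    Algebra.FiniteType k Γ(X, W) := by
  let : Algebra k Γ(X, W) := (BertiniScheme.const (k := k) X W).toAlgebra
  have h1 : (Scheme.Hom.appLE qX ⊤ W (le_top : W ≤ qX ⁻¹ᵁ ⊤)).hom.FiniteType :=
    HasRingHomProperty.appLE @LocallyOfFiniteType qX ‹_› ⟨⊤, isAffineOpen_top _⟩ ⟨W, hW⟩ le_top
  exact RingHom.finiteType_algebraMap.1 (h1.comp (RingHom.FiniteType.of_surjective _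
    (ConcreteCategory.bijective_of_isIso (Scheme.ΓSpecIso (CommRingCat.of k)).inv).2))

variable [IsIntegral X]

variable (k X) in
/-- The constants inside the function field. -/
noncomputable def constField : k →+* X.functionField :=
  ((X.presheaf.germ ⊤ (genericPoint X) trivial).hom).comp (BertiniScheme.const (k := k) X ⊤)

theorem germ_const {W : X.Opens} (hW : genericPoint X ∈ W) (r : k) :
    X.presheaf.germ W (genericPoint X) hW (BertiniScheme.const (k := k) X W r) = constField k X r := by
  have h : BertiniScheme.const (k := k) X W r =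
      X.presheaf.map (homOfLE (le_top : W ≤ ⊤)).op (BertiniScheme.const (k := k) X ⊤ r) := by
    show Scheme.Hom.appLE qX ⊤ W _ _ = X.presheaf.map _ (Scheme.Hom.appLE qX ⊤ ⊤ _ _)
    rw [← ConcreteCategory.comp_apply (Scheme.Hom.appLE qX ⊤ ⊤ _), Scheme.Hom.appLE_map]
  rw [h, TopCat.Presheaf.germ_res_apply]
  rfl

variable (k X) in
/-- The transcendence degree of the function field over `k`. -/
noncomputable def trdegFF : ℕ :=
  letI := (constField k X).toAlgebra
  Cardinal.toNat (Algebra.trdeg k X.functionField)

theorem trdeg_chart [LocallyOfFiniteType qX] {W : X.Opens} (hW : IsAffineOpen W) [Nonempty W] :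
    letI := (BertiniScheme.const (k := k) X W).toAlgebra
    Algebra.trdeg k Γ(X, W) = (trdegFF k X : Cardinal.{u}) ∧
      letI := (constField k X).toAlgebra
      Algebra.trdeg k X.functionField = (trdegFF k X : Cardinal.{u}) := by
  let : Algebra k Γ(X, W) := (BertiniScheme.const (k := k) X W).toAlgebra
  have := finiteType_const (k := k) hW
  let : Algebra k X.functionField := (constField k X).toAlgebra
  have hgW : genericPoint X ∈ W := (genericPoint_spec X).mem_open_set_iff W.2 |>.2
    ⟨(Classical.arbitrary W).1, Set.mem_univ _, (Classical.arbitrary W).2⟩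
  have : IsScalarTower k Γ(X, W) X.functionField :=
    IsScalarTower.of_algebraMap_eq fun r => (germ_const hgW r).symm
  have : IsFractionRing Γ(X, W) X.functionField := functionField_isFractionRing_of_isAffineOpen X W hW
  have : FaithfulSMul Γ(X, W) X.functionField :=
    (faithfulSMul_iff_algebraMap_injective _ _).2 (IsFractionRing.injective _ _)
  have : Algebra.IsAlgebraic Γ(X, W) X.functionField := IsLocalization.isAlgebraic _ (nonZeroDivisors _)
  have h : Algebra.trdeg k X.functionField = Algebra.trdeg k Γ(X, W) := by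
    rw [← trdeg_add_eq k Γ(X, W) (A := X.functionField), trdeg_eq_zero (R := Γ(X, W)), add_zero]
  have h2 : Algebra.trdeg k X.functionField = (trdegFF k X : Cardinal.{u}) := by
    rw [trdegFF, Cardinal.cast_toNat_of_lt_aleph0 (c := @Algebra.trdeg k X.functionField _ _ (constField k X).toAlgebra)]
    exact h.trans_lt (trdeg_lt_aleph0_of_finiteType (R := k) (S := Γ(X, W)))
  exact ⟨h.symm.trans h2, h2⟩

theorem ringKrullDim_chart [LocallyOfFiniteType qX] {W : X.Opens} (hW : IsAffineOpen W) [Nonempty W] :
    ringKrullDim Γ(X, W) = (trdegFF k X : ℕ) := by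
  let : Algebra k Γ(X, W) := (BertiniScheme.const (k := k) X W).toAlgebra
  have := finiteType_const (k := k) hW
  rw [E4O.ringKrullDim_eq_trdeg k Γ(X, W), (trdeg_chart (k := k) hW).1, Cardinal.toNat_natCast]

theorem height_chart [LocallyOfFiniteType qX] {W : X.Opens} (hW : IsAffineOpen W) [Nonempty W]
    (m : Ideal Γ(X, W)) [m.IsMaximal] : m.height = trdegFF k X := by
  let : Algebra k Γ(X, W) := (BertiniScheme.const (k := k) X W).toAlgebra
  have := finiteType_const (k := k) hW
  rw [E4O.height_maximal_eq k Γ(X, W) m, (trdeg_chart (k := k) hW).1, Cardinal.toNat_natCast]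

theorem dim_eq [LocallyOfFiniteType qX] : topologicalKrullDim X = (trdegFF k X : ℕ) := by
  refine (TopDim50.dim_eq_iSup_of_open_cover (fun W : X.affineOpens => (W.1 : Set X)) (fun W => W.1.2) ?_).trans ?_
  · refine Set.eq_univ_of_forall fun x => ?_
    obtain ⟨W, hW, hx, -⟩ := exists_isAffineOpen_mem_and_subset (U := (⊤ : X.Opens)) (x := x) trivial
    exact Set.mem_iUnion.2 ⟨⟨W, hW⟩, hx⟩
  have hle : ∀ W : X.affineOpens, Nonempty W.1 →
      topologicalKrullDim (W.1 : Set X) = (trdegFF k X : ℕ) := by
    intro W hne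
    rw [← ringKrullDim_chart (k := k) W.2, ← PrimeSpectrum.topologicalKrullDim_eq_ringKrullDim]
    exact IsHomeomorph.topologicalKrullDim_eq _ (W.2.isoSpec.hom.homeomorph.isHomeomorph)
  refine le_antisymm (iSup_le fun W => ?_) ?_
  · by_cases h : Nonempty W.1
    · exact (hle W h).le
    · have : IsEmpty (W.1 : Set X) := not_nonempty_iff.1 h
      rw [topologicalKrullDim, Order.krullDim_eq_bot_iff.2 ⟨fun Z => (Set.Nonempty.ne_empty Z.isIrreducible.nonempty) (Set.eq_empty_of_isEmpty _)⟩]
      exact bot_le
  · obtain ⟨W, hW, hx, -⟩ := exists_isAffineOpen_mem_and_subset (U := (⊤ : X.Opens)) (x := genericPoint X) trivial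
    exact (hle ⟨W, hW⟩ ⟨⟨_, hx⟩⟩).ge.trans (le_iSup (fun V : X.affineOpens => topologicalKrullDim (V.1 : Set X)) ⟨W, hW⟩)

theorem trdegFF_eq [LocallyOfFiniteType qX] {d : ℕ} (h : topologicalKrullDim X = d) : trdegFF k X = d := by
  rw [dim_eq (k := k)] at h
  exact_mod_cast h

end Groth.Agent.Var76.VarDim
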