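import Groth.Agent.TopCoh49.ClosedPush
import Groth.Agent.TopCoh49.Noetherian
import Groth.Agent.Crv77.FiniteSupp
import Groth.Agent.TopCoh49.Inst

/-! Vanishing of cohomology above the dimension of the support. -/

universe u

open CategoryTheory Limits AlgebraicGeometry TopologicalSpace Opposite TopCat

noncomputable section

namespace Groth.Agent.Var76

open TopCoh49

section Top

variable {X Y : TopCat.{u}} (f : X ⟶ Y) (hf : Topology.IsClosedEmbedding f)

include hf in
theorem shortExact_push {S : ShortComplex (CohTop.Ab X)} (hS : S.ShortExact) :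
    (S.map (CohTop.push f)).ShortExact := by
  have := preservesFiniteColimits_push f hf
  have : PreservesFiniteLimits (CohTop.push f) :=
    haveI : PreservesLimitsOfSize.{0, 0} (CohTop.push f) :=
      (TopCat.Sheaf.pullbackPushforwardAdjunction AddCommGrpCat.{u} f).rightAdjoint_preservesLimits
    PreservesLimitsOfSize.preservesFiniteLimits _
  exact hS.map_of_exact (CohTop.push f)

theorem subsingleton_push_injective (I : CohTop.Ab X) [Injective I] (n : ℕ) :
    Subsingleton (E ((CohTop.push f).obj I) (n + 1) ⊤) :=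
  haveI : TopCat.Sheaf.IsFlasque I := isFlasque_of_injective I
  haveI : TopCat.Sheaf.IsFlasque ((CohTop.push f).obj I) :=
    @TopCat.Sheaf.IsFlasque.pushforward_isFlasque _ _ _ _ I this f
  subsingleton_E_of_isFlasque n _ ⊤

include hf in
theorem subsingleton_push : ∀ (p : ℕ) (F : CohTop.Ab X), Subsingleton (E F (p + 1) ⊤) →
    Subsingleton (E ((CohTop.push f).obj F) (p + 1) ⊤)
  | 0, F, h => subsingleton_of_forall_eq 0 fun x => by
    have hS := injSES_shortExact F
    have hP := shortExact_push f hf hS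
    have := subsingleton_push_injective f (Injective.under F) 0
    obtain ⟨y, rfl⟩ := exact₁ hP (zero_add 1) ⊤ x (this.elim _ _)
    obtain ⟨z, hz⟩ := exact₃ hS (zero_add 1) ⊤ ((E₀ (injSES F).X₃ ⊤).symm
      (show (injSES F).X₃.obj.obj (op ⊤) from E₀ ((injSES F).map (CohTop.push f)).X₃ ⊤ y)) (h.elim _ _)
    have hy : emap ((injSES F).map (CohTop.push f)).g 0 ⊤
        ((E₀ ((injSES F).map (CohTop.push f)).X₂ ⊤).symm (E₀ (injSES F).X₂ ⊤ z)) = y := by
      apply (E₀ ((injSES F).map (CohTop.push f)).X₃ ⊤).injective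
      refine (E₀_emap ((injSES F).map (CohTop.push f)).g ⊤ _).trans ?_
      refine (congrArg _ ((E₀ ((injSES F).map (CohTop.push f)).X₂ ⊤).apply_symm_apply _)).trans ?_
      refine (E₀_emap (injSES F).g ⊤ z).symm.trans ((congrArg (E₀ (injSES F).X₃ ⊤) hz).trans ?_)
      exact (E₀ (injSES F).X₃ ⊤).apply_symm_apply _
    rw [← hy]
    exact δ_emap_g hP (zero_add 1) ⊤ _
  | p + 1, F, h => subsingleton_of_forall_eq 0 fun x => by
    have hS := injSES_shortExact F
    have hP := shortExact_push f hf hS
    have hb := δ_bijective hS (rfl : p + 1 + 1 = p + 2) ⊤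
      (subsingleton_E_of_injective (Injective.under F) p ⊤) (subsingleton_E_of_injective (Injective.under F) (p + 1) ⊤)
    have h' : Subsingleton (E (injSES F).X₃ (p + 1) ⊤) := @Function.Injective.subsingleton _ _ _ hb.1 h
    have := subsingleton_push p (injSES F).X₃ h'
    have := subsingleton_push_injective f (Injective.under F) (p + 1)
    obtain ⟨y, rfl⟩ := exact₁ hP (rfl : p + 1 + 1 = p + 2) ⊤ x (this.elim _ _)
    exact (congrArg _ (show y = 0 from Subsingleton.elim (α := E ((CohTop.push f).obj (injSES F).X₃) (p + 1) ⊤) _ _)).trans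
      (map_zero _)

/-- Cohomology vanishes above the dimension of a closed set off which the stalks vanish. -/
theorem subsingleton_H_of_supp [NoetherianSpace Y] (G : CohTop.Ab Y) {Z : Set Y} (hZ : IsClosed Z)
    (hG : ∀ y, y ∉ Z → IsZero (CohTop.stalk G y)) {d : ℕ} (hd : topologicalKrullDim Z ≤ d) (p : ℕ)
    (hp : d < p) : Subsingleton (CohTop.H G p) := by
  let Zt : TopCat.{u} := TopCat.of Z
  let i : Zt ⟶ Y := TopCat.ofHom ⟨Subtype.val, continuous_subtype_val⟩
  have hi : Topology.IsClosedEmbedding i := hZ.isClosedEmbedding_subtypeVal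
  obtain ⟨F, ⟨e⟩⟩ := (essImage_push_iff i hi G).2 fun y hy => hG y fun hyZ => hy ⟨⟨y, hyZ⟩, rfl⟩
  have : NoetherianSpace Zt := inferInstanceAs (NoetherianSpace Z)
  have hF : Subsingleton (E F p ⊤) := subsingleton_E_of_dim_lt (X := Zt) hd F ⊤ p hp
  obtain ⟨q, rfl⟩ : ∃ q, p = q + 1 := ⟨p - 1, by omega⟩
  have h := subsingleton_push i hi q F hF
  have hGp : Subsingleton (E G (q + 1) ⊤) := subsingleton_of_forall_eq 0 fun x => by
    rw [← Abelian.Ext.comp_mk₀_id x, ← e.inv_hom_id, ← Abelian.Ext.mk₀_comp_mk₀,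
      ← Abelian.Ext.comp_assoc _ _ _ (add_zero (q + 1)) (add_zero 0) (by simp),
      h.elim (x.comp (Abelian.Ext.mk₀ e.inv) (add_zero (q + 1))) 0, Abelian.Ext.zero_comp]
  exact (HEquivTop G (q + 1)).toEquiv.subsingleton

end Top

/-- Cohomology of a module vanishes above the dimension of its support. -/
theorem subsingleton_HH_of_support {X : Scheme.{u}} [NoetherianSpace X] (M : X.Modules) {Z : Set X}
    (hZ : IsClosed Z) (hM : Crv77.SuppIn M Z) {d : ℕ} (hd : topologicalKrullDim Z ≤ d) (p : ℕ)
    (hp : d < p) : Subsingleton (Coh.HH X M p) :=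
  haveI : NoetherianSpace X.toTopCat := ‹NoetherianSpace X›
  subsingleton_H_of_supp (Y := X.toTopCat) (Coh.toAb M) hZ
    (fun y hy => haveI : Subsingleton (CohTop.stalk (Coh.toAb M : CohTop.Ab X.toTopCat) y) := hM y hy
      AddCommGrpCat.isZero_of_subsingleton _) hd p hp

end Groth.Agent.Var76

end
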