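import Groth.Agent.Var76.GenSmoothDim
import Mathlib.AlgebraicGeometry.Morphisms.Smooth
import Mathlib.AlgebraicGeometry.FunctionField
import Mathlib.AlgebraicGeometry.Noetherian

/-! Smooth morphisms near the generic point, for schemes. -/

universe u

open CategoryTheory CategoryTheory.Limits AlgebraicGeometry TopologicalSpace

namespace Groth.Agent.Var76.GenSmooth

variable {X Y : Scheme.{u}}

theorem smoothOfRelativeDimension_ι_comp (n : ℕ) (π : X ⟶ Y) {U : X.Opens} (hU : IsAffineOpen U)
    {V : Y.Opens} (hV : IsAffineOpen V) (e : U ≤ π ⁻¹ᵁ V)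
    (h : (π.appLE V U e).hom.IsStandardSmoothOfRelativeDimension n) :
    SmoothOfRelativeDimension n (U.ι ≫ π) := by
  have : MorphismProperty.RespectsIso (@SmoothOfRelativeDimension n) :=
    (smoothOfRelativeDimension_isStableUnderBaseChange n).respectsIso
  have h1 : U.ι ≫ π = hU.isoSpec.hom ≫ Spec.map (π.appLE V U e) ≫ hV.fromSpec := by
    rw [IsAffineOpen.SpecMap_appLE_fromSpec π hV hU e, IsAffineOpen.fromSpec, Category.assoc,
      Iso.hom_inv_id_assoc]
  rw [h1, MorphismProperty.cancel_left_of_respectsIso (@SmoothOfRelativeDimension n)]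
  have : SmoothOfRelativeDimension n (Spec.map (π.appLE V U e)) := by
    rw [HasRingHomProperty.Spec_iff (P := @SmoothOfRelativeDimension n)]
    exact RingHom.locally_of RingHom.isStandardSmoothOfRelativeDimension_respectsIso _ h
  have : IsOpenImmersion hV.fromSpec := IsAffineOpen.isOpenImmersion_fromSpec hV
  exact (inferInstance : SmoothOfRelativeDimension (n + 0) (Spec.map (π.appLE V U e) ≫ hV.fromSpec))

/-- A dominant morphism of integral schemes in characteristic zero is smooth near the generic point. -/
theorem exists_open_smoothOfRelativeDimension [IsIntegral X] [IsIntegral Y] [IsLocallyNoetherian Y]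
    (π : X ⟶ Y) [LocallyOfFiniteType π] (hdom : π (genericPoint X) = genericPoint Y)
    [CharZero Y.functionField] :
    letI := (π.stalkMap (genericPoint X)).hom.toAlgebra
    Algebra.trdeg (Y.presheaf.stalk (π (genericPoint X))) X.functionField < Cardinal.aleph0 ∧
    ∀ n : ℕ, Algebra.trdeg (Y.presheaf.stalk (π (genericPoint X))) X.functionField = n →
      ∃ U : X.Opens, (U : Set X).Nonempty ∧ SmoothOfRelativeDimension n (U.ι ≫ π) := by
  obtain ⟨V, hV, hxV, -⟩ := exists_isAffineOpen_mem_and_subset (U := (⊤ : Y.Opens)) (x := π (genericPoint X)) trivial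
  obtain ⟨W, hW, hxW, hWV⟩ := exists_isAffineOpen_mem_and_subset
    (show genericPoint X ∈ π ⁻¹ᵁ V from hxV)
  replace hWV : W ≤ π ⁻¹ᵁ V := hWV
  have : Nonempty W := ⟨⟨_, hxW⟩⟩
  have : Nonempty V := ⟨⟨_, hxV⟩⟩
  let A := Γ(Y, V)
  let B := Γ(X, W)
  let : Algebra A B := (π.appLE V W hWV).hom.toAlgebra
  have hft : Algebra.FiniteType A B := RingHom.finiteType_algebraMap.1
    (HasRingHomProperty.appLE @LocallyOfFiniteType π ‹_› ⟨V, hV⟩ ⟨W, hW⟩ hWV)
  have : IsNoetherianRing A := IsLocallyNoetherian.component_noetherian ⟨V, hV⟩
  let K := Y.presheaf.stalk (π (genericPoint X))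
  have hchar : ∀ y : Y, y = genericPoint Y → CharZero (Y.presheaf.stalk y) := by
    rintro y rfl
    exact ‹CharZero Y.functionField›
  have hchar' : CharZero K := hchar _ hdom
  have hfield : IsField K := by
    show IsField (Y.presheaf.stalk (π (genericPoint X)))
    rw [hdom]
    exact (inferInstance : Field Y.functionField).toIsField
  let : Field K := hfield.toField
  have : CharZero K := hchar'
  let : Algebra A K := TopCat.Presheaf.algebra_section_stalk Y.presheaf ⟨_, hxV⟩
  have hfrac : ∀ (y : Y) (hy : y ∈ V), y = genericPoint Y →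
      letI := TopCat.Presheaf.algebra_section_stalk Y.presheaf (U := V) ⟨y, hy⟩
      IsFractionRing A (Y.presheaf.stalk y) := by
    rintro y hy rfl
    exact functionField_isFractionRing_of_isAffineOpen Y V hV
  have : IsFractionRing A K := hfrac _ hxV hdom
  let : Algebra B X.functionField := TopCat.Presheaf.algebra_section_stalk X.presheaf ⟨_, hxW⟩
  have : IsFractionRing B X.functionField := functionField_isFractionRing_of_isAffineOpen X W hW
  let : Algebra K X.functionField := (π.stalkMap (genericPoint X)).hom.toAlgebra
  let : Algebra A X.functionField := ((algebraMap B X.functionField).comp (algebraMap A B)).toAlgebra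
  have : IsScalarTower A B X.functionField := IsScalarTower.of_algebraMap_eq fun _ => rfl
  have : IsScalarTower A K X.functionField := IsScalarTower.of_algebraMap_eq fun a => by
    show X.presheaf.germ W (genericPoint X) hxW (π.appLE V W hWV a) =
      π.stalkMap (genericPoint X) (Y.presheaf.germ V _ hxV a)
    rw [Scheme.Hom.germ_stalkMap_apply, Scheme.Hom.app_eq_appLE,
      ← Scheme.Hom.appLE_map π (le_refl (π ⁻¹ᵁ V)) (homOfLE hWV).op, ConcreteCategory.comp_apply,
      TopCat.Presheaf.germ_res_apply]
  refine ⟨?_, fun n hn => ?_⟩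
  · have : Algebra.EssFiniteType A X.functionField :=
      have : Algebra.EssFiniteType B X.functionField := Algebra.EssFiniteType.of_isLocalization _ (nonZeroDivisors B)
      Algebra.EssFiniteType.comp A B X.functionField
    have : Algebra.EssFiniteType K X.functionField := Algebra.EssFiniteType.of_comp A K X.functionField
    have h1 := rank_kaehler (K := K) (L := X.functionField)
    show Algebra.trdeg K X.functionField < _
    rw [← h1]
    exact Module.rank_lt_aleph0 _ _
  · obtain ⟨g, hg, hstd⟩ := exists_away_standardSmooth (A := A) (B := B) K X.functionField n hn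
    have hU : IsAffineOpen (X.basicOpen g) := hW.basicOpen g
    refine ⟨X.basicOpen g, ?_, smoothOfRelativeDimension_ι_comp n π hU hV
      ((X.basicOpen_le g).trans hWV) ?_⟩
    · rw [Set.nonempty_iff_ne_empty]
      intro h
      exact hg ((basicOpen_eq_bot_iff g).1 (TopologicalSpace.Opens.ext h))
    have : IsLocalization.Away g Γ(X, X.basicOpen g) := hW.isLocalization_basicOpen g
    let : Algebra A Γ(X, X.basicOpen g) :=
      (π.appLE V (X.basicOpen g) ((X.basicOpen_le g).trans hWV)).hom.toAlgebra
    have : IsScalarTower A B Γ(X, X.basicOpen g) := IsScalarTower.of_algebraMap_eq fun a => by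
      show π.appLE V (X.basicOpen g) _ a = X.presheaf.map _ (π.appLE V W hWV a)
      rw [← ConcreteCategory.comp_apply]
      exact congrArg (fun f => f a) (Scheme.Hom.appLE_map π hWV (homOfLE (X.basicOpen_le g)).op).symm
    exact (RingHom.isStandardSmoothOfRelativeDimension_algebraMap n).2
      (Algebra.IsStandardSmoothOfRelativeDimension.of_algEquiv n
        ((IsLocalization.algEquiv (Submonoid.powers g) (Localization.Away g) Γ(X, X.basicOpen g)).restrictScalars A))

end Groth.Agent.Var76.GenSmooth
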