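import Groth.Agent.Var76.ActTrans
import Groth.Agent.S10929
import Mathlib.AlgebraicGeometry.Noetherian

/-! Orbit maps of transitive actions are smooth in characteristic zero. -/

set_option autoImplicit false
universe u

open CategoryTheory MonoidalCategory CartesianMonoidalCategory MonObj AlgebraicGeometry CategoryTheory.Limits

namespace Groth.Agent.Var76.ActTrans

set_option backward.isDefEq.respectTransparency false

/-- Over a locally Noetherian base, locally of finite type is locally of finite presentation. -/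
theorem lfp_of_lft {X Y : Scheme.{u}} (f : X ⟶ Y) [LocallyOfFiniteType f] [IsLocallyNoetherian Y] :
    LocallyOfFinitePresentation f := by
  refine HasRingHomProperty.iff_appLE.2 fun U V e => ?_
  have : IsNoetherianRing Γ(Y, U.1) := IsLocallyNoetherian.component_noetherian U
  exact RingHom.FinitePresentation.of_finiteType.1
    (HasRingHomProperty.appLE (P := @LocallyOfFiniteType) f inferInstance U V e)

variable {k : Type u} [Field k] [IsAlgClosed k] [CharZero k]
  {G X : Over (Spec (CommRingCat.of k))} [GrpObj G] (a : AlgGrp.Action G X)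
  [IsIntegral G.left] [LocallyOfFiniteType G.hom] [QuasiCompact G.hom]
  [IsIntegral X.left] [LocallyOfFiniteType X.hom] [QuasiCompact X.hom]

theorem smooth_orbit
    (htrans : ∀ x x' : 𝟙_ (Over (Spec (CommRingCat.of k))) ⟶ X,
      ∃ σ : 𝟙_ (Over (Spec (CommRingCat.of k))) ⟶ G, lift σ x ≫ a.act = x')
    (o : 𝟙_ (Over (Spec (CommRingCat.of k))) ⟶ X) : Smooth (a.orbitMap o).left := by
  have hw : (a.orbitMap o).left ≫ X.hom = G.hom := Over.w _
  obtain ⟨U, hU, hs⟩ := Groth.Agent.S10929.result k G.hom X.hom (a.orbitMap o).left hw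
    (denseRange_orbit a htrans o)
  have : LocallyOfFiniteType ((a.orbitMap o).left ≫ X.hom) := hw.symm ▸ ‹LocallyOfFiniteType G.hom›
  have : LocallyOfFiniteType (a.orbitMap o).left := locallyOfFiniteType_of_comp _ X.hom
  have : IsLocallyNoetherian X.left := LocallyOfFiniteType.isLocallyNoetherian X.hom
  have : LocallyOfFinitePresentation (a.orbitMap o).left := lfp_of_lft _
  have : JacobsonSpace G.left := LocallyOfFiniteType.jacobsonSpace G.hom
  rw [← Scheme.Hom.smoothLocus_eq_top_iff, ← TopologicalSpace.Opens.coe_eq_univ, ← not_ne_iff,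
    ← Set.nonempty_compl]
  intro H
  obtain ⟨g', hg', hg'c⟩ := nonempty_inter_closedPoints H
    (a.orbitMap o).left.smoothLocus.2.isClosed_compl.isLocallyClosed
  obtain ⟨g, hgU, hgc⟩ := nonempty_inter_closedPoints hU U.2.isLocallyClosed
  have hg : g ∈ (a.orbitMap o).left.smoothLocus := by
    have h1 := Scheme.Hom.smoothLocus_eq_top (U.ι ≫ (a.orbitMap o).left)
    rw [← Scheme.Hom.preimage_smoothLocus_eq] at h1
    exact (show (⟨g, hgU⟩ : U) ∈ U.ι ⁻¹ᵁ (a.orbitMap o).left.smoothLocus from h1.ge trivial)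
  obtain ⟨σ, hσ⟩ := exists_lTrans_eq g g' hgc hg'c
  refine hg' ?_
  have : IsIso (lTrans (G := G) σ).hom.left := inferInstanceAs (IsIso ((Over.forget _).map (lTrans (G := G) σ).hom))
  have : IsIso (xTrans a σ).hom.left := inferInstanceAs (IsIso ((Over.forget _).map (xTrans a σ).hom))
  have h2 : (lTrans σ).hom.left ≫ (a.orbitMap o).left = (a.orbitMap o).left ≫ (xTrans a σ).hom.left := by
    rw [← Over.comp_left, lTrans_orbit, Over.comp_left]
  rw [← hσ]
  show g ∈ (lTrans σ).hom.left ⁻¹ᵁ (a.orbitMap o).left.smoothLocus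
  rw [Scheme.Hom.preimage_smoothLocus_eq]
  rw [Scheme.Hom.mem_smoothLocus] at hg ⊢
  rw [Scheme.Hom.stalkMap_congr_hom _ _ h2, Scheme.Hom.stalkMap_comp, CommRingCat.hom_comp]
  exact (RingHom.FormallySmooth.respectsIso.cancel_left_isIso _ _).2
    ((RingHom.FormallySmooth.respectsIso.cancel_left_isIso _ _).2 hg)

end Groth.Agent.Var76.ActTrans
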