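import Groth.Agent.Var76.Frames
import Groth.Prelude.Def_Twist2
import Mathlib.AlgebraicGeometry.ProjectiveSpectrum.Basic

/-! The frame of `O(1)` on the basic open of an element of degree one. -/

universe u

open CategoryTheory CategoryTheory.Limits AlgebraicGeometry Opposite TopologicalSpace

noncomputable section

namespace Groth.Agent.Var76.ProjFrame

open LineBundle ZeroScheme Frames

variable {R A : Type u} [CommRing R] [CommRing A] [Algebra R A] {𝒜 : ℕ → Submodule R A}
  [GradedAlgebra 𝒜]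

variable (𝒜) in
/-- A degree one element as a global section of `O(1)`. -/
def sect (h : 𝒜 1) : Γ(Twist.twist 𝒜 1, ⊤) := Twist.globalOf 𝒜 h

variable (𝒜) in
theorem isFrame (f : 𝒜 1) :
    IsFrame (Twist.twist 𝒜 1) (Proj.basicOpen 𝒜 f.1) (res (Twist.twist 𝒜 1) le_top (sect 𝒜 f)) := by
  classical
  intro V hV
  let L := Twist.twist 𝒜 1
  let fl : ∀ x : V, Twist.Loc 𝒜 x.1 := fun x => algebraMap A _ f.1
  have hu : ∀ x : V, IsUnit (fl x) := fun x =>
    haveI := x.1.isPrime
    IsLocalization.map_units (Twist.Loc 𝒜 x.1) (⟨f.1, hV x.2⟩ : x.1.asHomogeneousIdeal.toIdeal.primeCompl)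
  have hval : ∀ (a : Twist.O (𝒜 := 𝒜) (op V)) (x : V),
      ((a.1 x • (Twist.resN (𝒜 := 𝒜) (1 : ℤ) (homOfLE (le_top : V ≤ ⊤)).op
        (Twist.globalOf 𝒜 f)).1 x : Twist.twistAt 𝒜 1 x.1) : Twist.Loc 𝒜 x.1) = (a.1 x).val * fl x :=
    fun a x => (Twist.coe_smul_val _ _ _ _).trans (congrArg _ (Localization.mk_one_eq_algebraMap _))
  constructor
  · intro a b hab
    refine Subtype.ext (funext fun x => HomogeneousLocalization.val_injective _ ((hu x).mul_right_cancel ?_))
    have h1 := congrArg (fun s : Twist.sectN (𝒜 := 𝒜) (1 : ℤ) (op V) => ((s.1 x : Twist.twistAt 𝒜 1 x.1) : Twist.Loc 𝒜 x.1)) hab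
    exact (hval a x).symm.trans (h1.trans (hval b x))
  · intro g
    let g' : Twist.sectN (𝒜 := 𝒜) (1 : ℤ) (op V) := g
    have hex : ∀ x : V, ∃ c : Twist.A0 𝒜 x.1, c.val * fl x = (g'.1 x : Twist.Loc 𝒜 x.1) := by
      intro x
      obtain ⟨W, hxW, i, di, dj, a, s, hs, hdeg, he⟩ := g'.2 x
      refine ⟨if ha : a.1 = 0 then 0 else HomogeneousLocalization.mk ⟨dj + 1, ⟨a.1, ?_⟩,
        ⟨s.1 * f.1, SetLike.mul_mem_graded s.2 f.2⟩, ?_⟩, ?_⟩
      · have : di = dj + 1 := by have := hdeg.resolve_right ha; omega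
        exact this ▸ a.2
      · exact fun h => (x.1.isPrime.mem_or_mem h).elim (hs ⟨x.1, hxW⟩) (hV x.2)
      · have hx : (g'.1 x : Twist.Loc 𝒜 x.1) = Localization.mk a.1 ⟨s.1, hs ⟨x.1, hxW⟩⟩ := he ⟨x.1, hxW⟩
        rw [hx]
        split_ifs with ha
        · rw [HomogeneousLocalization.val_zero, zero_mul, ha, Localization.mk_zero]
        · rw [HomogeneousLocalization.val_mk]
          show Localization.mk a.1 _ * algebraMap A _ f.1 = _
          rw [← Localization.mk_one_eq_algebraMap, Localization.mk_mul, Localization.mk_eq_mk_iff,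
            Localization.r_iff_exists]
          exact ⟨1, by simp [mul_comm, mul_left_comm]⟩
    choose c hc using hex
    have hloc : (ProjectiveSpectrum.StructureSheaf.isLocallyFraction 𝒜).pred c := by
      intro x
      obtain ⟨W, hxW, i, di, dj, a, s, hs, hdeg, he⟩ := g'.2 x
      let a' : A := if (di : ℤ) = dj + 1 then a.1 else 0
      have ha' : a' ∈ 𝒜 (dj + 1) := by
        simp only [a']
        split_ifs with h
        · have : di = dj + 1 := by omega
          exact this ▸ a.2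
        · exact zero_mem _
      have ha : a' = a.1 := by
        simp only [a']
        split_ifs with h
        · rfl
        · exact (hdeg.resolve_left h).symm
      have hsf : ∀ y : W, s.1 * f.1 ∉ y.1.asHomogeneousIdeal := fun y h =>
        (y.1.isPrime.mem_or_mem h).elim (hs y) (hV (i y).2)
      refine ⟨W, hxW, i, dj + 1, ⟨a', ha'⟩, ⟨s.1 * f.1, SetLike.mul_mem_graded s.2 f.2⟩, hsf, fun y => ?_⟩
      refine HomogeneousLocalization.val_injective _ ((hu (i y)).mul_right_cancel ?_)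
      have hy : (g'.1 (i y) : Twist.Loc 𝒜 y.1) = Localization.mk a.1 ⟨s.1, hs y⟩ := he y
      refine (hc (i y)).trans (hy.trans ?_)
      rw [HomogeneousLocalization.val_mk]
      show _ = Localization.mk a' _ * algebraMap A _ f.1
      rw [← Localization.mk_one_eq_algebraMap, Localization.mk_mul, Localization.mk_eq_mk_iff,
        Localization.r_iff_exists]
      exact ⟨1, by show (1:A) * _ = (1:A) * _; simp only [one_mul]; show _ * a.1 = s.1 * (a' * f.1); show (s.1 * f.1 * 1) * a.1 = _; linear_combination -(s.1 * f.1) * ha⟩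
    refine ⟨(⟨c, hloc⟩ : Twist.O (𝒜 := 𝒜) (op V)), ?_⟩
    refine Subtype.ext (funext fun x => Subtype.ext ?_)
    exact (hval ⟨c, hloc⟩ x).trans (hc x)

variable (𝒜) in
/-- The coordinate of the section of `h` in the frame of `f` is the function `h / f`. -/
theorem away_smul_frame (f h : 𝒜 1) :
    (Proj.awayToSection 𝒜 f.1) (HomogeneousLocalization.mk ⟨1, h, f, ⟨1, pow_one _⟩⟩) •
        res (Twist.twist 𝒜 1) (le_top : Proj.basicOpen 𝒜 f.1 ≤ ⊤) (sect 𝒜 f) =
      res (Twist.twist 𝒜 1) le_top (sect 𝒜 h) := by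
  refine Subtype.ext (funext fun x => Subtype.ext ?_)
  refine (Twist.coe_smul_val _ _ _ _).trans ?_
  show _ * Localization.mk f.1 _ = Localization.mk h.1 _
  refine Eq.trans (congrArg (· * _) (ProjectiveSpectrum.Proj.awayToSection_apply 𝒜 f.1 _ x)) ?_
  rw [HomogeneousLocalization.val_mk, Localization.mk_eq_mk', IsLocalization.map_mk',
    ← Localization.mk_eq_mk', Localization.mk_mul, Localization.mk_eq_mk_iff, Localization.r_iff_exists]
  exact ⟨1, by simp [mul_comm]⟩

variable (𝒜) in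
/-- The morphism `O → O(1)` of a degree one element. -/
def sectHom (h : 𝒜 1) : Coh.structureModule (Proj 𝒜) ⟶ Twist.twist 𝒜 1 :=
  ofSection (Twist.twist 𝒜 1) (sect 𝒜 h)

theorem sectHom_coord (f h : 𝒜 1) :
    (Proj.awayToSection 𝒜 f.1) (HomogeneousLocalization.mk ⟨1, h, f, ⟨1, pow_one _⟩⟩) •
        res (Twist.twist 𝒜 1) (le_top : Proj.basicOpen 𝒜 f.1 ≤ ⊤) (sect 𝒜 f) =
      val (Twist.twist 𝒜 1) (sectHom 𝒜 h) (Proj.basicOpen 𝒜 f.1) :=
  (away_smul_frame 𝒜 f h).trans (val_ofSection _ _ _).symm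

end Groth.Agent.Var76.ProjFrame
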