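import Mathlib.AlgebraicGeometry.Morphisms.Flat
import Mathlib.AlgebraicGeometry.Morphisms.Proper
import Mathlib.Topology.Sheaves.SheafCondition.UniqueGluing

/-! Flat base change of the condition `f_* O_X = O_Y`. -/

universe u

open CategoryTheory CategoryTheory.Limits AlgebraicGeometry TopologicalSpace Opposite

set_option backward.isDefEq.respectTransparency false

namespace Groth.Agent.Var76.FibBC

theorem res_res {X : Scheme.{u}} {U V W : X.Opens} (i : V ⟶ U) (j : W ⟶ V) (a : Γ(X, U)) :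
    X.presheaf.map j.op (X.presheaf.map i.op a) = X.presheaf.map (j ≫ i).op a := by
  rw [op_comp, Functor.map_comp, ConcreteCategory.comp_apply]

variable {X Y : Scheme.{u}} (f : X ⟶ Y)

theorem app_res {V W : Y.Opens} (h : W ≤ V) (s : Γ(Y, V)) :
    f.app W (Y.presheaf.map (homOfLE h).op s) =
      X.presheaf.map (homOfLE (f.preimage_mono h)).op (f.app V s) := by
  have := congrArg (fun φ => φ s) (congrArg (fun φ : _ ⟶ _ => (φ : _ → _)) (f.naturality (homOfLE h).op))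
  exact this

/-- `f_* O_X = O_Y` may be checked on the members of a basis. -/
theorem isIso_app_of_isBasis {S : Set Y.Opens} (hS : Opens.IsBasis S) (h : ∀ V ∈ S, IsIso (f.app V))
    (V : Y.Opens) : IsIso (f.app V) := by
  have hinj : ∀ V : Y.Opens, Function.Injective (f.app V) := by
    intro V s t hst
    refine Y.sheaf.eq_of_locally_eq' (fun W : {W ∈ S | W ≤ V} => W.1) V (fun W => homOfLE W.2.2) ?_ s t fun W => ?_
    · intro y hy
      obtain ⟨W, hWS, hyW, hWV⟩ := Opens.isBasis_iff_nbhd.1 hS hy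
      exact Opens.mem_iSup.2 ⟨⟨W, hWS, hWV⟩, hyW⟩
    · have := h W.1 W.2.1
      refine (ConcreteCategory.bijective_of_isIso (f.app W.1)).1 ?_
      exact (app_res f W.2.2 s).trans ((congrArg _ hst).trans (app_res f W.2.2 t).symm)
  refine (ConcreteCategory.isIso_iff_bijective _).2 ⟨hinj V, fun t => ?_⟩
  have hex : ∀ W : {W ∈ S | W ≤ V}, ∃ s : Γ(Y, W.1),
      f.app W.1 s = X.presheaf.map (homOfLE (f.preimage_mono W.2.2)).op t := fun W =>
    have := h W.1 W.2.1
    (ConcreteCategory.bijective_of_isIso (f.app W.1)).2 _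
  choose s hs using hex
  have hcompat : TopCat.Presheaf.IsCompatible Y.presheaf (fun W : {W ∈ S | W ≤ V} => W.1) s := by
    intro W W'
    refine hinj _ ?_
    have e1 := app_res f (inf_le_left : W.1 ⊓ W'.1 ≤ W.1) (s W)
    have e2 := app_res f (inf_le_right : W.1 ⊓ W'.1 ≤ W'.1) (s W')
    rw [hs, res_res] at e1 e2
    exact e1.trans e2.symm
  obtain ⟨r, hr, -⟩ := Y.sheaf.existsUnique_gluing' _ V (fun W => homOfLE W.2.2) (fun y hy => by
    obtain ⟨W, hWS, hyW, hWV⟩ := Opens.isBasis_iff_nbhd.1 hS hy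
    exact Opens.mem_iSup.2 ⟨⟨W, hWS, hWV⟩, hyW⟩) s hcompat
  refine ⟨r, X.sheaf.eq_of_locally_eq' (fun W : {W ∈ S | W ≤ V} => f ⁻¹ᵁ W.1) (f ⁻¹ᵁ V)
    (fun W => homOfLE (f.preimage_mono W.2.2)) ?_ _ _ fun W => ?_⟩
  · intro x hx
    obtain ⟨W, hWS, hyW, hWV⟩ := Opens.isBasis_iff_nbhd.1 hS hx
    exact Opens.mem_iSup.2 ⟨⟨W, hWS, hWV⟩, hyW⟩
  · exact (app_res f W.2.2 r).symm.trans ((congrArg _ (hr W)).trans (hs W))

variable {X' Y' : Scheme.{u}} {f' : X' ⟶ Y'} {g : Y' ⟶ Y} {g' : X' ⟶ X}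

/-- `f_* O_X = O_Y` is stable under flat base change, for `f` quasi-compact and quasi-separated. -/
theorem isIso_app_baseChange [QuasiCompact f] [QuasiSeparated f] [Flat g] (H : IsPullback g' f' f g)
    (h : ∀ V : Y.Opens, IsIso (f.app V)) (V' : Y'.Opens) : IsIso (f'.app V') := by
  refine isIso_app_of_isBasis f' (S := {W | IsAffineOpen W ∧ ∃ V : Y.Opens, IsAffineOpen V ∧ W ≤ g ⁻¹ᵁ V}) ?_ ?_ V'
  · rw [Opens.isBasis_iff_nbhd]
    intro U x hx
    obtain ⟨V, hV, hgV, -⟩ := exists_isAffineOpen_mem_and_subset (U := (⊤ : Y.Opens)) (x := g x) trivial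
    obtain ⟨W, hW, hxW, hWU⟩ := exists_isAffineOpen_mem_and_subset (U := U ⊓ g ⁻¹ᵁ V) (x := x) ⟨hx, hgV⟩
    exact ⟨W, ⟨hW, V, hV, fun z hz => (hWU hz).2⟩, hxW, fun z hz => (hWU hz).1⟩
  · rintro W ⟨hW, V, hV, hWV⟩
    have hle : f' ⁻¹ᵁ W ≤ g' ⁻¹ᵁ (f ⁻¹ᵁ V) := fun z hz => by
      show f (g' z) ∈ V
      rw [← Scheme.Hom.comp_apply, H.w, Scheme.Hom.comp_apply]
      exact hWV hz
    have hc : IsCompact ((f ⁻¹ᵁ V : X.Opens) : Set X) := f.isCompact_preimage hV.isCompact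
    have hq : IsQuasiSeparated ((f ⁻¹ᵁ V : X.Opens) : Set X) := by
      rw [isQuasiSeparated_iff_quasiSeparatedSpace _ (f ⁻¹ᵁ V).isOpen]
      have : IsAffine V.toScheme := hV
      exact quasiSeparatedSpace_of_quasiSeparated (f ∣_ V)
    have hP := (isIso_pushoutSection_iff H hWV (UX := f ⁻¹ᵁ V) le_rfl (UY := f' ⁻¹ᵁ W)
      (by rw [inf_eq_right.2 hle])).1
      (isIso_pushoutSection_of_isQuasiSeparated_of_flat_right H hWV le_rfl _ hV hW hc hq)
    have : IsIso (f.appLE V (f ⁻¹ᵁ V) le_rfl) := by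
      rw [← Scheme.Hom.app_eq_appLE]
      exact h V
    rw [Scheme.Hom.app_eq_appLE]
    exact hP.isIso_inr_of_isIso

/-- Sections over `Spec` of a field extension are flat. -/
theorem flat_of_field {k K : Type u} [Field k] [Field K] (y : Spec (CommRingCat.of K) ⟶ Spec (CommRingCat.of k)) :
    Flat y := by
  obtain ⟨φ, rfl⟩ := Spec.map_surjective y
  rw [HasRingHomProperty.Spec_iff (P := @Flat)]
  let := φ.hom.toAlgebra
  exact (inferInstance : Module.Flat k K)

end Groth.Agent.Var76.FibBC
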