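import Groth.Agent.Var76.OmegaSmooth
import Groth.Agent.Var76.RegKaehler
import Groth.Agent.Var76.RegSmooth
import Groth.Agent.Props58.LocFree.Basis
import Groth.Agent.WC97.Dim

/-! Local freeness of differentials and regularity. -/

universe u

open CategoryTheory CategoryTheory.Limits AlgebraicGeometry TopologicalSpace
open scoped TensorProduct

set_option backward.isDefEq.respectTransparency false

namespace Groth.Agent.Var76.OmegaRegular

variable {X : Scheme.{u}}

/-- Sections of a free module over affine opens inside. -/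
theorem sections_free {M : X.Modules} {U : X.Opens} {n : ℕ} (i : M.restrict U.ι ≅ FlatMod.freeMod (↑U) n)
    {W : X.Opens} (h : W ≤ U) : Nonempty ((Fin n → Γ(X, W)) ≃ₗ[Γ(X, W)] Γ(M, W)) := by
  classical
  obtain ⟨s, hs⟩ := Props58.LocFree.exists_stalkBasis_of_iso i
  refine ⟨LinearEquiv.ofBijective (Fintype.linearCombination Γ(X, W) fun t => QC70.res M h (s t)) ?_⟩
  convert hs.bijective h using 1
  funext a
  simp [Fintype.linearCombination_apply]

theorem isFinLocFreeOfRank_of_iso {M N : X.Modules} {n : ℕ} (e : M ≅ N)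
    (h : FlatMod.IsFinLocFreeOfRank n M) : FlatMod.IsFinLocFreeOfRank n N := fun x => by
  obtain ⟨U, hx, ⟨i⟩⟩ := h x
  exact ⟨U, hx, ⟨(Scheme.Modules.restrictFunctor U.ι).mapIso e.symm ≪≫ i⟩⟩

theorem isFinLocFree_of_iso {M N : X.Modules} (e : M ≅ N)
    (h : FlatMod.IsFinLocFree M) : FlatMod.IsFinLocFree N := fun x => by
  obtain ⟨U, m, hx, ⟨i⟩⟩ := h x
  exact ⟨U, m, hx, ⟨(Scheme.Modules.restrictFunctor U.ι).mapIso e.symm ≪≫ i⟩⟩

/-- Regularity of an affine chart through the stalks. -/
theorem regular_stalk_iff {W : X.Opens} (hW : IsAffineOpen W) {x : X} (hx : x ∈ W) :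
    IsRegularLocalRing (X.presheaf.stalk x) ↔
      IsRegularLocalRing (Localization.AtPrime (hW.primeIdealOf ⟨x, hx⟩).asIdeal) := by
  let p := (hW.primeIdealOf ⟨x, hx⟩).asIdeal
  let : Algebra Γ(X, W) (X.presheaf.stalk x) := (X.presheaf.germ W x hx).hom.toAlgebra
  have : IsLocalization.AtPrime (X.presheaf.stalk x) p := hW.isLocalization_stalk ⟨x, hx⟩
  let e : Localization.AtPrime p ≃+* X.presheaf.stalk x :=
    (IsLocalization.algEquiv p.primeCompl _ _).toRingEquiv
  exact ⟨fun h => @IsRegularLocalRing.of_ringEquiv _ _ h _ _ e.symm,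
    fun h => @IsRegularLocalRing.of_ringEquiv _ _ h _ _ e⟩

theorem regular_chart {W : X.Opens} (hW : IsAffineOpen W) [IsNoetherianRing Γ(X, W)]
    (h : ∀ x : X, IsRegularLocalRing (X.presheaf.stalk x)) : IsRegularRing Γ(X, W) := by
  refine isRegularRing_iff.2 fun p _ => ?_
  let z : PrimeSpectrum Γ(X, W) := ⟨p, ‹_›⟩
  have hz : hW.fromSpec z ∈ W := hW.range_fromSpec.le ⟨z, rfl⟩
  have heq : hW.primeIdealOf ⟨hW.fromSpec z, hz⟩ = z :=
    hW.fromSpec.isOpenEmbedding.injective (hW.fromSpec_primeIdealOf ⟨_, hz⟩)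
  have h2 := (regular_stalk_iff hW hz).1 (h _)
  rwa [heq] at h2

variable {k : Type u} [Field k] [X.Over (Spec (CommRingCat.of k))]
  [LocallyOfFiniteType (X ↘ Spec (CommRingCat.of k))] [IrreducibleSpace X]

/-- Irreducible chart. -/
theorem nilradical_isPrime {W : X.Opens} (hW : IsAffineOpen W) [Nonempty W] :
    (nilradical Γ(X, W)).IsPrime := by
  rw [← PrimeSpectrum.irreducibleSpace_iff_isPrime_nilradical]
  have hW' : IsIrreducible (W : Set X) :=
    ⟨⟨(Classical.arbitrary W).1, (Classical.arbitrary W).2⟩,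
      (PreirreducibleSpace.isPreirreducible_univ (X := X)).open_subset W.2 (Set.subset_univ _)⟩
  have : IrreducibleSpace W := by
    refine @IrreducibleSpace.mk _ _ ?_ ⟨Classical.arbitrary W⟩
    exact (Subtype.preirreducibleSpace hW'.isPreirreducible)
  have h : IsIrreducible (Set.range (hW.isoSpec.hom : W.toScheme → Spec Γ(X, W))) := by
    rw [← Set.image_univ]
    exact (IrreducibleSpace.isIrreducible_univ _).image _ hW.isoSpec.hom.continuous.continuousOn
  rw [Set.range_eq_univ.2 (show Function.Surjective (hW.isoSpec.hom : W.toScheme → Spec Γ(X, W)) from hW.isoSpec.hom.homeomorph.surjective)] at h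
  exact @IrreducibleSpace.mk _ _ ⟨h.isPreirreducible⟩ ⟨h.nonempty.some⟩

include k in
theorem ringKrullDim_chart {W : X.Opens} (hW : IsAffineOpen W) [Nonempty W] (n : ℕ)
    (hn : topologicalKrullDim X = n) : ringKrullDim Γ(X, W) = n := by
  let qX := X ↘ Spec (CommRingCat.of k)
  have hη : genericPoint X ∈ W := (genericPoint_spec X).mem_open_set_iff W.2 |>.2
    ⟨(Classical.arbitrary W).1, Set.mem_univ _, (Classical.arbitrary W).2⟩
  have h1 := WC97.ringKrullDim_quotient qX hW hη
  rw [← (WC97.dim_eq qX).1, hn] at h1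
  let p := (hW.primeIdealOf ⟨genericPoint X, hη⟩).asIdeal
  have hle : ∀ q : PrimeSpectrum Γ(X, W), p ≤ q.asIdeal := by
    intro q
    let q' : ↥(Spec Γ(X, W)) := q
    have hsp : hW.fromSpec (hW.primeIdealOf ⟨genericPoint X, hη⟩) ⤳ hW.fromSpec q' := by
      rw [hW.fromSpec_primeIdealOf ⟨genericPoint X, hη⟩]
      exact (genericPoint_spec X).specializes trivial
    exact (PrimeSpectrum.le_iff_specializes _ q).2 (hW.fromSpec.isOpenEmbedding.isInducing.specializes_iff.1 hsp)
  have hz : PrimeSpectrum.zeroLocus (p : Set Γ(X, W)) = Set.univ := Set.eq_univ_of_forall fun q => hle q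
  rw [← h1]
  show _ = ringKrullDim (Γ(X, W) ⧸ p)
  rw [ringKrullDim_quotient, hz]
  exact (Order.krullDim_eq_of_orderIso OrderIso.Set.univ).symm

variable [IsAlgClosed k] [QuasiSeparated (X ↘ Spec (CommRingCat.of k))]

theorem omega_chart {W : X.Opens} (hW : IsAffineOpen W) :
    letI := (BertiniScheme.const (k := k) X W).toAlgebra
    Nonempty (Ω[Γ(X, W)⁄k] ≃ₗ[Γ(X, W)] Γ(Omega.sheaf (X ↘ Spec (CommRingCat.of k)), W)) := by
  let q := X ↘ Spec (CommRingCat.of k)
  let R := CommRingCat.of k
  let : Algebra k Γ(X, W) := (BertiniScheme.const (k := k) X W).toAlgebra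
  let : Algebra Γ(Spec R, ⊤) Γ(X, W) := (q.appLE ⊤ W le_top).hom.toAlgebra
  let : Algebra k Γ(Spec R, ⊤) := (Scheme.ΓSpecIso R).inv.hom.toAlgebra
  have : IsScalarTower k Γ(Spec R, ⊤) Γ(X, W) := IsScalarTower.of_algebraMap_eq fun r => rfl
  obtain ⟨j⟩ := OmegaSmooth.exists_equiv q hW (isAffineOpen_top (Spec R)) (le_top : W ≤ q ⁻¹ᵁ ⊤)
  let m := KaehlerDifferential.map k Γ(Spec R, ⊤) Γ(X, W) Γ(X, W)
  have hm : Function.Bijective m := by
    refine ⟨?_, KaehlerDifferential.map_surjective _ _ _⟩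
    rw [injective_iff_map_eq_zero]
    intro z hz
    obtain ⟨w, rfl⟩ := (KaehlerDifferential.exact_mapBaseChange_map k Γ(Spec R, ⊤) Γ(X, W) z).1 hz
    have : Subsingleton Ω[Γ(Spec R, ⊤)⁄k] := by
      have := Algebra.FormallyUnramified.of_surjective (Algebra.ofId k Γ(Spec R, ⊤))
        (ConcreteCategory.bijective_of_isIso (Scheme.ΓSpecIso R).inv).2
      exact (Algebra.formallyUnramified_iff _ _).1 this
    rw [Subsingleton.elim w 0, map_zero]
  exact ⟨LinearEquiv.ofBijective m hm ≪≫ₗ j⟩

theorem finrank_kappa_of_free {A : Type u} [CommRing A] [Algebra k A] [Algebra.FiniteType k A]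
    {m : ℕ} (e : (Fin m → A) ≃ₗ[A] Ω[A⁄k]) (M : Ideal A) [M.IsMaximal] :
    Module.finrank (A ⧸ M) M.Cotangent = m := by
  let _ : Field (A ⧸ M) := Ideal.Quotient.field M
  have : Module.Free A Ω[A⁄k] := Module.Free.of_equiv e
  have : Nontrivial A := (Ideal.Quotient.mk M).domain_nontrivial
  rw [← Groth.Agent.S9414.result k A M, Module.finrank_baseChange, ← e.finrank_eq, Module.finrank_fin_fun]

/-- Differentials free of rank the dimension iff all local rings are regular. -/
theorem main (n : ℕ) (hn : topologicalKrullDim X = n) :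
    FlatMod.IsFinLocFreeOfRank n (Omega.sheaf (X ↘ Spec (CommRingCat.of k))) ↔
      ∀ x : X, IsRegularLocalRing (X.presheaf.stalk x) := by
  let q := X ↘ Spec (CommRingCat.of k)
  constructor
  · intro h x
    obtain ⟨U, hxU, ⟨i⟩⟩ := h x
    obtain ⟨_, ⟨W, hW, rfl⟩, hxW, hWle⟩ := X.isBasis_affineOpens.exists_subset_of_mem_open hxU U.2
    have : Nonempty W := ⟨⟨x, hxW⟩⟩
    let : Algebra k Γ(X, W) := (BertiniScheme.const (k := k) X W).toAlgebra
    have : Algebra.FiniteType k Γ(X, W) := VarDim.finiteType_const (k := k) hW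
    obtain ⟨j⟩ := omega_chart (k := k) hW
    obtain ⟨b⟩ := sections_free i (W := W) hWle
    have hreg := RegKaehler.regular_of_finrank_le (k := k) (nilradical_isPrime hW) n
      (ringKrullDim_chart (k := k) hW n hn) fun M _ => (finrank_kappa_of_free (b ≪≫ₗ j.symm) M).le
    exact (regular_stalk_iff hW hxW).2
      (IsRegularRing.isRegularLocalRing_localization (hW.primeIdealOf ⟨x, hxW⟩).asIdeal)
  · intro h x
    obtain ⟨_, ⟨W, hW, rfl⟩, hxW, -⟩ := X.isBasis_affineOpens.exists_subset_of_mem_open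
      (show x ∈ (⊤ : X.Opens) from trivial) (⊤ : X.Opens).isOpen
    have : Nonempty W := ⟨⟨x, hxW⟩⟩
    let : Algebra k Γ(X, W) := (BertiniScheme.const (k := k) X W).toAlgebra
    have : Algebra.FiniteType k Γ(X, W) := VarDim.finiteType_const (k := k) hW
    have : IsNoetherianRing Γ(X, W) := Algebra.FiniteType.isNoetherianRing k _
    have : IsRegularRing Γ(X, W) := regular_chart hW h
    have : IsDomain Γ(X, W) := RegKaehler.isDomain_of_regular (nilradical_isPrime hW)
    have : Algebra.Smooth k Γ(X, W) := RegSmooth.smooth_of_regular fun M _ =>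
      IsRegularRing.isRegularLocalRing_localization M
    have hd : Algebra.trdeg k Γ(X, W) = (n : Cardinal.{u}) := by
      have h2 := E4O.ringKrullDim_eq_trdeg k Γ(X, W)
      rw [ringKrullDim_chart (k := k) hW n hn] at h2
      have h3 : Cardinal.toNat (Algebra.trdeg k Γ(X, W)) = n := by exact_mod_cast h2.symm
      rw [← h3, Cardinal.cast_toNat_of_lt_aleph0 (trdeg_lt_aleph0_of_finiteType (R := k) (S := Γ(X, W)))]
    obtain ⟨j⟩ := omega_chart (k := k) hW
    have : (Omega.sheaf q).IsQuasicoherent := Omega57.isQuasicoherent_omega q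
    let _ := (Omega.sheaf q)
    have : Module.Projective Γ(X, W) Γ(Omega.sheaf q, W) := Module.Projective.of_equiv j
    have : Module.Finite Γ(X, W) Γ(Omega.sheaf q, W) := Module.Finite.equiv j
    let P := (hW.primeIdealOf ⟨x, hxW⟩).asIdeal
    haveI : Module.FinitePresentation Γ(X, W) Γ(Omega.sheaf q, W) := Module.finitePresentation_of_projective _ _
    haveI : Module.Free (Localization.AtPrime P) (LocalizedModule P.primeCompl Γ(Omega.sheaf q, W)) :=
      Module.free_of_flat_of_isLocalRing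
    obtain ⟨r, hr, hfree, -⟩ := Module.FinitePresentation.exists_free_localizedModule_powers
      P.primeCompl (LocalizedModule.mkLinearMap P.primeCompl Γ(Omega.sheaf q, W)) (Localization.AtPrime P)
    haveI := hfree
    obtain ⟨hfr, hfi⟩ := FlatMor68.LocFree.free_basicOpen (Omega.sheaf q) hW r
    let W' := X.basicOpen r
    have hxW' : x ∈ W' := by
      show x ∈ X.basicOpen r
      have hr' : hW.primeIdealOf ⟨x, hxW⟩ ∈ PrimeSpectrum.basicOpen r := hr
      rw [← hW.fromSpec_preimage_basicOpen r] at hr'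
      have := hW.fromSpec_primeIdealOf ⟨x, hxW⟩
      change hW.fromSpec (hW.primeIdealOf ⟨x, hxW⟩) ∈ X.basicOpen r at hr'
      rwa [this] at hr'
    have hW' : IsAffineOpen W' := hW.basicOpen r
    have : Nonempty W' := ⟨⟨x, hxW'⟩⟩
    let : Algebra k Γ(X, W') := (BertiniScheme.const (k := k) X W').toAlgebra
    have : Algebra.FiniteType k Γ(X, W') := VarDim.finiteType_const (k := k) hW'
    have : IsNoetherianRing Γ(X, W') := Algebra.FiniteType.isNoetherianRing k _
    have : IsRegularRing Γ(X, W') := regular_chart hW' h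
    have : IsDomain Γ(X, W') := RegKaehler.isDomain_of_regular (nilradical_isPrime hW')
    have : Algebra.Smooth k Γ(X, W') := RegSmooth.smooth_of_regular fun M _ =>
      IsRegularRing.isRegularLocalRing_localization M
    have hd' : Algebra.trdeg k Γ(X, W') = (n : Cardinal.{u}) := by
      have h2 := E4O.ringKrullDim_eq_trdeg k Γ(X, W')
      rw [ringKrullDim_chart (k := k) hW' n hn] at h2
      have h3 : Cardinal.toNat (Algebra.trdeg k Γ(X, W')) = n := by exact_mod_cast h2.symm
      rw [← h3, Cardinal.cast_toNat_of_lt_aleph0 (trdeg_lt_aleph0_of_finiteType (R := k) (S := Γ(X, W')))]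
    obtain ⟨j'⟩ := omega_chart (k := k) hW'
    haveI := hfr; haveI := hfi
    have : Module.Free Γ(X, W') Ω[Γ(X, W')⁄k] := Module.Free.of_equiv j'.symm
    have hrk : Module.finrank Γ(X, W') Γ(Omega.sheaf q, W') = n := by
      rw [← j'.finrank_eq, ← Module.finrank_baseChange (R := FractionRing Γ(X, W')),
        OmegaSmooth.finrank_generic k n hd']
    exact ⟨W', hxW', FlatMor68.LocFree.restrict_iso_free (Omega.sheaf q) hW' n
      (Module.finBasisOfFinrankEq _ _ hrk).equivFun⟩

end Groth.Agent.Var76.OmegaRegular
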