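import Groth.Agent.Var76.RelDim
import Groth.Agent.Omega57.Sect
import Groth.Agent.Omega57.StalkZero
import Groth.Agent.FlatMor68.LocFree
import Mathlib.RingTheory.Spectrum.Prime.FreeLocus

/-! Smoothness of morphisms of smooth varieties through the sheaf of differentials. -/

universe u

open CategoryTheory CategoryTheory.Limits AlgebraicGeometry TopologicalSpace
open scoped TensorProduct
open KaehlerDifferential

set_option backward.isDefEq.respectTransparency false

namespace Groth.Agent.Var76.OmegaSmooth

theorem finrank_point {B L : Type u} [CommRing B] [IsDomain B] [Field L] [Algebra B L]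
    (P : Type u) [AddCommGroup P] [Module B P] [Module.Finite B P] [Module.Projective B P] :
    Module.finrank L (L ⊗[B] P) = Module.finrank (FractionRing B) (FractionRing B ⊗[B] P) := by
  have : Module.FinitePresentation B P := Module.finitePresentation_of_projective B P
  have h : ∀ (F : Type u) [Field F] [Algebra B F], Module.finrank F (F ⊗[B] P) =
      Module.rankAtStalk P ((⊥ : PrimeSpectrum F).comap (algebraMap B F)) := by
    intro F _ _
    rw [← Module.rankAtStalk_baseChange (S := F), Module.rankAtStalk_eq_finrank_of_free]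
    rfl
  rw [h, h]
  exact Module.isLocallyConstant_rankAtStalk.apply_eq_of_preconnectedSpace _ _

/-- The generic rank of the differentials of a smooth algebra is its dimension. -/
theorem finrank_generic (k : Type u) [Field k] [PerfectField k] {A : Type u} [CommRing A] [IsDomain A]
    [Algebra k A] [Algebra.Smooth k A] (d : ℕ) (hd : Algebra.trdeg k A = (d : Cardinal.{u})) :
    Module.finrank (FractionRing A) (FractionRing A ⊗[A] Ω[A⁄k]) = d := by
  let L := FractionRing A
  have : Algebra.FormallyEtale A L := Algebra.FormallyEtale.of_isLocalization (nonZeroDivisors A)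
  have : Algebra.FormallySmooth k L := Algebra.FormallySmooth.comp k A L
  have : Algebra.EssFiniteType k L :=
    have : Algebra.EssFiniteType A L := Algebra.EssFiniteType.of_isLocalization _ (nonZeroDivisors A)
    Algebra.EssFiniteType.comp k A L
  obtain ⟨-, hfin, hc⟩ := Sep12.cartier (k := k) (K := L)
  have h0 : Module.finrank L (Algebra.H1Cotangent k L) = 0 := Module.finrank_zero_of_subsingleton
  rw [h0, Nat.cast_zero, sub_zero, Nat.cast_inj] at hc
  have : FaithfulSMul A L := (faithfulSMul_iff_algebraMap_injective _ _).2 (IsFractionRing.injective _ _)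
  have : Algebra.IsAlgebraic A L := IsLocalization.isAlgebraic _ (nonZeroDivisors A)
  have hL : Algebra.trdeg k L = (d : Cardinal.{u}) := by
    rw [← trdeg_add_eq k A (A := L), trdeg_eq_zero (R := A), add_zero, hd]
  rw [hL, Cardinal.toNat_natCast] at hc
  rw [← hc]
  exact (tensorKaehlerEquivOfFormallyEtale k A L).finrank_eq

/-- A morphism of smooth varieties with free differentials of the expected rank is smooth. -/
theorem smooth_of_free (k : Type u) [Field k] [PerfectField k] {B A : Type u} [CommRing B] [IsDomain B]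
    [CommRing A] [IsDomain A] [Algebra k B] [Algebra k A] [Algebra B A] [IsScalarTower k B A]
    [Algebra.Smooth k B] [Algebra.Smooth k A] (dY n : ℕ) (hB : Algebra.trdeg k B = (dY : Cardinal.{u}))
    (hA : Algebra.trdeg k A = ((dY + n : ℕ) : Cardinal.{u})) [Module.Free A Ω[A⁄B]]
    (hn : Module.finrank A Ω[A⁄B] = n) : Algebra.Smooth B A := by
  have : Algebra.FiniteType B A := Algebra.FiniteType.of_restrictScalars_finiteType k B A
  have : IsNoetherianRing B := Algebra.FiniteType.isNoetherianRing k B
  have : Algebra.FinitePresentation B A := Algebra.FinitePresentation.of_finiteType.1 ‹_›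
  let L := FractionRing A
  let g := mapBaseChange k B A
  obtain ⟨s, hs⟩ := Module.projective_lifting_property (map k B A A) LinearMap.id (map_surjective k B A)
  let φ : (A ⊗[B] Ω[B⁄k]) × Ω[A⁄B] →ₗ[A] Ω[A⁄k] := g.coprod s
  have hφ : Function.Surjective φ := by
    intro y
    obtain ⟨x, hx⟩ := (exact_mapBaseChange_map k B A (y - s (map k B A A y))).1 (by
      rw [map_sub, sub_eq_zero]; exact (LinearMap.congr_fun hs _).symm)
    exact ⟨(x, map k B A A y), by simp only [φ, g, LinearMap.coprod_apply, hx, sub_add_cancel]⟩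
  let ψ := φ.baseChange L
  have hψ : Function.Surjective ψ := LinearMap.lTensor_surjective L hφ
  have hdim : Module.finrank L (L ⊗[A] ((A ⊗[B] Ω[B⁄k]) × Ω[A⁄B])) =
      Module.finrank L (L ⊗[A] Ω[A⁄k]) := by
    rw [(TensorProduct.prodRight A L L (A ⊗[B] Ω[B⁄k]) Ω[A⁄B]).finrank_eq, Module.finrank_prod,
      (TensorProduct.AlgebraTensorModule.cancelBaseChange B A L L Ω[B⁄k]).finrank_eq,
      finrank_point (B := B) (L := L) Ω[B⁄k], finrank_generic k dY hB, finrank_generic k (dY + n) hA,
      Module.finrank_baseChange, hn]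
  have hψi : Function.Injective ψ := by
    refine (LinearMap.injective_iff_surjective_of_finrank_eq_finrank hdim).2 hψ
  have hinj : Function.Injective g := by
    rw [injective_iff_map_eq_zero]
    intro x hx
    have h1 : (1 : L) ⊗ₜ[A] ((x, 0) : (A ⊗[B] Ω[B⁄k]) × Ω[A⁄B]) = 0 := hψi (by
      simp only [ψ, LinearMap.baseChange_tmul, map_zero, φ, LinearMap.coprod_apply, hx, add_zero,
        TensorProduct.tmul_zero])
    have h2 := Module.Flat.rTensor_preserves_injective_linearMap
      (M := (A ⊗[B] Ω[B⁄k]) × Ω[A⁄B]) (Algebra.linearMap A L) (IsFractionRing.injective A L)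
    have h3 : (1 : A) ⊗ₜ[A] ((x, 0) : (A ⊗[B] Ω[B⁄k]) × Ω[A⁄B]) = 0 := h2 (by
      rw [LinearMap.rTensor_tmul, map_zero]; simpa using h1)
    have h4 := congrArg (TensorProduct.lid A _) h3
    simp only [TensorProduct.lid_tmul, one_smul, map_zero] at h4
    exact congrArg Prod.fst h4
  have hH : Subsingleton (Algebra.H1Cotangent B A) := by
    refine ⟨fun a b => ?_⟩
    have h0 : ∀ c : Algebra.H1Cotangent B A, c = 0 := by
      intro c
      have hc : Algebra.H1Cotangent.δ k B A c = 0 := hinj (by
        rw [(Algebra.H1Cotangent.exact_δ_mapBaseChange k B A).apply_apply_eq_zero, map_zero])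
      obtain ⟨z, rfl⟩ := (Algebra.H1Cotangent.exact_map_δ k B A c).1 hc
      rw [Subsingleton.elim z 0, map_zero]
    rw [h0 a, h0 b]
  have : Algebra.FormallySmooth B A := ⟨inferInstance, hH⟩
  exact { }

section Scheme

variable {X Y : Scheme.{u}} (f : X ⟶ Y) [QuasiSeparated f]

/-- The sections of the differentials over an affine chart. -/
theorem exists_equiv {U : X.Opens} (hU : IsAffineOpen U) {V : Y.Opens} (hV : IsAffineOpen V)
    (h : U ≤ f ⁻¹ᵁ V) :
    letI := (f.appLE V U h).hom.toAlgebra
    Nonempty (Ω[Γ(X, U)⁄Γ(Y, V)] ≃ₗ[Γ(X, U)] Γ(Omega.sheaf f, U)) := by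
  have := Omega57.isIso_toSect f hU hV h
  exact ⟨(asIso (OmAff.toSect f V U h)).toLinearEquiv⟩

end Scheme

end Groth.Agent.Var76.OmegaSmooth
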