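import Groth.Agent.FF71.Classes
import Groth.Agent.QCqs72.Basic

/-! Linear comparison of cohomology along an affine morphism. -/

universe u

open CategoryTheory Limits AlgebraicGeometry TopologicalSpace Opposite

noncomputable section

set_option maxSynthPendingDepth 6
set_option backward.isDefEq.respectTransparency.types false

namespace Groth.Agent.Var76

open Coh69 CechComp71 QC70 FF71

variable {A : Type u} [CommRing A] {X S : Scheme.{u}} (f : X ⟶ S)

/-- The preimage cover. -/
abbrev preCover {ι : Type u} (U : ι → S.Opens) : ι → X.Opens := fun i => f ⁻¹ᵁ U i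

theorem cOpen_preCover {ι : Type u} (U : ι → S.Opens) {n : ℕ} (i : Fin n → ι) :
    cOpen (preCover f U) i = f ⁻¹ᵁ cOpen U i := by
  ext x
  exact (mem_cOpen _ i x).trans (mem_cOpen U i (f x)).symm

/-- Cochains of the direct image as cochains on the preimage cover. -/
def pushCoch {ι : Type u} (U : ι → S.Opens) (M : X.Modules) (p : ℕ) :
    Cochain U ((Coh.push f).obj M).presheaf p ≃+ Cochain (preCover f U) M.presheaf p where
  toFun c i := QC70.res M (cOpen_preCover f U i).le (c i)
  invFun c i := show Γ(M, f ⁻¹ᵁ cOpen U i) from QC70.res M (cOpen_preCover f U i).ge (c i)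
  left_inv c := funext fun i => (QC70.res_res _ _ _).trans (QC70.res_self _)
  right_inv c := funext fun i => (QC70.res_res _ _ _).trans (QC70.res_self _)
  map_add' c c' := funext fun i => map_add _ _ _

theorem pushCoch_cd {ι : Type u} (U : ι → S.Opens) (M : X.Modules) (p : ℕ)
    (c : Cochain U ((Coh.push f).obj M).presheaf p) :
    pushCoch f U M (p + 1) (cd U _ p c) = cd (preCover f U) M.presheaf p (pushCoch f U M p c) := by
  funext k
  show (M.presheaf.map (homOfLE (cOpen_preCover f U k).le).op).hom
      (∑ j : Fin (p + 2), (-1 : ℤ) ^ (j : ℕ) • (show Γ(M, f ⁻¹ᵁ cOpen U k) from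
        QC70.res ((Coh.push f).obj M) (cOpen_comp_le U k j.succAbove) (c (k ∘ j.succAbove)))) =
    ∑ j : Fin (p + 2), (-1 : ℤ) ^ (j : ℕ) • QC70.res M (cOpen_comp_le (preCover f U) k j.succAbove)
      (pushCoch f U M p c (k ∘ j.succAbove))
  refine (map_sum (M.presheaf.map (homOfLE (cOpen_preCover f U k).le).op).hom _ _).trans (Finset.sum_congr rfl fun j _ => ?_)
  refine (map_zsmul (M.presheaf.map (homOfLE (cOpen_preCover f U k).le).op).hom _ _).trans (congrArg _ ?_)
  exact (QC70.res_res _ _ _).trans (QC70.res_res (cOpen_preCover f U (k ∘ j.succAbove)).le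
    (cOpen_comp_le (preCover f U) k j.succAbove) _).symm

variable [X.Over (Spec (CommRingCat.of A))] [S.Over (Spec (CommRingCat.of A))]

theorem pushCoch_smul (hf : f ≫ (S ↘ Spec (CommRingCat.of A)) = X ↘ Spec (CommRingCat.of A))
    {ι : Type u} (U : ι → S.Opens) (M : X.Modules) (p : ℕ) (a : A)
    (c : Cochain U ((Coh.push f).obj M).presheaf p) :
    pushCoch f U M p (smulC U _ p a c) = smulC (preCover f U) M p a (pushCoch f U M p c) := by
  funext i
  show QC70.res M (cOpen_preCover f U i).le (f.app (cOpen U i) (rA A S (cOpen U i) a) • (show Γ(M, f ⁻¹ᵁ cOpen U i) from c i)) = rA A X (cOpen (preCover f U) i) a • QC70.res M (cOpen_preCover f U i).le (show Γ(M, f ⁻¹ᵁ cOpen U i) from c i)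
  refine (QC70.res_smul (M := M) _ (f.app (cOpen U i) (rA A S (cOpen U i) a)) _).trans (congrArg (· • _) ?_)
  have h1 : f.app (cOpen U i) (rA A S (cOpen U i) a) = rA A X (f ⁻¹ᵁ cOpen U i) a := by
    simp only [rA, RingHom.comp_apply]
    rw [← hf, Scheme.Hom.comp_appTop]
    exact ConcreteCategory.congr_hom (f.naturality (homOfLE (le_top : cOpen U i ≤ ⊤)).op)
      ((S ↘ Spec (CommRingCat.of A)).appTop ((Scheme.ΓSpecIso (CommRingCat.of A)).inv a))
  rw [h1, resO_rA]

/-- Cocycles of the direct image as cocycles on the preimage cover. -/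
def pushZ {ι : Type u} (U : ι → S.Opens) (M : X.Modules) (p : ℕ) :
    MZ U ((Coh.push f).obj M) p ≃+ MZ (preCover f U) M p where
  toFun z := ⟨pushCoch f U M p z.1,
    (pushCoch_cd f U M p z.1).symm.trans ((congrArg _ z.2).trans (map_zero _))⟩
  invFun z := ⟨(pushCoch f U M p).symm z.1, (pushCoch f U M (p + 1)).injective
    (((pushCoch_cd f U M p _).trans ((congrArg _ ((pushCoch f U M p).apply_symm_apply z.1)).trans z.2)).trans
      (map_zero _).symm)⟩
  left_inv z := Subtype.ext ((pushCoch f U M p).symm_apply_apply _)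
  right_inv z := Subtype.ext ((pushCoch f U M p).apply_symm_apply _)
  map_add' z z' := Subtype.ext (map_add (pushCoch f U M p) _ _)

/-- Cohomology of a direct image along an affine morphism, as modules over the base. -/
theorem nonempty_hhLin_push [IsAffineHom f] [IsProper (S ↘ Spec (CommRingCat.of A))]
    (hf : f ≫ (S ↘ Spec (CommRingCat.of A)) = X ↘ Spec (CommRingCat.of A))
    (M : X.Modules) [M.IsQuasicoherent] (hM : ((Coh.push f).obj M).IsQuasicoherent) (p : ℕ) :
    Nonempty (Coh.HH S ((Coh.push f).obj M) p ≃ₗ[A] Coh.HH X M p) := by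
  obtain ⟨ι, _, U, hU, hU'⟩ := FF71.exists_cover (A := A) (X := S)
  have hV : ⨆ i, preCover f U i = ⊤ := by
    rw [← Scheme.Hom.preimage_iSup, hU]; rfl
  have hacS : AcyclicOn U (Coh.toAb ((Coh.push f).obj M)) := acyclicOn_of_isAffineOpen _ _ hU'
  have hacX : AcyclicOn (preCover f U) (Coh.toAb M) := acyclicOn_of_isAffineOpen _ _ fun n i => by
    rw [cOpen_preCover]
    exact (hU' n i).preimage f
  let θ : MZ U ((Coh.push f).obj M) p →+ Coh.HH X M p :=
    (toHH (preCover f U) hV M p).comp (pushZ f U M p).toAddMonoidHom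
  have hsurj : Function.Surjective θ := (toHH_surjective hV hacX p).comp (pushZ f U M p).surjective
  have hker : θ.ker = (toHH U hU ((Coh.push f).obj M) p).ker := by
    ext z
    rw [AddMonoidHom.mem_ker, AddMonoidHom.mem_ker]
    show toHH (preCover f U) hV M p (pushZ f U M p z) = 0 ↔ _
    cases p with
    | zero =>
      refine ((map_eq_zero_iff _ (toHH_zero_bijective _ hV M).1).trans ?_).trans
        (map_eq_zero_iff _ (toHH_zero_bijective _ hU _).1).symm
      exact (pushZ f U M 0).map_eq_zero_iff
    | succ q =>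
      rw [toHH_eq_zero_iff hV hacX, toHH_eq_zero_iff hU hacS]
      constructor
      · rintro ⟨r, hr⟩
        refine ⟨(pushCoch f U M q).symm r, (pushCoch f U M (q + 1)).injective ?_⟩
        exact (pushCoch_cd f U M q _).trans ((congrArg _ ((pushCoch f U M q).apply_symm_apply r)).trans hr)
      · rintro ⟨r, hr⟩
        exact ⟨pushCoch f U M q r, (pushCoch_cd f U M q r).symm.trans (congrArg _ hr)⟩
  let e₁ := QuotientAddGroup.quotientKerEquivOfSurjective _ (toHH_surjective hU hacS p)
  let e₂ := QuotientAddGroup.quotientKerEquivOfSurjective _ hsurj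
  let e := e₁.symm.trans ((QuotientAddGroup.quotientAddEquivOfEq hker.symm).trans e₂)
  have he : ∀ z, e (toHH U hU _ p z) = θ z := fun z => by
    have : e₁.symm (toHH U hU _ p z) = QuotientAddGroup.mk z := e₁.symm_apply_apply (QuotientAddGroup.mk z)
    show e₂ (QuotientAddGroup.quotientAddEquivOfEq hker.symm (e₁.symm _)) = _
    rw [this]
    rfl
  exact ⟨{ e with
    map_smul' := fun a x => by
      obtain ⟨z, rfl⟩ := toHH_surjective hU hacS p x
      change e (a • _) = a • e _
      rw [← toHH_smulZ, he, he]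
      show toHH _ hV M p (pushZ f U M p (smulZ A U _ p a z)) = a • toHH _ hV M p (pushZ f U M p z)
      rw [← toHH_smulZ]
      exact congrArg _ (Subtype.ext (pushCoch_smul f hf U M p a z.1)) }⟩

end Groth.Agent.Var76

end
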