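import Groth.Agent.Var76.AsympCompare
import Groth.Agent.QC70.UnitSub

/-! A coherent module on an integral scheme has the asymptotic cohomology of its generic rank. -/

set_option autoImplicit false
set_option backward.isDefEq.respectTransparency.types false
universe u

open CategoryTheory CategoryTheory.Limits AlgebraicGeometry TopologicalSpace Filter

noncomputable section

namespace Groth.Agent.Var76.Growth

theorem ext_comp_add.{w, v, v'} {C : Type v} [Category.{v'} C] [Abelian C] [HasExt.{w} C] {Z P Q : C} {n : ℕ}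
    (x : Abelian.Ext.{w} Z P n) (f g : P ⟶ Q) :
    Abelian.Ext.comp x (Abelian.Ext.mk₀ (f + g)) (add_zero n) =
      Abelian.Ext.comp x (Abelian.Ext.mk₀ f) (add_zero n) + Abelian.Ext.comp x (Abelian.Ext.mk₀ g) (add_zero n) := by
  rw [Abelian.Ext.mk₀_add, Abelian.Ext.comp_add]

variable (k : Type u) [Field k] {X : Scheme.{u}} [X.Over (Spec (CommRingCat.of k))]

theorem hmap_add' {M N : X.Modules} (φ ψ : M ⟶ N) (j : ℕ) (x : Coh.HH X M j) :
    Crv77.hmap k (φ + ψ) j x = Crv77.hmap k φ j x + Crv77.hmap k ψ j x := by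
  refine (congrArg (fun f => Abelian.Ext.comp x (Abelian.Ext.mk₀ f) (add_zero j))
    ((Crv77.toAbF X).map_add (f := φ) (g := ψ))).trans ?_
  exact ext_comp_add _ _ _

theorem hmap_sum {ι : Type} [Fintype ι] {M N : X.Modules} (φ : ι → (M ⟶ N)) (j : ℕ) (x : Coh.HH X M j) :
    Crv77.hmap k (∑ a, φ a) j x = ∑ a, Crv77.hmap k (φ a) j x :=
  map_sum (AddMonoidHom.mk' (fun f : M ⟶ N => Crv77.hmap k f j x) fun f g => hmap_add' k f g j x) φ
    Finset.univ

theorem hmap_zero' {M N : X.Modules} (j : ℕ) (x : Coh.HH X M j) :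
    Crv77.hmap k (0 : M ⟶ N) j x = 0 :=
  map_zero (AddMonoidHom.mk' (fun f : M ⟶ N => Crv77.hmap k f j x) fun f g => hmap_add' k f g j x)

/-- Cohomology of the image of a finite biproduct under an additive functor. -/
def hhBiproductEquiv {ι : Type} [Fintype ι] [DecidableEq ι] (T : X.Modules ⥤ X.Modules) [T.Additive]
    (f : ι → X.Modules) (i : ℕ) :
    Coh.HH X (T.obj (⨁ f)) i ≃ₗ[k] ((a : ι) → Coh.HH X (T.obj (f a)) i) :=
  LinearEquiv.ofLinearMap (LinearMap.pi fun a => Crv77.hmap k (T.map (biproduct.π f a)) i)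
    (∑ a, (Crv77.hmap k (T.map (biproduct.ι f a)) i).comp (LinearMap.proj a))
    (by
      refine LinearMap.ext fun v => funext fun b => ?_
      simp only [LinearMap.comp_apply, LinearMap.pi_apply, LinearMap.sum_apply, LinearMap.proj_apply,
        map_sum, LinearMap.id_apply, Crv77.hmap_comp, ← T.map_comp]
      rw [Finset.sum_eq_single b (fun a _ hab => by
        rw [biproduct.ι_π_ne f hab, T.map_zero, hmap_zero']) (fun h => absurd (Finset.mem_univ b) h),
        biproduct.ι_π_self, T.map_id, Crv77.hmap_id])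
    (by
      refine LinearMap.ext fun x => ?_
      simp only [LinearMap.comp_apply, LinearMap.pi_apply, LinearMap.sum_apply, LinearMap.proj_apply,
        LinearMap.id_apply, Crv77.hmap_comp, ← T.map_comp]
      rw [← hmap_sum, ← T.map_sum, biproduct.total, T.map_id, Crv77.hmap_id])

theorem hi_biproduct [IsProper (X ↘ (Spec (CommRingCat.of k)))] {L : X.Modules} (hL : PicF.IsInvertible L)
    {G : X.Modules} (hG : Coh.IsCoh G) (r i m : ℕ) :
    hi k i L (⨁ fun _ : Fin r => G) m = r * hi k i L G m := by
  have : (Crv77.twist (CohB1.tensorPow L m)).Additive :=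
    inferInstanceAs (Mod48.tR (O := X.sheaf) (CohB1.tensorPow L m)).Additive
  have : Module.Finite k (Coh.HH X ((Crv77.twist (CohB1.tensorPow L m)).obj G) i) :=
    finite_twist k hL hG i m
  have e := (hhBiproductEquiv k (Crv77.twist (CohB1.tensorPow L m)) (fun _ : Fin r => G) i).finrank_eq
  refine e.trans ?_
  rw [Module.finrank_pi_fintype, Finset.sum_const, Finset.card_univ, Fintype.card_fin, smul_eq_mul]
  rfl

variable [IsProper (X ↘ (Spec (CommRingCat.of k)))] [IsIntegral X] {L : X.Modules}
  (hL : PicF.IsInvertible L)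
include hL

omit hL [IsProper (X ↘ (Spec (CommRingCat.of k)))] in
theorem dim_support_lt [IsNoetherian X] {M : X.Modules} (hM : Coh.IsCoh M) {n : ℕ} (hn : topologicalKrullDim X ≤ (n : WithBot ℕ∞))
    (h : genericPoint X ∉ CohB1.support M) : topologicalKrullDim (CohB1.support M) < (n : WithBot ℕ∞) := by
  haveI := hM.2
  refine Snapper75.dim_lt_of_notMem (QC70.isClosed_support M) (y := genericPoint X) ?_ h ?_
  · rw [genericPoint_closure]
    exact Set.subset_univ _
  · exact lt_of_le_of_lt ((Topology.IsInducing.subtypeVal.topologicalKrullDim_le).trans hn)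
      (by exact_mod_cast Nat.lt_succ_self n)

/-- Modules with isomorphic generic stalks agree up to lower order terms. -/
theorem close_of_stalk_equiv {M F : X.Modules} (hM : Coh.IsCoh M) (hF : Coh.IsCoh F) {n : ℕ}
    (hn : topologicalKrullDim X ≤ (n : WithBot ℕ∞))
    (e : M.presheaf.stalk (genericPoint X) ≃ₗ[X.presheaf.stalk (genericPoint X)]
      F.presheaf.stalk (genericPoint X)) (i : ℕ) : CloseH (hi k i L M) (hi k i L F) n := by
  have := Crv77.isNoetherian_of_proper k X
  obtain ⟨J, ψ, hJ, hψm, hψb⟩ := QC70.exists_mono_iso_at hM hF (genericPoint X) e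
  haveI := hM.1
  have hJM := QC70.isCoh_idealMul J hM
  have hC : Coh.IsCoh (cokernel ψ) := QC70.isCoh_cokernel ψ hJM.1 hF
  have hS : (ShortComplex.mk ψ (cokernel.π ψ) (cokernel.condition ψ)).ShortExact :=
    ShortComplex.ShortExact.mk' (ShortComplex.exact_of_g_is_cokernel _ (cokernelIsCokernel _)) hψm
      (inferInstanceAs (Epi (cokernel.π ψ)))
  have h1 := close_left_mid k hL (S := ShortComplex.mk ψ (cokernel.π ψ) (cokernel.condition ψ)) hS hJM hF hC
    (dim_support_lt hC hn
      (QC70.notMem_support_iff.2 (QC70.subsingleton_stalk_cokernel ψ _ hψb.2))) i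
  have hQ : Coh.IsCoh (QC70.quotSC J M).X₃ := QC70.isCoh_quot J hM
  have h2 := close_left_mid k hL (QC70.quotSC_shortExact J M) hJM hM hQ
    (dim_support_lt hQ hn fun hy => hJ (QC70.support_quot_subset_right J M hy)) i
  exact h2.symm.trans h1

/-- A coherent module of generic rank `r` has `r` times the asymptotic cohomology. -/
theorem close_rank {F : X.Modules} (hF : Coh.IsCoh F) {n : ℕ} (hn : topologicalKrullDim X ≤ (n : WithBot ℕ∞))
    {r : ℕ} (hr : Module.finrank (X.presheaf.stalk (genericPoint X))
      (F.presheaf.stalk (genericPoint X)) = r) (i : ℕ) :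
    CloseH (hi k i L F) (fun m => r * hi k i L (Coh.structureModule X) m) n := by
  have := Crv77.isNoetherian_of_proper k X
  have hO : Coh.IsCoh (Coh.structureModule X) := QC70.isCoh_unit
  haveI := hF.1
  haveI := hF.2
  let K := X.presheaf.stalk (genericPoint X)
  letI : Field K := inferInstanceAs (Field X.functionField)
  haveI : Module.Finite K (F.presheaf.stalk (genericPoint X)) := QC70.finite_stalk F (genericPoint X)
  let b := Module.finBasisOfFinrankEq K (F.presheaf.stalk (genericPoint X)) hr
  let u : K ≃ₗ[K] (Coh.structureModule X).presheaf.stalk (genericPoint X) :=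
    QC70.unitStalkEquiv (genericPoint X)
  have e : (⨁ fun _ : Fin r => Coh.structureModule X).presheaf.stalk (genericPoint X) ≃ₗ[K]
      F.presheaf.stalk (genericPoint X) :=
    (QC70.biproductStalkEquiv (fun _ : Fin r => Coh.structureModule X) _).trans
      ((LinearEquiv.piCongrRight fun _ => u.symm).trans b.equivFun.symm)
  have hM : Coh.IsCoh (⨁ fun _ : Fin r => Coh.structureModule X) := QC70.isCoh_biproduct _ fun _ => hO
  exact (close_of_stalk_equiv k hL hM hF hn e i).symm.trans
    (CloseH.of_eq n fun m => hi_biproduct k hL hO r i m)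

end Groth.Agent.Var76.Growth

end
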