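import Groth.Agent.Var76.RegSys
import Groth.Agent.Var76.RegPres
import Groth.Agent.Omega57.Diag
import Groth.Agent.Curves2.IdealFrame
import Groth.Agent.Div89.Cartier
import Groth.Agent.Crv77.IdealSeq

/-! Powers of an ideal sheaf generated in degree `d` form a finitely generated system. -/

universe u

open CategoryTheory Limits AlgebraicGeometry TopologicalSpace Opposite MonoidalCategory GrTilde

noncomputable section

set_option maxSynthPendingDepth 6

namespace Groth.Agent.Var76.Reg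

open LineBundle

section General

theorem shfU_counit {C : Type u} [SmallCategory C] {J : GrothendieckTopology C} {O : Sheaf J CommRingCat.{u}}
    (M : ModSite.Mod O) {P : Mod48.PreM O} (f : P ⟶ Mod48.pre M) :
    Mod48.shfU P ≫ Mod48.fgt.map (Mod48.shf.map f ≫ Mod48.shfAdj.counit.app M) = f := by
  rw [Functor.map_comp, ← Category.assoc, ← Mod48.shfU_naturality, Category.assoc]
  exact (congrArg (_ ≫ ·) (Mod48.shfAdj.right_triangle_components M)).trans (Category.comp_id _)

variable {X : Scheme.{u}}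

theorem tensUnitLeft_tm (M : X.Modules) {U : X.Opens} (c : Γ(X, U)) (m : Γ(M, U)) :
    (EGA73.tensUnitLeft M).hom.app U (Amp73.tm (Coh.structureModule X) M c m) = c • m := by
  have h : Mod48.shfU (O := X.sheaf) (CohB1.tensorPre (Coh.structureModule X) M) ≫
      (Mod48.fgt (O := X.sheaf)).map (EGA73.tensUnitLeft M).hom =
      (λ_ (Mod48.pre (O := X.sheaf) M)).hom :=
    shfU_counit (O := X.sheaf) M (λ_ (Mod48.pre (O := X.sheaf) M)).hom
  exact ConcreteCategory.congr_hom (congrArg (fun φ => φ.app (op U)) h) (Mero90.tq c m)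

theorem whiskR_tm {F G : X.Modules} (φ : F ⟶ G) (L : X.Modules) {U : X.Opens} (m : Γ(F, U)) (n : Γ(L, U)) :
    (whiskR φ L).app U (Amp73.tm F L m n) = Amp73.tm G L (φ.app U m) n := by
  rw [Amp73.tm_eq, Amp73.tm_eq]
  have h := congrArg (fun f => f.app (op U)) (Mod48.shfU_naturality
    (MonoidalCategory.whiskerRight ((Mod48.fgt (O := X.sheaf)).map φ) (Mod48.pre (O := X.sheaf) L)))
  exact (ConcreteCategory.congr_hom h (Mero90.tq m n)).symm

/-- The inclusion of `I ⊗ L` into `L`. -/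
def idealInc (I : X.IdealSheafData) (L : X.Modules) : CohB1.tensorMod (ClSub.idealMod I) L ⟶ L :=
  whiskR (ClSub.idealModι I) L ≫ (EGA73.tensUnitLeft L).hom

theorem idealInc_tm (I : X.IdealSheafData) (L : X.Modules) {U : X.Opens} (a : Γ(ClSub.idealMod I, U))
    (e : Γ(L, U)) :
    (idealInc I L).app U (Amp73.tm _ L a e) = OmegaSh.idealSect I U a • e :=
  (congrArg ((EGA73.tensUnitLeft L).hom.app U) (whiskR_tm (ClSub.idealModι I) L a e)).trans
    (tensUnitLeft_tm L _ e)

theorem mono_idealInc (I : X.IdealSheafData) {L : X.Modules} (hL : PicF.IsInvertible L) : Mono (idealInc I L) := by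
  obtain ⟨w, hT⟩ := shortExact_whiskR hL (Crv77.idealSeq_shortExact I)
  have : Mono (whiskR (ClSub.idealModι I) L) := hT.mono_f
  exact mono_comp _ _

/-- The values of a finite free module. -/
theorem exists_sum_free {b : ℕ} {M : X.Modules} (p : FlatMod.freeMod X b ⟶ M) (U : X.Opens)
    (z : Γ(FlatMod.freeMod X b, U)) :
    ∃ c : Fin b → Γ(X, U), p.app U z = ∑ j, c j • res M (le_top : U ≤ ⊤)
      (p.app ⊤ ((Sigma.ι (fun _ : Fin b => Coh.structureModule X) j).app ⊤ (1 : Γ(X, ⊤)))) := by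
  classical
  let prj : ∀ j : Fin b, FlatMod.freeMod X b ⟶ Coh.structureModule X := fun j =>
    Sigma.desc (Function.update (fun _ => 0) j (𝟙 _))
  have htot : ∑ j, prj j ≫ Sigma.ι (fun _ : Fin b => Coh.structureModule X) j = 𝟙 _ := Sigma.hom_ext _ _ fun l => by
    rw [Preadditive.comp_sum, Category.comp_id, Finset.sum_eq_single l]
    · simp [prj]
    · intro j _ hj
      simp [prj, Function.update_of_ne (Ne.symm hj)]
    · simp
  refine ⟨fun j => (prj j).app U z, ?_⟩
  have h1 := Serre71.app_finset_sum Finset.univ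
    (fun j => (prj j ≫ Sigma.ι (fun _ : Fin b => Coh.structureModule X) j) ≫ p) U z
  rw [← Preadditive.sum_comp, htot, Category.id_comp] at h1
  rw [h1]
  refine Finset.sum_congr rfl fun j _ => ?_
  let c : Γ(X, U) := (prj j).app U z
  let f := Sigma.ι (fun _ : Fin b => Coh.structureModule X) j ≫ p
  show f.app U c = c • res M le_top (f.app ⊤ (1 : Γ(X, ⊤)))
  rw [show res M (le_top : U ≤ ⊤) (f.app ⊤ (1 : Γ(X, ⊤))) =
    f.app U (res (Coh.structureModule X) (le_top : U ≤ ⊤) (1 : Γ(X, ⊤))) from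
      (QC70.app_res f (le_top : U ≤ ⊤) _).symm]
  refine Eq.trans ?_ (Scheme.Modules.Hom.app_smul f c _)
  refine congrArg (f.app U) ?_
  show c = c * _
  rw [show res (Coh.structureModule X) (le_top : U ≤ ⊤) (1 : Γ(X, ⊤)) =
    X.presheaf.map (homOfLE (le_top : U ≤ ⊤)).op 1 from rfl, map_one, mul_one]

theorem unitHom_one {M : X.Modules} (φ : Coh.structureModule X ⟶ M) :
    EGA73.unitHom M (φ.app ⊤ (1 : Γ(X, ⊤))) = φ := by
  refine (unitHom_comp (1 : Γ(X, ⊤)) φ).symm.trans ?_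
  rw [show EGA73.unitHom (Coh.structureModule X) (1 : Γ(X, ⊤)) = 𝟙 _ from Scheme.Modules.hom_ext _ _ fun U => by
    ext c
    refine (EGA73.unitHom_app _ _ U c).trans ?_
    show (show Γ(X, U) from c) * X.presheaf.map (homOfLE (le_top : U ≤ ⊤)).op 1 = c
    rw [map_one, mul_one], Category.id_comp]

/-- A globally generated module with finite dimensional space of sections is a quotient of a finite free module. -/
theorem exists_freeMod_epi_of_gg {k : Type u} [Field k] [X.Over (Spec (CommRingCat.of k))] (M : X.Modules)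
    (h : Curv2.IsGloballyGenerated M) [Module.Finite k (Coh.HH X M 0)] :
    ∃ (b : ℕ) (p : FlatMod.freeMod X b ⟶ M), Epi p := by
  let v := Module.finBasis k (Coh.HH X M 0)
  let p : FlatMod.freeMod X (Module.finrank k (Coh.HH X M 0)) ⟶ M := Sigma.desc fun j => Crv77.toHom (v j)
  have hsurj : Function.Surjective (Crv77.hmap k p 0) := by
    intro x
    refine LinearMap.range_eq_top.1 (eq_top_iff.2 ?_) x
    rw [← v.span_eq, Submodule.span_le]
    rintro _ ⟨j, rfl⟩
    let one : Coh.HH X (Coh.structureModule X) 0 := (Crv77.sec (Coh.structureModule X)).symm (1 : Γ(X, ⊤))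
    refine ⟨Crv77.hmap k (Sigma.ι (fun _ : Fin (Module.finrank k (Coh.HH X M 0)) => Coh.structureModule X) j) 0 one,
      (Crv77.sec M).injective ?_⟩
    rw [Crv77.hmap_comp, show Sigma.ι _ j ≫ p = Crv77.toHom (v j) from Sigma.ι_desc _ _, Crv77.sec_hmap]
    exact (congrArg _ ((Crv77.sec (Coh.structureModule X)).apply_symm_apply _)).trans (Crv77.toHom_app_one (v j))
  obtain ⟨ι, q, hq⟩ := h
  have hfac : ∀ φ : Coh.structureModule X ⟶ M, ∃ a, a ≫ p = φ := fun φ => by
    obtain ⟨x, hx⟩ := (Crv77.sec M).surjective (φ.app ⊤ (1 : Γ(X, ⊤)))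
    obtain ⟨y, rfl⟩ := hsurj x
    refine ⟨EGA73.unitHom _ (Crv77.sec _ y), ?_⟩
    rw [unitHom_comp, ← Crv77.sec_hmap (A := k) p y, hx, unitHom_one]
  choose a ha using hfac
  let q' : (SheafOfModules.free ι : X.Modules) ⟶ FlatMod.freeMod X (Module.finrank k (Coh.HH X M 0)) :=
    Sigma.desc fun i : ι => a (Sigma.ι (fun _ : ι => Coh.structureModule X) i ≫ q)
  have : q' ≫ p = q := Sigma.hom_ext _ _ fun i => by
    refine (Sigma.ι_desc_assoc _ _ _).trans ?_
    exact ha _
  have : Epi (q' ≫ p) := this.symm ▸ hq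
  exact ⟨_, p, epi_of_epi q' p⟩

end General

section Mul

variable {R A : Type u} [CommRing R] [CommRing A] [Algebra R A] {𝒜 : ℕ → Submodule R A} [GradedAlgebra 𝒜]

/-- Multiplication of sections by a global section of a twisting sheaf. -/
def mulSecSect {b : ℤ} (s : Twist.sectN (𝒜 := 𝒜) b (op ⊤)) {a c : ℤ} (h : c = a + b)
    (U : (Opens (ProjectiveSpectrum.top 𝒜))ᵒᵖ) (t : Twist.sectN (𝒜 := 𝒜) a U) : Twist.sectN (𝒜 := 𝒜) c U :=
  EGA73.castTwist (show b + a = c by omega) (EGA73.ofTildeFun _ U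
    (EGA73.twistMul t (EGA73.toTildeFun b U (Twist.resN b (homOfLE (le_top (a := U.unop))).op s))))

theorem mulSecSect_apply {b : ℤ} (s : Twist.sectN (𝒜 := 𝒜) b (op ⊤)) {a c : ℤ} (h : c = a + b)
    (U : (Opens (ProjectiveSpectrum.top 𝒜))ᵒᵖ) (t : Twist.sectN (𝒜 := 𝒜) a U) (x : U.unop) :
    ((mulSecSect s h U t).1 x).1 = (t.1 x).1 * (s.1 ⟨x.1, trivial⟩).1 := by
  rw [mulSecSect, EGA73.castTwist_apply]
  rfl

/-- Multiplication by a global section of a twisting sheaf, on presheaves. -/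
def mulSecPre {b : ℤ} (s : Twist.sectN (𝒜 := 𝒜) b (op ⊤)) {a c : ℤ} (h : c = a + b) :
    Twist.twistPre 𝒜 a ⟶ Twist.twistPre 𝒜 c where
  app U := AddCommGrpCat.ofHom (AddMonoidHom.mk' (fun t => mulSecSect s h U t) fun t t' => sectN_ext fun x =>
    (mulSecSect_apply s h U (t + t') x).trans ((add_mul _ _ _).trans
      (congrArg₂ (· + ·) (mulSecSect_apply s h U t x).symm (mulSecSect_apply s h U t' x).symm)))
  naturality U V i := by
    ext t
    exact sectN_ext fun x => (mulSecSect_apply s h V _ x).trans (mulSecSect_apply s h U t (i.unop x)).symm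

/-- Multiplication by a global section of a twisting sheaf. -/
def mulSec {b : ℤ} (s : Twist.sectN (𝒜 := 𝒜) b (op ⊤)) {a c : ℤ} (h : c = a + b) :
    Twist.twist 𝒜 a ⟶ Twist.twist 𝒜 c :=
  ⟨PresheafOfModules.homMk (M₁ := (Twist.twist 𝒜 a).val) (M₂ := (Twist.twist 𝒜 c).val) (mulSecPre s h)
    fun U r t => sectN_ext fun x => (mulSecSect_apply s h U _ x).trans
      ((congrArg (· * _) (Twist.coe_smul_val a x.1 ((r : Twist.O (𝒜 := 𝒜) U).1 x)
        ((t : Twist.sectN (𝒜 := 𝒜) a U).1 x))).trans ((mul_assoc _ _ _).trans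
          ((congrArg (_ * ·) (mulSecSect_apply s h U t x).symm).trans
            (Twist.coe_smul_val c x.1 ((r : Twist.O (𝒜 := 𝒜) U).1 x) ((mulSecSect s h U t).1 x)).symm)))⟩

theorem mulSec_comm {b₁ b₂ : ℤ} (s : Twist.sectN (𝒜 := 𝒜) b₁ (op ⊤)) (s' : Twist.sectN (𝒜 := 𝒜) b₂ (op ⊤))
    {c d d' e : ℤ} (h₁ : d = c + b₁) (h₂ : e = d + b₂) (h₃ : d' = c + b₂) (h₄ : e = d' + b₁) :
    mulSec s h₁ ≫ mulSec s' h₂ = mulSec s' h₃ ≫ mulSec s h₄ := by
  refine Scheme.Modules.hom_ext _ _ fun U => ?_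
  ext t
  refine sectN_ext fun x => ?_
  refine (mulSecSect_apply s' h₂ (op U) _ x).trans ?_
  refine (congrArg (· * _) (mulSecSect_apply s h₁ (op U) t x)).trans ?_
  refine Eq.trans ?_ (mulSecSect_apply s h₄ (op U) _ x).symm
  refine Eq.trans ?_ (congrArg (· * _) (mulSecSect_apply s' h₃ (op U) t x)).symm
  ring

theorem gUnit_mul (g : 𝒜 1) (a b c : ℤ) (h : c = a + b) (x : ProjectiveSpectrum.basicOpen 𝒜 (g : A)) :
    (((gUnit g a).fwd.1 x).1 : Twist.Loc 𝒜 x.1) * ((gUnit g b).fwd.1 x).1 =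
      (((gUnit g c).fwd.1 x).1 : Twist.Loc 𝒜 x.1) := by
  show _ * _ = _
  simp only [gUnit]
  erw [EGA73.castTwist_apply, EGA73.castTwist_apply, EGA73.castTwist_apply]
  show (Localization.mk _ _ : Twist.Loc 𝒜 x.1) * Localization.mk _ _ = Localization.mk _ _
  rw [Localization.mk_mul, Localization.mk_eq_mk_iff, Localization.r_iff_exists]
  refine ⟨1, ?_⟩
  subst h
  simp only [OneMemClass.coe_one, one_mul, Submonoid.coe_mul, ← pow_add]
  congr 1
  omega

/-- The unit section `g ^ a` over an open inside `D₊(g)`. -/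
abbrev gSec (g : 𝒜 1) (a : ℤ) {V : (Proj 𝒜).Opens} (hV : V ≤ Proj.basicOpen 𝒜 (g : A)) :
    Γ(Twist.twist 𝒜 a, V) := res (Twist.twist 𝒜 a) hV (gUnit g a).fwd

theorem mulSec_gSec (g : 𝒜 1) {b : ℤ} (s : Twist.sectN (𝒜 := 𝒜) b (op ⊤)) {a c : ℤ} (h : c = a + b)
    {V : (Proj 𝒜).Opens} (hV : V ≤ Proj.basicOpen 𝒜 (g : A)) {β : Γ(Proj 𝒜, V)}
    (hs : res (Twist.twist 𝒜 b) (le_top : V ≤ ⊤) s = β • gSec g b hV) :
    (mulSec s h).app V (gSec g a hV) = β • gSec g c hV := by
  refine sectN_ext fun (x : V) => ?_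
  refine (mulSecSect_apply s h (op V) _ x).trans ?_
  have h1 := congrArg (fun q : Twist.sectN (𝒜 := 𝒜) b (op V) => (q.1 x).1) hs
  have h2 : (s.1 ⟨x.1, trivial⟩).1 = ((β : Twist.O (𝒜 := 𝒜) (op V)).1 x).val * ((gUnit g b).fwd.1 ⟨x.1, hV x.2⟩).1 :=
    h1.trans (Twist.coe_smul_val b x.1 _ _)
  refine (congrArg (_ * ·) h2).trans ?_
  refine Eq.trans ?_ (Twist.coe_smul_val c x.1 _ _).symm
  refine (mul_left_comm _ _ _).trans ?_
  exact congrArg (_ * ·) (gUnit_mul g a b c h ⟨x.1, hV x.2⟩)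

end Mul

section Sys

variable {n : ℕ} {k : Type u} [Field k] (I : (CohB1.ProjSpace n k).IdealSheafData) (d : ℤ)

/-- `I ^ p (d p)`. -/
abbrev powG (p : ℕ) : (CohB1.ProjSpace n k).Modules := tw n k (ClSub.idealMod (I ^ p)) (d * p)

/-- Its inclusion into `O(d p)`. -/
abbrev powInc (p : ℕ) : powG I d p ⟶ Twist.twistProjSpace n k (d * p) := idealInc (I ^ p) _

instance mono_powInc (p : ℕ) : Mono (powInc I d p) := mono_idealInc _ (isInvertible_twist _)

variable (t : Γ(CohB1.tensorMod (ClSub.idealMod I) (Twist.twistProjSpace n k d), ⊤))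

/-- The section of `O(d)` underlying a section of `I(d)`. -/
abbrev secOf : Twist.sectN (𝒜 := CohB1.polyGrading n k) d (op ⊤) := (idealInc I _).app ⊤ t

theorem deg_succ (p : ℕ) : d * ((p + 1 : ℕ) : ℤ) = d * p + d := by push_cast; ring

/-- The frame `X_l ^ a` of `O(a)`. -/
def pSec (l : Fin (n + 1)) (a : ℤ) {V : (CohB1.ProjSpace n k).Opens} (hV : V ≤ xOpen n k l) :
    Γ(Twist.twistProjSpace n k a, V) :=
  gSec (𝒜 := CohB1.polyGrading n k) (xVar n k l) a hV

theorem isFrame_pSec (l : Fin (n + 1)) (a : ℤ) :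
    IsFrame (Twist.twistProjSpace n k a) (xOpen n k l) (pSec l a le_rfl) := by
  intro V hV
  have h := isFrame_unit (gUnit (𝒜 := CohB1.polyGrading n k) (xVar n k l) a) V hV
  have e : res (Twist.twistProjSpace n k a) hV (pSec l a le_rfl) =
      res (Twist.twistProjSpace n k a) hV (gUnit (𝒜 := CohB1.polyGrading n k) (xVar n k l) a).fwd :=
    res_res (Twist.twistProjSpace n k a) _ _ _
  exact e ▸ h

theorem res_pSec (l : Fin (n + 1)) (a : ℤ) {V : (CohB1.ProjSpace n k).Opens} (hV : V ≤ xOpen n k l) :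
    res (Twist.twistProjSpace n k a) hV (pSec l a le_rfl) = pSec l a hV :=
  res_res (Twist.twistProjSpace n k a) _ _ _

/-- Multiplication by the section of `O(d)`. -/
def pMul (p : ℕ) : Twist.twistProjSpace n k (d * p) ⟶ Twist.twistProjSpace n k (d * ((p + 1 : ℕ) : ℤ)) :=
  mulSec (secOf I d t) (deg_succ d p)

theorem pMul_pSec (p : ℕ) (l : Fin (n + 1)) {V : (CohB1.ProjSpace n k).Opens} (hV : V ≤ xOpen n k l)
    {β : Γ(CohB1.ProjSpace n k, V)}
    (hs : res (Twist.twistProjSpace n k d) (le_top : V ≤ ⊤) (secOf I d t) = β • pSec l d hV) :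
    (pMul I d t p).app V (pSec l (d * p) hV) = β • pSec l (d * ((p + 1 : ℕ) : ℤ)) hV :=
  mulSec_gSec (𝒜 := CohB1.polyGrading n k) (xVar n k l) (secOf I d t) (deg_succ d p) hV hs

theorem pMul_comm (t' : Γ(CohB1.tensorMod (ClSub.idealMod I) (Twist.twistProjSpace n k d), ⊤)) (p : ℕ) :
    pMul I d t p ≫ pMul I d t' (p + 1) = pMul I d t' p ≫ pMul I d t (p + 1) :=
  mulSec_comm (secOf I d t) (secOf I d t') (deg_succ d p) (deg_succ d (p + 1)) (deg_succ d p) (deg_succ d (p + 1))

theorem exists_coeff {J : (CohB1.ProjSpace n k).IdealSheafData} {b : ℤ} {V : (CohB1.ProjSpace n k).affineOpens}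
    {l : Fin (n + 1)} (hV : V.1 ≤ xOpen n k l) (z : Γ(tw n k (ClSub.idealMod J) b, V.1)) :
    ∃ a : Γ(ClSub.idealMod J, V.1),
      z = Amp73.tm _ _ a (pSec l b hV) ∧
      (idealInc J (Twist.twistProjSpace n k b)).app V.1 z =
        OmegaSh.idealSect J V.1 a • pSec l b hV := by
  obtain ⟨a, rfl⟩ := Amp73.exists_eq_tm_frame (L := ClSub.idealMod J)
    (isFrame_pSec (k := k) l b) hV z
  rw [res_pSec]
  exact ⟨a, rfl, idealInc_tm J _ _ _⟩

theorem exists_secOf_coeff {V : (CohB1.ProjSpace n k).affineOpens} {l : Fin (n + 1)} (hV : V.1 ≤ xOpen n k l) :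
    ∃ β ∈ I.ideal V, res (Twist.twistProjSpace n k d) (le_top : V.1 ≤ ⊤) (secOf I d t) =
      β • pSec l d hV := by
  obtain ⟨a, ha, h⟩ := exists_coeff (J := I) hV (res _ (le_top : V.1 ≤ ⊤) t)
  refine ⟨OmegaSh.idealSect I V.1 a, Curves2.idealSect_mem_ideal I V a, Eq.trans ?_ h⟩
  exact (QC70.app_res (idealInc I (Twist.twistProjSpace n k d)) (le_top : V.1 ≤ ⊤) t).symm

theorem mulSec_powInc (p : ℕ) :
    (powInc I d p ≫ pMul I d t p) ≫ cokernel.π (powInc I d (p + 1)) = 0 := by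
  refine Scheme.Modules.hom_ext _ _ fun W => ?_
  ext z
  refine QC70.section_ext _ _ _ fun q hq => ?_
  obtain ⟨l, hl⟩ := exists_mem_xOpen n k q
  obtain ⟨V, hqV, hVW⟩ := Div89.exists_affine_le (show q ∈ W ⊓ xOpen n k l from ⟨hq, hl⟩)
  have hVl : V.1 ≤ xOpen n k l := hVW.trans inf_le_right
  refine ⟨V.1, hVW.trans inf_le_left, hqV, ?_⟩
  let f := (powInc I d p ≫ pMul I d t p) ≫ cokernel.π (powInc I d (p + 1))
  refine (QC70.app_res f (hVW.trans inf_le_left) z).symm.trans ?_
  refine Eq.trans ?_ (map_zero _).symm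
  obtain ⟨a, ha, hz⟩ := exists_coeff (J := I ^ p) hVl (res (powG I d p) (hVW.trans inf_le_left) z)
  obtain ⟨β, hβ, hs⟩ := exists_secOf_coeff I d t hVl
  obtain ⟨c, hc⟩ := Curves2.exists_idealSect_of_mem (I ^ (p + 1)) V
    (show OmegaSh.idealSect (I ^ p) V.1 a * β ∈ (I ^ (p + 1)).ideal V from by
      rw [Scheme.IdealSheafData.ideal_pow, Pi.pow_apply, pow_succ]
      refine Ideal.mul_mem_mul ?_ hβ
      have := Curves2.idealSect_mem_ideal (I ^ p) V a
      rwa [Scheme.IdealSheafData.ideal_pow, Pi.pow_apply] at this)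
  let w : Γ(powG I d (p + 1), V.1) :=
    Amp73.tm _ _ c (pSec l (d * ((p + 1 : ℕ) : ℤ)) hVl)
  have key : (pMul I d t p).app V.1
      ((powInc I d p).app V.1 (res (powG I d p) (hVW.trans inf_le_left) z)) = (powInc I d (p + 1)).app V.1 w := by
    refine (congrArg _ hz).trans ?_
    refine (Scheme.Modules.Hom.app_smul _ _ _).trans ?_
    refine (congrArg (OmegaSh.idealSect (I ^ p) V.1 a • ·)
      (pMul_pSec I d t p l hVl hs)).trans ?_
    refine Eq.trans ?_ (idealInc_tm (I ^ (p + 1)) _ c _).symm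
    rw [hc]
    exact smul_smul _ _ _
  refine (congrArg ((cokernel.π (powInc I d (p + 1))).app V.1) key).trans ?_
  exact congr((Scheme.Modules.Hom.app $(cokernel.condition (powInc I d (p + 1))) V.1) w)

/-- Multiplication by a section of `I(d)` on the powers. -/
def powT (p : ℕ) : powG I d p ⟶ powG I d (p + 1) :=
  Abelian.monoLift (powInc I d (p + 1)) (powInc I d p ≫ pMul I d t p)
    (mulSec_powInc I d t p)

theorem powT_inc (p : ℕ) :
    powT I d t p ≫ powInc I d (p + 1) = powInc I d p ≫ pMul I d t p :=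
  Abelian.monoLift_comp _ _ _

theorem powT_comm (t t' : Γ(CohB1.tensorMod (ClSub.idealMod I) (Twist.twistProjSpace n k d), ⊤)) (p : ℕ) :
    powT I d t p ≫ powT I d t' (p + 1) = powT I d t' p ≫ powT I d t (p + 1) := by
  rw [← cancel_mono (powInc I d (p + 1 + 1)), Category.assoc, powT_inc, Category.assoc, powT_inc,
    ← Category.assoc, powT_inc, ← Category.assoc (powT I d t' p), powT_inc, Category.assoc, Category.assoc,
    pMul_comm I d t t' p]

/-- The system of powers attached to a finite family of sections of `I(d)`. -/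
def powSys {b : ℕ} (t : Fin b → Γ(CohB1.tensorMod (ClSub.idealMod I) (Twist.twistProjSpace n k d), ⊤)) :
    Sys (CohB1.ProjSpace n k) b where
  G := powG I d
  T j := powT I d (t j)
  comm a c := powT_comm I d (t a) (t c)

theorem fg_powSys {b : ℕ} (π : FlatMod.freeMod (CohB1.ProjSpace n k) b ⟶
      CohB1.tensorMod (ClSub.idealMod I) (Twist.twistProjSpace n k d)) [Epi π] :
    (powSys I d fun j => π.app ⊤
      ((Sigma.ι (fun _ : Fin b => Coh.structureModule (CohB1.ProjSpace n k)) j).app ⊤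
        (1 : Γ(CohB1.ProjSpace n k, ⊤)))).FG (xOpen n k) := by
  refine ⟨0, fun p _ l z => ?_⟩
  let V : (CohB1.ProjSpace n k).affineOpens := ⟨xOpen n k l, isAffineOpen_xOpen n k l⟩
  have hV : V.1 ≤ xOpen n k l := le_rfl
  let τ := fun j => π.app ⊤
    ((Sigma.ι (fun _ : Fin b => Coh.structureModule (CohB1.ProjSpace n k)) j).app ⊤
      (1 : Γ(CohB1.ProjSpace n k, ⊤)))
  choose β hβ hβs using fun j => exists_secOf_coeff I d (τ j) hV
  have hgen : ∀ r ∈ I.ideal V, ∃ c : Fin b → Γ(CohB1.ProjSpace n k, V.1), r = ∑ j, c j * β j := by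
    intro r hr
    obtain ⟨a, ha⟩ := Curves2.exists_idealSect_of_mem I V hr
    have hsurj : Function.Surjective (π.app V.1) := by
      have h1 : (FlatMod.freeMod (CohB1.ProjSpace n k) b).IsQuasicoherent :=
        QC70.isQuasicoherent_of_iso (biproduct.isoCoproduct _) (QC70.isCoh_biproduct
          (fun _ : Fin b => Coh.structureModule (CohB1.ProjSpace n k))
          fun _ => ⟨QC70.isQuasicoherent_unit (X := CohB1.ProjSpace n k),
            Amp73.isFiniteType_of_isInvertible (EGA73.isInvertible_tensorPow (isInvertible_twist 0) 0)⟩).1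
      have : (CohB1.tensorMod (ClSub.idealMod I) (Twist.twistProjSpace n k d)).IsQuasicoherent :=
        isQCoh_tw n k _ (Omega57.isQuasicoherent_idealMod I) d
      have := QC70.isQuasicoherent_kernel π
      exact QC70.app_surjective_of_isAffineOpen _ (KData.kernel_shortExact π) V.2
    obtain ⟨w, hw⟩ := hsurj (Amp73.tm _ _ a (pSec l d hV))
    obtain ⟨c, hc⟩ := exists_sum_free π V.1 w
    refine ⟨c, (isFrame_pSec (k := k) l d V.1 hV).1 ?_⟩
    show r • res _ hV (pSec l d le_rfl) = (∑ j, c j * β j) • res _ hV (pSec l d le_rfl)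
    rw [res_pSec]
    rw [← ha, ← idealInc_tm I (Twist.twistProjSpace n k d) a, ← hw, hc]
    refine (map_sum ((idealInc I (Twist.twistProjSpace n k d)).app V.1).hom _ _).trans ?_
    rw [Finset.sum_smul]
    refine Finset.sum_congr rfl fun j _ => ?_
    refine (Scheme.Modules.Hom.app_smul _ _ _).trans ?_
    refine (congrArg (c j • ·) ((QC70.app_res (idealInc I (Twist.twistProjSpace n k d)) (le_top : V.1 ≤ ⊤) (τ j)).trans
      (hβs j))).trans ?_
    exact smul_smul _ _ _
  have hsplit : ∀ γ ∈ (I ^ (p + 1)).ideal V, ∃ α : Fin b → Γ(CohB1.ProjSpace n k, V.1),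
      (∀ j, α j ∈ (I ^ p).ideal V) ∧ γ = ∑ j, α j * β j := by
    intro γ hγ
    rw [Scheme.IdealSheafData.ideal_pow, Pi.pow_apply, pow_succ] at hγ
    rw [Scheme.IdealSheafData.ideal_pow, Pi.pow_apply]
    induction hγ using Submodule.mul_induction_on' with
    | mem_mul_mem m hm r hr =>
      obtain ⟨c, rfl⟩ := hgen r hr
      exact ⟨fun j => m * c j, fun j => Ideal.mul_mem_right _ _ hm, by
        rw [Finset.mul_sum]; exact Finset.sum_congr rfl fun j _ => (mul_assoc _ _ _).symm⟩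
    | add x _ y _ hx hy =>
      obtain ⟨α, hα, rfl⟩ := hx
      obtain ⟨α', hα', rfl⟩ := hy
      exact ⟨α + α', fun j => add_mem (hα j) (hα' j), by simp [Finset.sum_add_distrib, add_mul]⟩
  obtain ⟨c, hz, hzinc⟩ := exists_coeff (J := I ^ (p + 1)) (b := d * ((p + 1 : ℕ) : ℤ)) hV z
  obtain ⟨α, hα, hαsum⟩ := hsplit _ (Curves2.idealSect_mem_ideal (I ^ (p + 1)) V c)
  choose a ha using fun j => Curves2.exists_idealSect_of_mem (I ^ p) V (hα j)
  refine ⟨fun j => Amp73.tm _ _ (a j) (pSec l (d * p) hV),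
    QC70.app_injective_of_mono (powInc I d (p + 1)) V.1 ?_⟩
  refine hzinc.trans ?_
  refine Eq.trans ?_ (map_sum ((powInc I d (p + 1)).app V.1).hom _ _).symm
  rw [hαsum, Finset.sum_smul]
  refine Finset.sum_congr rfl fun j _ => ?_
  refine Eq.trans ?_ (congr((Scheme.Modules.Hom.app $(powT_inc I d (τ j) p) V.1)
    (Amp73.tm _ _ (a j) (pSec l (d * p) hV)))).symm
  refine Eq.trans ?_ (congrArg ((pMul I d (τ j) p).app V.1)
    (idealInc_tm (I ^ p) (Twist.twistProjSpace n k (d * p)) (a j) _)).symm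
  refine Eq.trans ?_ (Scheme.Modules.Hom.app_smul _ _ _).symm
  refine Eq.trans ?_ (congrArg (OmegaSh.idealSect (I ^ p) V.1 (a j) • ·)
    (pMul_pSec I d (τ j) p l hV (hβs j))).symm
  rw [ha]
  exact (smul_smul _ _ _).symm

theorem isCoh_powG (p : ℕ) : Coh.IsCoh (powG I d p) :=
  Amp73.isCoh_tensorMod (QC70.isCoh_kernel (ClSub.toSubscheme (I ^ p))
    (Amp73.isCoh_of_isInvertible (EGA73.isInvertible_tensorPow (isInvertible_twist 0) 0))
    (by
      have h3 : (Coh.structureModule (I ^ p).subscheme).IsQuasicoherent :=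
        QC70.isQuasicoherent_unit (X := (I ^ p).subscheme)
      exact QCqs72.isQuasicoherent_pushforward (M := Coh.structureModule (I ^ p).subscheme) (I ^ p).subschemeι))
    (Amp73.isCoh_of_isInvertible (isInvertible_twist _))

/-- Linear bound for the regularity of the powers of an ideal generated in degree `d`. -/
theorem exists_linear_bound (hd : Curv2.IsGloballyGenerated
    (CohB1.tensorMod (ClSub.idealMod I) (Twist.twistProjSpace n k d))) :
    ∃ e : ℤ, ∀ p : ℕ, ∀ m : ℤ, d * (p : ℤ) + e ≤ m → Curv2.IsMRegular k n (ClSub.idealMod (I ^ p)) m := by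
  have hcoh : Coh.IsCoh (ClSub.idealMod I) := QC70.isCoh_kernel (ClSub.toSubscheme I)
    (Amp73.isCoh_of_isInvertible (EGA73.isInvertible_tensorPow (isInvertible_twist 0) 0))
    (by
      have h3 : (Coh.structureModule I.subscheme).IsQuasicoherent := QC70.isQuasicoherent_unit (X := I.subscheme)
      exact QCqs72.isQuasicoherent_pushforward (M := Coh.structureModule I.subscheme) I.subschemeι)
  have := finite_hh_tw (ClSub.idealMod I) hcoh d 0
  obtain ⟨b, π, hπ⟩ := exists_freeMod_epi_of_gg (k := k) _ hd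
  obtain ⟨a₀, ha⟩ := exists_uniform_vanish (isAffineOpen_xOpen n k) (exists_mem_xOpen n k) b _
    (isCoh_powG I d) (fg_powSys I d π)
  refine ⟨a₀ + n, fun p m hm i hi hin => ?_⟩
  obtain ⟨e⟩ := nonempty_tw_tw (ClSub.idealMod (I ^ p)) (a := d * p) (b := m - i - d * p) (c := m - i) (by ring)
  exact ValVan29.subsingleton_hh_of_iso e i (ha (m - i - d * p) (by omega) p i hi)

end Sys

end Groth.Agent.Var76.Reg

end
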