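import Mathlib.RingTheory.Kaehler.TensorProduct
import Mathlib.RingTheory.Unramified.Field
import Mathlib.RingTheory.AlgebraicIndependent.TranscendenceBasis
import Mathlib.RingTheory.NoetherNormalization
import Mathlib.RingTheory.KrullDimension.Polynomial
import Mathlib.RingTheory.KrullDimension.Field
import Mathlib.RingTheory.Ideal.GoingUp
import Mathlib.RingTheory.Ideal.MinimalPrime.Localization
import Mathlib.RingTheory.LocalRing.Module

/-! Generators of Kähler differentials bound transcendence degree and dimension. -/

namespace Groth.Agent.Var76.KaehlerGen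

universe u v w

open scoped TensorProduct
open KaehlerDifferential

theorem finrank_le_of_span {K V : Type*} [DivisionRing K] [AddCommGroup V] [Module K V] {r : ℕ}
    (v : Fin r → V) (hv : Submodule.span K (Set.range v) = ⊤) : Module.finrank K V ≤ r := by
  rw [← finrank_top, ← hv]
  exact (finrank_range_le_card v).trans (by simp)

/-- For an essentially finite type field extension, `trdeg ≤ dim Ω`. -/
theorem trdeg_le_finrank (k : Type u) (K : Type v) [Field k] [Field K] [Algebra k K]
    [Algebra.EssFiniteType k K] : Algebra.trdeg k K ≤ Module.finrank K Ω[K⁄k] := by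
  classical
  obtain ⟨s, hsub, hs, hli⟩ := exists_linearIndependent K (Set.range (D k K))
  rw [span_range_derivation] at hs
  have : Finite s := hli.finite
  let t : Set K := Set.range fun x : s => (hsub x.2).choose
  have ht : ∀ x : s, D k K (hsub x.2).choose = x := fun x => (hsub x.2).choose_spec
  let E := IntermediateField.adjoin k t
  have hu : Algebra.FormallyUnramified E K := by
    refine ⟨?_⟩
    refine subsingleton_of_forall_eq 0 fun y => ?_
    obtain ⟨z, rfl⟩ := map_surjective k E K y
    have hz : z ∈ Submodule.span K s := hs ▸ Submodule.mem_top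
    induction hz using Submodule.span_induction with
    | mem x hx =>
      show map k E K K ((⟨x, hx⟩ : s) : Ω[K⁄k]) = 0
      rw [← ht ⟨x, hx⟩, map_D]
      exact Derivation.map_algebraMap (D E K)
        (⟨_, IntermediateField.subset_adjoin k t ⟨⟨x, hx⟩, rfl⟩⟩ : E)
    | zero => simp
    | add a b _ _ ha hb => simp [ha, hb]
    | smul c a _ ha => simp [ha]
  have : Algebra.EssFiniteType E K := .of_comp k E K
  have := Algebra.FormallyUnramified.isSeparable E K
  have halg : Algebra.IsAlgebraic (Algebra.adjoin k t) K := by
    open scoped IntermediateField.algebraAdjoinAdjoin in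
    exact Algebra.IsAlgebraic.trans (Algebra.adjoin k t) (IntermediateField.adjoin k t) K
  refine (Algebra.IsAlgebraic.trdeg_le_cardinalMk (R := k) (A := K) (s := t)).trans ?_
  refine (Cardinal.mk_range_le).trans ?_
  have : Fintype s := Fintype.ofFinite s
  rw [Cardinal.mk_fintype, ← finrank_span_set_eq_card hli |>.trans (Set.toFinset_card s), hs, finrank_top]

/-- If the differentials of a field extension are spanned by `r` elements then `trdeg ≤ r`. -/
theorem trdeg_le_of_span (k : Type u) (K : Type v) [Field k] [Field K] [Algebra k K]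
    [Algebra.EssFiniteType k K] {r : ℕ} (v : Fin r → Ω[K⁄k])
    (hv : Submodule.span K (Set.range v) = ⊤) : Algebra.trdeg k K ≤ r :=
  (trdeg_le_finrank k K).trans (Nat.cast_le.2 (finrank_le_of_span v hv))

variable (k : Type u) (A : Type u) [Field k] [CommRing A] [Algebra k A]

/-- The image of generators of `Ω[A/k]` spans `Ω[κ(q)/k]`. -/
theorem span_residueField {ι : Type*} (v : ι → Ω[A⁄k]) (q : Ideal A) [q.IsPrime]
    (hv : Submodule.span A (Set.range v) = ⊤) :
    Submodule.span q.ResidueField (Set.range fun i => map k k A q.ResidueField (v i)) = ⊤ := by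
  rw [eq_top_iff, ← span_range_derivation k q.ResidueField, Submodule.span_le]
  set S := Submodule.span q.ResidueField (Set.range fun i => map k k A q.ResidueField (v i))
  have hA : ∀ a : A, D k q.ResidueField (algebraMap A q.ResidueField a) ∈ S := by
    intro a
    rw [← map_D k k A q.ResidueField]
    have : D k A a ∈ Submodule.span A (Set.range v) := hv ▸ Submodule.mem_top
    have h2 := Submodule.apply_mem_span_image_of_mem_span (map k k A q.ResidueField) this
    rw [← Set.range_comp] at h2
    exact (Submodule.span_le_restrictScalars A q.ResidueField _) h2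
  rintro _ ⟨z, rfl⟩
  obtain ⟨a, b, hb, rfl⟩ := IsFractionRing.div_surjective (A ⧸ q) z
  obtain ⟨a, rfl⟩ := Ideal.Quotient.mk_surjective a
  obtain ⟨b, rfl⟩ := Ideal.Quotient.mk_surjective b
  rw [← Ideal.Quotient.algebraMap_eq, ← IsScalarTower.algebraMap_apply,
    ← IsScalarTower.algebraMap_apply, Derivation.leibniz_div, SetLike.mem_coe]
  exact S.smul_mem _ (S.sub_mem (S.smul_mem _ (hA _)) (S.smul_mem _ (hA _)))

/-- A polynomial ring in `m` variables cannot embed in a finitely generated `k`-algebra whose module
of differentials is generated by fewer than `m` elements. -/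
theorem le_of_injective [Algebra.FiniteType k A] {m r : ℕ}
    (f : MvPolynomial (Fin m) k →ₐ[k] A) (hf : Function.Injective f) (v : Fin r → Ω[A⁄k])
    (hv : Submodule.span A (Set.range v) = ⊤) : m ≤ r := by
  obtain ⟨q, hq, hqf⟩ : ∃ q : Ideal A, q.IsPrime ∧ q.comap f.toRingHom = ⊥ := by
    have : IsNoetherianRing A := Algebra.FiniteType.isNoetherianRing k A
    have hmin : (⊥ : Ideal (MvPolynomial (Fin m) k)) ∈
        ((⊥ : Ideal A).comap f.toRingHom).minimalPrimes := by
      rw [show (⊥ : Ideal A).comap f.toRingHom = ⊥ from (RingHom.injective_iff_ker_eq_bot _).1 hf,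
        Ideal.minimalPrimes_eq_subsingleton_self]
      rfl
    obtain ⟨q, hq, -, hqf⟩ := Ideal.exists_comap_eq_of_mem_minimalPrimes f.toRingHom _ hmin
    exact ⟨q, hq, hqf⟩
  let g : MvPolynomial (Fin m) k →ₐ[k] q.ResidueField :=
    (IsScalarTower.toAlgHom k A q.ResidueField).comp f
  have hg : Function.Injective g := by
    rw [injective_iff_map_eq_zero]
    intro p hp
    have : f p ∈ q := Ideal.algebraMap_residueField_eq_zero.1 hp
    rwa [show f p = f.toRingHom p from rfl, ← Ideal.mem_comap, hqf, Ideal.mem_bot] at this
  have : Algebra.EssFiniteType k q.ResidueField := .comp k A _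
  have h1 := trdeg_le_of_span k q.ResidueField _ (span_residueField k A v q hv)
  have h2 := (trdeg_le_of_injective g hg).trans h1
  rw [MvPolynomial.trdeg_of_isDomain] at h2
  simpa using h2

/-- A finitely generated algebra over a field has a finite injective map from a polynomial ring in
`dim` variables, so its dimension is at most any number of generators of its differentials. -/
theorem ringKrullDim_le_of_span [Algebra.FiniteType k A] [Nontrivial A] {r : ℕ} (v : Fin r → Ω[A⁄k])
    (hv : Submodule.span A (Set.range v) = ⊤) : ringKrullDim A ≤ r := by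
  obtain ⟨s, g, hg, hfin⟩ := exists_finite_inj_algHom_of_fg k A
  have hs := le_of_injective k A g hg v hv
  algebraize [g.toRingHom]
  have : Module.Finite (MvPolynomial (Fin s) k) A := hfin
  refine le_trans ?_ (Nat.cast_le.2 hs)
  refine le_trans (b := ringKrullDim (MvPolynomial (Fin s) k)) ?_ (le_of_eq ?_)
  · refine Order.krullDim_le_of_strictMono
      (PrimeSpectrum.comap (algebraMap (MvPolynomial (Fin s) k) A)) ?_
    intro p q hpq
    exact Ideal.IsIntegral.comap_lt_comap (R := MvPolynomial (Fin s) k) hpq
  ·     simp [MvPolynomial.ringKrullDim_of_isNoetherianRing, ringKrullDim_eq_zero_of_field]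

end Groth.Agent.Var76.KaehlerGen
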