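import Groth.Agent.WC97.Dim
import Groth.Agent.WC97.Reduced
import Groth.Agent.Sep12.Index
import Mathlib.RingTheory.Smooth.StandardSmoothCotangent
import Mathlib.AlgebraicGeometry.Morphisms.Smooth

/-! The components of a scheme smooth of relative dimension `n` over a field have dimension `n`. -/

universe u

open CategoryTheory AlgebraicGeometry TopologicalSpace
open scoped TensorProduct
open KaehlerDifferential

set_option backward.isDefEq.respectTransparency false

namespace Groth.Agent.Var76.SmoothFibre

/-- At a minimal prime of a standard smooth algebra over a field the residue domain has transcendence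
degree the relative dimension. -/
theorem trdeg_quotient_minimal (κ C : Type u) [Field κ] [CommRing C] [Algebra κ C] (n : ℕ)
    [Algebra.IsStandardSmoothOfRelativeDimension n κ C] (p : Ideal C) [p.IsPrime]
    (hmin : ∀ q : Ideal C, q.IsPrime → q ≤ p → q = p) :
    Algebra.trdeg κ (C ⧸ p) = (n : Cardinal.{u}) := by
  have : Algebra.IsStandardSmooth κ C := Algebra.IsStandardSmoothOfRelativeDimension.isStandardSmooth n
  have : _root_.IsReduced C := WC97.isReduced_of_isStandardSmooth κ C
  let L := Localization.AtPrime p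
  have : _root_.IsReduced L := isReduced_localizationPreserves p.primeCompl L ‹_›
  have hfield : IsField L := by
    rw [IsLocalRing.isField_iff_maximalIdeal_eq]
    refine (Submodule.eq_bot_iff _).2 fun a ha => ?_
    have : IsNilpotent a := by
      rw [← mem_nilradical, nilradical_eq_sInf, Ideal.mem_sInf]
      rintro q (hq : q.IsPrime)
      have hle : q.comap (algebraMap C L) ≤ p := fun c hc => by
        by_contra hcp
        exact hq.ne_top (Ideal.eq_top_of_isUnit_mem _ hc (IsLocalization.map_units L (⟨c, hcp⟩ : p.primeCompl)))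
      have he := hmin _ (hq.comap _) hle
      rw [← IsLocalization.AtPrime.map_eq_maximalIdeal p L] at ha
      exact Ideal.map_le_iff_le_comap.2 he.ge ha
    exact this.eq_zero
  let : Field L := hfield.toField
  have : Nontrivial C := (algebraMap C L).domain_nontrivial
  have : Algebra.FormallyEtale C L := Algebra.FormallyEtale.of_isLocalization p.primeCompl
  have : Algebra.FormallySmooth κ L := Algebra.FormallySmooth.comp κ C L
  have : Algebra.EssFiniteType κ L := Algebra.EssFiniteType.comp κ C L
  obtain ⟨_, _, _, _, ⟨P⟩⟩ := ‹Algebra.IsStandardSmooth κ C›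
  let b := P.basisKaehler.reindex Equiv.ulift.{u}.symm
  let b' : Module.Basis _ L Ω[L⁄κ] := (b.baseChange L).map (tensorKaehlerEquivOfFormallyEtale κ C L)
  have hb := Algebra.IsStandardSmoothOfRelativeDimension.rank_kaehlerDifferential (R := κ) (S := C) n
  obtain ⟨-, hfin, hc⟩ := Sep12.cartier (k := κ) (K := L)
  have h0 : Module.finrank L (Algebra.H1Cotangent κ L) = 0 := Module.finrank_zero_of_subsingleton
  rw [h0, Nat.cast_zero, sub_zero, Nat.cast_inj] at hc
  have hrank : Module.rank L Ω[L⁄κ] = (n : Cardinal.{u}) := by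
    rw [← b'.mk_eq_rank'', b.mk_eq_rank'', hb]
  let : Algebra (C ⧸ p) L := (Ideal.Quotient.lift p (algebraMap C L) fun a ha => by
    have h1 : algebraMap C L a ∈ IsLocalRing.maximalIdeal L :=
      (IsLocalization.AtPrime.to_map_mem_maximal_iff L p a).2 ha
    rwa [(IsLocalRing.isField_iff_maximalIdeal_eq).1 hfield] at h1).toAlgebra
  have : IsScalarTower κ (C ⧸ p) L := IsScalarTower.of_algebraMap_eq fun r => by
    show algebraMap κ L r = algebraMap C L (algebraMap κ C r)
    exact IsScalarTower.algebraMap_apply κ C L r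
  have : FaithfulSMul (C ⧸ p) L := by
    rw [faithfulSMul_iff_algebraMap_injective, injective_iff_map_eq_zero]
    intro z hz
    obtain ⟨c, rfl⟩ := Ideal.Quotient.mk_surjective z
    rw [Ideal.Quotient.eq_zero_iff_mem, ← IsLocalization.AtPrime.to_map_mem_maximal_iff L p c,
      (IsLocalRing.isField_iff_maximalIdeal_eq).1 hfield]
    exact hz
  have : IsFractionRing (C ⧸ p) L := by
    refine IsFractionRing.of_field (C ⧸ p) L fun z => ?_
    obtain ⟨a, s, rfl⟩ := IsLocalization.exists_mk'_eq p.primeCompl z
    refine ⟨Ideal.Quotient.mk p a, Ideal.Quotient.mk p s.1, ?_⟩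
    show _ = algebraMap C L a / algebraMap C L s.1
    rw [eq_div_iff (IsLocalization.map_units L s).ne_zero]
    exact IsLocalization.mk'_spec L a s
  have : Algebra.IsAlgebraic (C ⧸ p) L := IsLocalization.isAlgebraic _ (nonZeroDivisors _)
  have hL : Algebra.trdeg κ L = (n : Cardinal.{u}) := by
    have hlt : Algebra.trdeg κ L < Cardinal.aleph0 := by
      rw [← trdeg_add_eq κ (C ⧸ p) (A := L), trdeg_eq_zero (R := C ⧸ p), add_zero]
      exact trdeg_lt_aleph0_of_finiteType (R := κ) (S := C ⧸ p)
    obtain ⟨r, hr⟩ := Cardinal.lt_aleph0.1 hlt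
    rw [hr, Cardinal.toNat_natCast] at hc
    have : Module.Finite L Ω[L⁄κ] := hfin
    rw [← Module.finrank_eq_rank, hc] at hrank
    rw [hr, hrank]
  rw [← hL, ← trdeg_add_eq κ (C ⧸ p) (A := L), trdeg_eq_zero (R := C ⧸ p), add_zero]

/-- Every component of a scheme smooth of relative dimension `n` over a field has dimension `n`. -/
theorem dim_component {κ : Type u} [Field κ] {F : Scheme.{u}} (g : F ⟶ Spec (CommRingCat.of κ)) (n : ℕ)
    [SmoothOfRelativeDimension n g] (Z : Set F) (hZ : Z ∈ irreducibleComponents F) :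
    topologicalKrullDim Z = (n : WithBot ℕ∞) := by
  have : Smooth g := SmoothOfRelativeDimension.smooth n g
  have hirr : IsIrreducible Z := hZ.1
  have hcl : IsClosed Z := isClosed_of_mem_irreducibleComponents Z hZ
  obtain ⟨η, hη⟩ := QuasiSober.sober hirr hcl
  have hmax : ∀ w : F, w ⤳ η → w = η := by
    intro w hw
    have h1 : Z ⊆ closure {w} := by
      rw [← hη]
      exact closure_minimal (Set.singleton_subset_iff.2 (specializes_iff_mem_closure.1 hw)) isClosed_closure
    have h2 := hZ.2 (isIrreducible_singleton.closure) h1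
    exact ((show IsGenericPoint w Z from le_antisymm h2 h1).eq hη)
  rw [← hη.def, WC97.topologicalKrullDim_closure g η]
  obtain ⟨U, hU, V, hV, hxV, e, hstd⟩ :=
    SmoothOfRelativeDimension.exists_isStandardSmoothOfRelativeDimension (n := n) (f := g) η
  have hUtop : U = ⊤ := by
    refine top_le_iff.1 fun y _ => ?_
    rw [show y = g η from Subsingleton.elim (α := PrimeSpectrum κ) _ _]
    exact e hxV
  subst hUtop
  let φ : κ →+* Γ(F, V) := ((Scheme.ΓSpecIso (CommRingCat.of κ)).inv ≫ g.appLE ⊤ V e).hom
  let : Algebra κ Γ(F, V) := φ.toAlgebra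
  have hCn : Algebra.IsStandardSmoothOfRelativeDimension n κ Γ(F, V) :=
    (RingHom.isStandardSmoothOfRelativeDimension_algebraMap n).1
      (RingHom.isStandardSmoothOfRelativeDimension_respectsIso.right _
        (Scheme.ΓSpecIso (CommRingCat.of κ)).symm.commRingCatIsoToRingEquiv hstd)
  let p := (hV.primeIdealOf ⟨η, hxV⟩).asIdeal
  have : IsOpenImmersion hV.fromSpec := IsAffineOpen.isOpenImmersion_fromSpec hV
  have hmin : ∀ q : Ideal Γ(F, V), q.IsPrime → q ≤ p → q = p := by
    intro q hq hle
    let Q : PrimeSpectrum Γ(F, V) := ⟨q, hq⟩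
    have hs : Q ⤳ hV.primeIdealOf ⟨η, hxV⟩ := (PrimeSpectrum.le_iff_specializes Q _).1 hle
    have h2 := hmax _ (by simpa [hV.fromSpec_primeIdealOf] using hs.map hV.fromSpec.continuous)
    have : Q = hV.primeIdealOf ⟨η, hxV⟩ := hV.fromSpec.isOpenEmbedding.injective
      (h2.trans (hV.fromSpec_primeIdealOf ⟨η, hxV⟩).symm)
    exact congrArg PrimeSpectrum.asIdeal this
  have h3 := WC97.tdeg_eq_trdeg_quotient g hV hxV
  have hk : WC97.kSec g hV = φ := by
    have : CommRingCat.ofHom (WC97.kSec g hV) = (Scheme.ΓSpecIso (CommRingCat.of κ)).inv ≫ g.appLE ⊤ V e := by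
      apply Spec.map_injective
      rw [show Spec.map (CommRingCat.ofHom (WC97.kSec g hV)) = hV.fromSpec ≫ g from Spec.map_preimage _,
        Spec.map_comp, ← IsAffineOpen.SpecMap_appLE_fromSpec g (isAffineOpen_top _) hV e,
        IsAffineOpen.fromSpec_top, Scheme.isoSpec_Spec_inv]
    exact congrArg CommRingCat.Hom.hom this
  rw [hk] at h3
  rw [trdeg_quotient_minimal κ Γ(F, V) n p hmin] at h3
  rw [WC97.tdegN, ← h3, Cardinal.toNat_natCast]

end Groth.Agent.Var76.SmoothFibre
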