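import Groth.Agent.Perf96.UHom
import Groth.Prelude.Def_Frob
import Mathlib.AlgebraicGeometry.Morphisms.Integral

/-! Absolute and relative Frobenius are integral universal homeomorphisms. -/

set_option autoImplicit false
universe u

open CategoryTheory CategoryTheory.Limits AlgebraicGeometry

namespace Groth.Agent.Var76.FrobHomeo

variable (p : ℕ) [hp : Fact p.Prime]

theorem frob_isUnivHomeo (X : Scheme.{u}) [FrobSch.IsCharP X p] :
    FlatMor.IsUnivHomeo (FrobSch.frob X p) := by
  have : IsAffineHom (FrobSch.frob X p) := ⟨fun U hU => hU⟩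
  refine Perf96.isUnivHomeo_of_pRad (p := p) _ (FrobSch.IsCharP.natCast_eq_zero) fun U _ => ⟨?_, ?_⟩
  · intro s hs
    rw [RingHom.mem_ker] at hs
    exact ⟨p, hs⟩
  · intro s
    exact ⟨1, s, by rw [pow_one]; rfl⟩

theorem isIntegralHom_of_isUnivHomeo {X Y : Scheme.{u}} {f : X ⟶ Y} (hf : FlatMor.IsUnivHomeo f) :
    IsIntegralHom f :=
  IsIntegralHom.iff_universallyClosed_and_isAffineHom.2
    ⟨((UH57.isUnivHomeo_iff' f).mp hf).1, Perf96.isAffineHom_of_isUnivHomeo hf⟩

theorem residue_isPurelyInseparable {X Y : Scheme.{u}} {f : X ⟶ Y} (hf : FlatMor.IsUnivHomeo f) (x : X) :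
    (f.residueFieldMap x).hom.IsPurelyInseparable := by
  have := ((tfae_universallyInjective f).out 0 2).1 ((UH57.isUnivHomeo_iff' f).mp hf).2.1
  exact this.2 x

theorem relFrob_isUnivHomeo {X S : Scheme.{u}} [FrobSch.IsCharP S p] (f : X ⟶ S) :
    FlatMor.IsUnivHomeo (FrobSch.relFrob f p) := by
  have : FrobSch.IsCharP X p := FrobSch.IsCharP.of_hom f p
  have hg : FlatMor.IsUnivHomeo (pullback.fst f (FrobSch.frob S p)) := by
    have : MorphismProperty.IsStableUnderBaseChange FlatMor.IsUnivHomeo.{u} :=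
      MorphismProperty.universally_isStableUnderBaseChange _
    exact MorphismProperty.pullback_fst _ _ (frob_isUnivHomeo p S)
  refine Perf96.isUnivHomeo_of_comp_left ?_ hg
  rw [FrobSch.relFrob_fst]
  exact frob_isUnivHomeo p X

theorem relFrob_isFinite {X S : Scheme.{u}} [FrobSch.IsCharP S p] (f : X ⟶ S) [LocallyOfFiniteType f] :
    IsFinite (FrobSch.relFrob f p) := by
  have : LocallyOfFiniteType (FrobSch.relFrob f p ≫ pullback.snd f (FrobSch.frob S p)) := by
    rw [FrobSch.relFrob_snd]; infer_instance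
  exact (IsFinite.iff_isIntegralHom_and_locallyOfFiniteType _).2
    ⟨isIntegralHom_of_isUnivHomeo (relFrob_isUnivHomeo p f),
      locallyOfFiniteType_of_comp _ (pullback.snd f (FrobSch.frob S p))⟩

end Groth.Agent.Var76.FrobHomeo
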