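import Groth.Agent.Var76.GenSmooth
import Mathlib.RingTheory.Ideal.Cotangent
import Mathlib.RingTheory.Jacobson.Ring
import Mathlib.FieldTheory.IsAlgClosed.Basic

/-! The differential criterion of smoothness at rational points. -/

universe u

open scoped TensorProduct
open KaehlerDifferential

namespace Groth.Agent.Var76.SmoothCrit

section RatPoint

variable (k : Type u) {R : Type u} [Field k] [CommRing R] [Algebra k R] {κ : Type u} [Field κ]
  [Algebra k κ] [Algebra R κ] [IsScalarTower k R κ] (hk : Function.Surjective (algebraMap k κ))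

omit [Algebra k R] [IsScalarTower k R κ] [Algebra k κ] in
theorem smul_tensor_eq {M : Type*} [AddCommGroup M] [Module R M] (a : R) (z : κ ⊗[R] M) :
    a • z = algebraMap R κ a • z := (algebraMap_smul κ a z).symm

include hk

/-- At a rational point every element of the fibre of the differentials is a differential of a
function vanishing at the point. -/
theorem exists_eq_D (z : κ ⊗[R] Ω[R⁄k]) :
    ∃ a ∈ RingHom.ker (algebraMap R κ), z = (1 : κ) ⊗ₜ[R] D k R a := by
  have hsub : ∀ a : R, ∃ a' ∈ RingHom.ker (algebraMap R κ), D k R a' = D k R a := by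
    intro a
    obtain ⟨r, hr⟩ := hk (algebraMap R κ a)
    refine ⟨a - algebraMap k R r, ?_, by rw [map_sub, Derivation.map_algebraMap, sub_zero]⟩
    rw [RingHom.mem_ker, map_sub, ← IsScalarTower.algebraMap_apply, hr, sub_self]
  have hmem : ∀ (c : κ) (a : R), a ∈ RingHom.ker (algebraMap R κ) →
      ∃ a' ∈ RingHom.ker (algebraMap R κ), c ⊗ₜ[R] D k R a = (1 : κ) ⊗ₜ[R] D k R a' := by
    intro c a ha
    obtain ⟨r, rfl⟩ := hk c
    refine ⟨algebraMap k R r * a, Ideal.mul_mem_left _ _ ha, ?_⟩
    rw [Derivation.leibniz, Derivation.map_algebraMap, smul_zero, add_zero, TensorProduct.tmul_smul,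
      smul_tensor_eq, TensorProduct.smul_tmul', ← IsScalarTower.algebraMap_apply, smul_eq_mul, mul_one]
  induction z using TensorProduct.induction_on with
  | zero => exact ⟨0, zero_mem _, by simp⟩
  | add x y hx hy =>
    obtain ⟨a, ha, rfl⟩ := hx
    obtain ⟨b, hb, rfl⟩ := hy
    exact ⟨a + b, add_mem ha hb, by rw [map_add, TensorProduct.tmul_add]⟩
  | tmul c w =>
    have hw : w ∈ Submodule.span R (Set.range (D k R)) := (span_range_derivation k R).symm ▸ trivial
    induction hw using Submodule.span_induction generalizing c with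
    | mem w hw =>
      obtain ⟨a, rfl⟩ := hw
      obtain ⟨a', ha', h⟩ := hsub a
      rw [← h]
      exact hmem c a' ha'
    | zero => exact ⟨0, zero_mem _, by simp⟩
    | add u v _ _ hu hv =>
      obtain ⟨a, ha, h1⟩ := hu c
      obtain ⟨b, hb, h2⟩ := hv c
      exact ⟨a + b, add_mem ha hb, by rw [TensorProduct.tmul_add, map_add, TensorProduct.tmul_add, h1, h2]⟩
    | smul r u _ hu =>
      obtain ⟨a, ha, h⟩ := hu (r • c)
      exact ⟨a, ha, by rw [← TensorProduct.smul_tmul, h]⟩

/-- At a rational point the differential of a function vanishing there is zero in the fibre exactly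
when the function vanishes to second order. -/
theorem D_eq_zero_iff {a : R} (ha : a ∈ RingHom.ker (algebraMap R κ)) :
    (1 : κ) ⊗ₜ[R] D k R a = 0 ↔ a ∈ RingHom.ker (algebraMap R κ) ^ 2 := by
  classical
  set m := RingHom.ker (algebraMap R κ)
  have hinj : ∀ r : k, algebraMap k κ r = 0 → r = 0 := fun r hr => (map_eq_zero _).1 hr
  constructor
  · intro h
    let σ : R → k := fun b => (hk (algebraMap R κ b)).choose
    have hσ : ∀ b, b - algebraMap k R (σ b) ∈ m := fun b => by
      rw [RingHom.mem_ker, map_sub, ← IsScalarTower.algebraMap_apply,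
        (hk (algebraMap R κ b)).choose_spec, sub_self]
    -- multiplication by a function vanishing at the point kills the cotangent space
    have hkill : ∀ b ∈ m, ∀ x : m.Cotangent, b • x = 0 := by
      intro b hb x
      obtain ⟨y, rfl⟩ := m.toCotangent_surjective x
      rw [← map_smul, Ideal.toCotangent_eq_zero, Submodule.coe_smul, pow_two, smul_eq_mul]
      exact Ideal.mul_mem_mul hb y.2
    have hRsurj : Function.Surjective (algebraMap R κ) := fun c => by
      obtain ⟨r, rfl⟩ := hk c
      exact ⟨algebraMap k R r, (IsScalarTower.algebraMap_apply k R κ r).symm⟩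
    have hcong : ∀ b b', algebraMap R κ b = algebraMap R κ b' → ∀ x : m.Cotangent, b • x = b' • x := by
      intro b b' hbb x
      rw [← sub_eq_zero, ← sub_smul]
      exact hkill _ (by rw [RingHom.mem_ker, map_sub, hbb, sub_self]) x
    let D₀ : Derivation k R m.Cotangent :=
      Derivation.mk'
        { toFun := fun b => m.toCotangent ⟨b - algebraMap k R (σ b), hσ b⟩
          map_add' := fun b b' => by
            rw [← map_add, Ideal.toCotangent_eq]
            have e : algebraMap R κ (algebraMap k R (σ (b + b'))) =
                algebraMap R κ (algebraMap k R (σ b + σ b')) := by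
              simp only [map_add, ← IsScalarTower.algebraMap_apply, σ, (hk _).choose_spec]
            have h0 : algebraMap k R (σ b + σ b' - σ (b + b')) ∈ m ^ 2 := by
              have hz : algebraMap k R (σ b + σ b' - σ (b + b')) = 0 := by
                have : algebraMap k κ (σ b + σ b' - σ (b + b')) = 0 := by
                  rw [map_sub, IsScalarTower.algebraMap_apply k R κ, IsScalarTower.algebraMap_apply k R κ,
                    e, sub_self]
                rw [hinj _ this, map_zero]
              rw [hz]
              exact zero_mem _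
            convert h0 using 1
            simp only [Submodule.coe_add, map_sub, map_add]
            ring
          map_smul' := fun r b => by
            rw [RingHom.id_apply]
            refine Eq.trans ?_ (algebraMap_smul R r _)
            rw [← map_smul, Ideal.toCotangent_eq]
            have h0 : algebraMap k R (r * σ b - σ (r • b)) ∈ m ^ 2 := by
              have : algebraMap k κ (r * σ b - σ (r • b)) = 0 := by
                simp only [map_sub, map_mul, σ, (hk _).choose_spec]
                rw [Algebra.smul_def, map_mul, ← IsScalarTower.algebraMap_apply, sub_self]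
              rw [hinj _ this, map_zero]
              exact zero_mem _
            convert h0 using 1
            simp only [Submodule.coe_smul, smul_eq_mul, Algebra.smul_def, map_sub, map_mul]
            ring }
        (fun b b' => by
          show m.toCotangent ⟨b * b' - _, _⟩ = b • m.toCotangent ⟨b' - _, _⟩ + b' • m.toCotangent ⟨b - _, _⟩
          rw [← map_smul, ← map_smul, ← map_add, Ideal.toCotangent_eq]
          have h0 : algebraMap k R (σ b * σ b' - σ (b * b')) = 0 := by
            have : algebraMap k κ (σ b * σ b' - σ (b * b')) = 0 := by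
              simp only [map_sub, map_mul, σ, (hk _).choose_spec, sub_self]
            rw [hinj _ this, map_zero]
          have h1 := Ideal.mul_mem_mul (neg_mem (hσ b)) (hσ b')
          simp only [Submodule.coe_add, Submodule.coe_smul, smul_eq_mul, pow_two]
          convert h1 using 1
          rw [map_sub, map_mul, sub_eq_zero] at h0
          rw [← h0]
          ring)
    let L : Ω[R⁄k] →ₗ[R] m.Cotangent := D₀.liftKaehlerDifferential
    let act : κ → m.Cotangent →ₗ[R] m.Cotangent := fun c => (hRsurj c).choose • LinearMap.id
    let Φ : κ ⊗[R] Ω[R⁄k] →ₗ[R] m.Cotangent := TensorProduct.lift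
      { toFun := fun c => (act c).comp L
        map_add' := fun c c' => LinearMap.ext fun w => by
          show (hRsurj (c + c')).choose • L w = (hRsurj c).choose • L w + (hRsurj c').choose • L w
          rw [← add_smul]
          exact hcong _ _ (by rw [map_add, (hRsurj _).choose_spec, (hRsurj _).choose_spec, (hRsurj _).choose_spec]) _
        map_smul' := fun b c => LinearMap.ext fun w => by
          show (hRsurj (b • c)).choose • L w = b • (hRsurj c).choose • L w
          rw [smul_smul]
          exact hcong _ _ (by rw [map_mul, (hRsurj _).choose_spec, (hRsurj _).choose_spec, Algebra.smul_def]) _ }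
    have h2 : Φ ((1 : κ) ⊗ₜ[R] D k R a) = 0 := by rw [h, map_zero]
    simp only [Φ, TensorProduct.lift.tmul] at h2
    change (hRsurj 1).choose • L (D k R a) = 0 at h2
    rw [hcong _ 1 (by rw [map_one, (hRsurj _).choose_spec]), one_smul,
      Derivation.liftKaehlerDifferential_comp_D] at h2
    have hσa : algebraMap k R (σ a) = 0 := by
      rw [hinj (σ a) ((hk _).choose_spec.trans ha), map_zero]
    have h3 : m.toCotangent ⟨a - algebraMap k R (σ a), hσ a⟩ = 0 := h2
    rw [Ideal.toCotangent_eq_zero] at h3
    change a - algebraMap k R (σ a) ∈ m ^ 2 at h3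
    rwa [hσa, sub_zero] at h3
  · intro h
    rw [pow_two] at h
    refine Submodule.mul_induction_on h (fun y hy z hz => ?_) fun y z hy hz => ?_
    · rw [Derivation.leibniz, TensorProduct.tmul_add, TensorProduct.tmul_smul, TensorProduct.tmul_smul,
        smul_tensor_eq, smul_tensor_eq, (RingHom.mem_ker).1 hy, (RingHom.mem_ker).1 hz]
      simp
    · rw [map_add, TensorProduct.tmul_add, hy, hz, add_zero]

end RatPoint

section Local

variable {k A T : Type u} [CommRing k] [CommRing A] [CommRing T] [IsLocalRing T]
  [Algebra k A] [Algebra k T] [Algebra A T] [IsScalarTower k A T]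
  [Algebra.EssFiniteType k A] [Algebra.EssFiniteType k T] [Algebra.FormallySmooth k T]

/-- A local algebra smooth over `k` is smooth over `A` if the differentials of `A` inject in its
closed fibre. -/
theorem formallySmooth_of_injective
    (hl : Function.Injective ((mapBaseChange k A T).lTensor (IsLocalRing.ResidueField T))) :
    Algebra.FormallySmooth A T := by
  have : Module.Free T Ω[T⁄k] := Module.free_of_flat_of_isLocalRing
  let l := mapBaseChange k A T
  obtain ⟨l', hl'⟩ := (IsLocalRing.split_injective_iff_lTensor_residueField_injective l).2 hl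
  have hlinj : Function.Injective l := Function.HasLeftInverse.injective ⟨_, LinearMap.congr_fun hl'⟩
  refine ⟨?_, ?_⟩
  · let q : Ω[T⁄k] →ₗ[T] Ω[T⁄A] := map k A T T
    have hq : Function.Surjective q := map_surjective k A T
    let π : Ω[T⁄k] →ₗ[T] Ω[T⁄k] := LinearMap.id - l ∘ₗ l'
    have hker : LinearMap.ker q ≤ LinearMap.ker π := by
      intro x hx
      obtain ⟨y, rfl⟩ := (exact_mapBaseChange_map k A T x).1 hx
      have e : l' (l y) = y := LinearMap.congr_fun hl' y
      show l y - l (l' (l y)) = 0
      rw [e, sub_self]
    let s : Ω[T⁄A] →ₗ[T] Ω[T⁄k] :=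
      (LinearMap.ker q).liftQ π hker ∘ₗ (LinearMap.quotKerEquivOfSurjective q hq).symm.toLinearMap
    refine Module.Projective.of_split s q ?_
    refine LinearMap.ext fun z => ?_
    obtain ⟨x, rfl⟩ := hq z
    have e1 : (LinearMap.quotKerEquivOfSurjective q hq).symm (q x) = Submodule.Quotient.mk x := by
      rw [LinearEquiv.symm_apply_eq]
      rfl
    show q ((LinearMap.ker q).liftQ π hker ((LinearMap.quotKerEquivOfSurjective q hq).symm (q x))) = q x
    rw [e1, Submodule.liftQ_apply]
    show q (x - l (l' x)) = q x
    rw [map_sub, show q (l (l' x)) = 0 from (exact_mapBaseChange_map k A T (l (l' x))).2 ⟨_, rfl⟩, sub_zero]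
  · refine ⟨fun a b => ?_⟩
    suffices h : ∀ z : Algebra.H1Cotangent A T, z = 0 by rw [h a, h b]
    intro z
    have h1 : Algebra.H1Cotangent.δ k A T z = 0 := hlinj (by
      rw [map_zero]
      exact (Algebra.H1Cotangent.exact_δ_mapBaseChange k A T _).2 ⟨z, rfl⟩)
    obtain ⟨w, rfl⟩ := (Algebra.H1Cotangent.exact_map_δ k A T z).1 h1
    rw [Subsingleton.elim w 0, map_zero]

/-- Conversely, smoothness makes the differentials of the base inject in the closed fibre. -/
theorem injective_of_formallySmooth [Algebra.FormallySmooth A T] :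
    Function.Injective ((mapBaseChange k A T).lTensor (IsLocalRing.ResidueField T)) := by
  have : Module.Free T Ω[T⁄k] := Module.free_of_flat_of_isLocalRing
  let l := mapBaseChange k A T
  have hlinj : Function.Injective l := by
    rw [injective_iff_map_eq_zero]
    intro x hx
    obtain ⟨y, rfl⟩ := (Algebra.H1Cotangent.exact_δ_mapBaseChange k A T x).1 hx
    rw [Subsingleton.elim y 0, map_zero]
  obtain ⟨s, hs⟩ := Module.projective_lifting_property (map k A T T) LinearMap.id (map_surjective k A T)
  have hmem : ∀ x, x - s (map k A T T x) ∈ LinearMap.range l := fun x =>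
    (exact_mapBaseChange_map k A T _).1 (by
      rw [map_sub, show map k A T T (s (map k A T T x)) = map k A T T x from LinearMap.congr_fun hs _, sub_self])
  refine (IsLocalRing.split_injective_iff_lTensor_residueField_injective l).1
    ⟨(LinearEquiv.ofInjective l hlinj).symm.toLinearMap ∘ₗ
      LinearMap.codRestrict _ (LinearMap.id - s ∘ₗ map k A T T) hmem, LinearMap.ext fun x => ?_⟩
  show (LinearEquiv.ofInjective l hlinj).symm _ = x
  rw [LinearEquiv.symm_apply_eq]
  refine Subtype.ext ?_
  show l x - s (map k A T T (l x)) = l x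
  rw [show map k A T T (l x) = 0 from (exact_mapBaseChange_map k A T _).2 ⟨x, rfl⟩, map_zero, sub_zero]

end Local

section Criterion

variable (k : Type u) [Field k] {A B : Type u} [CommRing A] [CommRing B] [Algebra k A] [Algebra k B]
  [Algebra A B] [IsScalarTower k A B] [Algebra.FiniteType k A] [Algebra.Smooth k B]
  (n : Ideal B) [n.IsMaximal]

/-- The differential criterion: at a rational point of a smooth algebra, smoothness over the base is
the injectivity of the cotangent map. -/
theorem isSmoothAt_iff (hrat : Function.Surjective (algebraMap k (B ⧸ n))) :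
    Algebra.IsSmoothAt A n ↔
      ∀ a ∈ n.comap (algebraMap A B), algebraMap A B a ∈ n ^ 2 → a ∈ n.comap (algebraMap A B) ^ 2 := by
  let T := Localization.AtPrime n
  let κ := IsLocalRing.ResidueField T
  have : Algebra.FormallySmooth B T := Algebra.FormallySmooth.of_isLocalization n.primeCompl
  have : Algebra.FormallySmooth k T := Algebra.FormallySmooth.comp k B T
  have : Algebra.EssFiniteType k T := Algebra.EssFiniteType.comp k B T
  have hkerB : RingHom.ker (algebraMap B κ) = n := by
    ext b
    rw [RingHom.mem_ker, IsScalarTower.algebraMap_apply B T κ, IsLocalRing.ResidueField.algebraMap_eq,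
      IsLocalRing.residue_eq_zero_iff, IsLocalization.AtPrime.to_map_mem_maximal_iff T n]
  have hkerA : RingHom.ker (algebraMap A κ) = n.comap (algebraMap A B) := by
    conv_rhs => rw [← hkerB]
    rw [RingHom.comap_ker, ← IsScalarTower.algebraMap_eq]
  have hkT : RingHom.ker (algebraMap T κ) = IsLocalRing.maximalIdeal T := IsLocalRing.ker_residue
  have hksurj : Function.Surjective (algebraMap k κ) := by
    intro z
    obtain ⟨t, rfl⟩ := IsLocalRing.residue_surjective z
    obtain ⟨b, s, rfl⟩ := IsLocalization.exists_mk'_eq n.primeCompl t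
    have hpt : ∀ b : B, ∃ r : k, algebraMap B κ b = algebraMap k κ r := fun b => by
      obtain ⟨r, hr⟩ := hrat (Ideal.Quotient.mk n b)
      refine ⟨r, ?_⟩
      rw [IsScalarTower.algebraMap_apply k B κ, ← sub_eq_zero, ← map_sub, ← RingHom.mem_ker, hkerB,
        ← Ideal.Quotient.eq]
      exact hr.symm
    obtain ⟨r₁, hr₁⟩ := hpt b
    obtain ⟨r₂, hr₂⟩ := hpt s.1
    have hne : algebraMap k κ r₂ ≠ 0 := by
      rw [← hr₂]
      exact fun h0 => s.2 (hkerB.le h0)
    refine ⟨r₁ / r₂, mul_right_cancel₀ hne ?_⟩
    rw [← map_mul, div_mul_cancel₀ _ (fun h0 => hne (by rw [h0, map_zero])), ← hr₁, ← hr₂]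
    show _ = algebraMap T κ _ * algebraMap B κ s.1
    rw [IsScalarTower.algebraMap_apply B T κ, IsScalarTower.algebraMap_apply B T κ, ← map_mul,
      IsLocalization.mk'_spec]
  let e := TensorProduct.AlgebraTensorModule.cancelBaseChange A T κ κ Ω[A⁄k]
  let l := (mapBaseChange k A T).lTensor κ
  have key : ∀ a : A, l (e.symm ((1 : κ) ⊗ₜ[A] D k A a)) = (1 : κ) ⊗ₜ[T] D k T (algebraMap A T a) := fun a => by
    simp [e, l, TensorProduct.AlgebraTensorModule.cancelBaseChange_symm_tmul, mapBaseChange_tmul, map_D]
  have hTmem : ∀ a : A, a ∈ n.comap (algebraMap A B) →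
      ((1 : κ) ⊗ₜ[T] D k T (algebraMap A T a) = 0 ↔ algebraMap A B a ∈ n ^ 2) := by
    intro a ha
    have hamem : algebraMap A T a ∈ RingHom.ker (algebraMap T κ) := by
      rw [RingHom.mem_ker, ← IsScalarTower.algebraMap_apply]
      exact hkerA.ge ha
    rw [D_eq_zero_iff k hksurj hamem, hkT, ← IsLocalization.AtPrime.map_eq_maximalIdeal n T,
      ← Ideal.map_pow, IsScalarTower.algebraMap_apply A B T,
      IsLocalization.algebraMap_mem_map_algebraMap_iff n.primeCompl]
    refine ⟨fun ⟨t, ht, hta⟩ => ?_, fun h => ⟨1, fun h1 => ‹n.IsMaximal›.ne_top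
      ((Ideal.eq_top_iff_one _).2 h1), by rwa [one_mul]⟩⟩
    obtain ⟨b, i, hi, hbi⟩ := Ideal.IsMaximal.exists_inv ‹n.IsMaximal› ht
    have : algebraMap A B a = b * (t * algebraMap A B a) + i * algebraMap A B a := by
      linear_combination -(algebraMap A B a) * hbi
    rw [this]
    refine add_mem (Ideal.mul_mem_left _ _ hta) ?_
    rw [pow_two]
    exact Ideal.mul_mem_mul hi ha
  have hstep : Algebra.IsSmoothAt A n ↔ Function.Injective l :=
    ⟨fun _ => injective_of_formallySmooth, fun h => formallySmooth_of_injective h⟩
  rw [hstep]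
  constructor
  · intro hinj a ha h2
    have h0 : e.symm ((1 : κ) ⊗ₜ[A] D k A a) = 0 :=
      hinj (by rw [map_zero, key, (hTmem a ha).2 h2])
    rw [LinearEquiv.map_eq_zero_iff, D_eq_zero_iff k hksurj (hkerA.ge ha), hkerA] at h0
    exact h0
  · intro h
    rw [injective_iff_map_eq_zero]
    intro z hz
    obtain ⟨a, ha, hza⟩ := exists_eq_D k hksurj (e z)
    have hz' : z = e.symm ((1 : κ) ⊗ₜ[A] D k A a) := by rw [← hza, e.symm_apply_apply]
    rw [hkerA] at ha
    rw [hz', key, hTmem a ha] at hz
    rw [hz', LinearEquiv.map_eq_zero_iff, D_eq_zero_iff k hksurj (hkerA.ge ha), hkerA]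
    exact h a ha hz

end Criterion

end Groth.Agent.Var76.SmoothCrit
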