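import Groth.Agent.Var76.ProjCoord
import Mathlib.AlgebraicGeometry.IdealSheaf.Functorial
import Mathlib.AlgebraicGeometry.Morphisms.ClosedImmersion
import Mathlib.RingTheory.MvPolynomial.Basic
import Mathlib.Algebra.MvPolynomial.Funext

/-! Hyperplane sections of a closed subscheme of projective space. -/

universe u

open CategoryTheory CategoryTheory.Limits AlgebraicGeometry Opposite TopologicalSpace
open scoped TensorProduct

set_option backward.isDefEq.respectTransparency false

noncomputable section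

namespace Groth.Agent.Var76.HypSection

open LineBundle ZeroScheme BertiniScheme ProjCoord

theorem map_comap {X Y : Scheme.{u}} (f : X ⟶ Y) [IsClosedImmersion f] (I : Y.IdealSheafData) :
    (I.comap f).map f = I ⊔ f.ker := by
  refine le_antisymm ?_ (sup_le (I.le_map_comap f) ?_)
  · set K := I ⊔ f.ker
    have hK : f.ker ≤ K.subschemeι.ker := by
      rw [Scheme.IdealSheafData.ker_subschemeι]; exact le_sup_right
    let g := IsClosedImmersion.lift f K.subschemeι hK
    have hg : g.ker.map f = K := by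
      rw [Scheme.IdealSheafData.map_ker, IsClosedImmersion.lift_fac, Scheme.IdealSheafData.ker_subschemeι]
    have h : I.comap f ≤ g.ker := Scheme.IdealSheafData.le_map_iff_comap_le.1 (by rw [hg]; exact le_sup_left)
    exact ((Scheme.IdealSheafData.map_gc f).monotone_u h).trans hg.le
  · rw [← Scheme.IdealSheafData.map_bot]
    exact (Scheme.IdealSheafData.map_gc f).monotone_u bot_le

/-- The inverse image of an ideal sheaf under a closed immersion, on an affine open. -/
theorem ideal_comap {X Y : Scheme.{u}} (f : X ⟶ Y) [IsClosedImmersion f] (I : Y.IdealSheafData)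
    (U : Y.affineOpens) :
    (I.comap f).ideal ⟨f ⁻¹ᵁ U.1, U.2.preimage f⟩ = (I.ideal U).map (f.app U.1).hom := by
  have hs : Function.Surjective (f.app U.1).hom := Scheme.Hom.app_surjective f _ U.2
  have h := congrArg (fun J : Y.IdealSheafData => (J.ideal U).map (f.app U.1).hom) (map_comap f I)
  simp only [Scheme.IdealSheafData.ideal_map_of_isAffineHom, Ideal.map_comap_of_surjective _ hs,
    Scheme.IdealSheafData.ideal_sup, Pi.sup_apply, Ideal.map_sup] at h
  rw [h, sup_eq_left, Scheme.Hom.ker_apply]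
  refine le_trans (le_of_eq ((Ideal.map_eq_bot_iff_le_ker (f.app U.1).hom).2 le_rfl)) bot_le

variable {k : Type u} [Field k] {n : ℕ}

/-- The zero scheme of a linear form on a standard open. -/
theorem ideal_zero (j : Fin (n + 1)) (h : CohB1.polyGrading n k 1) :
    (PicF2.zeroScheme (Twist.twistProjSpace n k 1)
      (ProjFrame.sectHom (CohB1.polyGrading n k) h)).ideal ⟨U k n j, isAffineOpen_U k n j⟩ =
      Ideal.span {Proj.awayToSection (CohB1.polyGrading n k) (MvPolynomial.X j) (frac k n j h)} :=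
  ideal_zeroScheme (isFinLocFreeOfRank k n) ⟨U k n j, isAffineOpen_U k n j⟩
    (ProjFrame.isFrame (CohB1.polyGrading n k) (X₁ k n j))
    (ProjFrame.sectHom_coord (X₁ k n j) h)

variable {X : Scheme.{u}} [X.Over (Spec (CommRingCat.of k))] (ι : X ⟶ CohB1.ProjSpace n k)
  [IsClosedImmersion ι]

/-- The coefficients of a linear form. -/
def coeffs (h : CohB1.polyGrading n k 1) : Fin (n + 1) → k :=
  fun i => MvPolynomial.coeff (Finsupp.single i 1) h.1

omit [X.Over (Spec (CommRingCat.of k))] in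
/-- The hyperplane section on an affine piece. -/
theorem ideal_section (j : Fin (n + 1)) (h : CohB1.polyGrading n k 1) :
    ((PicF2.zeroScheme (Twist.twistProjSpace n k 1)
      (ProjFrame.sectHom (CohB1.polyGrading n k) h)).comap ι).ideal
        ⟨ι ⁻¹ᵁ U k n j, (isAffineOpen_U k n j).preimage ι⟩ = Ideal.span {coord ι j h} := by
  rw [ideal_comap ι _ ⟨U k n j, isAffineOpen_U k n j⟩, ideal_zero, Ideal.map_span, Set.image_singleton]
  rfl

/-- Away from a hypersurface of parameters the linear forms have nowhere vanishing differential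
on their zero locus in an affine piece. -/
theorem exists_poly_chart (hι : ι ≫ CohB1.ProjSpace.toSpec n k = X ↘ Spec (CommRingCat.of k))
    (j : Fin (n + 1)) :
    letI := (const (k := k) X (ι ⁻¹ᵁ U k n j)).toAlgebra
    Algebra.Smooth k Γ(X, ι ⁻¹ᵁ U k n j) →
      ∃ q : MvPolynomial (Fin (n + 1)) k, q ≠ 0 ∧ ∀ h : CohB1.polyGrading n k 1,
        MvPolynomial.eval (coeffs h) q ≠ 0 → ∀ m : Ideal Γ(X, ι ⁻¹ᵁ U k n j), ∀ [m.IsMaximal],
          coord ι j h ∈ m →
            (1 : m.ResidueField) ⊗ₜ[Γ(X, ι ⁻¹ᵁ U k n j)]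
              KaehlerDifferential.D k Γ(X, ι ⁻¹ᵁ U k n j) (coord ι j h) ≠ 0 := by
  classical
  intro hsm
  let A := Γ(X, ι ⁻¹ᵁ U k n j)
  let : Algebra k A := (const (k := k) X (ι ⁻¹ᵁ U k n j)).toAlgebra
  let φ : Fin (n + 1) → A := fun i => coord ι j (X₁ k n i)
  have hloc : ∀ M : MaximalSpectrum A, ∃ a ∉ M.asIdeal, ∃ p : MvPolynomial (Fin (n + 1)) k, p ≠ 0 ∧
      ∀ c : Fin (n + 1) → k, ∀ m : Ideal A, ∀ [m.IsMaximal],
        a ∉ m → (0 : A) + ∑ i, c i • φ i ∈ m →
        (1 : m.ResidueField) ⊗ₜ[A] KaehlerDifferential.D k A ((0 : A) + ∑ i, c i • φ i) = 0 →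
          MvPolynomial.eval c p = 0 := fun M => by
    have := M.isMaximal
    exact BertiniAlg.exists_bad_local_of_span 0 φ M.asIdeal fun l =>
      BertiniAlg.jets_span_of_adjoin φ (adjoin_coord ι hι j) j (coord_self ι j) M.asIdeal l
  choose a ha p hp0 hp using hloc
  have hspan : Ideal.span (Set.range a) = ⊤ := by
    by_contra h
    obtain ⟨N, hN, hle⟩ := Ideal.exists_le_maximal _ h
    exact ha ⟨N, hN⟩ (hle (Ideal.subset_span ⟨_, rfl⟩))
  obtain ⟨T, hT⟩ : ∃ T : Finset (MaximalSpectrum A), (1 : A) ∈ Ideal.span (a '' T) := by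
    obtain ⟨S, hS, h1⟩ := Submodule.mem_span_finite_of_mem_span
      (show (1 : A) ∈ Ideal.span (Set.range a) from hspan ▸ trivial)
    choose g hg using fun x (hx : x ∈ S) => hS hx
    refine ⟨S.attach.image fun x => g x.1 x.2, Ideal.span_mono ?_ h1⟩
    exact fun x hx => ⟨g x hx, Finset.mem_coe.2 (Finset.mem_image.2 ⟨⟨x, hx⟩, Finset.mem_attach _ _, rfl⟩), hg x hx⟩
  refine ⟨∏ M ∈ T, p M, Finset.prod_ne_zero_iff.2 fun M _ => hp0 M, fun h hh m _ hm h0 => hh ?_⟩
  have hc : coord ι j h = (0 : A) + ∑ i, coeffs h i • φ i := by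
    rw [zero_add, coord_eq_sum ι hι j h]
    rfl
  rw [hc] at hm h0
  have : ¬ Ideal.span (a '' T) ≤ m := fun hle =>
    ‹m.IsMaximal›.ne_top ((Ideal.eq_top_iff_one _).2 (hle hT))
  rw [Ideal.span_le, Set.not_subset] at this
  obtain ⟨_, ⟨M, hM, rfl⟩, hMm⟩ := this
  rw [map_prod]
  exact Finset.prod_eq_zero hM (hp M _ m hMm hm h0)

theorem exists_closed_point [Nonempty X] [CompactSpace X] :
    ∃ x : X, IsClosed ({x} : Set X) := by
  obtain ⟨x, -, hx⟩ := IsClosed.exists_closed_singleton (isClosed_univ (X := X)) Set.univ_nonempty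
  exact ⟨x, hx⟩

/-- A linear condition on the coefficients keeps a chosen closed point off the hyperplane. -/
theorem exists_poly_point (hι : ι ≫ CohB1.ProjSpace.toSpec n k = X ↘ Spec (CommRingCat.of k))
    [Nonempty X] :
    ∃ q : MvPolynomial (Fin (n + 1)) k, q ≠ 0 ∧ ∀ h : CohB1.polyGrading n k 1,
      MvPolynomial.eval (coeffs h) q ≠ 0 → ∃ (j : Fin (n + 1)) (x : X) (hx : ι x ∈ U k n j),
        x ∈ X.basicOpen (coord ι j h) := by
  classical
  obtain ⟨x⟩ : Nonempty X := inferInstance
  obtain ⟨j, hj⟩ := exists_mem_U k n (ι x)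
  let A := Γ(X, ι ⁻¹ᵁ U k n j)
  let : Algebra k A := (const (k := k) X (ι ⁻¹ᵁ U k n j)).toAlgebra
  have hA : IsAffineOpen (ι ⁻¹ᵁ U k n j) := (isAffineOpen_U k n j).preimage ι
  let P := hA.primeIdealOf ⟨x, hj⟩
  let K := A ⧸ P.asIdeal
  have : Nontrivial K := Ideal.Quotient.nontrivial_iff.mpr P.isPrime.ne_top
  obtain ⟨lam, hlam⟩ : ∃ lam : K →ₗ[k] k, lam 1 = 1 := by
    obtain ⟨lam, hlam⟩ := LinearMap.exists_leftInverse_of_injective (Algebra.linearMap k K)
      (LinearMap.ker_eq_bot.2 (algebraMap k K).injective)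
    exact ⟨lam, by simpa using LinearMap.congr_fun hlam 1⟩
  let w : Fin (n + 1) → k := fun i => lam (Ideal.Quotient.mk _ (coord ι j (X₁ k n i)))
  let q : MvPolynomial (Fin (n + 1)) k := ∑ i, MvPolynomial.C (w i) * MvPolynomial.X i
  have hw : w j = 1 := by simp [w, coord_self, hlam]
  have heval : ∀ c : Fin (n + 1) → k, MvPolynomial.eval c q = ∑ i, w i * c i := fun c => by
    simp [q, map_sum]
  refine ⟨q, fun h0 => ?_, fun h hh => ⟨j, x, hj, ?_⟩⟩
  · have h1 := heval (Pi.single j 1)
    rw [h0, map_zero, Finset.sum_eq_single j (fun i _ hi => by simp [hi]) (by simp), hw] at h1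
    simp at h1
  · have hx : x = hA.fromSpec P := (hA.fromSpec_primeIdealOf ⟨x, hj⟩).symm
    rw [hx, ← SetLike.mem_coe, ← Set.mem_preimage, ← Scheme.Hom.coe_preimage, hA.fromSpec_preimage_basicOpen]
    show coord ι j h ∉ P.asIdeal
    intro hmem
    refine hh ?_
    have h2 : lam (Ideal.Quotient.mk _ (coord ι j h)) = ∑ i, w i * coeffs h i := by
      rw [coord_eq_sum ι hι j h, map_sum, map_sum]
      refine Finset.sum_congr rfl fun i _ => ?_
      rw [map_mul, show Ideal.Quotient.mk P.asIdeal (const X _ (MvPolynomial.coeff (Finsupp.single i 1) h.1)) =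
          algebraMap k K (coeffs h i) from rfl,
        ← Algebra.smul_def, map_smul, smul_eq_mul, mul_comm]
    rw [heval, ← h2, Ideal.Quotient.eq_zero_iff_mem.2 hmem, map_zero]

omit [X.Over (Spec (CommRingCat.of k))] [IsClosedImmersion ι] in
/-- A point off the hyperplane is outside the zero scheme and the linear form is not in its prime. -/
theorem notMem_of_mem_basicOpen (j : Fin (n + 1)) (h : CohB1.polyGrading n k 1) {x : X}
    (hx : x ∈ X.basicOpen (coord ι j h)) :
    ι x ∉ (PicF2.zeroScheme (Twist.twistProjSpace n k 1)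
      (ProjFrame.sectHom (CohB1.polyGrading n k) h)).support := by
  intro hmem
  have hxU : ι x ∈ U k n j := X.basicOpen_le _ hx
  have h1 := (Scheme.IdealSheafData.coe_support_inter _
    (⟨U k n j, isAffineOpen_U k n j⟩ : (CohB1.ProjSpace n k).affineOpens)).le ⟨hmem, hxU⟩
  rw [ideal_zero] at h1
  simp only [Scheme.zeroLocus_span] at h1
  have h2 := (Scheme.mem_zeroLocus_iff _ _ _).1 h1.1 _ (Set.mem_singleton _)
  refine h2 ?_
  have : x ∈ ι ⁻¹ᵁ (CohB1.ProjSpace n k).basicOpen
      (Proj.awayToSection (CohB1.polyGrading n k) (MvPolynomial.X j) (frac k n j h)) := by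
    rw [Scheme.preimage_basicOpen]; exact hx
  exact this

omit [X.Over (Spec (CommRingCat.of k))] [IsClosedImmersion ι] in
theorem notMem_ideal_of_mem_basicOpen (j : Fin (n + 1)) (h : CohB1.polyGrading n k 1) {x : X}
    (hx : x ∈ X.basicOpen (coord ι j h)) :
    (h : MvPolynomial (Fin (n + 1)) k) ∉ (ι x).asHomogeneousIdeal := by
  intro hmem
  have hxU : ι x ∈ U k n j := X.basicOpen_le _ hx
  have h1 : ι x ∈ (CohB1.ProjSpace n k).basicOpen
      (Proj.awayToSection (CohB1.polyGrading n k) (MvPolynomial.X j) (frac k n j h)) := by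
    have := (Scheme.preimage_basicOpen ι (Proj.awayToSection (CohB1.polyGrading n k) (MvPolynomial.X j) (frac k n j h))).ge hx
    exact this
  rw [Scheme.mem_basicOpen _ _ _ hxU] at h1
  have h2 := h1.map (Proj.stalkIso' (CohB1.polyGrading n k) (ι x))
  erw [Proj.stalkIso'_germ] at h2
  have h3 := h2.map (algebraMap (HomogeneousLocalization.AtPrime (CohB1.polyGrading n k)
    (ι x).asHomogeneousIdeal.toIdeal) (Localization.AtPrime (ι x).asHomogeneousIdeal.toIdeal))
  have h4 : IsUnit (Localization.mk h.1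
      (⟨MvPolynomial.X j, hxU⟩ : (ι x).asHomogeneousIdeal.toIdeal.primeCompl)) := h3
  rw [Localization.mk_eq_mk', IsLocalization.AtPrime.isUnit_mk'_iff] at h4
  exact h4 hmem

end Groth.Agent.Var76.HypSection
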