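import Groth.Agent.Var76.KaehlerGen
import Mathlib.RingTheory.TensorProduct.Maps
import Mathlib.RingTheory.Support

/-! Upper semicontinuity of the fibres of `Ω[A/k]` and the dimension bound. -/

namespace Groth.Agent.Var76.KaehlerFibre

universe u

open scoped TensorProduct
open KaehlerDifferential

/-- If the fibre of a finite module at `P` is spanned by the images of `v`, then some element outside
`P` maps the whole module into the span of `v`. -/
theorem exists_notMem_smul_le {A M : Type*} [CommRing A] [AddCommGroup M] [Module A M]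
    [Module.Finite A M] (P : Ideal A) [P.IsPrime] {ι : Type*} (v : ι → M)
    (h : Submodule.span P.ResidueField (Set.range fun i => (1 : P.ResidueField) ⊗ₜ[A] v i) = ⊤) :
    ∃ a ∉ P, ∀ m : M, a • m ∈ Submodule.span A (Set.range v) := by
  set N := Submodule.span A (Set.range v)
  have hsub : Subsingleton (P.ResidueField ⊗[A] (M ⧸ N)) := by
    refine subsingleton_of_forall_eq 0 fun y => ?_
    obtain ⟨x, rfl⟩ := LinearMap.baseChange_surjective (A := P.ResidueField) (Submodule.mkQ_surjective N) y
    have hx : x ∈ Submodule.span P.ResidueField (Set.range fun i => (1 : P.ResidueField) ⊗ₜ[A] v i) :=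
      h ▸ Submodule.mem_top
    induction hx using Submodule.span_induction with
    | mem x hx =>
      obtain ⟨i, rfl⟩ := hx
      have : N.mkQ (v i) = 0 := (Submodule.Quotient.mk_eq_zero N).2 (Submodule.subset_span ⟨i, rfl⟩)
      simp [LinearMap.baseChange_tmul, this]
    | zero => simp
    | add a b _ _ ha hb => simp [ha, hb]
    | smul c a _ ha => simp [ha]
  have hns : (⟨P, ‹_›⟩ : PrimeSpectrum A) ∉ Module.support A (M ⧸ N) := by
    rw [Module.mem_support_iff_nontrivial_residueField_tensorProduct]
    exact not_nontrivial_iff_subsingleton.2 hsub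
  rw [Module.support_eq_zeroLocus, PrimeSpectrum.mem_zeroLocus, Set.not_subset] at hns
  obtain ⟨a, ha, haP⟩ := hns
  refine ⟨a, haP, fun m => ?_⟩
  have := (Module.mem_annihilator.1 ha) (Submodule.Quotient.mk m)
  rwa [← Submodule.Quotient.mk_smul, Submodule.Quotient.mk_eq_zero] at this

variable (k : Type u) (A : Type u) [Field k] [CommRing A] [Algebra k A]

theorem trdeg_residueField_le [Algebra.FiniteType k A] {r : ℕ} (v : Fin r → Ω[A⁄k])
    (q : Ideal A) [q.IsPrime] (a : A) (ha : a ∉ q)
    (hv : ∀ ω : Ω[A⁄k], a • ω ∈ Submodule.span A (Set.range v)) :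
    Algebra.trdeg k q.ResidueField ≤ r := by
  have : Algebra.EssFiniteType k q.ResidueField := .comp k A _
  refine KaehlerGen.trdeg_le_of_span k q.ResidueField (fun i => map k k A q.ResidueField (v i)) ?_
  set S := Submodule.span q.ResidueField (Set.range fun i => map k k A q.ResidueField (v i))
  have hfull : ∀ ω : Ω[A⁄k], map k k A q.ResidueField ω ∈ S := by
    intro ω
    have h2 := Submodule.apply_mem_span_image_of_mem_span (map k k A q.ResidueField) (hv ω)
    rw [← Set.range_comp, map_smul] at h2
    have h3 : algebraMap A q.ResidueField a • map k k A q.ResidueField ω ∈ S := by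
      rw [algebraMap_smul]
      exact (Submodule.span_le_restrictScalars A q.ResidueField _) h2
    have hne : algebraMap A q.ResidueField a ≠ 0 := fun h => ha (Ideal.algebraMap_residueField_eq_zero.1 h)
    exact (S.smul_mem_iff hne).1 h3
  rw [eq_top_iff, ← KaehlerGen.span_residueField k A (fun ω : Ω[A⁄k] => ω) q (by simp),
    Submodule.span_le]
  rintro _ ⟨ω, rfl⟩
  exact hfull ω

/-- The dimension of a finitely generated domain is at most its transcendence degree. -/
theorem ringKrullDim_quotient_le [Algebra.FiniteType k A] (q : Ideal A) [q.IsPrime] (r : ℕ)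
    (h : Algebra.trdeg k q.ResidueField ≤ r) : ringKrullDim (A ⧸ q) ≤ r := by
  obtain ⟨s, g, hg, hfin⟩ := exists_finite_inj_algHom_of_fg k (A ⧸ q)
  have hs : s ≤ r := by
    let g' : MvPolynomial (Fin s) k →ₐ[k] q.ResidueField :=
      (IsScalarTower.toAlgHom k (A ⧸ q) q.ResidueField).comp g
    have hg' : Function.Injective g' := (IsFractionRing.injective (A ⧸ q) q.ResidueField).comp hg
    have h2 := (trdeg_le_of_injective g' hg').trans h
    rw [MvPolynomial.trdeg_of_isDomain] at h2
    simpa using h2
  algebraize [g.toRingHom]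
  have : Module.Finite (MvPolynomial (Fin s) k) (A ⧸ q) := hfin
  refine le_trans ?_ (Nat.cast_le.2 hs)
  refine le_trans (b := ringKrullDim (MvPolynomial (Fin s) k)) ?_ (le_of_eq ?_)
  · refine Order.krullDim_le_of_strictMono
      (PrimeSpectrum.comap (algebraMap (MvPolynomial (Fin s) k) (A ⧸ q))) ?_
    intro a b hab
    exact Ideal.IsIntegral.comap_lt_comap (R := MvPolynomial (Fin s) k) hab
  · simp [MvPolynomial.ringKrullDim_of_isNoetherianRing, ringKrullDim_eq_zero_of_field]

/-- `dim A/q ≤ dim κ(P) ⊗ Ω[A/k]` for `q ≤ P`. -/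
theorem ringKrullDim_quotient_le_finrank [Algebra.FiniteType k A] (P q : Ideal A) [P.IsPrime]
    [q.IsPrime] (hqP : q ≤ P) :
    ringKrullDim (A ⧸ q) ≤ (Module.finrank P.ResidueField (P.ResidueField ⊗[A] Ω[A⁄k]) : ℕ) := by
  set r := Module.finrank P.ResidueField (P.ResidueField ⊗[A] Ω[A⁄k])
  have htop : Submodule.span P.ResidueField
      (Set.range fun ω : Ω[A⁄k] => (1 : P.ResidueField) ⊗ₜ[A] ω) = ⊤ := by
    refine eq_top_iff.2 fun x _ => ?_
    induction x using TensorProduct.induction_on with
    | zero => simp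
    | tmul c ω =>
      rw [show c ⊗ₜ[A] ω = c • ((1 : P.ResidueField) ⊗ₜ[A] ω) by simp [TensorProduct.smul_tmul']]
      exact Submodule.smul_mem _ _ (Submodule.subset_span ⟨ω, rfl⟩)
    | add a b ha hb => exact add_mem (ha trivial) (hb trivial)
  obtain ⟨s, hsub, hspan, hli⟩ :=
    exists_linearIndependent P.ResidueField (Set.range fun ω : Ω[A⁄k] => (1 : P.ResidueField) ⊗ₜ[A] ω)
  rw [htop] at hspan
  have : Finite s := hli.finite
  have : Fintype s := Fintype.ofFinite s
  have hcard : Fintype.card s = r := by
    rw [← Set.toFinset_card, ← finrank_span_set_eq_card hli, hspan, finrank_top]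
  let e : Fin r ≃ s := (Fintype.equivFinOfCardEq hcard).symm
  let v : Fin r → Ω[A⁄k] := fun i => (hsub (e i).2).choose
  obtain ⟨a, ha, hav⟩ := exists_notMem_smul_le P v (by
    rw [eq_top_iff, ← hspan, Submodule.span_le]
    intro x hx
    refine Submodule.subset_span ⟨e.symm ⟨x, hx⟩, ?_⟩
    dsimp [v]
    refine (hsub (e (e.symm ⟨x, hx⟩)).2).choose_spec.trans ?_
    rw [Equiv.apply_symm_apply])
  exact ringKrullDim_quotient_le k A q r (trdeg_residueField_le k A v q a (fun h => ha (hqP h)) hav)

end Groth.Agent.Var76.KaehlerFibre
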