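import Groth.Agent.Serre71.Cohom
import Groth.Agent.Serre71.Finite

/-! A Koszul type resolution by commuting families of maps which are locally bijective, and the resulting
propagation of vanishing of cohomology. -/

universe u

open CategoryTheory Limits AlgebraicGeometry TopologicalSpace Opposite

noncomputable section

namespace Groth.Agent.Var76.Reg

open QC70 Crv77

/-- Commuting degree one maps between modules, one of which is bijective near any given point. -/
structure KData (X : Scheme.{u}) (r : ℕ) where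
  /-- the modules -/
  G : ℤ → X.Modules
  /-- the maps -/
  m : Fin r → ∀ (d e : ℤ), e = d + 1 → (G d ⟶ G e)
  comm : ∀ (a b : Fin r) (c d e : ℤ) (h₁ : d = c + 1) (h₂ : e = d + 1),
    m a c d h₁ ≫ m b d e h₂ = m b c d h₁ ≫ m a d e h₂
  /-- the opens -/
  U : Fin r → X.Opens
  cover : ∀ x : X, ∃ l, x ∈ U l
  bij : ∀ (l : Fin r) (d e : ℤ) (h : e = d + 1) (V : X.Opens), V ≤ U l → Function.Bijective ((m l d e h).app V)

namespace KData

variable {X : Scheme.{u}} {r : ℕ} (K : KData X r)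

/-- The terms. -/
def C : ℕ → ℤ → X.Modules
  | 0, d => K.G d
  | j + 1, d => ⨁ fun _ : Fin r => C j d

/-- The maps on the terms. -/
def M (l : Fin r) : ∀ (j : ℕ) (d e : ℤ), e = d + 1 → (K.C j d ⟶ K.C j e)
  | 0, d, e, h => K.m l d e h
  | j + 1, d, e, h => biproduct.map fun _ : Fin r => M l j d e h

/-- The cone maps. -/
abbrev ins (l : Fin r) (j : ℕ) (d : ℤ) : K.C j d ⟶ K.C (j + 1) d := biproduct.ι (fun _ : Fin r => K.C j d) l

/-- The differential. -/
def dd : ∀ (j : ℕ) (d e : ℤ), e = d + 1 → (K.C (j + 1) d ⟶ K.C j e)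
  | 0, d, e, h => biproduct.desc fun l => K.m l d e h
  | j + 1, d, e, h => biproduct.desc fun l =>
      (K.M l (j + 1) d e h - dd j d e h ≫ K.ins l j e : K.C (j + 1) d ⟶ K.C (j + 1) e)

theorem ins_M (l b : Fin r) (j : ℕ) (d e : ℤ) (h : e = d + 1) :
    K.ins b j d ≫ K.M l (j + 1) d e h = K.M l j d e h ≫ K.ins b j e :=
  biproduct.ι_map (fun _ : Fin r => K.M l j d e h) b

theorem ins_dd_zero (l : Fin r) (d e : ℤ) (h : e = d + 1) : K.ins l 0 d ≫ K.dd 0 d e h = K.m l d e h :=
  biproduct.ι_desc _ _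

theorem ins_dd_succ (l : Fin r) (j : ℕ) (d e : ℤ) (h : e = d + 1) :
    K.ins l (j + 1) d ≫ K.dd (j + 1) d e h = K.M l (j + 1) d e h - K.dd j d e h ≫ K.ins l j e :=
  biproduct.ι_desc _ _

theorem M_comm (a b : Fin r) : ∀ (j : ℕ) (c d e : ℤ) (h₁ : d = c + 1) (h₂ : e = d + 1),
    K.M a j c d h₁ ≫ K.M b j d e h₂ = K.M b j c d h₁ ≫ K.M a j d e h₂
  | 0, c, d, e, h₁, h₂ => K.comm a b c d e h₁ h₂
  | j + 1, c, d, e, h₁, h₂ => biproduct.hom_ext' _ _ fun l => by
    change K.ins l j c ≫ _ = K.ins l j c ≫ _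
    rw [← Category.assoc, ins_M, Category.assoc, ins_M, ← Category.assoc, M_comm a b j c d e h₁ h₂,
      ← Category.assoc (K.ins l j c), ins_M, Category.assoc, Category.assoc, ins_M]

theorem dd_M (a : Fin r) : ∀ (j : ℕ) (c d e : ℤ) (h₁ : d = c + 1) (h₂ : e = d + 1),
    K.dd j c d h₁ ≫ K.M a j d e h₂ = K.M a (j + 1) c d h₁ ≫ K.dd j d e h₂
  | 0, c, d, e, h₁, h₂ => biproduct.hom_ext' _ _ fun l => by
    change K.ins l 0 c ≫ _ = K.ins l 0 c ≫ _
    rw [← Category.assoc, ins_dd_zero, ← Category.assoc (K.ins l 0 c), ins_M, Category.assoc, ins_dd_zero]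
    exact K.comm l a c d e h₁ h₂
  | j + 1, c, d, e, h₁, h₂ => biproduct.hom_ext' _ _ fun l => by
    change K.ins l (j + 1) c ≫ _ = K.ins l (j + 1) c ≫ _
    rw [← Category.assoc, ins_dd_succ, ← Category.assoc (K.ins l (j + 1) c), ins_M, Category.assoc, ins_dd_succ,
      Preadditive.sub_comp, Preadditive.comp_sub, Category.assoc, ins_M, M_comm,
      ← Category.assoc (K.dd j c d h₁), dd_M a j c d e h₁ h₂, Category.assoc]

theorem dd_dd : ∀ (j : ℕ) (c d e : ℤ) (h₁ : d = c + 1) (h₂ : e = d + 1),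
    K.dd (j + 1) c d h₁ ≫ K.dd j d e h₂ = 0
  | 0, c, d, e, h₁, h₂ => biproduct.hom_ext' _ _ fun l => by
    change K.ins l 1 c ≫ _ = K.ins l 1 c ≫ _
    rw [comp_zero, ← Category.assoc, ins_dd_succ, Preadditive.sub_comp, Category.assoc, ins_dd_zero,
      ← dd_M, sub_eq_zero]
    rfl
  | j + 1, c, d, e, h₁, h₂ => biproduct.hom_ext' _ _ fun l => by
    change K.ins l (j + 2) c ≫ _ = K.ins l (j + 2) c ≫ _
    rw [comp_zero, ← Category.assoc, ins_dd_succ, Preadditive.sub_comp, Category.assoc, ins_dd_succ,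
      Preadditive.comp_sub, ← Category.assoc (K.dd (j + 1) c d h₁) (K.dd j d e h₂), dd_dd j c d e h₁ h₂,
      zero_comp, sub_zero, ← dd_M, sub_self]

theorem M_bijective (l : Fin r) : ∀ (j : ℕ) (d e : ℤ) (h : e = d + 1) (V : X.Opens), V ≤ K.U l →
    Function.Bijective ((K.M l j d e h).app V)
  | 0, d, e, h, V, hV => K.bij l d e h V hV
  | j + 1, d, e, h, V, hV => by
    have hp : ∀ (b : Fin r) (x : Γ(K.C (j + 1) d, V)),
        (biproduct.π (fun _ : Fin r => K.C j e) b).app V ((K.M l (j + 1) d e h).app V x) =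
          (K.M l j d e h).app V ((biproduct.π (fun _ : Fin r => K.C j d) b).app V x) := fun b x => by
      exact congr((Scheme.Modules.Hom.app $(biproduct.map_π (fun _ : Fin r => K.M l j d e h) b) V) x)
    have hi := M_bijective l j d e h V hV
    refine ⟨fun x y hxy => Serre71.biproduct_app_ext _ V fun b => hi.1 ?_, fun y => ?_⟩
    · rw [← hp, ← hp, hxy]
    · choose x hx using fun b : Fin r => hi.2 ((biproduct.π (fun _ : Fin r => K.C j e) b).app V y)
      refine ⟨∑ b, (K.ins b j d).app V (x b), ?_⟩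
      rw [map_sum]
      have hy : y = ∑ b, (K.ins b j e).app V ((biproduct.π (fun _ : Fin r => K.C j e) b).app V y) := by
        have h1 := Serre71.app_finset_sum Finset.univ
          (fun b => biproduct.π (fun _ : Fin r => K.C j e) b ≫ biproduct.ι (fun _ : Fin r => K.C j e) b) V y
        rw [biproduct.total] at h1
        exact h1
      rw [hy]
      refine Finset.sum_congr rfl fun b _ => ?_
      rw [← hx b]
      exact congr((Scheme.Modules.Hom.app $(K.ins_M l b j d e h) V) (x b))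

theorem epi_dd_zero (d e : ℤ) (h : e = d + 1) : Epi (K.dd 0 d e h) :=
  epi_of_locally_surjective _ fun W s q hq => by
    obtain ⟨l, hl⟩ := K.cover q
    obtain ⟨y, hy⟩ := (K.bij l d e h (W ⊓ K.U l) inf_le_right).2 (res (K.G e) inf_le_left s)
    exact ⟨W ⊓ K.U l, inf_le_left, (K.ins l 0 d).app _ y, ⟨hq, hl⟩,
      (congr((Scheme.Modules.Hom.app $(K.ins_dd_zero l d e h) (W ⊓ K.U l)) y)).trans hy⟩

theorem exists_dd_eq (j : ℕ) (c d e : ℤ) (h₁ : d = c + 1) (h₂ : e = d + 1) (l : Fin r) (V : X.Opens)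
    (hV : V ≤ K.U l) (x : Γ(K.C (j + 1) d, V)) (hx : (K.dd j d e h₂).app V x = 0) :
    ∃ y : Γ(K.C (j + 2) c, V), (K.dd (j + 1) c d h₁).app V y = x := by
  obtain ⟨x', rfl⟩ := (K.M_bijective l (j + 1) c d h₁ V hV).2 x
  have h0 : (K.dd j c d h₁).app V x' = 0 := by
    refine (K.M_bijective l j d e h₂ V hV).1 ?_
    rw [map_zero]
    exact (congr((Scheme.Modules.Hom.app $(K.dd_M l j c d e h₁ h₂) V) x')).trans hx
  refine ⟨(K.ins l (j + 1) c).app V x', ?_⟩
  refine (congr((Scheme.Modules.Hom.app $(K.ins_dd_succ l j c d h₁) V) x')).trans ?_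
  show (K.M l (j + 1) c d h₁).app V x' - (K.ins l j d).app V ((K.dd j c d h₁).app V x') = _
  rw [h0, map_zero, sub_zero]

/-- The map onto the cycles. -/
def lift (j : ℕ) (c d e : ℤ) (h₁ : d = c + 1) (h₂ : e = d + 1) : K.C (j + 2) c ⟶ kernel (K.dd j d e h₂) :=
  kernel.lift _ (K.dd (j + 1) c d h₁) (K.dd_dd j c d e h₁ h₂)

theorem epi_lift (j : ℕ) (c d e : ℤ) (h₁ : d = c + 1) (h₂ : e = d + 1) : Epi (K.lift j c d e h₁ h₂) :=
  epi_of_locally_surjective _ fun W s q hq => by
    obtain ⟨l, hl⟩ := K.cover q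
    let s' := res _ (inf_le_left : W ⊓ K.U l ≤ W) s
    have h0 : (K.dd j d e h₂).app _ ((kernel.ι (K.dd j d e h₂)).app _ s') = 0 :=
      congr((Scheme.Modules.Hom.app $(kernel.condition (K.dd j d e h₂)) (W ⊓ K.U l)) s')
    obtain ⟨y, hy⟩ := K.exists_dd_eq j c d e h₁ h₂ l _ inf_le_right _ h0
    refine ⟨W ⊓ K.U l, inf_le_left, y, ⟨hq, hl⟩, app_injective_of_mono (kernel.ι (K.dd j d e h₂)) _ ?_⟩
    exact (congr((Scheme.Modules.Hom.app $(kernel.lift_ι (K.dd j d e h₂) (K.dd (j + 1) c d h₁)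
      (K.dd_dd j c d e h₁ h₂)) (W ⊓ K.U l)) y)).trans hy

/-- The cycles of the next step are the kernel of the map onto the cycles. -/
def kerLiftIso (j : ℕ) (c d e : ℤ) (h₁ : d = c + 1) (h₂ : e = d + 1) :
    kernel (K.lift j c d e h₁ h₂) ≅ kernel (K.dd (j + 1) c d h₁) :=
  (kernelCompMono (K.lift j c d e h₁ h₂) (kernel.ι (K.dd j d e h₂))).symm ≪≫
    kernelIsoOfEq (kernel.lift_ι _ _ _)

variable (hq : ∀ d, (K.G d).IsQuasicoherent)

include hq in
theorem isQuasicoherent_C : ∀ (j : ℕ) (d : ℤ), (K.C j d).IsQuasicoherent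
  | 0, d => hq d
  | j + 1, d => Serre71.isQuasicoherent_biproduct _ fun _ => isQuasicoherent_C j d

include hq in
theorem isQuasicoherent_cycles (j : ℕ) (d e : ℤ) (h : e = d + 1) : (kernel (K.dd j d e h)).IsQuasicoherent :=
  have := K.isQuasicoherent_C hq (j + 1) d
  have := K.isQuasicoherent_C hq j e
  isQuasicoherent_kernel _

variable (A : Type u) [CommRing A] [X.Over (Spec (CommRingCat.of A))]

include A in
theorem subsingleton_C (q : ℕ) (d : ℤ) (h : Subsingleton (Coh.HH X (K.G d) q)) :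
    ∀ j : ℕ, Subsingleton (Coh.HH X (K.C j d) q)
  | 0 => h
  | j + 1 => Serre71.subsingleton_hh_biproduct (A := A) _ _ fun _ => subsingleton_C q d h j

omit [CommRing A] [X.Over (Spec (CommRingCat.of A))] in
theorem kernel_shortExact {P Q : X.Modules} (φ : P ⟶ Q) [Epi φ] :
    (ShortComplex.mk (kernel.ι φ) φ (kernel.condition φ)).ShortExact :=
  { exact := ShortComplex.exact_of_f_is_kernel _ (kernelIsKernel φ) }

variable {B : ℕ} (hB : ∀ (M : X.Modules), M.IsQuasicoherent → ∀ q, B ≤ q → Subsingleton (Coh.HH X M q))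

include hq hB A in
theorem subsingleton_cycles : ∀ (fuel q j : ℕ) (d e : ℤ) (h : e = d + 1), B ≤ q + fuel →
    (∀ s : ℕ, Subsingleton (Coh.HH X (K.G (d - 1 - s)) (q + s))) →
      Subsingleton (Coh.HH X (kernel (K.dd j d e h)) q)
  | 0, q, j, d, e, h, hle, _ => hB _ (K.isQuasicoherent_cycles hq j d e h) q (by omega)
  | fuel + 1, q, j, d, e, h, hle, hvan => by
    have h₁ : d = (d - 1) + 1 := by omega
    have := K.epi_lift j (d - 1) d e h₁ h
    have hS := kernel_shortExact (K.lift j (d - 1) d e h₁ h)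
    have hM : Subsingleton (Coh.HH X (K.C (j + 2) (d - 1)) q) :=
      K.subsingleton_C A q (d - 1) (by simpa using hvan 0) _
    have hker : Subsingleton (Coh.HH X (kernel (K.lift j (d - 1) d e h₁ h)) (q + 1)) := by
      have := subsingleton_cycles fuel (q + 1) (j + 1) (d - 1) d h₁ (by omega) fun s => by
        have := hvan (s + 1)
        rw [show d - 1 - ((s + 1 : ℕ) : ℤ) = d - 1 - 1 - s by push_cast; omega,
          show q + (s + 1) = q + 1 + s by omega] at this
        exact this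
      exact (hEquiv A (K.kerLiftIso j (d - 1) d e h₁ h) (q + 1)).toEquiv.subsingleton
    refine subsingleton_of_forall_eq 0 fun x => ?_
    obtain ⟨y, rfl⟩ := (exact_g_δ A hS q x).1 (hker.elim _ _)
    have := hM.elim y 0
    rw [this]
    exact map_zero _

include hq hB A in
/-- Propagation of vanishing. -/
theorem subsingleton_top (q : ℕ) (d e : ℤ) (h : e = d + 1)
    (hvan : ∀ t : ℕ, Subsingleton (Coh.HH X (K.G (d - t)) (q + t))) : Subsingleton (Coh.HH X (K.G e) q) := by
  have := K.epi_dd_zero d e h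
  have hS := kernel_shortExact (K.dd 0 d e h)
  have hM : Subsingleton (Coh.HH X (K.C 1 d) q) := K.subsingleton_C A q d (by simpa using hvan 0) 1
  have hker : Subsingleton (Coh.HH X (kernel (K.dd 0 d e h)) (q + 1)) :=
    K.subsingleton_cycles hq A hB B (q + 1) 0 d e h (by omega) fun s => by
      have := hvan (s + 1)
      rw [show d - ((s + 1 : ℕ) : ℤ) = d - 1 - s by push_cast; omega,
        show q + (s + 1) = q + 1 + s by omega] at this
      exact this
  refine subsingleton_of_forall_eq 0 fun x => ?_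
  obtain ⟨y, rfl⟩ := (exact_g_δ A hS q x).1 (hker.elim _ _)
  have := hM.elim y 0
  rw [this]
  exact map_zero _

include hq hB in
/-- Surjectivity on global classes. -/
theorem surjective_dd_zero (d e : ℤ) (h : e = d + 1)
    (hvan : ∀ s : ℕ, Subsingleton (Coh.HH X (K.G (d - 1 - s)) (1 + s))) :
    Function.Surjective (hmap A (K.dd 0 d e h) 0) := by
  have := K.epi_dd_zero d e h
  intro x
  exact (exact_g_δ A (kernel_shortExact (K.dd 0 d e h)) 0 x).1
    ((K.subsingleton_cycles hq A hB B 1 0 d e h (by omega) hvan).elim _ _)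

end KData

end Groth.Agent.Var76.Reg

end
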