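import Groth.Agent.Var76.RegMulX
import Groth.Agent.Var76.RegKoszul
import Groth.Agent.Pn71.Cohomology
import Groth.Agent.Coh69.QcInd
import Groth.Agent.Amp73.GlobGen
import Groth.Prelude.Def_Curv2

/-! Castelnuovo-Mumford regularity on projective space: the basic propagation statements. -/

universe u

open CategoryTheory Limits AlgebraicGeometry TopologicalSpace Opposite

noncomputable section

set_option maxSynthPendingDepth 6

namespace Groth.Agent.Var76.Reg

open Crv77

variable (n : ℕ) (A : Type u) [CommRing A]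

/-- A coordinate. -/
def xVar (l : Fin (n + 1)) : CohB1.polyGrading n A 1 := ⟨MvPolynomial.X l, MvPolynomial.isHomogeneous_X A l⟩

/-- The coordinate opens. -/
def xOpen (l : Fin (n + 1)) : (CohB1.ProjSpace n A).Opens :=
  Proj.basicOpen (CohB1.polyGrading n A) (MvPolynomial.X l)

theorem exists_mem_xOpen (x : CohB1.ProjSpace n A) : ∃ l, x ∈ xOpen n A l := by
  obtain ⟨i, hi⟩ := Opens.mem_iSup.1 ((Pn71.iSup_stdU n A).ge (trivial : x ∈ (⊤ : (CohB1.ProjSpace n A).Opens)))
  exact ⟨i.down, hi⟩

theorem isAffineOpen_xOpen (l : Fin (n + 1)) : IsAffineOpen (xOpen n A l) :=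
  Proj.isAffineOpen_basicOpen (CohB1.polyGrading n A) _ (MvPolynomial.isHomogeneous_X A l) zero_lt_one

/-- Cohomology of quasi-coherent modules on `P^n` vanishes above degree `n`. -/
theorem subsingleton_hh_gt (M : (CohB1.ProjSpace n A).Modules) (hM : M.IsQuasicoherent) (q : ℕ) (hq : n + 1 ≤ q) :
    Subsingleton (Coh.HH (CohB1.ProjSpace n A) M q) := by
  have := hM
  have : (CohB1.ProjSpace n A).IsSeparated :=
    inferInstanceAs (Scheme.IsSeparated (Proj (CohB1.polyGrading n A)))
  have h := Coh69.subsingleton_HE_biSup (X := CohB1.ProjSpace n A) (fun V W hV hW => hV.inf hW) M (n + 1)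
    (xOpen n A) (isAffineOpen_xOpen n A) q hq
  rw [show (⨆ l, xOpen n A l) = ⊤ from top_le_iff.1 fun x _ => Opens.mem_iSup.2 (exists_mem_xOpen n A x)] at h
  exact (Coh69.hhEquiv M q).toEquiv.subsingleton

variable (F : (CohB1.ProjSpace n A).Modules)

/-- The twist. -/
abbrev tw (d : ℤ) : (CohB1.ProjSpace n A).Modules := CohB1.tensorMod F (Twist.twistProjSpace n A d)

theorem isQCoh_tw (hF : Coh.IsQCoh F) (d : ℤ) : (tw n A F d).IsQuasicoherent :=
  Amp73.isQCoh_tensorMod hF (Pn71.isQCoh_twistProjSpace n A d)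

/-- Multiplication by a coordinate. -/
def xMul (l : Fin (n + 1)) (d e : ℤ) (h : e = d + 1) : tw n A F d ⟶ tw n A F e :=
  twMul (𝒜 := CohB1.polyGrading n A) F (xVar n A l) h

/-- The Koszul data of a module on projective space. -/
def kd : KData (CohB1.ProjSpace n A) (n + 1) where
  G := tw n A F
  m := xMul n A F
  comm a b c d e h₁ h₂ := twMul_comm (𝒜 := CohB1.polyGrading n A) F (xVar n A a) (xVar n A b) h₁ h₂ h₁ h₂
  U := xOpen n A
  cover := exists_mem_xOpen n A
  bij l d e h V hV := twMul_bijective (𝒜 := CohB1.polyGrading n A) F (xVar n A l) h hV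

/-- Vanishing of all higher cohomology in the Castelnuovo-Mumford pattern. -/
def Reg (m : ℤ) : Prop :=
  ∀ i : ℕ, 1 ≤ i → Subsingleton (Coh.HH (CohB1.ProjSpace n A) (tw n A F (m - i)) i)

variable {n A F}

theorem Reg.succ (hF : Coh.IsQCoh F) {m : ℤ} (h : Reg n A F m) : Reg n A F (m + 1) := fun i hi =>
  KData.subsingleton_top (kd n A F) (isQCoh_tw n A F hF) A (subsingleton_hh_gt n A) i (m - i) (m + 1 - i)
    (by omega) fun t => by
      have := h (i + t) (by omega)
      rwa [show m - ((i + t : ℕ) : ℤ) = m - i - t by push_cast; omega] at this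

theorem Reg.mono (hF : Coh.IsQCoh F) {m m' : ℤ} (h : Reg n A F m) (hm : m ≤ m') : Reg n A F m' := by
  obtain ⟨t, rfl⟩ := Int.le.dest hm
  induction t with
  | zero => simpa using h
  | succ t ih =>
    rw [show m + ((t + 1 : ℕ) : ℤ) = m + t + 1 by push_cast; omega]
    exact (ih (by omega)).succ hF

theorem Reg.vanish (hF : Coh.IsQCoh F) {m : ℤ} (h : Reg n A F m) {i : ℕ} {r : ℤ} (hi : 1 ≤ i) (hr : m - i ≤ r) :
    Subsingleton (Coh.HH (CohB1.ProjSpace n A) (tw n A F r) i) := by
  have := h.mono hF (m' := r + i) (by omega) i hi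
  rwa [add_sub_cancel_right] at this

/-- Multiplication by the coordinates is surjective on global classes from the regularity on. -/
theorem Reg.surjective_coord (hF : Coh.IsQCoh F) {m : ℤ} (h : Reg n A F m) {d e : ℤ} (he : e = d + 1) (hd : m ≤ d) :
    Function.Surjective (hmap A ((kd n A F).dd 0 d e he) 0) :=
  KData.surjective_dd_zero (kd n A F) (isQCoh_tw n A F hF) A (subsingleton_hh_gt n A) d e he fun s => by
    have := h.vanish hF (i := 1 + s) (r := d - 1 - s) (by omega) (by push_cast; omega)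
    exact this

theorem isMRegular_iff {k : Type u} [Field k] {F : (CohB1.ProjSpace n k).Modules} (hF : Coh.IsQCoh F) {m : ℤ} :
    Curv2.IsMRegular k n F m ↔ Reg n k F m := by
  refine ⟨fun h i hi => ?_, fun h i hi _ => h i hi⟩
  rcases le_or_gt i n with hin | hin
  · exact h i hi hin
  · exact subsingleton_hh_gt n k _ (isQCoh_tw n k F hF _) i hin

end Groth.Agent.Var76.Reg

end
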