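import Groth.Agent.Var76.RegMaps
import Groth.Agent.QC70.CohOps

/-! Regularity of an extension of a regular module by a twist of itself. -/

universe u

open CategoryTheory Limits AlgebraicGeometry TopologicalSpace Opposite

noncomputable section

set_option maxSynthPendingDepth 6

namespace Groth.Agent.Var76.Reg

open Crv77

variable {k : Type u} [Field k] {n : ℕ} {F : (CohB1.ProjSpace n k).Modules} (hF : Coh.IsCoh F)
  (ι : CohB1.tensorMod F (Twist.twistProjSpace n k (-1)) ⟶ F) [Mono ι] {m : ℤ}
  (hG : Reg n k (cokernel ι) m)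

/-- `h^1` of a twist. -/
abbrev h1 (F : (CohB1.ProjSpace n k).Modules) (j : ℤ) : ℕ :=
  Module.finrank k (Coh.HH (CohB1.ProjSpace n k) (tw n k F j) 1)

omit [Mono ι] in
/-- The short complex of a mono out of the twist. -/
abbrev extSC : ShortComplex (CohB1.ProjSpace n k).Modules :=
  ShortComplex.mk ι (cokernel.π ι) (cokernel.condition ι)

theorem extSC_shortExact : (extSC ι).ShortExact :=
  { exact := ShortComplex.exact_of_g_is_cokernel _ (cokernelIsCokernel ι) }

include hF in
omit [Mono ι] in
theorem isQCoh_ext_coker : Coh.IsQCoh (cokernel ι) :=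
  (QC70.isCoh_cokernel ι (isQCoh_tw n k F hF.1 (-1)) hF).1

include hF hG in
theorem ext_vanish_high {i : ℕ} {j : ℤ} (hi : 2 ≤ i) (hj : m - i ≤ j) :
    Subsingleton (Coh.HH (CohB1.ProjSpace n k) (tw n k F j) i) := by
  obtain ⟨J, hJ⟩ := exists_vanish F hF
  suffices H : ∀ (t : ℕ) (j : ℤ), J ≤ j + t → m - i ≤ j →
      Subsingleton (Coh.HH (CohB1.ProjSpace n k) (tw n k F j) i) from H (J - j).toNat j (by omega) hj
  intro t
  induction t with
  | zero => exact fun j h _ => hJ j (by omega) i (by omega)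
  | succ t ih =>
    intro j h hj
    obtain ⟨i', rfl⟩ : ∃ i', i = i' + 1 := ⟨i - 1, by omega⟩
    obtain ⟨e⟩ := nonempty_tw_tw F (a := -1) (b := j + 1) (c := j) (by ring)
    refine ValVan29.subsingleton_hh_of_iso e _ (sub_tw_X₁ (extSC_shortExact ι) ?_ (ih (j + 1) (by omega) (by omega)))
    exact hG.vanish (isQCoh_ext_coker hF ι) (by omega) (by push_cast at hj ⊢; omega)

omit [Mono ι] in
theorem finrank_ext_X₁ (j : ℤ) :
    Module.finrank k (Coh.HH (CohB1.ProjSpace n k) (tw n k (CohB1.tensorMod F (Twist.twistProjSpace n k (-1))) j) 1) =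
      h1 F (j - 1) := by
  obtain ⟨e⟩ := nonempty_tw_tw F (a := -1) (b := j) (c := j - 1) (by ring)
  exact (hEquiv k e 1).finrank_eq

include hF hG in
theorem ext_surjective_one {j : ℤ} (hj : m - 1 ≤ j) : Function.Surjective (hmap k (twMap ι j) 1) := by
  obtain ⟨w, hT⟩ := shortExact_twMap (extSC_shortExact ι) j
  intro x
  exact (exact_f_g k hT 1 x).1 ((hG.vanish (isQCoh_ext_coker hF ι) le_rfl (by push_cast; omega)).elim _ _)

include hF hG in
theorem ext_h1_le {j : ℤ} (hj : m - 1 ≤ j) : h1 F j ≤ h1 F (j - 1) := by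
  have := finite_hh_tw F hF (j - 1) 1
  obtain ⟨e⟩ := nonempty_tw_tw F (a := -1) (b := j) (c := j - 1) (by ring)
  have := Module.Finite.equiv (hEquiv k e.symm 1)
  rw [← finrank_ext_X₁ (k := k) j]
  exact LinearMap.finrank_le_finrank_of_surjective (f := hmap k (twMap ι j) 1) (ext_surjective_one hF ι hG hj)

include hF hG in
theorem ext_h1_strict {j : ℤ} (hj : m ≤ j) (he : h1 F j = h1 F (j - 1)) : h1 F (j - 1) = 0 := by
  have hfin : ∀ j, Module.Finite k (Coh.HH (CohB1.ProjSpace n k)
      (tw n k (CohB1.tensorMod F (Twist.twistProjSpace n k (-1))) j) 1) := fun j => by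
    obtain ⟨e⟩ := nonempty_tw_tw F (a := -1) (b := j) (c := j - 1) (by ring)
    have := finite_hh_tw F hF (j - 1) 1
    exact Module.Finite.equiv (hEquiv k e.symm 1)
  have := hfin j
  have := finite_hh_tw F hF j 1
  have hinj : Function.Injective (hmap k (twMap ι j) 1) :=
    (LinearMap.injective_iff_surjective_of_finrank_eq_finrank
      ((finrank_ext_X₁ j).trans he.symm)).2 (ext_surjective_one hF ι hG (by omega))
  have hsurj : Function.Surjective (hmap k (twMap (cokernel.π ι) j) 0) := by
    obtain ⟨w, hT⟩ := shortExact_twMap (extSC_shortExact ι) j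
    intro x
    refine (exact_g_δ k hT 0 x).1 (hinj ?_)
    exact ((exact_δ_f k hT 0 _).2 ⟨x, rfl⟩).trans (map_zero _).symm
  have hconst : ∀ t : ℕ, h1 F (j + t) = h1 F (j + t - 1) := by
    intro t
    have := hfin (j + t)
    have := finite_hh_tw F hF (j + t) 1
    obtain ⟨w, hT⟩ := shortExact_twMap (extSC_shortExact ι) (j + t)
    have hs := surjective_twMap_of_le (cokernel.π ι) (isQCoh_ext_coker hF ι) hG hj hsurj t
    have hi : Function.Injective (hmap k (twMap ι (j + t)) 1) := by
      rw [injective_iff_map_eq_zero]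
      intro x hx
      obtain ⟨y, rfl⟩ := (exact_δ_f k hT 0 x).1 hx
      exact (exact_g_δ k hT 0 y).2 (hs y)
    rw [← finrank_ext_X₁ (k := k) (j + t)]
    exact le_antisymm (LinearMap.finrank_le_finrank_of_surjective (f := hmap k (twMap ι (j + t)) 1)
      (ext_surjective_one hF ι hG (by omega))) (LinearMap.finrank_le_finrank_of_injective hi)
  obtain ⟨J, hJ⟩ := exists_vanish F hF
  have hall : ∀ t : ℕ, h1 F (j + t) = h1 F (j - 1) := by
    intro t
    induction t with
    | zero => simpa using he
    | succ t ih =>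
      rw [hconst, show j + ((t + 1 : ℕ) : ℤ) - 1 = j + t by push_cast; omega, ih]
  rw [← hall (J - j).toNat]
  have := hJ (j + (J - j).toNat) (by omega) 1 le_rfl
  exact Module.finrank_zero_of_subsingleton

include hF hG in
theorem ext_h1_bound (t : ℕ) : h1 F (m - 1 + t) ≤ h1 F (m - 1) - t := by
  induction t with
  | zero => simp
  | succ t ih =>
    have hle := ext_h1_le hF ι hG (j := m - 1 + (t + 1 : ℕ)) (by push_cast; omega)
    have e : m - 1 + ((t + 1 : ℕ) : ℤ) - 1 = m - 1 + t := by push_cast; omega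
    rw [e] at hle
    rcases hle.lt_or_eq with h | h
    · omega
    · have := ext_h1_strict hF ι hG (j := m - 1 + (t + 1 : ℕ)) (by push_cast; omega) (by rw [e]; exact h)
      rw [e] at this
      omega

include hF hG in
theorem ext_h1_vanish {j : ℤ} (hj : m - 1 + (h1 F (m - 1) : ℤ) ≤ j) :
    Subsingleton (Coh.HH (CohB1.ProjSpace n k) (tw n k F j) 1) := by
  have h := ext_h1_bound hF ι hG (j - (m - 1)).toNat
  rw [show m - 1 + ((j - (m - 1)).toNat : ℤ) = j by omega] at h
  have := finite_hh_tw F hF j 1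
  exact Module.finrank_zero_iff.1 (show h1 F j = 0 by omega)

include hF hG in
theorem ext_reg : Reg n k F (m + h1 F (m - 1)) := fun i hi => by
  rcases hi.lt_or_eq with h | h
  · exact ext_vanish_high hF ι hG h (by omega)
  · subst h
    exact ext_h1_vanish hF ι hG (by push_cast; omega)

end Groth.Agent.Var76.Reg

end
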