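import Groth.Agent.Var76.LinMul
import Groth.Agent.Var76.RegPres
import Groth.Agent.Var76.RegExt
import Groth.Agent.Crv77.Euler
import Mathlib.Algebra.Order.Antidiag.FinsuppEquiv
import Mathlib.Algebra.Homology.ShortComplex.Abelian
import Mathlib.CategoryTheory.Abelian.Refinements

/-! Euler characteristics on projective space and sections of free modules by iterated linear sections. -/

universe u

open CategoryTheory Limits AlgebraicGeometry TopologicalSpace Opposite

noncomputable section

set_option maxSynthPendingDepth 6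

namespace Groth.Agent.Var76.Reg

open Crv77

section Abelian

variable {C : Type*} [Category C] [Abelian C] {T T' : ShortComplex C} (φ : T ⟶ T')

/-- The cokernels of a morphism of short complexes. -/
abbrev cokSC : ShortComplex C :=
  ShortComplex.mk (cokernel.map φ.τ₁ φ.τ₂ T.f T'.f φ.comm₁₂) (cokernel.map φ.τ₂ φ.τ₃ T.g T'.g φ.comm₂₃)
    (by ext; simp)

theorem cokSC_shortExact (hT : T.ShortExact) (hT' : T'.ShortExact) [Mono φ.τ₃] : (cokSC φ).ShortExact := by
  have := hT.mono_f; have := hT.epi_g; have := hT'.mono_f; have := hT'.epi_g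
  have hmono : Mono (cokSC φ).f := by
    refine Preadditive.mono_of_cancel_zero _ fun {A} x hx => ?_
    obtain ⟨A₁, p₁, hp₁, y, hy⟩ := surjective_up_to_refinements_of_epi (cokernel.π φ.τ₁) x
    have h2 : (y ≫ T'.f) ≫ cokernel.π φ.τ₂ = 0 := by
      have := congrArg (p₁ ≫ ·) hx
      rw [comp_zero, ← Category.assoc, hy] at this
      simpa using this
    obtain ⟨A₂, p₂, hp₂, z, hz⟩ := ((ShortComplex.exact_of_g_is_cokernel
      (ShortComplex.mk φ.τ₂ (cokernel.π φ.τ₂) (cokernel.condition _))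
      (cokernelIsCokernel φ.τ₂))).exact_up_to_refinements (y ≫ T'.f) h2
    have hz0 : z ≫ T.g = 0 := by
      rw [← cancel_mono φ.τ₃, Category.assoc, ← φ.comm₂₃, zero_comp]
      calc z ≫ φ.τ₂ ≫ T'.g = (p₂ ≫ y ≫ T'.f) ≫ T'.g := by rw [← Category.assoc z]; exact congrArg (· ≫ T'.g) hz.symm
        _ = 0 := by simp
    obtain ⟨A₃, p₃, hp₃, w, hw⟩ := hT.exact.exact_up_to_refinements z hz0
    have e : p₃ ≫ p₂ ≫ y = w ≫ φ.τ₁ := by
      rw [← cancel_mono T'.f, Category.assoc, Category.assoc, Category.assoc, φ.comm₁₂, ← Category.assoc w, ← hw,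
        Category.assoc]
      exact congrArg (p₃ ≫ ·) hz
    have : (p₃ ≫ p₂ ≫ p₁) ≫ x = 0 := by
      rw [Category.assoc, Category.assoc, hy, ← Category.assoc p₂, ← Category.assoc p₃, e, Category.assoc,
        cokernel.condition, comp_zero]
    exact (cancel_epi (p₃ ≫ p₂ ≫ p₁)).1 (this.trans comp_zero.symm)
  have hepi : Epi (cokSC φ).g := by
    have : Epi (cokernel.π φ.τ₂ ≫ (cokSC φ).g) := by
      rw [show cokernel.π φ.τ₂ ≫ (cokSC φ).g = T'.g ≫ cokernel.π φ.τ₃ by simp]
      exact epi_comp _ _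
    exact epi_of_epi (cokernel.π φ.τ₂) _
  refine { exact := ?_ }
  rw [ShortComplex.exact_iff_exact_up_to_refinements]
  intro A x hx
  obtain ⟨A₁, p₁, hp₁, y, hy⟩ := surjective_up_to_refinements_of_epi (cokernel.π φ.τ₂) x
  have h2 : (y ≫ T'.g) ≫ cokernel.π φ.τ₃ = 0 := by
    have := congrArg (p₁ ≫ ·) hx
    rw [comp_zero, ← Category.assoc, hy] at this
    simpa using this
  obtain ⟨A₂, p₂, hp₂, z, hz⟩ := ((ShortComplex.exact_of_g_is_cokernel
    (ShortComplex.mk φ.τ₃ (cokernel.π φ.τ₃) (cokernel.condition _))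
    (cokernelIsCokernel φ.τ₃))).exact_up_to_refinements (y ≫ T'.g) h2
  obtain ⟨A₃, p₃, hp₃, w, hw⟩ := surjective_up_to_refinements_of_epi T.g z
  have h3 : (p₃ ≫ p₂ ≫ y - w ≫ φ.τ₂) ≫ T'.g = 0 := by
    rw [Preadditive.sub_comp, Category.assoc, Category.assoc, Category.assoc, φ.comm₂₃, ← Category.assoc w, ← hw,
      Category.assoc, sub_eq_zero]
    exact congrArg (p₃ ≫ ·) hz
  obtain ⟨A₄, p₄, hp₄, v, hv⟩ := hT'.exact.exact_up_to_refinements _ h3
  refine ⟨A₄, p₄ ≫ p₃ ≫ p₂ ≫ p₁, inferInstance, v ≫ cokernel.π φ.τ₁, ?_⟩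
  rw [Category.assoc, Category.assoc, Category.assoc, hy, Category.assoc, cokernel.π_desc, ← Category.assoc v,
    ← hv, Category.assoc, Preadditive.sub_comp, Category.assoc, Category.assoc, Category.assoc, cokernel.condition,
    comp_zero, sub_zero]

end Abelian

variable {n : ℕ} {k : Type u} [Field k]

/-- The Euler characteristic of a twist. -/
def chi (F : (CohB1.ProjSpace n k).Modules) (r : ℤ) : ℤ := Curv2.euler k (CohB1.ProjSpace n k) (tw n k F r)

theorem finBdd_tw {F : (CohB1.ProjSpace n k).Modules} (hF : Coh.IsCoh F) (r : ℤ) :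
    FinBdd k (tw n k F r) (n + 1) :=
  ⟨finite_hh_tw F hF r, fun i hi => subsingleton_hh_gt n k _ (isQCoh_tw n k F hF.1 r) i hi⟩

theorem isCoh_tw {F : (CohB1.ProjSpace n k).Modules} (hF : Coh.IsCoh F) (r : ℤ) : Coh.IsCoh (tw n k F r) :=
  Amp73.isCoh_tensorMod hF (Amp73.isCoh_of_isInvertible (isInvertible_twist r))

theorem finrank_tw_tw (F : (CohB1.ProjSpace n k).Modules) {a b c : ℤ} (h : a + b = c) (i : ℕ) :
    Module.finrank k (Coh.HH (CohB1.ProjSpace n k) (tw n k (tw n k F a) b) i) =
      Module.finrank k (Coh.HH (CohB1.ProjSpace n k) (tw n k F c) i) := by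
  obtain ⟨e⟩ := nonempty_tw_tw F h
  exact (hEquiv k e i).finrank_eq

theorem chi_tw (F : (CohB1.ProjSpace n k).Modules) {a b c : ℤ} (h : a + b = c) :
    chi (tw n k F a) b = chi F c := by
  obtain ⟨e⟩ := nonempty_tw_tw F h
  exact euler_congr e

theorem reg_tw_zero {F : (CohB1.ProjSpace n k).Modules} {m : ℤ} : Reg n k (tw n k F 0) m ↔ Reg n k F m := by
  have h := fun i : ℕ => nonempty_tw_tw F (zero_add (m - i))
  exact ⟨fun hr i hi => ValVan29.subsingleton_hh_of_iso (h i).some i (hr i hi),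
    fun hr i hi => ValVan29.subsingleton_hh_of_iso (h i).some.symm i (hr i hi)⟩

theorem reg_of_iso {F G : (CohB1.ProjSpace n k).Modules} (e : F ≅ G) {m : ℤ} (h : Reg n k G m) : Reg n k F m :=
  fun i hi => ValVan29.subsingleton_hh_of_iso (EGA73.tensIso e.symm (Iso.refl (Twist.twistProjSpace n k (m - i)))) i (h i hi)

/-- The linear section of a module. -/
abbrev cokMul (F : (CohB1.ProjSpace n k).Modules) (g : CohB1.polyGrading n k 1) :
    (CohB1.ProjSpace n k).Modules := cokernel (lMul F g)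

variable {F : (CohB1.ProjSpace n k).Modules} {g : CohB1.polyGrading n k 1}

theorem isCoh_cokMul (hF : Coh.IsCoh F) : Coh.IsCoh (cokMul F g) :=
  QC70.isCoh_cokernel _ (isCoh_tw hF _).1 (isCoh_tw hF _)

theorem cokMul_shortExact [Mono (lMul F g)] :
    (ShortComplex.mk (lMul F g) (cokernel.π (lMul F g)) (cokernel.condition _)).ShortExact :=
  { exact := ShortComplex.exact_of_g_is_cokernel _ (cokernelIsCokernel (lMul F g)) }

theorem chi_cokMul (hF : Coh.IsCoh F) [Mono (lMul F g)] (r : ℤ) :
    chi (cokMul F g) r = chi F r - chi F (r - 1) := by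
  obtain ⟨w, hT⟩ := shortExact_twMap (cokMul_shortExact (F := F) (g := g)) r
  have h := euler_add hT (finBdd_tw (isCoh_tw hF _) r) (finBdd_tw (isCoh_tw hF _) r)
    (finBdd_tw (isCoh_cokMul hF) r)
  have h1 := chi_tw F (a := -1) (b := r) (c := r - 1) (by ring)
  have h2 := chi_tw F (zero_add r)
  have h' : chi (tw n k F 0) r = chi (tw n k F (-1)) r + chi (cokMul F g) r := h
  omega

theorem reg_cokMul [Mono (lMul F g)] (_hF : Coh.IsCoh F) {m : ℤ} (h : Reg n k F m) : Reg n k (cokMul F g) m :=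
  fun i hi => by
    refine sub_tw_X₃ cokMul_shortExact ?_ ?_
    · exact (reg_tw_zero.2 h) i hi
    · obtain ⟨e⟩ := nonempty_tw_tw F (a := -1) (b := m - i) (c := m - (i + 1 : ℕ)) (by push_cast; ring)
      exact ValVan29.subsingleton_hh_of_iso e.symm _ (h (i + 1) (by omega))

theorem finrank_h0_cokMul_le [Mono (lMul F g)] (hF : Coh.IsCoh F) (h : Reg n k F 0) {j : ℤ} (hj : 0 ≤ j) :
    Module.finrank k (Coh.HH (CohB1.ProjSpace n k) (tw n k (cokMul F g) j) 0) ≤
      Module.finrank k (Coh.HH (CohB1.ProjSpace n k) (tw n k F j) 0) := by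
  obtain ⟨w, hT⟩ := shortExact_twMap (cokMul_shortExact (F := F) (g := g)) j
  have := finite_hh_tw (tw n k F 0) (isCoh_tw hF 0) j 0
  rw [← finrank_tw_tw F (zero_add j) 0]
  refine LinearMap.finrank_le_finrank_of_surjective (f := hmap k (twMap (cokernel.π (lMul F g)) j) 0) fun x => ?_
  refine (exact_g_δ k hT 0 x).1 ?_
  obtain ⟨e⟩ := nonempty_tw_tw F (a := -1) (b := j) (c := j - 1) (by ring)
  exact (ValVan29.subsingleton_hh_of_iso e.symm _ (h.vanish hF.1 (i := 1) (r := j - 1) le_rfl
    (by push_cast; omega))).elim _ _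

section Free

theorem whiskR_zero {X : Scheme.{u}} (M N L : X.Modules) : whiskR (0 : M ⟶ N) L = 0 := by
  have := whiskR_sum L (∅ : Finset (Fin 0)) (fun _ => (0 : M ⟶ N))
  simpa using this

theorem finrank_hh_twist (d : ℕ) :
    Module.finrank k (Coh.HH (CohB1.ProjSpace n k) (Twist.twistProjSpace n k d) 0) = (d + n).choose n := by
  classical
  rw [(Pn71.hhZeroEquivNonneg n k (d : ℤ) (Int.natCast_nonneg d)).finrank_eq,
    (Finsupp.supportedEquivFinsupp (M := k) (R := k) _).finrank_eq]
  let e : Pn71.posCell (ι := Fin (n + 1)) (d : ℤ) ≃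
      (Finset.univ : Finset (Fin (n + 1))).finsuppAntidiag d :=
    (Pn71.posCellEquiv d).trans (Equiv.subtypeEquivRight fun m => by simp [Finsupp.degree_eq_sum])
  have := Fintype.ofEquiv _ e.symm
  rw [Module.finrank_finsupp_self, Fintype.card_congr e, Fintype.card_coe, Finset.card_finsuppAntidiag_nat_eq_choose,
    Finset.card_univ, Fintype.card_fin, show n + 1 + d - 1 = d + n by omega,
    Nat.choose_symm_add]

variable (p : ℕ) (d : ℤ)

/-- The summands of a twisted free module. -/
def hhFreeEquiv (q : ℕ) : Coh.HH (CohB1.ProjSpace n k) (tw n k (FlatMod.freeMod (CohB1.ProjSpace n k) p) d) q ≃ₗ[k]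
    (Fin p → Coh.HH (CohB1.ProjSpace n k) (tw n k (Coh.structureModule (CohB1.ProjSpace n k)) d) q) :=
  LinearEquiv.ofLinearMap
    (LinearMap.pi fun j => hmap k (twMap (Sigma.desc (Function.update
      (fun _ : Fin p => (0 : Coh.structureModule (CohB1.ProjSpace n k) ⟶ _)) j (𝟙 _))) d) q)
    (∑ j, (hmap k (twMap (Sigma.ι (fun _ : Fin p => Coh.structureModule (CohB1.ProjSpace n k)) j) d) q).comp
      (LinearMap.proj j))
    (by
      classical
      refine LinearMap.ext fun y => funext fun i => ?_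
      simp only [LinearMap.comp_apply, LinearMap.sum_apply, LinearMap.pi_apply, LinearMap.proj_apply, map_sum,
        LinearMap.id_coe, id_eq]
      rw [Finset.sum_eq_single i]
      · rw [hmap_comp, twMap, twMap, ← whiskR_comp, Sigma.ι_desc, Function.update_self, whiskR_id, hmap_id]
      · intro j _ hj
        rw [hmap_comp, twMap, twMap, ← whiskR_comp, Sigma.ι_desc, Function.update_of_ne hj, whiskR_zero]
        exact Serre71.hmap_zero' (A := k) q _
      · simp)
    (by
      classical
      refine LinearMap.ext fun x => ?_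
      simp only [LinearMap.comp_apply, LinearMap.sum_apply, LinearMap.pi_apply, LinearMap.proj_apply,
        LinearMap.id_coe, id_eq]
      conv_rhs => rw [← hmap_id k (tw n k (FlatMod.freeMod (CohB1.ProjSpace n k) p) d) q x]
      rw [show 𝟙 (tw n k (FlatMod.freeMod (CohB1.ProjSpace n k) p) d) = ∑ j, twMap (Sigma.desc (Function.update
          (fun _ : Fin p => (0 : Coh.structureModule (CohB1.ProjSpace n k) ⟶ _)) j (𝟙 _))) d ≫
          twMap (Sigma.ι (fun _ : Fin p => Coh.structureModule (CohB1.ProjSpace n k)) j) d from ?_,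
        Serre71.hmap_sum']
      · exact Finset.sum_congr rfl fun j _ => hmap_comp k _ _ q x
      · simp only [twMap, ← whiskR_comp]
        rw [← whiskR_sum, ← whiskR_id]
        refine congrArg (whiskR · _) (Sigma.hom_ext _ _ fun l => ?_)
        rw [Preadditive.comp_sum, Finset.sum_eq_single l]
        · simp
        · intro j _ hj
          simp [Function.update_of_ne (Ne.symm hj)]
        · simp)

theorem subsingleton_hh_free {q : ℕ} (hq : 1 ≤ q) (hd : -(q : ℤ) ≤ d) :
    Subsingleton (Coh.HH (CohB1.ProjSpace n k) (tw n k (FlatMod.freeMod (CohB1.ProjSpace n k) p) d) q) := by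
  have : Subsingleton (Coh.HH (CohB1.ProjSpace n k) (tw n k (Coh.structureModule (CohB1.ProjSpace n k)) d) q) :=
    ValVan29.subsingleton_hh_of_iso (EGA73.tensUnitLeft (Twist.twistProjSpace n k d)).symm q (Pn71.subsingleton_hh n k d q (by omega) (by omega))
  exact (hhFreeEquiv p d q).toEquiv.subsingleton

theorem finrank_hh_free (r : ℕ) :
    Module.finrank k (Coh.HH (CohB1.ProjSpace n k) (tw n k (FlatMod.freeMod (CohB1.ProjSpace n k) p) r) 0) =
      p * (r + n).choose n := by
  have e := hEquiv k (X := CohB1.ProjSpace n k) (EGA73.tensUnitLeft (Twist.twistProjSpace n k (r : ℤ))) 0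
  have := Module.Finite.equiv e.symm
  rw [(hhFreeEquiv p (r : ℤ) 0).finrank_eq, Module.finrank_pi_fintype, Finset.sum_const, Finset.card_univ,
    Fintype.card_fin, smul_eq_mul, e.finrank_eq, finrank_hh_twist]

end Free

/-- The numerical behaviour of an iterated linear section of a free module of rank `p`. -/
structure Level (p c : ℕ) (W : (CohB1.ProjSpace n k).Modules) : Prop where
  coh : Coh.IsCoh W
  reg : Reg n k W 0
  h0 : ∀ j : ℕ, Module.finrank k (Coh.HH (CohB1.ProjSpace n k) (tw n k W j) 0) ≤ p * (j + n).choose n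
  eq : ∀ r : ℕ, c ≤ r → chi W r = if c ≤ n then ((p * (r + n - c).choose (n - c) : ℕ) : ℤ) else 0

theorem isCoh_free (p : ℕ) : Coh.IsCoh (FlatMod.freeMod (CohB1.ProjSpace n k) p) := by
  have h := QC70.isCoh_biproduct (fun _ : Fin p => Coh.structureModule (CohB1.ProjSpace n k))
    fun _ => Amp73.isCoh_of_isInvertible (EGA73.isInvertible_tensorPow (isInvertible_twist 0) 0)
  have := h.1; have := h.2
  exact ⟨QC70.isQuasicoherent_of_iso (biproduct.isoCoproduct _) h.1, QC70.isFiniteType_of_iso (biproduct.isoCoproduct _)⟩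

theorem level_free (p : ℕ) : Level p 0 (FlatMod.freeMod (CohB1.ProjSpace n k) p) where
  coh := isCoh_free p
  reg := fun i hi => subsingleton_hh_free p _ hi (by omega)
  h0 := fun j => (finrank_hh_free p j).le
  eq := fun r _ => by
    have hb : FinBdd k (tw n k (FlatMod.freeMod (CohB1.ProjSpace n k) p) (r : ℤ)) 1 :=
      ⟨(finBdd_tw (isCoh_free p) _).finite, fun i hi => subsingleton_hh_free p _ hi (by omega)⟩
    rw [chi, hb.euler_eq, Finset.sum_range_one, finrank_hh_free, if_pos (Nat.zero_le n)]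
    simp

theorem Level.next {p c : ℕ} {W : (CohB1.ProjSpace n k).Modules} (h : Level p c W) (g : CohB1.polyGrading n k 1)
    [Mono (lMul W g)] : Level p (c + 1) (cokMul W g) where
  coh := isCoh_cokMul h.coh
  reg := reg_cokMul h.coh h.reg
  h0 := fun j => (finrank_h0_cokMul_le h.coh h.reg (Int.natCast_nonneg j)).trans (h.h0 j)
  eq := fun r hr => by
    obtain ⟨r', rfl⟩ : ∃ r', r = r' + 1 := ⟨r - 1, by omega⟩
    rw [chi_cokMul h.coh, h.eq (r' + 1) (by omega), show ((r' + 1 : ℕ) : ℤ) - 1 = (r' : ℤ) by push_cast; ring,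
      h.eq r' (by omega)]
    rcases lt_trichotomy c n with hc | rfl | hc
    · rw [if_pos hc.le, if_pos hc.le, if_pos (by omega), show r' + 1 + n - c = (r' + n - c) + 1 by omega,
        show r' + 1 + n - (c + 1) = r' + n - c by omega, show n - c = (n - (c + 1)) + 1 by omega,
        Nat.choose_succ_succ' (r' + n - c)]
      push_cast; ring
    · rw [if_pos le_rfl, if_pos le_rfl, if_neg (by omega)]
      simp
    · rw [if_neg (by omega), if_neg (by omega), if_neg (by omega), sub_zero]

theorem isZero_of_level {p c : ℕ} {W : (CohB1.ProjSpace n k).Modules} (h : Level p c W) (hc : n < c) : IsZero W := by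
  have hz : ∀ r : ℕ, c ≤ r → Subsingleton (Coh.HH (CohB1.ProjSpace n k) (tw n k W r) 0) := fun r hr => by
    have hb : FinBdd k (tw n k W (r : ℤ)) 1 :=
      ⟨(finBdd_tw h.coh _).finite, fun i hi => h.reg.vanish h.coh.1 hi (by omega)⟩
    have he := h.eq r hr
    rw [chi, hb.euler_eq, Finset.sum_range_one, if_neg (by omega), pow_zero, one_mul, Nat.cast_eq_zero] at he
    have := hb.finite 0
    exact Module.finrank_zero_iff.1 he
  have hs := h.reg.spanned h.coh (d := (c : ℤ)) (Int.natCast_nonneg c)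
  choose U hxU hU hsp using hs
  have h0 : IsZero (tw n k W (c : ℤ)) := by
    refine isZero_of_sections (isQCoh_tw n k W h.coh.1 _) U hU (fun x => ⟨x, hxU x⟩) fun x z => ?_
    have hglob : ∀ t : Γ(tw n k W (c : ℤ), ⊤), t = 0 := fun t => by
      obtain ⟨y, rfl⟩ := (sec (tw n k W (c : ℤ))).surjective t
      rw [(hz c le_rfl).elim y 0, map_zero]
    refine Submodule.span_induction ?_ rfl ?_ ?_ ((hsp x).ge (Submodule.mem_top (x := z)))
    · rintro _ ⟨t, rfl⟩
      simp [LineBundle.res, hglob t]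
    · rintro a b _ _ rfl rfl
      exact add_zero _
    · rintro a b _ rfl
      exact smul_zero _
  obtain ⟨e⟩ := nonempty_tw_tw W (a := (c : ℤ)) (b := -(c : ℤ)) (c := 0) (by ring)
  obtain ⟨e₀⟩ := nonempty_tw_zero W
  exact (ValVan29.isZero_tensorMod h0 (isInvertible_twist _)).of_iso (e₀.symm ≪≫ e.symm)

end Groth.Agent.Var76.Reg

end
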