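import Groth.Agent.Var76.MumLevel
import Groth.Agent.Crv77.Degree
import Groth.Agent.Var76.SuppVanish
import Mathlib.Algebra.Homology.ShortComplex.HomologicalComplex
import Mathlib.Algebra.Homology.ShortComplex.Abelian

/-! Regularity of images in complexes with small homology. -/

universe u

open CategoryTheory Limits AlgebraicGeometry TopologicalSpace Opposite

noncomputable section

set_option maxSynthPendingDepth 6

namespace Groth.Agent.Var76.Reg

open Crv77 LineBundle

section Abelian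

variable {C : Type*} [Category C] [Abelian C] {X Y I : C} {f : X ⟶ Y} (e : X ⟶ I) [Epi e] (m : I ⟶ Y) [Mono m]
  (h : e ≫ m = f)

include h in
theorem shortExact_of_factor :
    ∃ w : kernel.ι f ≫ e = 0, (ShortComplex.mk (kernel.ι f) e w).ShortExact := by
  subst h
  have w : kernel.ι (e ≫ m) ≫ e = 0 := by
    rw [← cancel_mono m, Category.assoc, kernel.condition, zero_comp]
  refine ⟨w, { exact := ShortComplex.exact_of_f_is_kernel _ (KernelFork.IsLimit.ofι' _ _ fun {A} t ht =>
    ⟨kernel.lift _ t (show t ≫ e ≫ m = 0 by rw [← Category.assoc]; exact (congrArg (· ≫ m) ht).trans zero_comp),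
      kernel.lift_ι _ _ _⟩) }⟩

include h in
theorem nonempty_iso_image : Nonempty (I ≅ Abelian.image f) := by
  obtain ⟨w, hS⟩ := shortExact_of_factor e m h
  obtain ⟨w', hS'⟩ := shortExact_of_factor (Abelian.factorThruImage f) (Abelian.image.ι f) (Abelian.image.fac f)
  exact ⟨IsColimit.coconePointUniqueUpToIso hS.gIsCokernel hS'.gIsCokernel⟩

end Abelian

variable {n : ℕ} {k : Type u} [Field k]

theorem suppIn_tw {H : (CohB1.ProjSpace n k).Modules} [H.IsFiniteType] (j : ℤ) :
    SuppIn (tw n k H j) (CohB1.support H) := fun x hx => by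
  refine subsingleton_of_forall_eq 0 fun a => ?_
  obtain ⟨V, hxV, s, rfl⟩ := QC70.germM_exist a
  obtain ⟨l, hl⟩ := exists_mem_xOpen n k x
  let W : (CohB1.ProjSpace n k).Opens :=
    V ⊓ xOpen n k l ⊓ ⟨(CohB1.support H)ᶜ, (QC70.isClosed_support H).isOpen_compl⟩
  have hW : W ≤ xOpen n k l := inf_le_left.trans inf_le_right
  have hxW : x ∈ W := ⟨⟨hxV, hl⟩, hx⟩
  rw [← QC70.germM_res (inf_le_left.trans inf_le_left : W ≤ V) hxW s]
  refine (congrArg (QC70.germM _ W x hxW) ?_).trans (QC70.germM_zero hxW)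
  obtain ⟨m, hm⟩ := Amp73.exists_eq_tm_frame (L := H) (isFrame_pSec (k := k) l j) hW
    (QC70.res (tw n k H j) (inf_le_left.trans inf_le_left : W ≤ V) s)
  have hz : m = 0 := SuppIn.section_eq_zero (S := CohB1.support H) (fun y hy => not_not.1 hy)
    (fun y (hy : y ∈ W) => hy.2) m
  rw [← hm, hz, ← zero_smul Γ(CohB1.ProjSpace n k, W) (0 : Γ(H, W)), Amp73.tm_smul_left, zero_smul]

theorem subsingleton_hh_tw_of_dim {H : (CohB1.ProjSpace n k).Modules} (hH : Coh.IsCoh H) {d : ℕ}
    (hd : topologicalKrullDim (CohB1.support H) ≤ d) (j : ℤ) (i : ℕ) (hi : d < i) :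
    Subsingleton (Coh.HH (CohB1.ProjSpace n k) (tw n k H j) i) :=
  haveI := hH.2
  subsingleton_HH_of_support _ (QC70.isClosed_support H) (suppIn_tw j) hd i hi

theorem isCoh_image {F G : (CohB1.ProjSpace n k).Modules} (f : F ⟶ G) (hF : Coh.IsCoh F) (hG : Coh.IsCoh G) :
    Coh.IsCoh (Abelian.image f) :=
  QC70.isCoh_kernel _ hG (QC70.isCoh_cokernel f hF.1 hG).1

variable (E : ChainComplex (CohB1.ProjSpace n k).Modules ℕ) (hcoh : ∀ s, Coh.IsCoh (E.X s)) (d : ℤ)

include hcoh in
/-- Regularity of the boundaries, given one step above. -/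
theorem reg_boundary_step (s : ℕ) (hE : Reg n k (E.X (s + 1)) (d + (s + 1 : ℕ)))
    (hB : Reg n k (Abelian.image (E.d (s + 1 + 1) (s + 1))) (d + (s + 1 : ℕ) + 1))
    (hH : topologicalKrullDim (CohB1.support (E.homology (s + 1))) ≤ 1) :
    Reg n k (Abelian.image (E.d (s + 1) s)) (d + s + 1) := by
  let sc := E.sc' (s + 1 + 1) (s + 1) s
  let l : E.X (s + 1 + 1) ⟶ kernel (E.d (s + 1) s) := kernel.lift _ (E.d (s + 1 + 1) (s + 1)) (E.d_comp_d _ _ _)
  obtain ⟨w, hS⟩ := shortExact_of_factor (f := E.d (s + 1) s) (Abelian.factorThruImage _) (Abelian.image.ι _)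
    (Abelian.image.fac _)
  obtain ⟨eI⟩ := nonempty_iso_image (f := E.d (s + 1 + 1) (s + 1)) (Abelian.factorThruImage l)
    (Abelian.image.ι l ≫ kernel.ι _) (by rw [← Category.assoc, Abelian.image.fac]; exact kernel.lift_ι _ _ _)
  have hT : (ShortComplex.mk (Abelian.image.ι l) (cokernel.π l) (kernel.condition _)).ShortExact :=
    { exact := ShortComplex.exact_of_f_is_kernel _ (kernelIsKernel (cokernel.π l)) }
  have eH : E.homology (s + 1) ≅ cokernel l :=
    E.homologyIsoSc' (s + 1 + 1) (s + 1) s (by simp) (by simp) ≪≫ sc.homologyIsoCokernelLift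
  have hK := QC70.isCoh_kernel (E.d (s + 1) s) (hcoh (s + 1)) (hcoh s).1
  have hC : Coh.IsCoh (cokernel l) := QC70.isCoh_cokernel l (hcoh _).1 hK
  have hHc : Coh.IsCoh (E.homology (s + 1)) := Crv77.isCoh_of_iso eH.symm hC
  intro i hi
  refine sub_tw_X₃ hS ?_ ?_
  · exact hE.vanish (hcoh _).1 hi (by push_cast; omega)
  · refine sub_tw_X₂ hT ?_ ?_
    · refine (reg_of_iso eI hB).vanish ?_ (by omega) (by push_cast; omega)
      exact (isCoh_image l (hcoh _) hK).1
    · refine ValVan29.subsingleton_hh_of_iso (EGA73.tensIso eH (Iso.refl _)) _ ?_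
      exact subsingleton_hh_tw_of_dim hHc (d := 1) hH _ _ (by omega)

include hcoh in
theorem reg_boundary (t : ℕ) (hbdd : ∀ s : ℕ, t < s → IsZero (E.X s))
    (hreg : ∀ s : ℕ, Reg n k (E.X s) (d + s))
    (hsupp : ∀ i : ℕ, 0 < i → topologicalKrullDim (CohB1.support (E.homology i)) ≤ 1) :
    ∀ (r s : ℕ), t ≤ s + r → Reg n k (Abelian.image (E.d (s + 1) s)) (d + s + 1)
  | 0, s, h => fun i _ => by
    have h0 := IsZero.of_epi (Abelian.factorThruImage (E.d (s + 1) s)) (hbdd (s + 1) (by omega))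
    exact ValVan29.subsingleton_hh_of_isZero (ValVan29.isZero_tensorMod h0 (isInvertible_twist _)) i
  | r + 1, s, h => reg_boundary_step E hcoh d s (hreg _) (reg_boundary t hbdd hreg hsupp r (s + 1) (by omega))
      (hsupp (s + 1) (by omega))

end Groth.Agent.Var76.Reg

end
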