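import Groth.Prelude.Def_CohB1
import Mathlib.AlgebraicGeometry.ProjectiveSpectrum.Basic
import Mathlib.Order.Preorder.Finite

/-! Homogeneous prime avoidance. -/

universe u

open AlgebraicGeometry

namespace Groth.Agent.Var76.HomAvoid

variable {σ A : Type*} [CommRing A] [SetLike σ A] [AddSubgroupClass σ A] {𝒜 : ℕ → σ} [GradedRing 𝒜]

theorem exists_homogeneous_notMem {I : HomogeneousIdeal 𝒜} {p : Ideal A} (h : ¬ I.toIdeal ≤ p) :
    ∃ (d : ℕ) (a : A), a ∈ 𝒜 d ∧ a ∈ I.toIdeal ∧ a ∉ p := by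
  classical
  obtain ⟨a, haI, hap⟩ := SetLike.not_le_iff_exists.1 h
  by_contra hne
  push_neg at hne
  refine hap ?_
  rw [← DirectSum.sum_support_decompose 𝒜 a]
  exact p.sum_mem fun d _ => hne d _ (SetLike.coe_mem _) (I.isHomogeneous d haI)

theorem exists_pos_notMem (p : ProjectiveSpectrum 𝒜) :
    ∃ (d : ℕ) (a : A), 0 < d ∧ a ∈ 𝒜 d ∧ a ∉ p.asHomogeneousIdeal := by
  obtain ⟨d, a, ha, hI, hp⟩ := exists_homogeneous_notMem (I := HomogeneousIdeal.irrelevant 𝒜)
    (p := p.asHomogeneousIdeal.toIdeal) p.not_irrelevant_le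
  rcases Nat.eq_zero_or_pos d with rfl | hd
  · exfalso
    have h0 : GradedRing.proj 𝒜 0 a = 0 := hI
    rw [GradedRing.proj_apply, DirectSum.decompose_of_mem_same 𝒜 ha] at h0
    exact hp (h0 ▸ p.asHomogeneousIdeal.toIdeal.zero_mem)
  · exact ⟨d, a, hd, ha, hp⟩

/-- A homogeneous element of positive degree in `I` outside finitely many relevant primes. -/
theorem exists_avoid (I : HomogeneousIdeal 𝒜) (P : Finset (ProjectiveSpectrum 𝒜))
    (hP : ∀ p ∈ P, ¬ I.toIdeal ≤ p.asHomogeneousIdeal.toIdeal) :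
    ∃ (d : ℕ) (h : A), 0 < d ∧ h ∈ 𝒜 d ∧ h ∈ I.toIdeal ∧ ∀ p ∈ P, h ∉ p.asHomogeneousIdeal := by
  classical
  induction P using Finset.strongInduction with
  | H P ih =>
    rcases P.eq_empty_or_nonempty with rfl | hne
    · exact ⟨1, 0, one_pos, zero_mem _, I.toIdeal.zero_mem, fun p hp => absurd hp (by simp)⟩
    obtain ⟨p, hpP, hmin⟩ := P.exists_minimal hne
    obtain ⟨e, h', he, hh', hh'I, hh'P⟩ := ih (P.erase p) (Finset.erase_ssubset hpP)
      fun q hq => hP q (Finset.mem_of_mem_erase hq)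
    by_cases hcase : h' ∉ p.asHomogeneousIdeal
    · refine ⟨e, h', he, hh', hh'I, fun q hq => ?_⟩
      rcases eq_or_ne q p with rfl | hne'
      · exact hcase
      · exact hh'P q (Finset.mem_erase.2 ⟨hne', hq⟩)
    rw [not_not] at hcase
    have hq : ∀ q ∈ P.erase p, ∃ (d : ℕ) (a : A), a ∈ 𝒜 d ∧ a ∈ q.asHomogeneousIdeal.toIdeal ∧
        a ∉ p.asHomogeneousIdeal.toIdeal := fun q hq => exists_homogeneous_notMem fun hle => by
      obtain ⟨hne', hqP⟩ := Finset.mem_erase.1 hq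
      exact hne' (le_antisymm hle (hmin hqP hle))
    choose! dq aq haq haqq haqp using hq
    obtain ⟨d₀, a₀, ha₀, ha₀I, ha₀p⟩ := exists_homogeneous_notMem (hP p hpP)
    obtain ⟨d₁, a₁, hd₁, ha₁, ha₁p⟩ := exists_pos_notMem p
    let g := a₀ * a₁ * ∏ q ∈ P.erase p, aq q
    let D := d₀ + d₁ + ∑ q ∈ P.erase p, dq q
    have hg : g ∈ 𝒜 D := SetLike.mul_mem_graded (SetLike.mul_mem_graded ha₀ ha₁)
      (SetLike.prod_mem_graded 𝒜 dq aq haq)
    have hgI : g ∈ I.toIdeal := Ideal.mul_mem_right _ _ (Ideal.mul_mem_right _ _ ha₀I)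
    have hgp : g ∉ p.asHomogeneousIdeal.toIdeal := by
      intro hc
      rcases p.isPrime.mem_or_mem hc with h1 | h1
      · exact (p.isPrime.mem_or_mem h1).elim ha₀p ha₁p
      · obtain ⟨q, hq, hqc⟩ := (Ideal.IsPrime.prod_mem_iff.1 h1)
        exact haqp q hq hqc
    have hD : 0 < D := Nat.lt_of_lt_of_le hd₁ (by simp only [D]; omega)
    refine ⟨D * e, h' ^ D + g ^ e, Nat.mul_pos hD he, ?_, ?_, fun q hq => ?_⟩
    · refine add_mem ?_ ?_
      · simpa [smul_eq_mul] using SetLike.pow_mem_graded D hh'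
      · simpa [smul_eq_mul, mul_comm] using SetLike.pow_mem_graded e hg
    · exact I.toIdeal.add_mem (I.toIdeal.pow_mem_of_mem hh'I D hD) (I.toIdeal.pow_mem_of_mem hgI e he)
    · intro hc
      rcases eq_or_ne q p with rfl | hne'
      · exact hgp (q.isPrime.mem_of_pow_mem e
          ((Ideal.add_mem_iff_right _ (q.asHomogeneousIdeal.toIdeal.pow_mem_of_mem hcase D hD)).1 hc))
      · have hqe := Finset.mem_erase.2 ⟨hne', hq⟩
        have hgq : g ∈ q.asHomogeneousIdeal.toIdeal := by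
          refine Ideal.mul_mem_left _ _ ?_
          exact Ideal.mem_of_dvd _ (Finset.dvd_prod_of_mem aq hqe) (haqq q hqe)
        exact hh'P q hqe (q.isPrime.mem_of_pow_mem D
          ((Ideal.add_mem_iff_left _ (q.asHomogeneousIdeal.toIdeal.pow_mem_of_mem hgq e he)).1 hc))

end Groth.Agent.Var76.HomAvoid
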