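import Groth.Agent.Var76.RegMaps
import Groth.Agent.Amp73.ProjGen
import Groth.Agent.Crv77.Sections

/-! Global generation of the twist of a regular module. -/

universe u

open CategoryTheory Limits AlgebraicGeometry TopologicalSpace Opposite

noncomputable section

set_option maxSynthPendingDepth 6

namespace Groth.Agent.Var76.Reg

open Crv77 LineBundle

theorem spanAt_basicOpen {X : Scheme.{u}} {G : X.Modules} (hG : Coh.IsQCoh G) {U : X.Opens} (hU : IsAffineOpen U)
    (hsp : Amp73.SpanAt G U) (r : Γ(X, U)) : Amp73.SpanAt G (X.basicOpen r) := by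
  refine eq_top_iff.2 fun w _ => ?_
  obtain ⟨m, u, hu⟩ := (Amp73.isLocAt hG hU).exists_of r w
  have hr : IsUnit (ZeroScheme.fres (X.basicOpen_le r) r) := RingedSpace.isUnit_res_basicOpen _ r
  obtain ⟨v, hv⟩ := (hr.pow m).exists_left_inv
  have hw : w = v • res G (X.basicOpen_le r) u := by
    rw [show res G _ u = _ from hu, smul_smul]
    exact ((congrArg (· • w) hv).trans (one_smul _ _)).symm
  rw [hw]
  refine Submodule.smul_mem _ v (Submodule.span_induction ?_ ?_ ?_ ?_ (hsp.ge (Submodule.mem_top (x := u))))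
  · rintro _ ⟨t, rfl⟩
    rw [res_res]
    exact Submodule.subset_span ⟨t, rfl⟩
  · simp only [res, map_zero, Submodule.zero_mem]
  · intro a b _ _ ha hb
    simp only [res, map_add] at ha hb ⊢
    exact Submodule.add_mem _ ha hb
  · intro c a _ ha
    rw [res_smul]
    exact Submodule.smul_mem _ _ ha

theorem mulX_eq_smul {R A : Type u} [CommRing R] [CommRing A] [Algebra R A] {𝒜 : ℕ → Submodule R A} [GradedAlgebra 𝒜]
    (F : (Proj 𝒜).Modules) (g g' : 𝒜 1) {d e : ℤ} (h : e = d + 1) {V : (Proj 𝒜).Opens}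
    (hV : V ≤ Proj.basicOpen 𝒜 (g : A)) :
    ∃ c : Γ(Proj 𝒜, V), ∀ s, (twMul F g' h).app V s = c • (twMul F g h).app V s := by
  have hd := isFrame_unit (gUnit g d)
  have he := isFrame_unit (gUnit g e)
  obtain ⟨c, hc⟩ := (he V hV).2 ((mulX g' h).app V (res (Twist.twist 𝒜 d) hV (gUnit g d).fwd))
  refine ⟨c, fun s => ?_⟩
  obtain ⟨m, rfl⟩ := Amp73.exists_eq_tm_frame hd hV s
  have h1 : (twMul F g h).app V (Amp73.tm F _ m (res (Twist.twist 𝒜 d) hV (gUnit g d).fwd)) =
      Amp73.tm F _ m (res (Twist.twist 𝒜 e) hV (gUnit g e).fwd) := by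
    refine (whiskL_tm F (mulX g h) m _).trans (congrArg (Amp73.tm F _ m) ?_)
    refine (ConcreteCategory.congr_hom ((mulX g h).mapPresheaf.naturality (homOfLE hV).op) (gUnit g d).fwd).trans ?_
    exact congrArg (res (Twist.twist 𝒜 e) hV) (mulX_gUnit g h)
  refine Eq.trans ?_ (congrArg (c • ·) h1).symm
  refine (whiskL_tm F (mulX g' h) m _).trans ?_
  exact (congrArg (Amp73.tm F _ m) hc.symm).trans (Amp73.tm_smul_right c m _)

variable {n : ℕ} {A : Type u} [CommRing A] {F : (CohB1.ProjSpace n A).Modules}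

/-- Every point has an affine neighbourhood on which global sections span. -/
def Spanned (G : (CohB1.ProjSpace n A).Modules) : Prop :=
  ∀ x, ∃ U, x ∈ U ∧ IsAffineOpen U ∧ Amp73.SpanAt G U

theorem spanned_of_succ (hF : Coh.IsQCoh F) {m : ℤ} (hr : Reg n A F m) {d e : ℤ} (h : e = d + 1) (hd : m ≤ d)
    (hsp : Spanned (tw n A F e)) : Spanned (tw n A F d) := by
  intro x
  obtain ⟨U, hxU, hU, hspU⟩ := hsp x
  obtain ⟨l, hl⟩ := exists_mem_xOpen n A x
  obtain ⟨r, hrl, hxr⟩ := hU.exists_basicOpen_le ⟨x, hl⟩ hxU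
  let V := (CohB1.ProjSpace n A).basicOpen r
  refine ⟨V, hxr, hU.basicOpen r, ?_⟩
  have hspV : Amp73.SpanAt (tw n A F e) V := spanAt_basicOpen (isQCoh_tw n A F hF e) hU hspU r
  let L : Γ(tw n A F d, V) →ₗ[Γ(CohB1.ProjSpace n A, V)] Γ(tw n A F e, V) :=
    { toFun := (xMul n A F l d e h).app V
      map_add' := map_add _
      map_smul' := fun a b => Scheme.Modules.Hom.app_smul _ a b }
  have hinj : Function.Injective L := ((kd n A F).bij l d e h V hrl).1
  let S := Submodule.span Γ(CohB1.ProjSpace n A, V)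
    (Set.range fun t : Γ(tw n A F d, ⊤) => res (tw n A F d) (le_top : V ≤ ⊤) t)
  have hmap : ⊤ ≤ S.map L := by
    rw [← show Submodule.span _ _ = ⊤ from hspV, Submodule.span_le]
    rintro _ ⟨t, rfl⟩
    obtain ⟨t', rfl⟩ := (sec (tw n A F e)).surjective t
    obtain ⟨y, rfl⟩ := hr.surjective_coord hF h hd t'
    rw [dd_zero_eq]
    have e1 := Serre71.hmap_sum' (A := A) Finset.univ
      (fun j => biproduct.π (fun _ : Fin (n + 1) => tw n A F d) j ≫ xMul n A F j d e h) 0 y
    refine (congrArg (fun q => res (tw n A F e) (le_top : V ≤ ⊤) (sec (tw n A F e) q) ∈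
      ((S.map L : Submodule _ _) : Set Γ(tw n A F e, V))) e1).mpr ?_
    simp only [res, map_sum]
    refine Submodule.sum_mem _ fun j _ => ?_
    obtain ⟨c₀, hc⟩ := mulX_eq_smul (𝒜 := CohB1.polyGrading n A) F (xVar n A l) (xVar n A j) h (V := V) hrl
    let c : Γ(CohB1.ProjSpace n A, V) := c₀
    let z := sec (tw n A F d) (hmap A (biproduct.π (fun _ : Fin (n + 1) => tw n A F d) j) 0 y)
    refine ⟨c • res (tw n A F d) (le_top : V ≤ ⊤) z, S.smul_mem c (Submodule.subset_span ⟨z, rfl⟩), ?_⟩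
    refine (L.map_smul _ _).trans ((hc _).symm.trans ?_)
    refine Eq.trans ?_ (congrArg (fun q => res (tw n A F e) (le_top : V ≤ ⊤) q)
      ((sec_hmap A (xMul n A F j d e h) _).symm.trans (congrArg _ (hmap_comp A _ _ 0 y))))
    exact QC70.app_res _ _ _
  refine eq_top_iff.2 fun w _ => ?_
  obtain ⟨w', hw', he⟩ := hmap (Submodule.mem_top (x := L w))
  exact hinj he ▸ hw'

variable {k : Type u} [Field k]

theorem Reg.spanned {F : (CohB1.ProjSpace n k).Modules} (hF : Coh.IsCoh F) {m : ℤ} (hr : Reg n k F m) {d : ℤ}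
    (hd : m ≤ d) : Spanned (tw n k F d) := by
  classical
  obtain ⟨n₀, h⟩ := Amp73.eventually_spanAt_twistBy (𝒜 := CohB1.polyGrading n k) _ (fun f hf => by
    obtain ⟨i, -, rfl⟩ := Finset.mem_image.1 hf
    exact MvPolynomial.isHomogeneous_X k i) (ValVan29.generated (R := k) (N := n)) F hF
  suffices H : ∀ (t : ℕ) (d : ℤ), m ≤ d → (n₀ : ℤ) ≤ d + t → Spanned (tw n k F d) from
    H (n₀ - d).toNat d hd (by omega)
  intro t
  induction t with
  | zero =>
    intro d _ h'
    obtain ⟨q, rfl⟩ := Int.eq_ofNat_of_zero_le ((Int.natCast_nonneg n₀).trans (by simpa using h'))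
    exact h q (by omega)
  | succ t ih => exact fun d hd h' => spanned_of_succ hF.1 hr rfl hd (ih (d + 1) (by omega) (by omega))

theorem Reg.isGloballyGenerated {F : (CohB1.ProjSpace n k).Modules} (hF : Coh.IsCoh F) {m : ℤ} (hr : Reg n k F m)
    {d : ℤ} (hd : m ≤ d) : Curv2.IsGloballyGenerated (tw n k F d) :=
  Amp73.isGloballyGenerated_of_spanAt (isQCoh_tw n k F hF.1 d) (hr.spanned hF hd)

end Groth.Agent.Var76.Reg

end
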