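import Groth.Agent.Var76.Kleiman
import Groth.Agent.SchBasics.Reduced
import Mathlib.RingTheory.Ideal.KrullsHeightTheorem

/-! The rank of cotangent maps bounds the dimension of images. -/

set_option autoImplicit false
universe u

open CategoryTheory CategoryTheory.Limits AlgebraicGeometry IsLocalRing TopologicalSpace

namespace Groth.Agent.Var76.CotRank

set_option backward.isDefEq.respectTransparency false

variable {A B C : Scheme.{u}}

theorem cotangentMapAt_comp (j : A ⟶ B) (h : B ⟶ C) (f : A ⟶ C) (hf : j ≫ h = f) (z : A) (y : B)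
    (x : C) (hy : j z = y) (hx : h y = x) (hfx : f z = x) :
    FixPt.cotangentMapAt f z x hfx =
      (FixPt.cotangentMapAt j z y hy).comp (FixPt.cotangentMapAt h y x hx) := by
  subst hf hy hx
  exact Kleiman.cotangentMapAt_comp j h z

theorem cotangentMapAt_smul (f : A ⟶ B) (z : A) (c : ResidueField (B.presheaf.stalk (f z)))
    (v : CotangentSpace (B.presheaf.stalk (f z))) :
    FixPt.cotangentMapAt f z (f z) rfl (c • v) =
      ResidueField.map (f.stalkMap z).hom c • FixPt.cotangentMapAt f z (f z) rfl v := by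
  obtain ⟨a, rfl⟩ := IsLocalRing.residue_surjective c
  obtain ⟨⟨b, hb⟩, rfl⟩ := Ideal.toCotangent_surjective _ v
  rw [show residue (B.presheaf.stalk (f z)) a • (maximalIdeal _).toCotangent ⟨b, hb⟩ =
    a • (maximalIdeal _).toCotangent ⟨b, hb⟩ from algebraMap_smul (ResidueField _) a _, ← map_smul]
  simp only [FixPt.cotangentMapAt, FixPt.stalkMapAt, Ideal.mapCotangent_toCotangent]
  rw [ResidueField.map_residue]
  rw [show residue (A.presheaf.stalk z) (f.stalkMap z a) • (maximalIdeal _).toCotangent _ =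
    (f.stalkMap z a) • (maximalIdeal (A.presheaf.stalk z)).toCotangent _
      from algebraMap_smul (ResidueField _) _ _, ← map_smul]
  congr 1
  ext
  simp

theorem cotangentMapAt_mem_span (f : A ⟶ B) (z : A) (S : Set (CotangentSpace (B.presheaf.stalk (f z))))
    (v : CotangentSpace (B.presheaf.stalk (f z)))
    (hv : v ∈ Submodule.span (ResidueField (B.presheaf.stalk (f z))) S) :
    FixPt.cotangentMapAt f z (f z) rfl v ∈
      Submodule.span (ResidueField (A.presheaf.stalk z)) (FixPt.cotangentMapAt f z (f z) rfl '' S) := by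
  induction hv using Submodule.span_induction with
  | mem w hw => exact Submodule.subset_span ⟨w, hw, rfl⟩
  | zero => rw [map_zero]; exact zero_mem _
  | add a b _ _ ha hb => rw [map_add]; exact add_mem ha hb
  | smul c a _ ha => rw [cotangentMapAt_smul]; exact Submodule.smul_mem _ _ ha

theorem cotangentMapAt_surjective_of_isClosedImmersion (f : A ⟶ B) [IsClosedImmersion f] (z : A) (x : B)
    (hx : f z = x) : Function.Surjective (FixPt.cotangentMapAt f z x hx) := by
  subst hx
  intro v
  obtain ⟨⟨b, hb⟩, rfl⟩ := Ideal.toCotangent_surjective _ v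
  obtain ⟨a, rfl⟩ := f.stalkMap_surjective z b
  refine ⟨(maximalIdeal _).toCotangent ⟨a, ?_⟩, ?_⟩
  · rw [IsLocalRing.mem_maximalIdeal, mem_nonunits_iff]
    exact fun hu => hb (hu.map _)
  · simp only [FixPt.cotangentMapAt, FixPt.stalkMapAt, Ideal.mapCotangent_toCotangent]
    congr 1
    ext
    simp

theorem finrank_le_of_semilinear {K L V W : Type*} [Field K] [Field L] [AddCommGroup V] [Module K V]
    [AddCommGroup W] [Module L W] (σ : K →+* L) (hσ : Function.Surjective σ) (φ : V →+ W)
    (hφ : ∀ c v, φ (c • v) = σ c • φ v) (hinj : Function.Injective φ) (S : Finset W)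
    (hS : ∀ v, φ v ∈ Submodule.span L (S : Set W)) : Module.finrank K V ≤ S.card := by
  let : Module K W := Module.compHom W σ
  have hspan : ∀ w ∈ Submodule.span L (S : Set W), w ∈ Submodule.span K (S : Set W) := by
    intro w hw
    induction hw using Submodule.span_induction with
    | mem a ha => exact Submodule.subset_span ha
    | zero => exact zero_mem _
    | add a b _ _ ha hb => exact add_mem ha hb
    | smul c a _ ha =>
      obtain ⟨d, rfl⟩ := hσ c
      exact Submodule.smul_mem _ d ha
  let ψ : V →ₗ[K] Submodule.span K (S : Set W) :=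
    LinearMap.codRestrict _ { toFun := φ, map_add' := map_add φ, map_smul' := hφ }
      (fun v => hspan _ (hS v))
  have : Module.Finite K (Submodule.span K (S : Set W)) := Module.Finite.span_of_finite K S.finite_toSet
  calc Module.finrank K V ≤ Module.finrank K (Submodule.span K (S : Set W)) :=
        LinearMap.finrank_le_finrank_of_injective (f := ψ)
          (fun a b hab => hinj (congrArg Subtype.val hab))
    _ ≤ S.card := finrank_span_finset_le_card S

variable {k : Type u} [Field k] [IsAlgClosed k]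

theorem residueFieldMap_surjective {X Y : Scheme.{u}} (qX : X ⟶ Spec (CommRingCat.of k))
    (qY : Y ⟶ Spec (CommRingCat.of k)) [LocallyOfFiniteType qX] [LocallyOfFiniteType qY]
    (f : X ⟶ Y) (hf : f ≫ qY = qX) (x : X) (hx : IsClosed {x}) (hy : IsClosed {f x}) :
    Function.Surjective (f.residueFieldMap x) := by
  have h : (residueFieldIsoBase qY (f x) hy).inv ≫ f.residueFieldMap x = (residueFieldIsoBase qX x hx).inv := by
    apply Spec.map_injective
    rw [Spec.map_comp, SpecMap_residueFieldIsoBase_inv, SpecMap_residueFieldIsoBase_inv,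
      Scheme.Hom.SpecMap_residueFieldMap_fromSpecResidueField_assoc, hf]
  intro c
  obtain ⟨d, hd⟩ := (ConcreteCategory.bijective_of_isIso (residueFieldIsoBase qX x hx).inv).2 c
  exact ⟨(residueFieldIsoBase qY (f x) hy).inv d, by rw [← ConcreteCategory.comp_apply, h, hd]⟩

theorem dim_le_finrank_cotangent {Q : Scheme.{u}} (qQ : Q ⟶ Spec (CommRingCat.of k))
    [LocallyOfFiniteType qQ] [IsIntegral Q] (y : Q) (hy : IsClosed {y}) :
    topologicalKrullDim Q ≤ (Module.finrank (ResidueField (Q.presheaf.stalk y))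
      (CotangentSpace (Q.presheaf.stalk y)) : ℕ) := by
  let : Q.Over (Spec (CommRingCat.of k)) := ⟨qQ⟩
  have : LocallyOfFiniteType (Q ↘ Spec (CommRingCat.of k)) := ‹LocallyOfFiniteType qQ›
  obtain ⟨W, hW, hyW, -⟩ := exists_isAffineOpen_mem_and_subset (U := (⊤ : Q.Opens)) (x := y) trivial
  have : Nonempty W := ⟨⟨y, hyW⟩⟩
  have : IsLocallyNoetherian Q := LocallyOfFiniteType.isLocallyNoetherian qQ
  let := TopCat.Presheaf.algebra_section_stalk Q.presheaf (U := W) ⟨y, hyW⟩
  let p := hW.primeIdealOf ⟨y, hyW⟩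
  have : IsLocalization.AtPrime (Q.presheaf.stalk y) p.asIdeal := hW.isLocalization_stalk ⟨y, hyW⟩
  have : IsOpenImmersion hW.fromSpec := IsAffineOpen.isOpenImmersion_fromSpec hW
  have : p.asIdeal.IsMaximal := by
    rw [← PrimeSpectrum.isClosed_singleton_iff_isMaximal]
    have h1 : ({p} : Set (Spec Γ(Q, W))) = hW.fromSpec ⁻¹' {y} := by
      ext q
      simp only [Set.mem_singleton_iff, Set.mem_preimage]
      refine ⟨fun h => h ▸ hW.fromSpec_primeIdealOf ⟨y, hyW⟩, fun h => ?_⟩
      exact hW.fromSpec.isOpenEmbedding.injective (h.trans (hW.fromSpec_primeIdealOf ⟨y, hyW⟩).symm)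
    have h2 : IsClosed ({p} : Set (Spec Γ(Q, W))) := by
      rw [h1]; exact hy.preimage hW.fromSpec.continuous
    exact h2
  rw [VarDim.dim_eq (k := k)]
  have h3 : ringKrullDim (Q.presheaf.stalk y) = (VarDim.trdegFF k Q : ℕ) := by
    rw [IsLocalization.AtPrime.ringKrullDim_eq_height p.asIdeal, VarDim.height_chart (k := k) hW]
    rfl
  rw [← h3, ← spanFinrank_maximalIdeal_eq_finrank_cotangentSpace]
  exact ringKrullDim_le_spanFinrank_maximalIdeal _

theorem dim_le_card {X Q : Scheme.{u}} (qX : X ⟶ Spec (CommRingCat.of k)) (qQ : Q ⟶ Spec (CommRingCat.of k))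
    [Smooth qX] [LocallyOfFiniteType qQ] [IsIntegral Q] (g : X ⟶ Q) (hg : g ≫ qQ = qX) [Smooth g]
    (x : X) (hx : IsClosed {x}) (S : Finset (CotangentSpace (X.presheaf.stalk x)))
    (hS : ∀ v, FixPt.cotangentMapAt g x (g x) rfl v ∈
      Submodule.span (ResidueField (X.presheaf.stalk x)) (S : Set (CotangentSpace (X.presheaf.stalk x)))) :
    topologicalKrullDim Q ≤ S.card := by
  have hy : IsClosed {g x} := by
    have := ((pointEquivClosedPoint qQ) ⟨pointOfClosedPoint qX x hx ≫ g, by
      rw [Category.assoc, hg, pointOfClosedPoint_comp]⟩).2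
    simp only [pointEquivClosedPoint_apply_coe, Scheme.Hom.comp_apply, pointOfClosedPoint_apply] at this
    exact this
  refine (dim_le_finrank_cotangent qQ (g x) hy).trans (Nat.cast_le.2 ?_)
  exact finrank_le_of_semilinear (ResidueField.map (g.stalkMap x).hom) (residueFieldMap_surjective qX qQ g hg x hx hy)
    (FixPt.cotangentMapAt g x (g x) rfl).toAddMonoidHom (cotangentMapAt_smul g x)
    ((SmoothCrit.smooth_iff_cotangent qX qQ g hg).1 ‹_› x hx) S hS

theorem dim_le_card_of_factor {P Q X Y : Scheme.{u}} (qP : P ⟶ Spec (CommRingCat.of k))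
    (qQ : Q ⟶ Spec (CommRingCat.of k)) [Smooth qP] [LocallyOfFiniteType qQ] [IsIntegral Q]
    (g : P ⟶ Q) (hg : g ≫ qQ = qP) [Smooth g] (i : Q ⟶ Y) [IsClosedImmersion i] (j : P ⟶ X) (f : X ⟶ Y)
    (hc : j ≫ f = g ≫ i) (p : P) (hp : IsClosed {p})
    (S : Finset (CotangentSpace (X.presheaf.stalk (j p))))
    (hS : ∀ w, FixPt.cotangentMapAt f (j p) (f (j p)) rfl w ∈
      Submodule.span (ResidueField (X.presheaf.stalk (j p))) (S : Set (CotangentSpace (X.presheaf.stalk (j p))))) :
    topologicalKrullDim Q ≤ S.card := by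
  classical
  refine (dim_le_card qP qQ g hg p hp (S.image (FixPt.cotangentMapAt j p (j p) rfl)) fun v => ?_).trans
    (Nat.cast_le.2 Finset.card_image_le)
  have hy : i (g p) = f (j p) := by rw [← Scheme.Hom.comp_apply, ← hc]; rfl
  obtain ⟨w, rfl⟩ := cotangentMapAt_surjective_of_isClosedImmersion i (g p) (f (j p)) hy v
  have e1 := cotangentMapAt_comp g i (j ≫ f) hc.symm p (g p) (f (j p)) rfl hy rfl
  have e2 := cotangentMapAt_comp j f (j ≫ f) rfl p (j p) (f (j p)) rfl rfl rfl
  have e3 := (DFunLike.congr_fun e1 w).symm.trans (DFunLike.congr_fun e2 w)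
  rw [LinearMap.comp_apply, LinearMap.comp_apply] at e3
  rw [e3, Finset.coe_image]
  exact cotangentMapAt_mem_span j p _ _ (hS w)

end Groth.Agent.Var76.CotRank
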