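import Mathlib.RingTheory.Smooth.Field
import Mathlib.RingTheory.Smooth.Locus
import Mathlib.RingTheory.Smooth.Local
import Mathlib.RingTheory.Kaehler.JacobiZariski
import Mathlib.RingTheory.Etale.Basic
import Mathlib.FieldTheory.Perfect
import Mathlib.RingTheory.Unramified.LocalRing

/-! Generic smoothness in characteristic zero. -/

universe u

open scoped TensorProduct
open KaehlerDifferential

namespace Groth.Agent.Var76.GenSmooth

/-- A local algebra smooth over `k` is formally smooth over an intermediate field over which its
residue field is separable. -/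
theorem formallySmooth_field {k K T : Type u} [CommRing k] [Field K] [CommRing T] [IsLocalRing T]
    [Algebra k K] [Algebra k T] [Algebra K T] [IsScalarTower k K T]
    [Algebra.EssFiniteType k K] [Algebra.EssFiniteType k T] [Algebra.FormallySmooth k T]
    [Algebra.FormallySmooth K (IsLocalRing.ResidueField T)] :
    Algebra.FormallySmooth K T := by
  let κ := IsLocalRing.ResidueField T
  have : Module.Free T Ω[T⁄k] := Module.free_of_flat_of_isLocalRing
  have hinj : Function.Injective (mapBaseChange k K κ) := by
    rw [injective_iff_map_eq_zero]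
    intro x hx
    obtain ⟨y, rfl⟩ := (Algebra.H1Cotangent.exact_δ_mapBaseChange k K κ x).1 hx
    rw [Subsingleton.elim y 0, map_zero]
  let l := mapBaseChange k K T
  have hl : Function.Injective (l.lTensor κ) := by
    let e := TensorProduct.AlgebraTensorModule.cancelBaseChange K T κ κ Ω[K⁄k]
    have key : ∀ x, mapBaseChange k T κ (l.lTensor κ x) = mapBaseChange k K κ (e x) := by
      intro x
      induction x using TensorProduct.induction_on with
      | zero => simp
      | add a b ha hb => simp only [map_add, ha, hb]
      | tmul c y =>
        induction y using TensorProduct.induction_on with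
        | zero => simp
        | add a b ha hb => simp only [TensorProduct.tmul_add, map_add, ha, hb]
        | tmul t w =>
          simp only [LinearMap.lTensor_tmul, l, mapBaseChange_tmul, e,
            TensorProduct.AlgebraTensorModule.cancelBaseChange_tmul, map_smul]
          have : map k k T κ (map k k K T w) = map k k K κ w := by
            have hw : w ∈ Submodule.span K (Set.range (D k K)) := (span_range_derivation k K).symm ▸ trivial
            induction hw using Submodule.span_induction with
            | mem w hw => obtain ⟨a, rfl⟩ := hw; rw [map_D, map_D, map_D, ← IsScalarTower.algebraMap_apply]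
            | zero => simp
            | add a b _ _ ha hb => simp only [map_add, ha, hb]
            | smul r a _ ha => simp only [LinearMap.map_smul_of_tower, ha]
          rw [this, smul_comm, smul_assoc]
    intro x y hxy
    exact e.injective (hinj (by rw [← key, ← key, hxy]))
  obtain ⟨l', hl'⟩ := (IsLocalRing.split_injective_iff_lTensor_residueField_injective l).2 hl
  have hlinj : Function.Injective l := Function.HasLeftInverse.injective ⟨_, LinearMap.congr_fun hl'⟩
  refine ⟨?_, ?_⟩
  · -- the quotient of a split injection of projectives is projective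
    let q : Ω[T⁄k] →ₗ[T] Ω[T⁄K] := map k K T T
    have hq : Function.Surjective q := map_surjective k K T
    let π : Ω[T⁄k] →ₗ[T] Ω[T⁄k] := LinearMap.id - l ∘ₗ l'
    have hker : LinearMap.ker q ≤ LinearMap.ker π := by
      intro x hx
      obtain ⟨y, rfl⟩ := (exact_mapBaseChange_map k K T x).1 hx
      have e : l' (l y) = y := LinearMap.congr_fun hl' y
      show l y - l (l' (l y)) = 0
      rw [e, sub_self]
    let s : Ω[T⁄K] →ₗ[T] Ω[T⁄k] :=
      (LinearMap.ker q).liftQ π hker ∘ₗ (LinearMap.quotKerEquivOfSurjective q hq).symm.toLinearMap
    refine Module.Projective.of_split s q ?_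
    refine LinearMap.ext fun z => ?_
    obtain ⟨x, rfl⟩ := hq z
    have e1 : (LinearMap.quotKerEquivOfSurjective q hq).symm (q x) = Submodule.Quotient.mk x := by
      rw [LinearEquiv.symm_apply_eq]
      rfl
    show q ((LinearMap.ker q).liftQ π hker ((LinearMap.quotKerEquivOfSurjective q hq).symm (q x))) = q x
    rw [e1, Submodule.liftQ_apply]
    show q (x - l (l' x)) = q x
    rw [map_sub, show q (l (l' x)) = 0 from (exact_mapBaseChange_map k K T (l (l' x))).2 ⟨_, rfl⟩, sub_zero]
  · refine ⟨fun a b => ?_⟩
    suffices h : ∀ z : Algebra.H1Cotangent K T, z = 0 by rw [h a, h b]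
    intro z
    have h1 : Algebra.H1Cotangent.δ k K T z = 0 := hlinj (by
      rw [map_zero]
      exact (Algebra.H1Cotangent.exact_δ_mapBaseChange k K T _).2 ⟨z, rfl⟩)
    obtain ⟨w, rfl⟩ := (Algebra.H1Cotangent.exact_map_δ k K T z).1 h1
    rw [Subsingleton.elim w 0, map_zero]

variable (k : Type u) {A B : Type u} [Field k] [CharZero k] [CommRing A] [IsDomain A] [CommRing B]
  [Algebra k A] [Algebra k B] [Algebra A B] [IsScalarTower k A B]
  [Algebra.FiniteType k A] [Algebra.Smooth k B]

include k

/-- A smooth algebra is smooth at the points over the generic point of the base. -/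
theorem isSmoothAt_of_comap_eq_bot (w : Ideal B) [w.IsPrime] (hw : w.comap (algebraMap A B) = ⊥) :
    Algebra.IsSmoothAt A w := by
  let T := Localization.AtPrime w
  let K := FractionRing A
  let f : K →+* T := IsLocalization.lift (M := nonZeroDivisors A) (g := algebraMap A T) fun a => by
    rw [IsScalarTower.algebraMap_apply A B T]
    refine IsLocalization.map_units T (⟨algebraMap A B a, fun ha => ?_⟩ : w.primeCompl)
    exact nonZeroDivisors.ne_zero a.2 (Ideal.mem_bot.1 (hw ▸ (Ideal.mem_comap.2 ha)))
  let : Algebra K T := f.toAlgebra
  have hf : ∀ a, f (algebraMap A K a) = algebraMap A T a := IsLocalization.lift_eq _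
  have : IsScalarTower A K T := IsScalarTower.of_algebraMap_eq fun a => (hf a).symm
  have : IsScalarTower k K T := IsScalarTower.of_algebraMap_eq fun r => by
    rw [IsScalarTower.algebraMap_apply k A K, IsScalarTower.algebraMap_apply k A T]
    exact (hf _).symm
  have : Algebra.FormallySmooth B T := Algebra.FormallySmooth.of_isLocalization w.primeCompl
  have : Algebra.FormallySmooth k T := Algebra.FormallySmooth.comp k B T
  have : Algebra.EssFiniteType k T := Algebra.EssFiniteType.comp k B T
  have : Algebra.EssFiniteType k K :=
    have : Algebra.EssFiniteType A K := Algebra.EssFiniteType.of_isLocalization _ (nonZeroDivisors A)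
    Algebra.EssFiniteType.comp k A K
  have : CharZero K := charZero_of_injective_algebraMap (algebraMap k K).injective
  have : IsScalarTower k K (IsLocalRing.ResidueField T) := IsScalarTower.to₁₂₄ k K T _
  have : Algebra.EssFiniteType k (IsLocalRing.ResidueField T) := Algebra.EssFiniteType.comp k T _
  have : Algebra.EssFiniteType K (IsLocalRing.ResidueField T) :=
    Algebra.EssFiniteType.of_comp k K _
  have := formallySmooth_field (k := k) (K := K) (T := T)
  have : Algebra.FormallySmooth A K := Algebra.FormallySmooth.of_isLocalization (nonZeroDivisors A)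
  exact Algebra.FormallySmooth.comp A K T

/-- Generic smoothness of a smooth algebra over a base in characteristic zero. -/
theorem exists_smooth : ∃ a : A, a ≠ 0 ∧
    Algebra.Smooth A (Localization.Away (algebraMap A B a)) := by
  have : Algebra.FiniteType k B := inferInstance
  have : IsNoetherianRing A := Algebra.FiniteType.isNoetherianRing k A
  have : Algebra.FiniteType A B := Algebra.FiniteType.of_restrictScalars_finiteType k A B
  have : Algebra.FinitePresentation A B := Algebra.FinitePresentation.of_finiteType.1 ‹_›
  let J : Ideal B := PrimeSpectrum.vanishingIdeal (Algebra.smoothLocus A B)ᶜ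
  have hJ : PrimeSpectrum.zeroLocus (J : Set B) = (Algebra.smoothLocus A B)ᶜ := by
    rw [PrimeSpectrum.zeroLocus_vanishingIdeal_eq_closure]
    exact Algebra.isOpen_smoothLocus.isClosed_compl.closure_eq
  by_cases h : ∃ a : A, a ≠ 0 ∧ algebraMap A B a ∈ J
  · obtain ⟨a, ha, haJ⟩ := h
    refine ⟨a, ha, Algebra.basicOpen_subset_smoothLocus_iff_smooth.1 fun p hp => ?_⟩
    by_contra hns
    exact hp ((PrimeSpectrum.mem_zeroLocus _ _).1 (hJ.ge hns) haJ)
  · push Not at h
    let S : Submonoid B := (nonZeroDivisors A).map (algebraMap A B)
    obtain ⟨w, hw, hJw, hdisj⟩ := Ideal.exists_le_prime_disjoint J S (Set.disjoint_left.2 fun b hb ⟨a, ha, hab⟩ =>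
      h a (nonZeroDivisors.ne_zero ha) (hab ▸ hb))
    have hcomap : w.comap (algebraMap A B) = ⊥ := by
      refine eq_bot_iff.2 fun a ha => ?_
      by_contra hne
      exact Set.disjoint_left.1 hdisj (Ideal.mem_comap.1 ha)
        ⟨a, mem_nonZeroDivisors_of_ne_zero hne, rfl⟩
    have h2 : (⟨w, hw⟩ : PrimeSpectrum B) ∈ (Algebra.smoothLocus A B)ᶜ :=
      hJ.le ((PrimeSpectrum.mem_zeroLocus _ _).2 hJw)
    exact absurd (isSmoothAt_of_comap_eq_bot k w hcomap) h2

end Groth.Agent.Var76.GenSmooth
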