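import Groth.Agent.Var76.SmoothCrit
import Groth.Prelude.Def_FixPt
import Mathlib.AlgebraicGeometry.Morphisms.Smooth

/-! The differential criterion of smoothness, for schemes over an algebraically closed field. -/

universe u

set_option backward.isDefEq.respectTransparency false

open CategoryTheory CategoryTheory.Limits AlgebraicGeometry TopologicalSpace

namespace Groth.Agent.Var76.SmoothCrit

theorem mapCotangent_injective_iff {S T : Type u} [CommRing S] [CommRing T] (φ : S →+* T)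
    (I : Ideal S) (J : Ideal T) (h : I ≤ J.comap φ) :
    Function.Injective (Ideal.mapCotangent I J φ.toIntAlgHom h) ↔
      ∀ s ∈ I, φ s ∈ J ^ 2 → s ∈ I ^ 2 := by
  have hmap : ∀ s : I, Ideal.mapCotangent I J φ.toIntAlgHom h (I.toCotangent s) =
      J.toCotangent ⟨φ s.1, h s.2⟩ := fun s => rfl
  rw [injective_iff_map_eq_zero]
  constructor
  · intro hinj s hs hsq
    exact (Ideal.toCotangent_eq_zero I ⟨s, hs⟩).1 (hinj _ (by
      rw [hmap, Ideal.toCotangent_eq_zero]; exact hsq))
  · intro hcond z hz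
    obtain ⟨s, rfl⟩ := I.toCotangent_surjective z
    rw [hmap, Ideal.toCotangent_eq_zero] at hz
    exact (Ideal.toCotangent_eq_zero I s).2 (hcond s.1 s.2 hz)

/-- Second order vanishing may be checked before localising at a maximal ideal. -/
theorem mem_sq_iff {A S : Type u} [CommRing A] [CommRing S] [Algebra A S] (m : Ideal A) [m.IsMaximal]
    [IsLocalization.AtPrime S m] [IsLocalRing S] (a : A) :
    algebraMap A S a ∈ IsLocalRing.maximalIdeal S ^ 2 ↔ a ∈ m ^ 2 := by
  rw [← IsLocalization.AtPrime.map_eq_maximalIdeal m S, ← Ideal.map_pow,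
    IsLocalization.algebraMap_mem_map_algebraMap_iff m.primeCompl]
  refine ⟨fun ⟨t, ht, hta⟩ => ?_, fun h => ⟨1, fun h1 => ‹m.IsMaximal›.ne_top
    ((Ideal.eq_top_iff_one _).2 h1), by rwa [one_mul]⟩⟩
  obtain ⟨u, hu, v, hv, huv⟩ := Submodule.mem_sup.1
    (show (1 : A) ∈ m ^ 2 ⊔ Ideal.span {t} by
      suffices h : m ^ 2 ⊔ Ideal.span {t} = ⊤ by rw [h]; trivial
      by_contra h
      obtain ⟨N, hN, hle⟩ := Ideal.exists_le_maximal _ h
      have hMN : m ≤ N := hN.isPrime.le_of_pow_le (le_sup_left.trans hle)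
      exact ht (by
        rw [Ideal.IsMaximal.eq_of_le ‹_› hN.ne_top hMN]
        exact hle (Submodule.mem_sup_right (Ideal.mem_span_singleton_self t))))
  obtain ⟨w, rfl⟩ := Ideal.mem_span_singleton'.1 hv
  have : a = u * a + w * (t * a) := by rw [← mul_assoc, ← add_mul, huv, one_mul]
  rw [this]
  exact add_mem (Ideal.mul_mem_right _ _ hu) (Ideal.mul_mem_left _ _ hta)

/-- The cotangent map of stalks read off on rings of sections. -/
theorem stalk_cond_iff {A B S T : Type u} [CommRing A] [CommRing B] [CommRing S] [CommRing T]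
    [Algebra A S] [Algebra B T] (φ : A →+* B) (ψ : S →+* T)
    (hcomp : ∀ a, ψ (algebraMap A S a) = algebraMap B T (φ a))
    (m : Ideal A) [m.IsMaximal] (n : Ideal B) [n.IsMaximal] [IsLocalRing S] [IsLocalRing T]
    [IsLocalization.AtPrime S m] [IsLocalization.AtPrime T n] :
    (∀ s ∈ IsLocalRing.maximalIdeal S, ψ s ∈ IsLocalRing.maximalIdeal T ^ 2 → s ∈ IsLocalRing.maximalIdeal S ^ 2) ↔
      ∀ a ∈ m, φ a ∈ n ^ 2 → a ∈ m ^ 2 := by
  constructor
  · intro h a ha h2
    refine (mem_sq_iff (S := S) m a).1 (h _ ?_ ?_)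
    · exact (IsLocalization.AtPrime.to_map_mem_maximal_iff S m a).2 ha
    · rw [hcomp]; exact (mem_sq_iff (S := T) n _).2 h2
  · intro h s hs h2
    obtain ⟨a, t, rfl⟩ := IsLocalization.exists_mk'_eq m.primeCompl s
    have hu : IsUnit (algebraMap A S t) := IsLocalization.map_units S t
    have hst : IsLocalization.mk' S a t * algebraMap A S t = algebraMap A S a := IsLocalization.mk'_spec S a t
    have ha : a ∈ m := by
      rw [← IsLocalization.AtPrime.to_map_mem_maximal_iff S m a, ← hst]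
      exact Ideal.mul_mem_right _ _ hs
    have ha2 : φ a ∈ n ^ 2 := by
      rw [← mem_sq_iff (S := T) n, ← hcomp, ← hst, map_mul]
      exact Ideal.mul_mem_right _ _ h2
    have := (mem_sq_iff (S := S) m a).2 (h a ha ha2)
    rw [← hst] at this
    exact (Ideal.mul_unit_mem_iff_mem _ hu).1 this

variable {k : Type u} [Field k] [IsAlgClosed k] {X Y : Scheme.{u}}
  (qX : X ⟶ Spec (CommRingCat.of k)) (qY : Y ⟶ Spec (CommRingCat.of k))
  [Smooth qX] [LocallyOfFiniteType qY] (f : X ⟶ Y) (hf : f ≫ qY = qX)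

include hf in
/-- Smoothness near a closed point is injectivity of the cotangent map. -/
theorem isSmoothAt_iff_cotangent {V : Y.Opens} (hV : IsAffineOpen V) {W : X.Opens} (hW : IsAffineOpen W)
    (e : W ≤ f ⁻¹ᵁ V) (x : X) (hxW : x ∈ W) (hx : IsClosed ({x} : Set X)) :
    letI := (f.appLE V W e).hom.toAlgebra
    Algebra.IsSmoothAt Γ(Y, V) (hW.primeIdealOf ⟨x, hxW⟩).asIdeal ↔
      Function.Injective (FixPt.cotangentMapAt f x (f.base x) rfl) := by
  let A := Γ(Y, V)
  let B := Γ(X, W)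
  let cY : k →+* A := ((Scheme.ΓSpecIso (CommRingCat.of k)).inv ≫ qY.appLE ⊤ V (le_top : V ≤ qY ⁻¹ᵁ ⊤)).hom
  let cX : k →+* B := ((Scheme.ΓSpecIso (CommRingCat.of k)).inv ≫ qX.appLE ⊤ W (le_top : W ≤ qX ⁻¹ᵁ ⊤)).hom
  let : Algebra k A := cY.toAlgebra
  let : Algebra k B := cX.toAlgebra
  let : Algebra A B := (f.appLE V W e).hom.toAlgebra
  have : IsScalarTower k A B := IsScalarTower.of_algebraMap_eq fun r => by
    show qX.appLE ⊤ W (le_top : W ≤ qX ⁻¹ᵁ ⊤) ((Scheme.ΓSpecIso (CommRingCat.of k)).inv r) =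
      f.appLE V W e (qY.appLE ⊤ V (le_top : V ≤ qY ⁻¹ᵁ ⊤) ((Scheme.ΓSpecIso (CommRingCat.of k)).inv r))
    rw [← ConcreteCategory.comp_apply (qY.appLE ⊤ V _), Scheme.Hom.appLE_comp_appLE]
    simp only [hf]
  have hsm : Algebra.Smooth k B := by
    have h1 : (qX.appLE ⊤ W (le_top : W ≤ qX ⁻¹ᵁ ⊤)).hom.Smooth :=
      HasRingHomProperty.appLE @Smooth qX ‹_› ⟨⊤, isAffineOpen_top _⟩ ⟨W, hW⟩ le_top
    exact RingHom.smooth_algebraMap.1 (RingHom.Smooth.comp
      (RingHom.Smooth.of_bijective (ConcreteCategory.bijective_of_isIso (Scheme.ΓSpecIso (CommRingCat.of k)).inv)) h1)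
  have hA : Algebra.FiniteType k A := by
    have h1 : (qY.appLE ⊤ V (le_top : V ≤ qY ⁻¹ᵁ ⊤)).hom.FiniteType :=
      HasRingHomProperty.appLE @LocallyOfFiniteType qY ‹_› ⟨⊤, isAffineOpen_top _⟩ ⟨V, hV⟩ le_top
    exact RingHom.finiteType_algebraMap.1 (h1.comp (RingHom.FiniteType.of_surjective _
      (ConcreteCategory.bijective_of_isIso (Scheme.ΓSpecIso (CommRingCat.of k)).inv).2))
  let n := (hW.primeIdealOf ⟨x, hxW⟩).asIdeal
  have hn : n.IsMaximal := hW.primeIdealOf_isMaximal_of_isClosed ⟨x, hxW⟩ hx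
  have hfin : Module.Finite k (B ⧸ n) := by
    let : Field (B ⧸ n) := Ideal.Quotient.field n
    exact finite_of_finite_type_of_isJacobsonRing k (B ⧸ n)
  have hrat : Function.Surjective (algebraMap k (B ⧸ n)) := by
    let : Field (B ⧸ n) := Ideal.Quotient.field n
    exact (IsAlgClosed.algebraMap_bijective_of_isIntegral (k := k) (K := B ⧸ n)).2
  let m := (hV.primeIdealOf ⟨f x, e hxW⟩).asIdeal
  have hcomap : n.comap (algebraMap A B) = m :=
    congrArg PrimeSpectrum.asIdeal (IsAffineOpen.comap_primeIdealOf_appLE V hV W hW e hxW)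
  have hm : m.IsMaximal := by
    rw [← hcomap]
    let : Field (B ⧸ n) := Ideal.Quotient.field n
    have hs : Function.Surjective ((Ideal.Quotient.mk n).comp (algebraMap A B)) := fun z => by
      obtain ⟨r, rfl⟩ := hrat z
      refine ⟨algebraMap k A r, ?_⟩
      rw [RingHom.comp_apply, ← IsScalarTower.algebraMap_apply]
      rfl
    have h := RingHom.ker_isMaximal_of_surjective _ hs
    rwa [← RingHom.comap_ker, Ideal.mk_ker] at h
  show Algebra.IsSmoothAt A n ↔ _
  rw [isSmoothAt_iff k n hrat, hcomap, FixPt.cotangentMapAt, mapCotangent_injective_iff]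
  let : Algebra A (Y.presheaf.stalk (f x)) := TopCat.Presheaf.algebra_section_stalk Y.presheaf ⟨f x, e hxW⟩
  let : Algebra B (X.presheaf.stalk x) := TopCat.Presheaf.algebra_section_stalk X.presheaf ⟨x, hxW⟩
  have : IsLocalization.AtPrime (Y.presheaf.stalk (f x)) m := hV.isLocalization_stalk ⟨f x, e hxW⟩
  have : IsLocalization.AtPrime (X.presheaf.stalk x) n := hW.isLocalization_stalk ⟨x, hxW⟩
  refine (stalk_cond_iff (S := Y.presheaf.stalk (f x)) (T := X.presheaf.stalk x) (algebraMap A B)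
    (FixPt.stalkMapAt f x (f.base x) rfl) (fun a => ?_) m n).symm
  show ((Y.presheaf.stalkCongr (Inseparable.of_eq (rfl : f.base x = f.base x))).inv ≫ f.stalkMap x).hom
      (Y.presheaf.germ V (f x) (e hxW) a) = X.presheaf.germ W x hxW (f.appLE V W e a)
  simp only [TopCat.Presheaf.stalkCongr_inv, TopCat.Presheaf.stalkSpecializes_refl, Category.id_comp]
  show f.stalkMap x (Y.presheaf.germ V (f x) (e hxW) a) = _
  rw [Scheme.Hom.germ_stalkMap_apply, Scheme.Hom.app_eq_appLE,
    ← Scheme.Hom.appLE_map f (le_refl (f ⁻¹ᵁ V)) (homOfLE e).op, ConcreteCategory.comp_apply]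
  exact (TopCat.Presheaf.germ_res_apply X.presheaf (homOfLE e) x hxW _).symm

include hf in
/-- A morphism from a smooth variety is smooth if its cotangent maps at closed points are injective. -/
theorem smooth_iff_cotangent :
    Smooth f ↔ ∀ x : X, IsClosed ({x} : Set X) → Function.Injective (FixPt.cotangentMapAt f x (f.base x) rfl) := by
  have : LocallyOfFiniteType (f ≫ qY) := hf ▸ (inferInstance : LocallyOfFiniteType qX)
  have : LocallyOfFiniteType f := locallyOfFiniteType_of_comp f qY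
  have : IsLocallyNoetherian Y := LocallyOfFiniteType.isLocallyNoetherian qY
  constructor
  · intro h x hx
    obtain ⟨V, hV, hxV, -⟩ := exists_isAffineOpen_mem_and_subset (U := (⊤ : Y.Opens)) (x := f x) trivial
    obtain ⟨W, hW, hxW, e'⟩ := exists_isAffineOpen_mem_and_subset (show x ∈ f ⁻¹ᵁ V from hxV)
    have e : W ≤ f ⁻¹ᵁ V := e'
    let : Algebra Γ(Y, V) Γ(X, W) := (f.appLE V W e).hom.toAlgebra
    have hs : Algebra.Smooth Γ(Y, V) Γ(X, W) :=
      RingHom.smooth_algebraMap.1 (HasRingHomProperty.appLE @Smooth f h ⟨V, hV⟩ ⟨W, hW⟩ e)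
    refine (isSmoothAt_iff_cotangent qX qY f hf hV hW e x hxW hx).1 ?_
    have := Algebra.smoothLocus_eq_univ (R := Γ(Y, V)) (A := Γ(X, W))
    exact this.ge (Set.mem_univ (hW.primeIdealOf ⟨x, hxW⟩))
  · intro h
    rw [HasRingHomProperty.iff_appLE (P := @Smooth)]
    intro V W e
    let : Algebra Γ(Y, V.1) Γ(X, W.1) := (f.appLE V.1 W.1 e).hom.toAlgebra
    have hft : Algebra.FiniteType Γ(Y, V.1) Γ(X, W.1) := RingHom.finiteType_algebraMap.1
      (HasRingHomProperty.appLE @LocallyOfFiniteType f ‹_› V W e)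
    have : IsNoetherianRing Γ(Y, V.1) := IsLocallyNoetherian.component_noetherian V
    have hfp : Algebra.FinitePresentation Γ(Y, V.1) Γ(X, W.1) := Algebra.FinitePresentation.of_finiteType.1 hft
    refine RingHom.smooth_algebraMap.2 ⟨Algebra.smoothLocus_eq_univ_iff.1 ?_, hfp⟩
    refine Set.eq_univ_of_forall fun p => ?_
    obtain ⟨n, hn, hpn⟩ := Ideal.exists_le_maximal p.asIdeal p.isPrime.ne_top
    let N : PrimeSpectrum Γ(X, W.1) := ⟨n, hn.isPrime⟩
    refine ((PrimeSpectrum.le_iff_specializes p N).1 hpn).mem_open Algebra.isOpen_smoothLocus ?_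
    let x : X := W.2.fromSpec N
    have hxW : x ∈ W.1 := W.2.range_fromSpec.le ⟨N, rfl⟩
    have : IsOpenImmersion W.2.fromSpec := IsAffineOpen.isOpenImmersion_fromSpec W.2
    have : JacobsonSpace X := LocallyOfFiniteType.jacobsonSpace qX
    have hx : IsClosed ({x} : Set X) := by
      refine isClosed_singleton_of_isLocallyClosed_singleton ?_
      have hN : IsClosed ({N} : Set (Spec Γ(X, W.1))) :=
        (PrimeSpectrum.isClosed_singleton_iff_isMaximal _).2 hn
      have h2 := hN.isLocallyClosed.image W.2.fromSpec.isOpenEmbedding.isInducing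
        W.2.fromSpec.isOpenEmbedding.isOpen_range.isLocallyClosed
      rw [show (fun a => W.2.fromSpec a) '' {N} = {x} from Set.image_singleton] at h2
      exact h2
    have hsm := (isSmoothAt_iff_cotangent qX qY f hf V.2 W.2 e x hxW hx).2 (h x hx)
    have hN : W.2.primeIdealOf ⟨x, hxW⟩ = N :=
      W.2.fromSpec.isOpenEmbedding.injective (W.2.fromSpec_primeIdealOf ⟨x, hxW⟩)
    have hsm' : W.2.primeIdealOf ⟨x, hxW⟩ ∈ Algebra.smoothLocus Γ(Y, V.1) Γ(X, W.1) := hsm
    rwa [hN] at hsm'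

end Groth.Agent.Var76.SmoothCrit
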