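import Groth.Agent.Var76.VarDim
import Groth.Agent.Var76.GenSmoothScheme
import Groth.Agent.Var76.SmoothCritScheme
import Groth.Agent.Sep12.Index
import Mathlib.RingTheory.Smooth.Flat
import Mathlib.RingTheory.Smooth.StandardSmoothOfFree
import Mathlib.AlgebraicGeometry.Morphisms.FlatDescent

/-! Relative dimension of a smooth morphism of varieties. -/

universe u

open CategoryTheory CategoryTheory.Limits AlgebraicGeometry TopologicalSpace
open scoped TensorProduct
open KaehlerDifferential

set_option backward.isDefEq.respectTransparency false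

namespace Groth.Agent.Var76.RelDim

theorem injective_of_flat {A B : Type u} [CommRing A] [IsDomain A] [CommRing B] [Nontrivial B]
    [Algebra A B] [Module.Flat A B] : Function.Injective (algebraMap A B) := by
  rw [injective_iff_map_eq_zero]
  intro a ha
  by_contra hne
  have : IsSMulRegular B a := by
    have hA : IsSMulRegular A a := fun x y h => mul_left_cancel₀ hne h
    intro x y h
    have hinj := Module.Flat.rTensor_preserves_injective_linearMap (M := B) (LinearMap.lsmul A A a) hA
    have h2 : (LinearMap.lsmul A A a).rTensor B ((TensorProduct.lid A B).symm x) =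
        (LinearMap.lsmul A A a).rTensor B ((TensorProduct.lid A B).symm y) := by
      apply (TensorProduct.lid A B).injective
      simpa [mul_smul] using h
    exact (TensorProduct.lid A B).symm.injective (hinj h2)
  exact one_ne_zero (this (show a • (1 : B) = a • (0 : B) by rw [Algebra.smul_def, ha, zero_mul, smul_zero]))

/-- The relative dimension of a standard smooth algebra between domains of finite type over a field
is the difference of dimensions. -/
theorem isStandardSmoothOfRelativeDimension (k : Type u) [Field k] {A B : Type u}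
    [CommRing A] [IsDomain A] [CommRing B] [IsDomain B] [Algebra k A] [Algebra k B] [Algebra A B]
    [IsScalarTower k A B] [Algebra.FiniteType k A] [Algebra.IsStandardSmooth A B]
    (dY n : ℕ) (hdA : Algebra.trdeg k A = (dY : Cardinal.{u}))
    (hdB : Algebra.trdeg k B = ((dY + n : ℕ) : Cardinal.{u})) :
    Algebra.IsStandardSmoothOfRelativeDimension n A B := by
  have : IsNoetherianRing A := Algebra.FiniteType.isNoetherianRing k A
  have : Algebra.Smooth A B := inferInstance
  have hA : Function.Injective (algebraMap A B) := injective_of_flat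
  let K := FractionRing A
  let L := FractionRing B
  have hAL : Function.Injective (algebraMap A L) := by
    rw [IsScalarTower.algebraMap_eq A B L]
    exact (IsFractionRing.injective B L).comp hA
  have : FaithfulSMul A L := (faithfulSMul_iff_algebraMap_injective _ _).2 hAL
  let : Algebra K L := FractionRing.liftAlgebra A L
  have : IsScalarTower A K L := FractionRing.isScalarTower_liftAlgebra A L
  have : FaithfulSMul A K := (faithfulSMul_iff_algebraMap_injective _ _).2 (IsFractionRing.injective _ _)
  have : FaithfulSMul B L := (faithfulSMul_iff_algebraMap_injective _ _).2 (IsFractionRing.injective _ _)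
  have : Algebra.FormallyEtale A K := Algebra.FormallyEtale.of_isLocalization (nonZeroDivisors A)
  have : Algebra.FormallyEtale B L := Algebra.FormallyEtale.of_isLocalization (nonZeroDivisors B)
  have : Algebra.FormallySmooth A L := Algebra.FormallySmooth.comp A B L
  have : Algebra.FormallySmooth K L := Algebra.FormallySmooth.of_restrictScalars A K L
  have : Algebra.EssFiniteType A L :=
    have : Algebra.EssFiniteType B L := Algebra.EssFiniteType.of_isLocalization _ (nonZeroDivisors B)
    Algebra.EssFiniteType.comp A B L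
  have : Algebra.EssFiniteType K L := Algebra.EssFiniteType.of_comp A K L
  rw [Algebra.IsStandardSmoothOfRelativeDimension.iff_of_isStandardSmooth]
  obtain ⟨_, _, _, _, ⟨P⟩⟩ := ‹Algebra.IsStandardSmooth A B›
  let b := P.basisKaehler.reindex Equiv.ulift.{u}.symm
  let b' : Module.Basis _ L Ω[L⁄A] := (b.baseChange L).map (tensorKaehlerEquivOfFormallyEtale A B L)
  have hequiv : Function.Bijective (map A K L L) := by
    refine ⟨?_, map_surjective A K L⟩
    rw [injective_iff_map_eq_zero]
    intro x hx
    obtain ⟨y, rfl⟩ := (exact_mapBaseChange_map A K L x).1 hx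
    rw [Subsingleton.elim y 0, map_zero]
  let e : Ω[L⁄A] ≃ₗ[L] Ω[L⁄K] := LinearEquiv.ofBijective (map A K L L) hequiv
  obtain ⟨-, hfin, hc⟩ := Sep12.cartier (k := K) (K := L)
  have h0 : Module.finrank L (Algebra.H1Cotangent K L) = 0 := Module.finrank_zero_of_subsingleton
  rw [h0, Nat.cast_zero, sub_zero, Nat.cast_inj] at hc
  have hKA : Algebra.trdeg k K = (dY : Cardinal.{u}) := by
    have : Algebra.IsAlgebraic A K := IsLocalization.isAlgebraic _ (nonZeroDivisors A)
    rw [← trdeg_add_eq k A (A := K), trdeg_eq_zero (R := A), add_zero, hdA]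
  have hLB : Algebra.trdeg k L = ((dY + n : ℕ) : Cardinal.{u}) := by
    have : Algebra.IsAlgebraic B L := IsLocalization.isAlgebraic _ (nonZeroDivisors B)
    rw [← trdeg_add_eq k B (A := L), trdeg_eq_zero (R := B), add_zero, hdB]
  have : IsScalarTower k A L := IsScalarTower.of_algebraMap_eq fun r => by
    rw [IsScalarTower.algebraMap_apply k B L, IsScalarTower.algebraMap_apply k A B,
      ← IsScalarTower.algebraMap_apply A B L]
  have : IsScalarTower k K L := IsScalarTower.of_algebraMap_eq fun r => by
    rw [IsScalarTower.algebraMap_apply k A L, IsScalarTower.algebraMap_apply k A K,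
      ← IsScalarTower.algebraMap_apply A K L]
  have hadd := trdeg_add_eq k K (A := L)
  rw [hKA, hLB] at hadd
  have hn : Cardinal.toNat (Algebra.trdeg K L) = n := by
    have hlt : Algebra.trdeg K L < Cardinal.aleph0 := by
      refine lt_of_le_of_lt ?_ (Cardinal.natCast_lt_aleph0 (n := dY + n))
      rw [← hadd]
      exact le_add_self
    obtain ⟨r, hr⟩ := Cardinal.lt_aleph0.1 hlt
    rw [hr, Cardinal.toNat_natCast]
    rw [hr, ← Nat.cast_add, Nat.cast_inj] at hadd
    omega
  rw [hn] at hc
  have : Module.Finite L Ω[L⁄K] := hfin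
  rw [← b.mk_eq_rank'', b'.mk_eq_rank'', e.rank_eq, ← Module.finrank_eq_rank, hc]

/-- A smooth morphism of varieties is smooth of relative dimension the difference of dimensions. -/
theorem smoothOfRelativeDimension {k : Type u} [Field k] {X Y : Scheme.{u}}
    (qX : X ⟶ Spec (CommRingCat.of k)) (qY : Y ⟶ Spec (CommRingCat.of k))
    [IsIntegral X] [LocallyOfFiniteType qX] [IsIntegral Y] [LocallyOfFiniteType qY]
    (f : X ⟶ Y) (hf : f ≫ qY = qX) [Smooth f] (dY n : ℕ)
    (hY : topologicalKrullDim Y = dY) (hX : topologicalKrullDim X = ((dY + n : ℕ) : WithBot ℕ∞)) :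
    SmoothOfRelativeDimension n f := by
  let : X.Over (Spec (CommRingCat.of k)) := ⟨qX⟩
  let : Y.Over (Spec (CommRingCat.of k)) := ⟨qY⟩
  have hqX : LocallyOfFiniteType (X ↘ Spec (CommRingCat.of k)) := ‹LocallyOfFiniteType qX›
  have hqY : LocallyOfFiniteType (Y ↘ Spec (CommRingCat.of k)) := ‹LocallyOfFiniteType qY›
  refine ⟨fun x => ?_⟩
  obtain ⟨V, hV, W, hW, hxW, e, hstd⟩ := (Smooth.iff_forall_exists_isStandardSmooth f).1 ‹Smooth f› x
  refine ⟨V, hV, W, hW, hxW, e, ?_⟩
  have : Nonempty W := ⟨⟨x, hxW⟩⟩
  have : Nonempty V := ⟨⟨f x, e hxW⟩⟩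
  let : Algebra k Γ(Y, V) := (BertiniScheme.const (k := k) Y V).toAlgebra
  let : Algebra k Γ(X, W) := (BertiniScheme.const (k := k) X W).toAlgebra
  let : Algebra Γ(Y, V) Γ(X, W) := (f.appLE V W e).hom.toAlgebra
  have := VarDim.finiteType_const (k := k) (X := Y) hV
  have : IsScalarTower k Γ(Y, V) Γ(X, W) := IsScalarTower.of_algebraMap_eq fun r => by
    show qX.appLE ⊤ W (le_top : W ≤ qX ⁻¹ᵁ ⊤) ((Scheme.ΓSpecIso (CommRingCat.of k)).inv r) =
      f.appLE V W e (qY.appLE ⊤ V (le_top : V ≤ qY ⁻¹ᵁ ⊤) ((Scheme.ΓSpecIso (CommRingCat.of k)).inv r))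
    rw [← ConcreteCategory.comp_apply (qY.appLE ⊤ V _), Scheme.Hom.appLE_comp_appLE]
    simp only [hf]
  have : Algebra.IsStandardSmooth Γ(Y, V) Γ(X, W) := RingHom.isStandardSmooth_algebraMap.1 hstd
  refine (RingHom.isStandardSmoothOfRelativeDimension_algebraMap n).2
    (isStandardSmoothOfRelativeDimension k dY n ?_ ?_)
  · rw [(VarDim.trdeg_chart (k := k) hV).1, VarDim.trdegFF_eq (k := k) hY]
  · rw [(VarDim.trdeg_chart (k := k) hW).1, VarDim.trdegFF_eq (k := k) hX]

end Groth.Agent.Var76.RelDim
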