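import Groth.Agent.Var76.OrbitSmooth
import Groth.Agent.Var76.SmoothFibre
import Groth.Agent.Var76.RelDim
import Groth.Agent.Var76.GenSmooth
import Groth.Agent.TopDim50.Basic

/-! Generic smoothness and dimensions for the transversality of general translates. -/

set_option autoImplicit false
universe u

open CategoryTheory MonoidalCategory CartesianMonoidalCategory MonObj AlgebraicGeometry CategoryTheory.Limits

namespace Groth.Agent.Var76.Kleiman

set_option backward.isDefEq.respectTransparency false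

variable {k : Type u} [Field k]

theorem cotangentMapAt_comp {A B C : Scheme.{u}} (j : A ⟶ B) (h : B ⟶ C) (z : A) :
    FixPt.cotangentMapAt (j ≫ h) z (h (j z)) rfl =
      (FixPt.cotangentMapAt j z (j z) rfl).comp (FixPt.cotangentMapAt h (j z) (h (j z)) rfl) := by
  refine LinearMap.ext fun c => ?_
  obtain ⟨⟨a, ha⟩, rfl⟩ := Ideal.toCotangent_surjective _ c
  simp only [FixPt.cotangentMapAt, FixPt.stalkMapAt, Ideal.mapCotangent_toCotangent, LinearMap.comp_apply]
  congr 1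
  ext
  simp [Scheme.Hom.stalkMap_comp]

theorem smooth_of_homogeneous [IsAlgClosed k] {X : Scheme.{u}} (q : X ⟶ Spec (CommRingCat.of k))
    [LocallyOfFiniteType q] [IsReduced X]
    (hhom : ∀ x y : X, IsClosed {x} → IsClosed {y} → ∃ α : X ⟶ X, IsIso α ∧ α ≫ q = q ∧ α x = y) :
    Smooth q := by
  have := LocallyOfFiniteType.jacobsonSpace q
  have : LocallyOfFinitePresentation q := ActTrans.lfp_of_lft q
  rw [← Scheme.Hom.smoothLocus_eq_top_iff, ← TopologicalSpace.Opens.coe_eq_univ,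
    ← not_ne_iff, ← Set.nonempty_compl]
  intro H
  obtain ⟨x, hx, hxc⟩ :=
    nonempty_inter_closedPoints H q.smoothLocus.2.isClosed_compl.isLocallyClosed
  have : Nonempty X := ⟨x⟩
  obtain ⟨y, hy : y ∈ q.smoothLocus, hyc⟩ := nonempty_inter_closedPoints
    q.dense_smoothLocus_of_perfectField.nonempty q.smoothLocus.2.isLocallyClosed
  obtain ⟨α, _, hα, hαxy⟩ := hhom x y hxc hyc
  rw [← hαxy] at hy
  have h1 : x ∈ α ⁻¹ᵁ q.smoothLocus := hy
  rw [Scheme.Hom.preimage_smoothLocus_eq] at h1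
  rw [Scheme.Hom.mem_smoothLocus, Scheme.Hom.stalkMap_congr_hom _ _ hα] at h1
  refine hx ?_
  show x ∈ q.smoothLocus
  rw [Scheme.Hom.mem_smoothLocus]
  rw [CommRingCat.hom_comp] at h1
  exact (RingHom.FormallySmooth.respectsIso.cancel_left_isIso _ _).1 h1

/-- Generic smoothness of a morphism from a (possibly reducible) smooth scheme. -/
theorem exists_open_smooth [CharZero k] {X Y : Scheme.{u}} (qX : X ⟶ Spec (CommRingCat.of k))
    (qY : Y ⟶ Spec (CommRingCat.of k)) [Smooth qX] [LocallyOfFiniteType qY] [IsIntegral Y]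
    (f : X ⟶ Y) [QuasiCompact f] (hf : f ≫ qY = qX) :
    ∃ V : Y.Opens, (V : Set ↥Y).Nonempty ∧ Smooth (f ∣_ V) := by
  classical
  obtain ⟨V, hV, hyV, -⟩ := exists_isAffineOpen_mem_and_subset (U := (⊤ : Y.Opens)) (x := genericPoint Y) trivial
  have : Nonempty V := ⟨⟨_, hyV⟩⟩
  have : LocallyOfFiniteType (f ≫ qY) := hf ▸ (inferInstance : LocallyOfFiniteType qX)
  have : LocallyOfFiniteType f := locallyOfFiniteType_of_comp f qY
  have hc : IsCompact (f ⁻¹ᵁ V : Set X) := f.isCompact_preimage hV.isCompact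
  let cY : k →+* Γ(Y, V) := ((Scheme.ΓSpecIso (CommRingCat.of k)).inv ≫ qY.appLE ⊤ V (le_top : V ≤ qY ⁻¹ᵁ ⊤)).hom
  let : Algebra k Γ(Y, V) := cY.toAlgebra
  have hA : Algebra.FiniteType k Γ(Y, V) := by
    have h1 : (qY.appLE ⊤ V (le_top : V ≤ qY ⁻¹ᵁ ⊤)).hom.FiniteType :=
      HasRingHomProperty.appLE @LocallyOfFiniteType qY ‹_› ⟨⊤, isAffineOpen_top _⟩ ⟨V, hV⟩ le_top
    exact RingHom.finiteType_algebraMap.1 (h1.comp (RingHom.FiniteType.of_surjective _
      (ConcreteCategory.bijective_of_isIso (Scheme.ΓSpecIso (CommRingCat.of k)).inv).2))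
  have hchart : ∀ x : ↥(f ⁻¹ᵁ V), ∃ (W : X.Opens) (hW : IsAffineOpen W) (e : W ≤ f ⁻¹ᵁ V),
      (x : X) ∈ W ∧ ∃ a : Γ(Y, V), a ≠ 0 ∧ Smooth ((X.basicOpen (f.appLE V W e a)).ι ≫ f) := by
    intro x
    obtain ⟨W, hW, hxW, e'⟩ := exists_isAffineOpen_mem_and_subset x.2
    have e : W ≤ f ⁻¹ᵁ V := e'
    refine ⟨W, hW, e, hxW, ?_⟩
    let cX : k →+* Γ(X, W) := ((Scheme.ΓSpecIso (CommRingCat.of k)).inv ≫ qX.appLE ⊤ W (le_top : W ≤ qX ⁻¹ᵁ ⊤)).hom
    let : Algebra k Γ(X, W) := cX.toAlgebra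
    let : Algebra Γ(Y, V) Γ(X, W) := (f.appLE V W e).hom.toAlgebra
    have : IsScalarTower k Γ(Y, V) Γ(X, W) := IsScalarTower.of_algebraMap_eq fun r => by
      show qX.appLE ⊤ W (le_top : W ≤ qX ⁻¹ᵁ ⊤) ((Scheme.ΓSpecIso (CommRingCat.of k)).inv r) =
        f.appLE V W e (qY.appLE ⊤ V (le_top : V ≤ qY ⁻¹ᵁ ⊤) ((Scheme.ΓSpecIso (CommRingCat.of k)).inv r))
      rw [← ConcreteCategory.comp_apply (qY.appLE ⊤ V (le_top : V ≤ qY ⁻¹ᵁ ⊤)), Scheme.Hom.appLE_comp_appLE]
      simp only [hf]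
    have hB : Algebra.Smooth k Γ(X, W) := by
      have h1 : (qX.appLE ⊤ W (le_top : W ≤ qX ⁻¹ᵁ ⊤)).hom.Smooth :=
        HasRingHomProperty.appLE @Smooth qX ‹_› ⟨⊤, isAffineOpen_top _⟩ ⟨W, hW⟩ le_top
      exact RingHom.smooth_algebraMap.1 (RingHom.Smooth.comp
        (RingHom.Smooth.of_bijective (ConcreteCategory.bijective_of_isIso (Scheme.ΓSpecIso (CommRingCat.of k)).inv)) h1)
    obtain ⟨a, ha, hsm⟩ := Groth.Agent.Var76.GenSmooth.exists_smooth k (A := Γ(Y, V)) (B := Γ(X, W))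
    refine ⟨a, ha, ?_⟩
    let g := f.appLE V W e a
    have hU : IsAffineOpen (X.basicOpen g) := hW.basicOpen g
    have eU : X.basicOpen g ≤ f ⁻¹ᵁ V := (X.basicOpen_le g).trans e
    have : IsLocalization.Away g Γ(X, X.basicOpen g) := hW.isLocalization_basicOpen g
    let : Algebra Γ(Y, V) Γ(X, X.basicOpen g) := (f.appLE V (X.basicOpen g) eU).hom.toAlgebra
    have : IsScalarTower Γ(Y, V) Γ(X, W) Γ(X, X.basicOpen g) := IsScalarTower.of_algebraMap_eq fun b => by
      show f.appLE V (X.basicOpen g) _ b = X.presheaf.map _ (f.appLE V W e b)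
      rw [← ConcreteCategory.comp_apply]
      exact congrArg (fun h => h b) (Scheme.Hom.appLE_map f e (homOfLE (X.basicOpen_le g)).op).symm
    have hs : Algebra.Smooth Γ(Y, V) Γ(X, X.basicOpen g) := Algebra.Smooth.of_equiv
      ((IsLocalization.algEquiv (Submonoid.powers g) (Localization.Away g) Γ(X, X.basicOpen g)).restrictScalars Γ(Y, V))
    have : MorphismProperty.RespectsIso @Smooth := MorphismProperty.IsStableUnderBaseChange.respectsIso
    rw [show (X.basicOpen g).ι ≫ f = hU.isoSpec.hom ≫ Spec.map (f.appLE V (X.basicOpen g) eU) ≫ hV.fromSpec by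
      rw [IsAffineOpen.SpecMap_appLE_fromSpec f hV hU eU, IsAffineOpen.fromSpec, Category.assoc,
        Iso.hom_inv_id_assoc],
      MorphismProperty.cancel_left_of_respectsIso @Smooth]
    have : Smooth (Spec.map (f.appLE V (X.basicOpen g) eU)) := by
      rw [HasRingHomProperty.Spec_iff (P := @Smooth)]
      exact RingHom.smooth_algebraMap.2 hs
    have : IsOpenImmersion hV.fromSpec := IsAffineOpen.isOpenImmersion_fromSpec hV
    infer_instance
  choose W hW e hxW a ha hsm using hchart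
  obtain ⟨T, hT⟩ := hc.elim_finite_subcover (fun x => (W x : Set X)) (fun x => (W x).2)
    (fun x hx => Set.mem_iUnion.2 ⟨⟨x, hx⟩, hxW ⟨x, hx⟩⟩)
  let b := ∏ x ∈ T, a x
  have hb : b ≠ 0 := Finset.prod_ne_zero_iff.2 fun x _ => ha x
  refine ⟨Y.basicOpen b, ?_, ?_⟩
  · rw [Set.nonempty_iff_ne_empty]
    intro h
    exact hb ((basicOpen_eq_bot_iff b).1 (TopologicalSpace.Opens.ext h))
  have hle : f ⁻¹ᵁ Y.basicOpen b ≤ ⨆ x : T, X.basicOpen (f.appLE V (W x) (e x) (a x)) := by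
    intro z hz
    have hzV : f z ∈ V := Y.basicOpen_le b hz
    obtain ⟨x, hx, hzW⟩ := Set.mem_iUnion₂.1 (hT hzV)
    refine TopologicalSpace.Opens.mem_iSup.2 ⟨⟨x, hx⟩, ?_⟩
    have hza : f z ∈ Y.basicOpen (a x) := by
      have h2 : b = a x * ∏ y ∈ T.erase x, a y := (Finset.mul_prod_erase T a hx).symm
      have hz' : f z ∈ Y.basicOpen b := hz
      rw [h2, Scheme.basicOpen_mul] at hz'
      exact hz'.1
    rw [Scheme.Hom.appLE, ConcreteCategory.comp_apply, Scheme.basicOpen_res]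
    refine ⟨hzW, ?_⟩
    rw [← Scheme.preimage_basicOpen]
    exact hza
  have hrestr : Smooth ((f ⁻¹ᵁ Y.basicOpen b).ι ≫ f) := by
    have : IsZariskiLocalAtSource @Smooth := HasRingHomProperty.instIsZariskiLocalAtSource (Q := RingHom.Smooth)
    rw [IsZariskiLocalAtSource.iff_of_iSup_eq_top (P := @Smooth)
      (fun x : T => (f ⁻¹ᵁ Y.basicOpen b).ι ⁻¹ᵁ X.basicOpen (f.appLE V (W x) (e x) (a x))) (by
        rw [eq_top_iff]
        intro z _
        obtain ⟨x, hx⟩ := TopologicalSpace.Opens.mem_iSup.1 (hle z.2)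
        exact TopologicalSpace.Opens.mem_iSup.2 ⟨x, hx⟩)]
    intro x
    let U := X.basicOpen (f.appLE V (W x.1) (e x.1) (a x.1))
    have := hsm x.1
    rw [← morphismRestrict_ι_assoc]
    infer_instance
  have hpb : IsPullback (𝟙 _) (f ∣_ Y.basicOpen b) (f ∣_ Y.basicOpen b ≫ (Y.basicOpen b).ι) (Y.basicOpen b).ι :=
    IsPullback.of_isLimit' ⟨by simp⟩ (PullbackCone.IsLimit.mk _ (fun s => s.fst) (fun s => by simp)
      (fun s => by rw [← cancel_mono (Y.basicOpen b).ι, Category.assoc]; exact s.condition)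
      (fun s m h1 _ => by simpa using h1))
  refine MorphismProperty.of_isPullback (P := @Smooth) hpb ?_
  rw [morphismRestrict_ι]
  exact hrestr

/-- A smooth morphism between schemes smooth of given relative dimensions over a field has the difference as
relative dimension. -/
theorem exists_relDim {X Y : Scheme.{u}} (qX : X ⟶ Spec (CommRingCat.of k)) (qY : Y ⟶ Spec (CommRingCat.of k))
    (f : X ⟶ Y) (hf : f ≫ qY = qX) [Smooth f] (N d : ℕ) [SmoothOfRelativeDimension N qX]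
    [SmoothOfRelativeDimension d qY] (x₀ : X) :
    ∃ m, m + d = N ∧ SmoothOfRelativeDimension m f := by
  have key : ∀ x : X, ∃ (m : ℕ) (V : Y.Opens) (_ : IsAffineOpen V) (W : X.Opens) (_ : IsAffineOpen W)
      (_ : x ∈ W) (e : W ≤ f ⁻¹ᵁ V),
      m + d = N ∧ (f.appLE V W e).hom.IsStandardSmoothOfRelativeDimension m := by
    intro x
    obtain ⟨V, hV, W, hW, hxW, e, hstd⟩ := (Smooth.iff_forall_exists_isStandardSmooth f).1 ‹Smooth f› x
    let : Algebra Γ(Y, V) Γ(X, W) := (f.appLE V W e).hom.toAlgebra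
    obtain ⟨_, _, _, _, ⟨P⟩⟩ := RingHom.isStandardSmooth_algebraMap.1 hstd
    have hP : (f.appLE V W e).hom.IsStandardSmoothOfRelativeDimension P.dimension :=
      (RingHom.isStandardSmoothOfRelativeDimension_algebraMap _).2
        (P.isStandardSmoothOfRelativeDimension rfl)
    refine ⟨P.dimension, V, hV, W, hW, hxW, e, ?_, hP⟩
    have := GenSmooth.smoothOfRelativeDimension_ι_comp P.dimension f hW hV e hP
    have h1 : SmoothOfRelativeDimension (P.dimension + d) (W.ι ≫ qX) := by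
      rw [← hf, ← Category.assoc]; infer_instance
    have h2 : SmoothOfRelativeDimension (0 + N) (W.ι ≫ qX) := inferInstance
    have : Nonempty W := ⟨⟨x, hxW⟩⟩
    obtain ⟨Z, hZ, -⟩ := exists_mem_irreducibleComponents_subset_of_isIrreducible _
      (isIrreducible_singleton (x := (⟨x, hxW⟩ : W)))
    have e1 := @SmoothFibre.dim_component _ _ _ (W.ι ≫ qX) _ h1 Z hZ
    rw [@SmoothFibre.dim_component _ _ _ (W.ι ≫ qX) _ h2 Z hZ] at e1
    have e2 : ((0 + N : ℕ) : WithBot ℕ∞) = ((P.dimension + d : ℕ) : WithBot ℕ∞) := e1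
    norm_cast at e2
    omega
  obtain ⟨m₀, -, -, -, -, -, -, hm₀, -⟩ := key x₀
  refine ⟨m₀, hm₀, ⟨fun x => ?_⟩⟩
  obtain ⟨m, V, hV, W, hW, hxW, e, hm, h⟩ := key x
  obtain rfl : m = m₀ := by omega
  exact ⟨V, hV, W, hW, hxW, e, h⟩

theorem topologicalKrullDim_eq {F : Scheme.{u}} (g : F ⟶ Spec (CommRingCat.of k)) (n : ℕ)
    [SmoothOfRelativeDimension n g] [Nonempty F] : topologicalKrullDim F = (n : WithBot ℕ∞) := by
  rw [TopDim50.dim_eq_iSup_irreducibleComponents]
  obtain ⟨x⟩ := ‹Nonempty F›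
  obtain ⟨Z, hZ, -⟩ := exists_mem_irreducibleComponents_subset_of_isIrreducible _
    (isIrreducible_singleton (x := x))
  refine le_antisymm (iSup₂_le fun W hW => (SmoothFibre.dim_component g n W hW).le) ?_
  exact (SmoothFibre.dim_component g n Z hZ).ge.trans (le_iSup₂_of_le Z hZ le_rfl)

theorem smoothOfRelativeDimension_of_dim {X : Scheme.{u}} (q : X ⟶ Spec (CommRingCat.of k))
    [IsIntegral X] [Smooth q] (r : ℕ) (hr : topologicalKrullDim X = r) :
    SmoothOfRelativeDimension r q := by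
  refine RelDim.smoothOfRelativeDimension q (𝟙 _) q (Category.comp_id q) 0 r ?_ (by rw [hr, Nat.zero_add])
  exact (PrimeSpectrum.topologicalKrullDim_eq_ringKrullDim _).trans (ringKrullDim_eq_zero_of_field k)

end Groth.Agent.Var76.Kleiman
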