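import Groth.Agent.Var76.MumLevel

/-! Mumford's uniform regularity bound. -/

universe u

open CategoryTheory Limits AlgebraicGeometry TopologicalSpace Opposite

noncomputable section

set_option maxSynthPendingDepth 6

namespace Groth.Agent.Var76.Reg

open Crv77

/-- The bound: `e` counts the linear sections still available. -/
def mumBd (n p : ℕ) : ℕ → (ℤ → ℤ) → ℕ → ℤ
  | 0, _, _ => 0
  | e + 1, f, a =>
    let m' := max (mumBd n p e (fun r => f r - f (r - 1)) (a + 1)) ((a : ℤ) + 1)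
    m' + |((p * ((m' - 1).toNat + n).choose n : ℕ) : ℤ) - f (m' - 1)|

variable {n : ℕ} {k : Type u} [Field k]

theorem mono_lMul_of_mono {F G : (CohB1.ProjSpace n k).Modules} (φ : F ⟶ G) [Mono φ]
    (g : CohB1.polyGrading n k 1) [Mono (lMul G g)] : Mono (lMul F g) := by
  obtain ⟨w, hT⟩ := shortExact_twMap (A := k)
    (S := ShortComplex.mk φ (cokernel.π φ) (cokernel.condition φ))
    { exact := ShortComplex.exact_of_g_is_cokernel _ (cokernelIsCokernel φ) } (-1)
  have : Mono (twMap φ (-1)) := hT.mono_f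
  have h : Mono (twMap φ (-1) ≫ lMul G g) := mono_comp _ _
  have e : twMap φ (-1) ≫ lMul G g = lMul F g ≫ twMap φ 0 := whiskR_whiskL φ _
  rw [e] at h
  exact mono_of_mono (lMul F g) (twMap φ 0)

theorem euler_h0_sub_h1 {F : (CohB1.ProjSpace n k).Modules} (hF : Coh.IsCoh F) (j : ℤ)
    (h : ∀ i : ℕ, 2 ≤ i → Subsingleton (Coh.HH (CohB1.ProjSpace n k) (tw n k F j) i)) :
    chi F j = (Module.finrank k (Coh.HH (CohB1.ProjSpace n k) (tw n k F j) 0) : ℤ) -
      Module.finrank k (Coh.HH (CohB1.ProjSpace n k) (tw n k F j) 1) := by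
  have hb : FinBdd k (tw n k F j) 2 := ⟨(finBdd_tw hF j).finite, h⟩
  rw [chi, hb.euler_eq, Finset.sum_range_succ, Finset.sum_range_one]
  ring

theorem reg_extend {p c : ℕ} {W K : (CohB1.ProjSpace n k).Modules} (hW : Level p c W) (φ : K ⟶ W) [Mono φ]
    (hK : Coh.IsCoh K) (g : CohB1.polyGrading n k 1) [Mono (lMul K g)] {m' : ℤ} (hm' : 1 ≤ m')
    (h : Reg n k (cokMul K g) m') :
    Reg n k K (m' + |((p * ((m' - 1).toNat + n).choose n : ℕ) : ℤ) - chi K (m' - 1)|) := by
  obtain ⟨e⟩ := nonempty_tw_tw K (a := 0) (b := -1) (c := -1) (by ring)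
  let ι : CohB1.tensorMod (tw n k K 0) (Twist.twistProjSpace n k (-1)) ⟶ tw n k K 0 := e.hom ≫ lMul K g
  have hmono : Mono ι := mono_comp _ _
  have hG : Reg n k (cokernel ι) m' := reg_of_iso (cokernelEpiComp e.hom (lMul K g)) h
  have hF := isCoh_tw hK 0
  have hv : ∀ i : ℕ, 2 ≤ i →
      Subsingleton (Coh.HH (CohB1.ProjSpace n k) (tw n k (tw n k K 0) (m' - 1)) i) := fun i hi =>
    ext_vanish_high hF ι hG hi (by omega)
  have hchi := euler_h0_sub_h1 hF (m' - 1) hv
  rw [chi_tw K (zero_add (m' - 1))] at hchi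
  have hle : Module.finrank k (Coh.HH (CohB1.ProjSpace n k) (tw n k (tw n k K 0) (m' - 1)) 0) ≤
      p * ((m' - 1).toNat + n).choose n := by
    rw [finrank_tw_tw K (zero_add (m' - 1)) 0]
    obtain ⟨w, hT⟩ := shortExact_twMap (A := k)
      (S := ShortComplex.mk φ (cokernel.π φ) (cokernel.condition φ))
      { exact := ShortComplex.exact_of_g_is_cokernel _ (cokernelIsCokernel φ) } (m' - 1)
    have := finite_hh_tw W hW.coh (m' - 1) 0
    refine (LinearMap.finrank_le_finrank_of_injective (injective_f_zero k hT)).trans ?_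
    have h0 := hW.h0 (m' - 1).toNat
    rwa [show (((m' - 1).toNat : ℕ) : ℤ) = m' - 1 by omega] at h0
  refine reg_tw_zero.1 ((ext_reg hF ι hG).mono hF.1 ?_)
  have habs := le_abs_self (((p * ((m' - 1).toNat + n).choose n : ℕ) : ℤ) - chi K (m' - 1))
  have hc : ((Module.finrank k (Coh.HH (CohB1.ProjSpace n k) (tw n k (tw n k K 0) (m' - 1)) 0) : ℕ) : ℤ) ≤
      ((p * ((m' - 1).toNat + n).choose n : ℕ) : ℤ) := by exact_mod_cast hle
  have e1 : (h1 (tw n k K 0) (m' - 1) : ℤ) =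
      Module.finrank k (Coh.HH (CohB1.ProjSpace n k) (tw n k (tw n k K 0) (m' - 1)) 1) := rfl
  push_cast at habs hc ⊢
  omega

theorem mumford_core [Infinite k] (p : ℕ) : ∀ (e c : ℕ), c + e = n + 1 →
    ∀ (S : ShortComplex (CohB1.ProjSpace n k).Modules), S.ShortExact → Level p c S.X₂ → Coh.IsCoh S.X₁ →
      Coh.IsCoh S.X₃ → ∀ (f : ℤ → ℤ) (a : ℕ), (∀ r : ℕ, a ≤ r → chi S.X₁ r = f r) →
        Reg n k S.X₁ (mumBd n p e f a)
  | 0, c, hc, S, hS, hW, h1, _, f, a, hf => by
    have := hS.mono_f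
    have h0 : IsZero S.X₁ := IsZero.of_mono S.f (isZero_of_level hW (by omega))
    exact fun i _ => ValVan29.subsingleton_hh_of_isZero (ValVan29.isZero_tensorMod h0 (isInvertible_twist _)) i
  | e + 1, c, hc, S, hS, hW, h1, h3, f, a, hf => by
    have := hS.mono_f
    obtain ⟨g, hg⟩ := exists_lMul_mono (fun b : Bool => if b then S.X₂ else S.X₃)
      (fun b => by cases b <;> [exact h3; exact hW.coh])
    have hg2 : Mono (lMul S.X₂ g) := hg true
    have hg3 : Mono (lMul S.X₃ g) := hg false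
    have hg1 : Mono (lMul S.X₁ g) := mono_lMul_of_mono S.f g
    obtain ⟨w, hT⟩ := shortExact_twMap hS (-1)
    obtain ⟨w', hT'⟩ := shortExact_twMap hS 0
    let φ : ShortComplex.mk (twMap S.f (-1)) (twMap S.g (-1)) w ⟶
        ShortComplex.mk (twMap S.f 0) (twMap S.g 0) w' :=
      { τ₁ := lMul S.X₁ g
        τ₂ := lMul S.X₂ g
        τ₃ := lMul S.X₃ g
        comm₁₂ := (whiskR_whiskL S.f _).symm
        comm₂₃ := (whiskR_whiskL S.g _).symm }
    have : Mono φ.τ₃ := hg3
    have ih := mumford_core p e (c + 1) (by omega) (cokSC φ) (cokSC_shortExact φ hT hT') (hW.next g)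
      (isCoh_cokMul h1) (isCoh_cokMul h3) (fun r => f r - f (r - 1)) (a + 1) fun r hr => by
        obtain ⟨r', rfl⟩ : ∃ r', r = r' + 1 := ⟨r - 1, by omega⟩
        refine (chi_cokMul h1 _).trans ?_
        rw [hf (r' + 1) (by omega), show ((r' + 1 : ℕ) : ℤ) - 1 = (r' : ℤ) by push_cast; ring, hf r' (by omega)]
    have key := reg_extend hW S.f h1 g
      (m' := max (mumBd n p e (fun r => f r - f (r - 1)) (a + 1)) ((a : ℤ) + 1)) (by omega)
      (Reg.mono (isCoh_cokMul h1).1 ih (le_max_left _ _))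
    have hj := hf (max (mumBd n p e (fun r => f r - f (r - 1)) (a + 1)) ((a : ℤ) + 1) - 1).toNat (by omega)
    rw [show (((max (mumBd n p e (fun r => f r - f (r - 1)) (a + 1)) ((a : ℤ) + 1) - 1).toNat : ℕ) : ℤ) =
      max (mumBd n p e (fun r => f r - f (r - 1)) (a + 1)) ((a : ℤ) + 1) - 1 by omega] at hj
    rw [hj] at key
    exact key

/-- Mumford: the kernel of a quotient of a free module is regular in terms of its Hilbert function. -/
theorem mumford [Infinite k] (p : ℕ) {Q : (CohB1.ProjSpace n k).Modules}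
    (φ : FlatMod.freeMod (CohB1.ProjSpace n k) p ⟶ Q) [Epi φ] (hQ : Coh.IsCoh Q) (f : ℤ → ℤ) (a : ℕ)
    (hf : ∀ r : ℕ, a ≤ r → chi (kernel φ) r = f r) : Reg n k (kernel φ) (mumBd n p (n + 1) f a) :=
  mumford_core p (n + 1) 0 (zero_add _) (ShortComplex.mk (kernel.ι φ) φ (kernel.condition φ))
    (KData.kernel_shortExact φ) (level_free p) (QC70.isCoh_kernel φ (isCoh_free p) hQ.1) hQ f a hf

theorem chi_kernel (p : ℕ) {Q : (CohB1.ProjSpace n k).Modules}
    (φ : FlatMod.freeMod (CohB1.ProjSpace n k) p ⟶ Q) [Epi φ] (hQ : Coh.IsCoh Q) (r : ℕ) :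
    chi (kernel φ) r = ((p * (r + n).choose n : ℕ) : ℤ) - chi Q r := by
  obtain ⟨w, hT⟩ := shortExact_twMap (KData.kernel_shortExact φ) (r : ℤ)
  have hK := QC70.isCoh_kernel φ (isCoh_free p) hQ.1
  have h := euler_add hT (finBdd_tw hK _) (finBdd_tw (isCoh_free p) _) (finBdd_tw hQ _)
  have h' : chi (FlatMod.freeMod (CohB1.ProjSpace n k) p) r = chi (kernel φ) r + chi Q r := h
  have h2 := (level_free (n := n) (k := k) p).eq r (Nat.zero_le r)
  rw [if_pos (Nat.zero_le n), Nat.sub_zero, Nat.sub_zero] at h2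
  omega

end Groth.Agent.Var76.Reg

end
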