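import Groth.Agent.Var76.RegChase
import Groth.Agent.Var76.RegGen
import Groth.Agent.FF71.Classes
import Groth.Agent.Serre71.Finite
import Mathlib.RingTheory.Jacobson.Ring
import Mathlib.FieldTheory.IsAlgClosed.Basic
import Mathlib.RingTheory.FiniteType

/-! Regularity of ideals of finite subschemes of projective space. -/

universe u

open CategoryTheory Limits AlgebraicGeometry TopologicalSpace Opposite

noncomputable section

set_option maxSynthPendingDepth 6

namespace Groth.Agent.Var76.Reg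

open Crv77 LineBundle

theorem mem_of_mem_mul_right {R : Type u} [CommRing R] {I J : Ideal R} {c : R} (h : c ∈ I * J) : c ∈ J :=
  (Ideal.mul_le_right : I * J ≤ J) h

theorem mem_of_mem_mul_left {R : Type u} [CommRing R] {I J : Ideal R} {c : R} (h : c ∈ I * J) : c ∈ I :=
  (Ideal.mul_le_left : I * J ≤ I) h

section Incl

variable {X : Scheme.{u}} {I J : X.IdealSheafData} (h : J ≤ I)

theorem idealModι_toSubscheme (h : J ≤ I) : ClSub.idealModι J ≫ ClSub.toSubscheme I = 0 := by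
  refine Scheme.Modules.hom_ext _ _ fun W => ?_
  ext z
  refine QC70.section_ext _ _ _ fun q hq => ?_
  obtain ⟨V, hqV, hVW⟩ := Div89.exists_affine_le hq
  refine ⟨V.1, hVW, hqV, ?_⟩
  refine (QC70.app_res (ClSub.idealModι J ≫ ClSub.toSubscheme I) hVW z).symm.trans ?_
  refine Eq.trans ?_ (map_zero _).symm
  obtain ⟨m, hm⟩ := Curves2.exists_idealSect_of_mem I V
    (h V (Curves2.idealSect_mem_ideal J V (QC70.res (ClSub.idealMod J) hVW z)))
  exact (congrArg ((ClSub.toSubscheme I).app V.1) hm.symm).trans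
    (congr((Scheme.Modules.Hom.app $(kernel.condition (ClSub.toSubscheme I)) V.1) m))

/-- The inclusion of ideal modules. -/
def idealLE : ClSub.idealMod J ⟶ ClSub.idealMod I :=
  kernel.lift _ (ClSub.idealModι J) (idealModι_toSubscheme h)

theorem idealLE_ι : idealLE h ≫ ClSub.idealModι I = ClSub.idealModι J := kernel.lift_ι _ _ _

instance mono_idealModι : Mono (ClSub.idealModι I) := inferInstanceAs (Mono (kernel.ι _))

theorem mono_idealLE : Mono (idealLE h) := by
  have : Mono (idealLE h ≫ ClSub.idealModι I) := by rw [idealLE_ι]; infer_instance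
  exact mono_of_mono (idealLE h) (ClSub.idealModι I)

theorem idealSect_idealLE (U : X.Opens) (m : Γ(ClSub.idealMod J, U)) :
    OmegaSh.idealSect I U ((idealLE h).app U m) = OmegaSh.idealSect J U m :=
  congr((Scheme.Modules.Hom.app $(idealLE_ι h) U) m)

theorem exists_idealLE_eq (U : X.affineOpens) (a : Γ(ClSub.idealMod I, U.1))
    (ha : OmegaSh.idealSect I U.1 a ∈ J.ideal U) : ∃ m, (idealLE h).app U.1 m = a := by
  obtain ⟨m, hm⟩ := Curves2.exists_idealSect_of_mem J U ha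
  exact ⟨m, QC70.app_injective_of_mono (ClSub.idealModι I) U.1 ((idealSect_idealLE h U.1 m).trans hm)⟩

theorem smul_mem_range (U : X.affineOpens) (K : X.IdealSheafData) (hK : I * K ≤ J) {c : Γ(X, U.1)}
    (hc : c ∈ K.ideal U) (a : Γ(ClSub.idealMod I, U.1)) : ∃ m, (idealLE h).app U.1 m = c • a := by
  refine exists_idealLE_eq h U _ ?_
  have e : OmegaSh.idealSect I U.1 (c • a) = OmegaSh.idealSect I U.1 a * c :=
    (Scheme.Modules.Hom.app_smul (ClSub.idealModι I) c a).trans (mul_comm c (OmegaSh.idealSect I U.1 a))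
  rw [e]
  exact hK U (Ideal.mul_mem_mul (Curves2.idealSect_mem_ideal I U a) hc)

theorem suppIn_cokernel_idealLE [IsLocallyNoetherian X] (K : X.IdealSheafData) (hK : I * K ≤ J) :
    SuppIn (cokernel (idealLE h)) (K.support : Set X) := by
  refine Crv77.suppIn_cokernel (idealLE h) fun x hx e => ?_
  obtain ⟨W, hxW, a, rfl⟩ := QC70.germM_exist e
  obtain ⟨U, hxU, hUW⟩ := Div89.exists_affine_le hxW
  have hx' : x ∉ X.zeroLocus (U := U.1) (K.ideal U : Set Γ(X, U.1)) := fun hh =>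
    hx ((Scheme.IdealSheafData.mem_support_iff_of_mem hxU).2 hh)
  obtain ⟨r, hr, hxr⟩ : ∃ r ∈ K.ideal U, x ∈ X.basicOpen r := by
    simpa [Scheme.mem_zeroLocus_iff] using hx'
  obtain ⟨m, hm⟩ := smul_mem_range h U K hK hr (QC70.res (ClSub.idealMod I) hUW a)
  let D := X.basicOpen r
  obtain ⟨v, hv⟩ : ∃ v : Γ(X, D), v * QC70.resO X (X.basicOpen_le r) r = 1 :=
    (RingedSpace.isUnit_res_basicOpen _ r).exists_left_inv
  refine ⟨QC70.germM _ D x hxr (v • QC70.res (ClSub.idealMod J) (X.basicOpen_le r) m), ?_⟩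
  rw [QC70.stalkMapM_germ, ← QC70.germM_res (((X.basicOpen_le r).trans hUW)) hxr a]
  refine congrArg _ ?_
  refine (Scheme.Modules.Hom.app_smul _ _ _).trans ?_
  rw [QC70.app_res, hm, QC70.res_smul, smul_smul, QC70.res_res]
  exact (congrArg (· • _) hv).trans (one_smul _ _)

end Incl

variable {k : Type u} [Field k] {n : ℕ}

theorem isCoh_idealMod' (I : (CohB1.ProjSpace n k).IdealSheafData) : Coh.IsCoh (ClSub.idealMod I) :=
  Crv77.isCoh_idealMod I

theorem subsingleton_hh_tw_of_suppIn {H : (CohB1.ProjSpace n k).Modules} (hH : Coh.IsCoh H)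
    {S : Set (CohB1.ProjSpace n k)} (hS : SuppIn H S) (hfin : S.Finite) (hcl : ∀ x ∈ S, IsClosed ({x} : Set _))
    (j : ℤ) (i : ℕ) : Subsingleton (Coh.HH (CohB1.ProjSpace n k) (tw n k H j) (i + 1)) := by
  have := hH.2
  refine (?_ : SuppIn (tw n k H j) S).subsingleton_HH hfin hcl i
  intro x hx
  exact suppIn_tw j x fun hh => hh (hS x hx)

theorem reg_top : Reg n k (ClSub.idealMod (⊤ : (CohB1.ProjSpace n k).IdealSheafData)) 0 := by
  have hz : ClSub.toSubscheme (⊤ : (CohB1.ProjSpace n k).IdealSheafData) = 0 := by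
    refine Scheme.Modules.hom_ext _ _ fun W => ?_
    ext z
    refine QC70.section_ext _ _ _ fun q hq => ?_
    obtain ⟨V, hqV, hVW⟩ := Div89.exists_affine_le hq
    refine ⟨V.1, hVW, hqV, ?_⟩
    refine (QC70.app_res (ClSub.toSubscheme ⊤) hVW z).symm.trans ?_
    refine Eq.trans ?_ (map_zero _).symm
    obtain ⟨m, hm⟩ := Curves2.exists_idealSect_of_mem (⊤ : (CohB1.ProjSpace n k).IdealSheafData) V
      (show (QC70.res (Coh.structureModule (CohB1.ProjSpace n k)) hVW z : Γ(CohB1.ProjSpace n k, V.1)) ∈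
        (⊤ : (CohB1.ProjSpace n k).IdealSheafData).ideal V from trivial)
    exact (congrArg ((ClSub.toSubscheme ⊤).app V.1) hm.symm).trans
      (congr((Scheme.Modules.Hom.app $(kernel.condition (ClSub.toSubscheme
        (⊤ : (CohB1.ProjSpace n k).IdealSheafData))) V.1) m))
  refine reg_of_iso (G := Coh.structureModule (CohB1.ProjSpace n k))
    (kernelIsoOfEq hz ≪≫ kernelZeroIsoSource) fun i hi => ?_
  exact ValVan29.subsingleton_hh_of_iso (EGA73.tensUnitLeft (Twist.twistProjSpace n k (0 - (i : ℤ)))).symm i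
    (Pn71.subsingleton_hh n k _ i (by omega) (by omega))

theorem exists_const [IsAlgClosed k] {V : (CohB1.ProjSpace n k).Opens} (hV : IsAffineOpen V)
    (p : Ideal Γ(CohB1.ProjSpace n k, V)) [hp : p.IsMaximal] (c : Γ(CohB1.ProjSpace n k, V)) :
    ∃ a : k, c - FF71.rA k (CohB1.ProjSpace n k) V a ∈ p := by
  have : IsProper (CohB1.ProjSpace n k ↘ Spec (CommRingCat.of k)) := Serre71.isProper_projSpace n k
  have hft : (FF71.rA k (CohB1.ProjSpace n k) V).FiniteType := by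
    have h := congrArg CommRingCat.Hom.hom (FF71.rA_eq_appLE k (CohB1.ProjSpace n k) V)
    rw [CommRingCat.hom_ofHom] at h
    rw [h, CommRingCat.hom_comp]
    exact (LocallyOfFiniteType.finiteType_appLE (CohB1.ProjSpace n k ↘ Spec (CommRingCat.of k))
      (isAffineOpen_top _) hV le_top).comp
      (RingHom.FiniteType.of_surjective _ ((ConcreteCategory.bijective_of_isIso
        (Scheme.ΓSpecIso (CommRingCat.of k)).inv).2))
  algebraize [FF71.rA k (CohB1.ProjSpace n k) V]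
  have : Algebra.FiniteType k Γ(CohB1.ProjSpace n k, V) := hft
  let := Ideal.Quotient.field p
  have : Module.Finite k (Γ(CohB1.ProjSpace n k, V) ⧸ p) := finite_of_finite_type_of_isJacobsonRing _ _
  obtain ⟨a, ha⟩ := (IsAlgClosed.algebraMap_bijective_of_isIntegral
    (k := k) (K := Γ(CohB1.ProjSpace n k, V) ⧸ p)).2 (Ideal.Quotient.mk p c)
  exact ⟨a, Ideal.Quotient.eq.1 ha.symm⟩

theorem surjective_to_point [IsAlgClosed k] {F G : (CohB1.ProjSpace n k).Modules} (φ : F ⟶ G) (hF : Coh.IsQCoh F)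
    (hG : Coh.IsQCoh G) [Epi φ] {x : CohB1.ProjSpace n k} (hx : IsClosed ({x} : Set _)) (hsupp : SuppIn G {x})
    (hsp : Spanned F)
    (hkill : ∀ (V : (CohB1.ProjSpace n k).affineOpens) (hxV : x ∈ V.1) (c : Γ(CohB1.ProjSpace n k, V.1)),
      c ∈ (V.2.primeIdealOf ⟨x, hxV⟩).asIdeal → ∀ z : Γ(G, V.1), c • z = 0) :
    Function.Surjective (φ.app ⊤) := by
  intro z
  obtain ⟨U, hxU, hU, hspU⟩ := hsp x
  let p := (hU.primeIdealOf ⟨x, hxU⟩).asIdeal
  have : p.IsMaximal := hU.primeIdealOf_isMaximal_of_isClosed ⟨x, hxU⟩ hx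
  have := hF; have := hG
  have := QC70.isQuasicoherent_kernel φ
  obtain ⟨y, hy⟩ := QC70.app_surjective_of_isAffineOpen _ (KData.kernel_shortExact φ) hU (QC70.res G le_top z)
  suffices H : ∃ t : Γ(F, ⊤), φ.app U y = φ.app U (QC70.res F le_top t) by
    obtain ⟨t, ht⟩ := H
    refine ⟨t, QC70.section_ext G _ _ fun q _ => ?_⟩
    by_cases hqx : q = x
    · subst hqx
      exact ⟨U, le_top, hxU, (QC70.app_res φ (le_top : U ≤ ⊤) t).symm.trans (ht.symm.trans hy)⟩
    · let W : (CohB1.ProjSpace n k).Opens := ⟨{x}ᶜ, hx.isOpen_compl⟩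
      exact ⟨W, le_top, hqx, (SuppIn.section_eq_zero hsupp (fun a (ha : a ∈ W) => ha) _).trans
        (SuppIn.section_eq_zero hsupp (fun a (ha : a ∈ W) => ha) _).symm⟩
  refine Submodule.span_induction (p := fun (w : Γ(F, U)) _ => ∃ t, φ.app U w = φ.app U (QC70.res F le_top t))
    ?_ ⟨0, congrArg _ (map_zero _).symm⟩ ?_ ?_ (hspU.ge (Submodule.mem_top (x := y)))
  · rintro _ ⟨t, rfl⟩
    exact ⟨t, rfl⟩
  · rintro a b _ _ ⟨t, ht⟩ ⟨t', ht'⟩
    refine ⟨t + t', ?_⟩
    rw [map_add, ht, ht', ← map_add, ← QC70.res_add]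
  · rintro c w _ ⟨t, ht⟩
    obtain ⟨a, ha⟩ := exists_const hU p c
    refine ⟨(show Γ(CohB1.ProjSpace n k, ⊤) from
      Coh.toGlobal (CohB1.ProjSpace n k ↘ Spec (CommRingCat.of k)) a) • t, ?_⟩
    rw [Scheme.Modules.Hom.app_smul, ht, QC70.res_smul, Scheme.Modules.Hom.app_smul, ← sub_eq_zero, ← sub_smul]
    exact hkill ⟨U, hU⟩ hxU _ ha _

theorem preimage_point {X : Scheme.{u}} {V : X.Opens} (hV : IsAffineOpen V) {x : X} (hxV : x ∈ V) :
    hV.fromSpec ⁻¹' {x} = {hV.primeIdealOf ⟨x, hxV⟩} := by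
  ext q
  constructor
  · intro hq
    exact hV.fromSpec.isOpenEmbedding.injective (hq.trans (hV.fromSpec_primeIdealOf ⟨x, hxV⟩).symm)
  · rintro rfl
    exact hV.fromSpec_primeIdealOf ⟨x, hxV⟩

/-- The ideal of a closed point. -/
def ptIdeal (x : CohB1.ProjSpace n k) (hx : IsClosed ({x} : Set _)) : (CohB1.ProjSpace n k).IdealSheafData :=
  Scheme.IdealSheafData.vanishingIdeal ⟨{x}, hx⟩

theorem ptIdeal_ideal {x : CohB1.ProjSpace n k} (hx : IsClosed ({x} : Set _))
    (V : (CohB1.ProjSpace n k).affineOpens) (hxV : x ∈ V.1) :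
    (ptIdeal x hx).ideal V = (V.2.primeIdealOf ⟨x, hxV⟩).asIdeal := by
  show PrimeSpectrum.vanishingIdeal (V.2.fromSpec ⁻¹' {x}) = _
  exact (congrArg PrimeSpectrum.vanishingIdeal (preimage_point V.2 hxV)).trans
    (PrimeSpectrum.vanishingIdeal_singleton _)

theorem kill_cokernel {I J : (CohB1.ProjSpace n k).IdealSheafData} (h : J ≤ I) (K : (CohB1.ProjSpace n k).IdealSheafData)
    (hK : I * K ≤ J) (U : (CohB1.ProjSpace n k).affineOpens) {c : Γ(CohB1.ProjSpace n k, U.1)}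
    (hc : c ∈ K.ideal U) (z : Γ(cokernel (idealLE h), U.1)) : c • z = 0 := by
  have := mono_idealLE h
  have hS : (ShortComplex.mk (idealLE h) (cokernel.π (idealLE h)) (cokernel.condition _)).ShortExact :=
    { exact := ShortComplex.exact_of_g_is_cokernel _ (cokernelIsCokernel _) }
  have hcJ := isCoh_idealMod' J
  have hcI := isCoh_idealMod' I
  have hQc := QC70.isCoh_cokernel (idealLE h) hcJ.1 hcI
  have := hcJ.1; have := hcI.1; have := hQc.1
  obtain ⟨a, ha⟩ := QC70.app_surjective_of_isAffineOpen _ hS U.2 z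
  obtain ⟨b, hb⟩ := smul_mem_range h U K hK hc a
  rw [← ha]
  refine (Scheme.Modules.Hom.app_smul _ c a).symm.trans ?_
  rw [← hb]
  exact QC70.app_f_g (ShortComplex.mk (idealLE h) (cokernel.π (idealLE h)) (cokernel.condition _)) U.1 b

theorem kill_tw {H : (CohB1.ProjSpace n k).Modules} {K : (CohB1.ProjSpace n k).IdealSheafData}
    (hH : ∀ (U : (CohB1.ProjSpace n k).affineOpens) (c : Γ(CohB1.ProjSpace n k, U.1)), c ∈ K.ideal U →
      ∀ z : Γ(H, U.1), c • z = 0)
    (j : ℤ) (V : (CohB1.ProjSpace n k).affineOpens) {c : Γ(CohB1.ProjSpace n k, V.1)} (hc : c ∈ K.ideal V)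
    (z : Γ(tw n k H j, V.1)) : c • z = 0 := by
  refine QC70.section_ext (tw n k H j) _ _ fun q hq => ?_
  obtain ⟨l, hl⟩ := exists_mem_xOpen n k q
  obtain ⟨r, hrl, hqr⟩ := V.2.exists_basicOpen_le ⟨q, hl⟩ hq
  let D : (CohB1.ProjSpace n k).affineOpens := ⟨(CohB1.ProjSpace n k).basicOpen r, V.2.basicOpen r⟩
  have hDV : D.1 ≤ V.1 := (CohB1.ProjSpace n k).basicOpen_le r
  refine ⟨D.1, hDV, hqr, ?_⟩
  rw [QC70.res_smul]
  refine Eq.trans ?_ (map_zero _).symm
  obtain ⟨m, hm⟩ := Amp73.exists_eq_tm_frame (L := H) (isFrame_pSec (k := k) l j) hrl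
    (QC70.res (tw n k H j) hDV z)
  have hc' : QC70.resO _ hDV c ∈ K.ideal D :=
    (K.map_ideal (U := D) (V := V) hDV).le (Ideal.mem_map_of_mem _ hc)
  rw [← hm]
  refine (Amp73.tm_smul_left _ _ _).symm.trans ?_
  rw [hH D _ hc' m]
  exact Amp73.tm_zero_left _

theorem reg_mul_point [IsAlgClosed k] (J : (CohB1.ProjSpace n k).IdealSheafData) {x : CohB1.ProjSpace n k}
    (hx : IsClosed ({x} : Set _)) {t : ℕ} (hJ : Reg n k (ClSub.idealMod J) (t : ℤ)) :
    Reg n k (ClSub.idealMod (J * ptIdeal x hx)) ((t : ℤ) + 1) := by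
  have hle : J * ptIdeal x hx ≤ J := fun (V : (CohB1.ProjSpace n k).affineOpens) c hc =>
    mem_of_mem_mul_left (I := J.ideal V) (J := (ptIdeal x hx).ideal V) hc
  have := mono_idealLE hle
  have hcJ := isCoh_idealMod' J
  have hcJ' := isCoh_idealMod' (J * ptIdeal x hx)
  have hS : (ShortComplex.mk (idealLE hle) (cokernel.π (idealLE hle)) (cokernel.condition _)).ShortExact :=
    { exact := ShortComplex.exact_of_g_is_cokernel _ (cokernelIsCokernel _) }
  have hQc := QC70.isCoh_cokernel (idealLE hle) hcJ'.1 hcJ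
  have hQ : SuppIn (cokernel (idealLE hle)) {x} := suppIn_cokernel_idealLE hle (ptIdeal x hx) le_rfl
  have hcl : ∀ y ∈ ({x} : Set (CohB1.ProjSpace n k)), IsClosed ({y} : Set (CohB1.ProjSpace n k)) :=
    fun y hy => (Set.mem_singleton_iff.1 hy) ▸ hx
  intro i hi
  obtain ⟨i', rfl⟩ : ∃ i', i = i' + 1 := ⟨i - 1, by omega⟩
  rcases Nat.eq_zero_or_pos i' with rfl | hi'
  · rw [show (t : ℤ) + 1 - ((0 + 1 : ℕ) : ℤ) = t by push_cast; ring]
    obtain ⟨w, hT⟩ := shortExact_twMap hS (t : ℤ)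
    have := hQc.2
    have : Epi (twMap (cokernel.π (idealLE hle)) (t : ℤ)) := hT.epi_g
    have hsup : SuppIn (tw n k (cokernel (idealLE hle)) (t : ℤ)) {x} := fun y hy =>
      suppIn_tw (t : ℤ) y fun hh => hh (hQ y hy)
    have hkill : ∀ (V : (CohB1.ProjSpace n k).affineOpens) (hxV : x ∈ V.1) (c : Γ(CohB1.ProjSpace n k, V.1)),
        c ∈ (V.2.primeIdealOf ⟨x, hxV⟩).asIdeal →
          ∀ z : Γ(tw n k (cokernel (idealLE hle)) (t : ℤ), V.1), c • z = 0 := fun V hxV c hc z =>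
      kill_tw (fun U c hc z => kill_cokernel hle (ptIdeal x hx) le_rfl U hc z) _ V
        ((ptIdeal_ideal hx V hxV).ge hc) z
    have hsurj := surjective_to_point (twMap (cokernel.π (idealLE hle)) (t : ℤ))
      (isQCoh_tw n k _ hcJ.1 _) (isQCoh_tw n k _ hQc.1 _) hx hsup (hJ.spanned hcJ le_rfl) hkill
    have hs : Function.Surjective (hmap k (twMap (cokernel.π (idealLE hle)) (t : ℤ)) 0) := fun z => by
      obtain ⟨y, hy⟩ := hsurj (sec _ z)
      exact ⟨(sec _).symm y, (sec _).injective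
        ((sec_hmap k _ _).trans ((congrArg _ ((sec _).apply_symm_apply y)).trans hy))⟩
    refine subsingleton_of_forall_eq 0 fun z => ?_
    obtain ⟨y, rfl⟩ := (exact_δ_f k hT 0 z).1 ((hJ.vanish hcJ.1 le_rfl (by push_cast; omega)).elim _ _)
    exact (exact_g_δ k hT 0 y).2 (hs y)
  · obtain ⟨i'', rfl⟩ : ∃ i'', i' = i'' + 1 := ⟨i' - 1, by omega⟩
    exact sub_tw_X₁ hS (subsingleton_hh_tw_of_suppIn hQc hQ (Set.finite_singleton x) hcl _ i'')
      (hJ.vanish hcJ.1 (by omega) (by push_cast; omega))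

theorem reg_mul_point_pow [IsAlgClosed k] (J : (CohB1.ProjSpace n k).IdealSheafData) {x : CohB1.ProjSpace n k}
    (hx : IsClosed ({x} : Set _)) {t : ℕ} (hJ : Reg n k (ClSub.idealMod J) (t : ℤ)) :
    ∀ m : ℕ, ∃ J' : (CohB1.ProjSpace n k).IdealSheafData,
      Reg n k (ClSub.idealMod J') ((t + m : ℕ) : ℤ) ∧
      (∀ U, J'.ideal U = J.ideal U * (ptIdeal x hx).ideal U ^ m) ∧
      (J'.support : Set (CohB1.ProjSpace n k)) ⊆ (J.support : Set _) ∪ {x}
  | 0 => ⟨J, by simpa using hJ, fun U => by rw [pow_zero, mul_one], Set.subset_union_left⟩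
  | m + 1 => by
    obtain ⟨J', h1, h2, h3⟩ := reg_mul_point_pow J hx hJ m
    refine ⟨J' * ptIdeal x hx, by exact_mod_cast reg_mul_point J' hx h1, fun U => ?_, ?_⟩
    · rw [Scheme.IdealSheafData.ideal_mul, Pi.mul_apply, h2, pow_succ, mul_assoc]
    · rw [Scheme.IdealSheafData.support_mul]
      exact Set.union_subset h3 Set.subset_union_right

theorem germ_app_mem_maximalIdeal {X : Scheme.{u}} (i : X ⟶ CohB1.ProjSpace n k) (x : X)
    (hx : IsClosed ({i x} : Set _)) (U : (CohB1.ProjSpace n k).affineOpens) (hxU : i x ∈ U.1)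
    {c : Γ(CohB1.ProjSpace n k, U.1)} (hc : c ∈ (ptIdeal (i x) hx).ideal U) :
    X.presheaf.germ (i ⁻¹ᵁ U.1) x hxU (i.app U.1 c) ∈ IsLocalRing.maximalIdeal (X.presheaf.stalk x) := by
  rw [ptIdeal_ideal hx U hxU] at hc
  rw [IsLocalRing.mem_maximalIdeal]
  intro hu
  have h1 : x ∈ X.basicOpen (i.app U.1 c) := (Scheme.mem_basicOpen X _ x hxU).2 hu
  rw [← Scheme.preimage_basicOpen] at h1
  have h2 : U.2.primeIdealOf ⟨i x, hxU⟩ ∈ U.2.fromSpec ⁻¹ᵁ (CohB1.ProjSpace n k).basicOpen c :=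
    (congrArg (· ∈ (CohB1.ProjSpace n k).basicOpen c) (U.2.fromSpec_primeIdealOf ⟨i x, hxU⟩)).mpr h1
  rw [U.2.fromSpec_preimage_basicOpen] at h2
  exact h2 hc

theorem germ_app_mem_pow {X : Scheme.{u}} (i : X ⟶ CohB1.ProjSpace n k) (x : X)
    (hx : IsClosed ({i x} : Set _)) (U : (CohB1.ProjSpace n k).affineOpens) (hxU : i x ∈ U.1) {m : ℕ}
    {c : Γ(CohB1.ProjSpace n k, U.1)} (hc : c ∈ (ptIdeal (i x) hx).ideal U ^ m) :
    X.presheaf.germ (i ⁻¹ᵁ U.1) x hxU (i.app U.1 c) ∈ IsLocalRing.maximalIdeal (X.presheaf.stalk x) ^ m := by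
  let ψ : Γ(CohB1.ProjSpace n k, U.1) →+* X.presheaf.stalk x :=
    (X.presheaf.germ (i ⁻¹ᵁ U.1) x hxU).hom.comp (i.app U.1).hom
  have hle : (ptIdeal (i x) hx).ideal U ≤ (IsLocalRing.maximalIdeal (X.presheaf.stalk x)).comap ψ :=
    fun d hd => germ_app_mem_maximalIdeal i x hx U hxU hd
  exact Ideal.le_comap_pow ψ m (Ideal.pow_right_mono hle _ hc)

theorem exists_reg_finset [IsAlgClosed k] {X : Scheme.{u}} (i : X ⟶ CohB1.ProjSpace n k)
    (hcl : ∀ x : X, IsClosed ({i x} : Set (CohB1.ProjSpace n k))) (μ : X → ℕ) (S : Finset X) :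
    ∃ J : (CohB1.ProjSpace n k).IdealSheafData,
      Reg n k (ClSub.idealMod J) ((∑ x ∈ S, (μ x + 1) : ℕ) : ℤ) ∧
      (J.support : Set (CohB1.ProjSpace n k)) ⊆ Set.range i ∧
      ∀ x ∈ S, ∀ (U : (CohB1.ProjSpace n k).affineOpens) (hxU : i x ∈ U.1), ∀ c ∈ J.ideal U,
        X.presheaf.germ (i ⁻¹ᵁ U.1) x hxU (i.app U.1 c) ∈
          IsLocalRing.maximalIdeal (X.presheaf.stalk x) ^ (μ x + 1) := by
  classical
  induction S using Finset.induction_on with
  | empty => exact ⟨⊤, by simpa using reg_top, by simp, fun x hx => absurd hx (Finset.notMem_empty x)⟩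
  | @insert a S ha ih =>
    obtain ⟨J, h1, h2, h3⟩ := ih
    obtain ⟨J', g1, g2, g3⟩ := reg_mul_point_pow J (hcl a) h1 (μ a + 1)
    refine ⟨J', ?_, g3.trans (Set.union_subset h2 (by simp)), ?_⟩
    · rw [Finset.sum_insert ha, add_comm (μ a + 1)]
      exact g1
    intro x hx U hxU c hc
    rw [g2 U] at hc
    rcases Finset.mem_insert.1 hx with rfl | hxS
    · have hc' : c ∈ (ptIdeal (i x) (hcl x)).ideal U ^ (μ x + 1) := mem_of_mem_mul_right hc
      exact germ_app_mem_pow i x (hcl x) U hxU hc'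
    · have hc' : c ∈ J.ideal U := mem_of_mem_mul_left hc
      exact h3 x hxS U hxU c hc'

theorem isClosed_point_of_finite {X : Scheme.{u}} [Finite X] (i : X ⟶ CohB1.ProjSpace n k) [IsClosedImmersion i]
    (x : X) : IsClosed ({i x} : Set (CohB1.ProjSpace n k)) := by
  have : IsLocallyNoetherian (CohB1.ProjSpace n k) := isLocallyNoetherian_projSpace
  have : IsProper (CohB1.ProjSpace n k ↘ Spec (CommRingCat.of k)) := Serre71.isProper_projSpace n k
  have : JacobsonSpace (CohB1.ProjSpace n k) :=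
    LocallyOfFiniteType.jacobsonSpace (CohB1.ProjSpace n k ↘ Spec (CommRingCat.of k))
  have : JacobsonSpace X := JacobsonSpace.of_isClosedEmbedding i.isClosedEmbedding
  have : DiscreteTopology X := inferInstance
  rw [← Set.image_singleton]
  exact i.isClosedEmbedding.isClosedMap _ (isClosed_discrete _)

/-- The ideal of a finite subscheme is regular in the sum of the Loewy lengths. -/
theorem reg_ker_finite [IsAlgClosed k] {X : Scheme.{u}} [Fintype X] (i : X ⟶ CohB1.ProjSpace n k) [IsClosedImmersion i]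
    (μ : X → ℕ) (hμ : ∀ x : X, IsLocalRing.maximalIdeal (X.presheaf.stalk x) ^ (μ x + 1) = ⊥) :
    Reg n k (ClSub.idealMod i.ker) ((∑ x : X, (μ x + 1) : ℕ) : ℤ) := by
  obtain ⟨J, hJ, hsupp, hgerm⟩ := exists_reg_finset i (isClosed_point_of_finite i) μ Finset.univ
  have hle : J ≤ i.ker := fun U c hc => by
    rw [Scheme.Hom.ker_apply, RingHom.mem_ker]
    refine X.IsSheaf.section_ext (fun x hxU => ?_)
    have h := hgerm x (Finset.mem_univ x) U hxU c hc
    rw [hμ x, Ideal.mem_bot] at h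
    obtain ⟨W, hxW, iU, iV, e⟩ := X.presheaf.germ_eq x hxU hxU (i.app U.1 c) 0 (h.trans (map_zero _).symm)
    exact ⟨W, iU.le, hxW, e⟩
  have := mono_idealLE hle
  have hcI := isCoh_idealMod' i.ker
  have hcJ := isCoh_idealMod' J
  have hS : (ShortComplex.mk (idealLE hle) (cokernel.π (idealLE hle)) (cokernel.condition _)).ShortExact :=
    { exact := ShortComplex.exact_of_g_is_cokernel _ (cokernelIsCokernel _) }
  have hQ : SuppIn (cokernel (idealLE hle)) (J.support : Set (CohB1.ProjSpace n k)) :=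
    suppIn_cokernel_idealLE hle J (fun (U : (CohB1.ProjSpace n k).affineOpens) c hc =>
      mem_of_mem_mul_right (I := i.ker.ideal U) (J := J.ideal U) hc)
  intro q hq
  obtain ⟨q', rfl⟩ : ∃ q', q = q' + 1 := ⟨q - 1, by omega⟩
  exact sub_tw_X₂ hS (hJ.vanish hcJ.1 (by omega) le_rfl)
    (subsingleton_hh_tw_of_suppIn (QC70.isCoh_cokernel _ hcJ.1 hcI) hQ ((Set.finite_range i).subset hsupp)
      (fun y hy => by obtain ⟨x, rfl⟩ := hsupp hy; exact isClosed_point_of_finite i x) _ q')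

end Groth.Agent.Var76.Reg

end
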