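import Groth.Agent.QC70.HomLocFree
import Groth.Agent.Var76.RegPow
import Groth.Agent.Curves2.BilinearHopf
import Groth.Agent.Crv77.Sections
import Groth.Agent.Serre71.Finite
import Mathlib.AlgebraicGeometry.FunctionField

/-! Products of sections of locally free modules on integral schemes. -/

universe u

open CategoryTheory Limits AlgebraicGeometry TopologicalSpace Opposite

noncomputable section

set_option maxSynthPendingDepth 6

namespace Groth.Agent.Var76

open LineBundle Props58.LocFree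

variable {X : Scheme.{u}} [IsIntegral X]

theorem injective_resO {U V : X.Opens} (h : V ≤ U) {x : X} (hx : x ∈ V) :
    Function.Injective (X.presheaf.map (homOfLE h).op) := fun a b hab => by
  apply germ_injective_of_isIntegral (X := X) x (h hx)
  rw [← X.presheaf.germ_res_apply (homOfLE h) x hx a, ← X.presheaf.germ_res_apply (homOfLE h) x hx b, hab]

theorem eq_zero_of_res_eq_zero {E : X.Modules} (hE : FlatMod.IsFinLocFree E) {W : X.Opens} (s : Γ(E, W))
    {V : X.Opens} (hV : V ≤ W) {x : X} (hx : x ∈ V) (h : res E hV s = 0) : s = 0 := by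
  refine QC70.section_ext E s 0 fun p hp => ?_
  obtain ⟨U, m, b, hpU, hb⟩ := isFinLocFree_iff.mp hE p
  refine ⟨W ⊓ U, inf_le_left, ⟨hp, hpU⟩, ?_⟩
  let e := QC70.basisEquiv hb (inf_le_right : W ⊓ U ≤ U)
  obtain ⟨a, ha⟩ := e.surjective (res E (inf_le_left : W ⊓ U ≤ W) s)
  obtain ⟨y, hyV, hyWU⟩ := nonempty_preirreducible_inter V.2 (W ⊓ U).2 ⟨x, hx⟩ ⟨p, hp, hpU⟩
  let e' := QC70.basisEquiv hb (show V ⊓ (W ⊓ U) ≤ U from inf_le_right.trans inf_le_right)
  have hcomp : e' (fun i => X.presheaf.map (homOfLE (inf_le_right : V ⊓ (W ⊓ U) ≤ W ⊓ U)).op (a i)) = 0 := by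
    have h1 : res E (inf_le_right : V ⊓ (W ⊓ U) ≤ W ⊓ U) (e a) = 0 := by
      rw [ha, res_res, ← res_res E hV (inf_le_left : V ⊓ (W ⊓ U) ≤ V), h]
      exact map_zero _
    refine Eq.trans ?_ h1
    show Fintype.linearCombination _ _ _ = res E _ (Fintype.linearCombination _ _ a)
    rw [Fintype.linearCombination_apply, Fintype.linearCombination_apply]
    refine Eq.trans ?_ (map_sum (E.presheaf.map _).hom _ _).symm
    refine Finset.sum_congr rfl fun i _ => ?_
    refine Eq.trans ?_ (res_smul E (inf_le_right : V ⊓ (W ⊓ U) ≤ W ⊓ U) (a i) _).symm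
    exact congrArg (_ • ·) (res_res E _ _ _).symm
  have ha0 : a = 0 := funext fun i => injective_resO (inf_le_right : V ⊓ (W ⊓ U) ≤ W ⊓ U) (x := y) ⟨hyV, hyWU⟩
    ((congrFun ((LinearEquiv.map_eq_zero_iff e').1 hcomp) i).trans (map_zero _).symm)
  show res E _ s = _
  rw [← ha, ha0, map_zero]
  exact (map_zero _).symm

theorem mono_unitHom_of_ne_zero {E : X.Modules} (hE : FlatMod.IsFinLocFree E) {s : Γ(E, ⊤)} (hs : s ≠ 0) :
    Mono (EGA73.unitHom E s) := by
  refine QC70.mono_of_app_injective _ fun W => (injective_iff_map_eq_zero _).2 fun c hc => ?_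
  change Γ(X, W) at c
  have hc' : c • res E (le_top : W ≤ ⊤) s = 0 := (EGA73.unitHom_app E s W c).symm.trans hc
  by_contra hne
  rcases Set.eq_empty_or_nonempty (W : Set X) with hW | ⟨x, hx⟩
  · exact hne (TopCat.Sheaf.eq_of_locally_eq' X.sheaf (fun i : PEmpty.{u + 1} => (i.elim : X.Opens)) W
      (fun i => i.elim) (fun y hy => absurd hy (by simp [← SetLike.mem_coe, hW])) c 0 fun i => i.elim)
  obtain ⟨U, m, b, hxU, hb⟩ := isFinLocFree_iff.mp hE x
  let V : X.Opens := W ⊓ U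
  have hxV : x ∈ V := ⟨hx, hxU⟩
  let e := QC70.basisEquiv hb (inf_le_right : V ≤ U)
  obtain ⟨a, ha⟩ := e.surjective (res E (le_top : V ≤ ⊤) s)
  have hca : X.presheaf.map (homOfLE (inf_le_left : V ≤ W)).op c • a = 0 := by
    apply e.injective
    rw [map_smul, map_zero, ha, ← res_res E (le_top : W ≤ ⊤) (inf_le_left : V ≤ W)]
    exact (res_smul E _ c _).symm.trans ((congrArg _ hc').trans (map_zero _))
  have : Nonempty V := ⟨⟨x, hxV⟩⟩
  refine hs (eq_zero_of_res_eq_zero hE s (le_top : V ≤ ⊤) hxV ?_)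
  rw [← ha, show a = 0 from funext fun i => ?_, map_zero]
  rcases mul_eq_zero.1 (congrFun hca i) with h0 | h0
  · exact absurd (injective_resO (inf_le_left : V ≤ W) hxV (h0.trans (map_zero _).symm)) hne
  · exact h0

theorem tm_ne_zero {E₁ E₂ : X.Modules} (h₁ : FlatMod.IsFinLocFree E₁) (h₂ : FlatMod.IsFinLocFree E₂)
    (s : Γ(E₁, ⊤)) (t : Γ(E₂, ⊤)) (h : Amp73.tm E₁ E₂ s t = 0) : s = 0 ∨ t = 0 := by
  refine or_iff_not_imp_left.2 fun hs => ?_
  have := mono_unitHom_of_ne_zero h₁ hs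
  let S : ShortComplex X.Modules := ShortComplex.mk (EGA73.unitHom E₁ s) (cokernel.π _) (cokernel.condition _)
  have hS : S.ShortExact := { exact := ShortComplex.exact_of_g_is_cokernel _ (cokernelIsCokernel _) }
  have hT := Crv77.shortExact_tR_of_locally_flat (O := X.sheaf) E₂ (QC70.locally_flat_of_isFinLocFree h₂) hS
  have hm : Mono (Reg.whiskR (EGA73.unitHom E₁ s) E₂) := hT.mono_f
  have e1 : (Reg.whiskR (EGA73.unitHom E₁ s) E₂).app ⊤
      (Amp73.tm (Coh.structureModule X) E₂ (1 : Γ(X, ⊤)) t) = 0 := by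
    refine (Reg.whiskR_tm _ _ _ _).trans ?_
    rw [show (EGA73.unitHom E₁ s).app ⊤ (1 : Γ(X, ⊤)) = s from
      (EGA73.unitHom_app E₁ s ⊤ 1).trans ((one_smul _ _).trans (QC70.res_self s))]
    exact h
  have e2 := QC70.app_injective_of_mono (Reg.whiskR (EGA73.unitHom E₁ s) E₂) ⊤ (e1.trans (map_zero _).symm)
  have e3 := Reg.tensUnitLeft_tm E₂ (1 : Γ(X, ⊤)) t
  rw [one_smul] at e3
  exact e3.symm.trans ((congrArg _ e2).trans (map_zero _))

/-- Hopf's inequality for sections. -/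
theorem finrank_h0_add_le (k : Type u) [Field k] [IsAlgClosed k] [X.Over (Spec (CommRingCat.of k))]
    [IsProper (X ↘ (Spec (CommRingCat.of k)))]
    (E₁ E₂ : X.Modules) (h₁ : FlatMod.IsFinLocFree E₁) (h₂ : FlatMod.IsFinLocFree E₂)
    (c₁ : Coh.IsCoh E₁) (c₂ : Coh.IsCoh E₂)
    [Nontrivial (Coh.HH X E₁ 0)] [Nontrivial (Coh.HH X E₂ 0)] :
    Module.finrank k (Coh.HH X E₁ 0) + Module.finrank k (Coh.HH X E₂ 0) ≤
      Module.finrank k (Coh.HH X (CohB1.tensorMod E₁ E₂) 0) + 1 := by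
  have := Serre71.finite_hh_of_isProper k E₁ c₁ 0
  have := Serre71.finite_hh_of_isProper k E₂ c₂ 0
  have := Serre71.finite_hh_of_isProper k _ (Amp73.isCoh_tensorMod c₁ c₂) 0
  let T := CohB1.tensorMod E₁ E₂
  let φ := LinearMap.mk₂ k (fun x y => (Crv77.sec T).symm (Amp73.tm E₁ E₂ (Crv77.sec E₁ x) (Crv77.sec E₂ y)))
    (fun x x' y => by rw [map_add, ← map_add (Crv77.sec T).symm, Amp73.tm_add_left])
    (fun a x y => (Crv77.sec T).injective (by
      rw [AddEquiv.apply_symm_apply, Crv77.sec_smul, Crv77.sec_smul, AddEquiv.apply_symm_apply, Amp73.tm_smul_left]))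
    (fun x y y' => by rw [map_add, ← map_add (Crv77.sec T).symm, Amp73.tm_add_right])
    (fun a x y => (Crv77.sec T).injective (by
      rw [AddEquiv.apply_symm_apply, Crv77.sec_smul, Crv77.sec_smul, AddEquiv.apply_symm_apply, Amp73.tm_smul_right]))
  refine Curves2.finrank_add_le_of_bilinear φ fun x y hxy => ?_
  have h := congrArg (Crv77.sec T) hxy
  simp only [φ, LinearMap.mk₂_apply, AddEquiv.apply_symm_apply, map_zero] at h
  exact (tm_ne_zero h₁ h₂ _ _ h).imp (fun h => (Crv77.sec E₁).injective (h.trans (map_zero _).symm))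
    (fun h => (Crv77.sec E₂).injective (h.trans (map_zero _).symm))

end Groth.Agent.Var76

end
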