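import Groth.Agent.Var76.HomAvoid
import Groth.Agent.Var76.FibreBound

/-! Hypersurfaces through a closed set covering the rest of a subvariety. -/

universe u

open CategoryTheory AlgebraicGeometry TopologicalSpace
open Groth.Agent.WC97 (tdegN)

set_option backward.isDefEq.respectTransparency false

namespace Groth.Agent.Var76.HypCover

/-- `r + 1` hypersurfaces through `YS` cover the rest of a scheme of dimension at most `r`. -/
theorem exists_cover {k : Type u} [Field k] {n : ℕ} {X : Scheme.{u}} (iX : X ⟶ CohB1.ProjSpace n k)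
    [LocallyOfFiniteType (iX ≫ CohB1.ProjSpace.toSpec n k)]
    [QuasiCompact (iX ≫ CohB1.ProjSpace.toSpec n k)]
    (YS : Set ↥(CohB1.ProjSpace n k)) (hYc : IsClosed YS) (r : ℕ)
    (hX : topologicalKrullDim X ≤ (r : WithBot ℕ∞)) :
    ∃ g : Fin (r + 1) → MvPolynomial (Fin (n + 1)) k,
      (∀ l, ∃ d : ℕ, 0 < d ∧ (g l).IsHomogeneous d) ∧
      (∀ l, YS ⊆ (Proj.basicOpen (CohB1.polyGrading n k) (g l) : Set (Proj (CohB1.polyGrading n k)))ᶜ) ∧
      ∀ x : X, iX x ∉ YS → ∃ l, iX x ∈ Proj.basicOpen (CohB1.polyGrading n k) (g l) := by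
  classical
  let 𝒜 := CohB1.polyGrading n k
  let qX := iX ≫ CohB1.ProjSpace.toSpec n k
  have : NoetherianSpace X := FibreBound.noetherianSpace qX
  let D : MvPolynomial (Fin (n + 1)) k → (CohB1.ProjSpace n k).Opens := fun g => Proj.basicOpen 𝒜 g
  have key : ∀ j : ℕ, j ≤ r + 1 → ∃ g : Fin j → MvPolynomial (Fin (n + 1)) k,
      (∀ l, ∃ d : ℕ, 0 < d ∧ (g l).IsHomogeneous d) ∧
      (∀ l, YS ⊆ (D (g l) : Set ↥(CohB1.ProjSpace n k))ᶜ) ∧
      ∀ x : X, iX x ∉ YS → (∀ l, iX x ∉ D (g l)) → tdegN qX x + j ≤ r := by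
    intro j
    induction j with
    | zero =>
      intro _
      refine ⟨Fin.elim0, fun l => l.elim0, fun l => l.elim0, fun x _ _ => ?_⟩
      have h := (Var76.FibreBound.tdegN_le_dim qX x).trans hX
      simpa using (Nat.cast_le.1 (by exact_mod_cast h) : tdegN qX x ≤ r)
    | succ j ih =>
      intro hj
      obtain ⟨g, hg1, hg2, hg3⟩ := ih (by omega)
      let S : Set X := ⋂ l, (iX ⁻¹' (D (g l) : Set ↥(CohB1.ProjSpace n k)))ᶜ
      have hS : IsClosed S := isClosed_iInter fun l =>
        (((D (g l)).2.preimage iX.continuous).isClosed_compl)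
      obtain ⟨C, hCf, hCc, hCi, hCeq⟩ := NoetherianSpace.exists_finite_set_isClosed_irreducible hS
      have hgp : ∀ t : C, ∃ η, IsGenericPoint η (t : Set X) := fun t =>
        QuasiSober.sober (hCi t t.2) (hCc t t.2)
      choose η hη using hgp
      have := hCf.to_subtype
      have := Fintype.ofFinite C
      let P : Finset ↥(CohB1.ProjSpace n k) :=
        (Finset.univ.image fun t : C => iX (η t)).filter fun z => z ∉ YS
      let I := ProjectiveSpectrum.vanishingIdeal (𝒜 := 𝒜) YS
      have hI : ∀ z : ↥(CohB1.ProjSpace n k), I.toIdeal ≤ z.asHomogeneousIdeal.toIdeal → z ∈ YS := by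
        intro z hz
        have h : z ∈ ProjectiveSpectrum.zeroLocus 𝒜 (I : Set (MvPolynomial (Fin (n + 1)) k)) :=
          (ProjectiveSpectrum.mem_zeroLocus 𝒜 z _).2 hz
        rwa [ProjectiveSpectrum.zeroLocus_vanishingIdeal_eq_closure, hYc.closure_eq] at h
      obtain ⟨d, h, hd, hh, hhI, hhP⟩ := Var76.HomAvoid.exists_avoid I P
        fun p hp hle => (Finset.mem_filter.1 hp).2 (hI p hle)
      refine ⟨Fin.cons h g, ?_, ?_, ?_⟩
      · intro l
        induction l using Fin.cases with
        | zero => exact ⟨d, hd, hh⟩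
        | succ l => simpa using hg1 l
      · intro l
        induction l using Fin.cases with
        | zero =>
          intro z hz hzD
          exact (Proj.mem_basicOpen 𝒜 _ z).1 hzD
            ((ProjectiveSpectrum.mem_vanishingIdeal YS h).1 hhI z hz)
        | succ l => simpa using hg2 l
      · intro x hxY hx
        have hxS : x ∈ S := Set.mem_iInter.2 fun l => by simpa using hx l.succ
        rw [hCeq] at hxS
        obtain ⟨t, htC, hxt⟩ := hxS
        have hsp : η ⟨t, htC⟩ ⤳ x := (hη ⟨t, htC⟩).specializes hxt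
        have hηY : iX (η ⟨t, htC⟩) ∉ YS := fun hmem =>
          hxY ((hsp.map iX.continuous).mem_closed hYc hmem)
        have hηS : η ⟨t, htC⟩ ∈ S := by
          rw [hCeq]
          exact ⟨t, htC, (hη ⟨t, htC⟩).mem⟩
        have hle := hg3 _ hηY fun l => Set.mem_iInter.1 hηS l
        have hne : η ⟨t, htC⟩ ≠ x := by
          rintro rfl
          have h0 := hx 0
          rw [Fin.cons_zero] at h0
          refine h0 ((Proj.mem_basicOpen 𝒜 _ _).2 (hhP _ ?_))
          exact Finset.mem_filter.2 ⟨Finset.mem_image.2 ⟨⟨t, htC⟩, Finset.mem_univ _, rfl⟩, hηY⟩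
        have hlt := Var76.FibreBound.tdegN_lt qX hsp hne
        omega
  obtain ⟨g, hg1, hg2, hg3⟩ := key (r + 1) le_rfl
  refine ⟨g, hg1, hg2, fun x hxY => ?_⟩
  by_contra hz
  push Not at hz
  have := hg3 x hxY hz
  omega

end Groth.Agent.Var76.HypCover
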