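import Groth.Agent.Var76.RegTools
import Groth.Agent.Div89.FreeStalks
import Groth.Agent.Serre71.Finite
import Groth.Agent.Serre71.ProjFinite

/-! Morphisms between twists, Serre vanishing over a field, and propagation of surjectivity on sections. -/

universe u

open CategoryTheory Limits AlgebraicGeometry TopologicalSpace Opposite MonoidalCategory

noncomputable section

set_option maxSynthPendingDepth 6

namespace Groth.Agent.Var76.Reg

open Crv77

section WhiskR

theorem tR_map_comp_eq_zero {C : Type u} [SmallCategory C] {J : GrothendieckTopology C} {O : Sheaf J CommRingCat.{u}}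
    (L : ModSite.Mod O) (S : ShortComplex (ModSite.Mod O)) : (Mod48.tR L).map S.f ≫ (Mod48.tR L).map S.g = 0 :=
  (S.map (Mod48.tR L)).zero

variable {X : Scheme.{u}} {F G H : X.Modules}

/-- Tensoring a morphism with a fixed module on the right. -/
def whiskR (φ : F ⟶ G) (L : X.Modules) : CohB1.tensorMod F L ⟶ CohB1.tensorMod G L :=
  (Mod48.shf (O := X.sheaf)).map
    (MonoidalCategory.whiskerRight ((Mod48.fgt (O := X.sheaf)).map φ) (Mod48.pre (O := X.sheaf) L))

theorem whiskR_comp (φ : F ⟶ G) (ψ : G ⟶ H) (L : X.Modules) : whiskR (φ ≫ ψ) L = whiskR φ L ≫ whiskR ψ L :=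
  (Mod48.tR (O := X.sheaf) L).map_comp φ ψ

theorem whiskR_whiskL (φ : F ⟶ G) {L L' : X.Modules} (g : L ⟶ L') :
    whiskR φ L ≫ whiskL G g = whiskL F g ≫ whiskR φ L' := by
  rw [whiskR, whiskL, whiskL, whiskR]
  exact ((Mod48.shf (O := X.sheaf)).map_comp _ _).symm.trans ((congrArg _ (MonoidalCategory.whisker_exchange _ _).symm).trans
    ((Mod48.shf (O := X.sheaf)).map_comp _ _))

theorem shortExact_whiskR {L : X.Modules} (hL : PicF.IsInvertible L) {S : ShortComplex X.Modules} (hS : S.ShortExact) :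
    ∃ w : whiskR S.f L ≫ whiskR S.g L = 0, (ShortComplex.mk (whiskR S.f L) (whiskR S.g L) w).ShortExact :=
  have h := Crv77.shortExact_tR_of_locally_flat (O := X.sheaf) L
    (Crv77.locally_flat_of_rank_one (Mero90.isFinLocFreeOfRank_of_isInvertible hL)) hS
  ⟨tR_map_comp_eq_zero (O := X.sheaf) L S, h⟩

end WhiskR

variable {n : ℕ} {A : Type u} [CommRing A] {F G : (CohB1.ProjSpace n A).Modules}

/-- The twist of a morphism. -/
def twMap (φ : F ⟶ G) (d : ℤ) : tw n A F d ⟶ tw n A G d := whiskR φ _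

theorem twMap_xMul (φ : F ⟶ G) (l : Fin (n + 1)) (d e : ℤ) (h : e = d + 1) :
    twMap φ d ≫ xMul n A G l d e h = xMul n A F l d e h ≫ twMap φ e :=
  whiskR_whiskL φ _

theorem shortExact_twMap {S : ShortComplex (CohB1.ProjSpace n A).Modules} (hS : S.ShortExact) (d : ℤ) :
    ∃ w : twMap S.f d ≫ twMap S.g d = 0, (ShortComplex.mk (twMap S.f d) (twMap S.g d) w).ShortExact :=
  shortExact_whiskR (isInvertible_twist d) hS

theorem dd_zero_eq (d e : ℤ) (h : e = d + 1) :
    (kd n A F).dd 0 d e h = ∑ l, biproduct.π (fun _ : Fin (n + 1) => tw n A F d) l ≫ xMul n A F l d e h :=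
  biproduct.desc_eq

/-- Surjectivity on sections of a twisted morphism propagates upwards from the regularity of the target. -/
theorem surjective_twMap_succ (φ : F ⟶ G) (hG : Coh.IsQCoh G) {m : ℤ} (hr : Reg n A G m) {d e : ℤ} (h : e = d + 1)
    (hd : m ≤ d) (hsurj : Function.Surjective (hmap A (twMap φ d) 0)) :
    Function.Surjective (hmap A (twMap φ e) 0) := by
  intro x
  obtain ⟨y, rfl⟩ := hr.surjective_coord hG h hd x
  choose z hz using fun l => hsurj (hmap A (biproduct.π (fun _ : Fin (n + 1) => tw n A G d) l) 0 y)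
  refine ⟨∑ l, hmap A (xMul n A F l d e h) 0 (z l), ?_⟩
  rw [map_sum, dd_zero_eq]
  refine Eq.trans ?_ (Serre71.hmap_sum' (A := A) _ _ 0 y).symm
  refine Finset.sum_congr rfl fun l _ => ?_
  rw [hmap_comp, ← twMap_xMul, ← hmap_comp, hz]
  exact hmap_comp A _ _ 0 y

theorem surjective_twMap_of_le (φ : F ⟶ G) (hG : Coh.IsQCoh G) {m : ℤ} (hr : Reg n A G m) {d : ℤ}
    (hd : m ≤ d) (hsurj : Function.Surjective (hmap A (twMap φ d) 0)) (t : ℕ) :
    Function.Surjective (hmap A (twMap φ (d + t)) 0) := by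
  induction t with
  | zero => exact (add_zero d).symm ▸ hsurj
  | succ t ih => exact surjective_twMap_succ φ hG hr (by push_cast; omega) (by omega) ih

section Field

variable {k : Type u} [Field k]

theorem valuationRing_localization_field (p : Ideal k) [p.IsPrime] : ValuationRing (Localization.AtPrime p) := by
  have hs : Function.Surjective (algebraMap k (Localization.AtPrime p)) := fun x => by
    obtain ⟨⟨a, s⟩, rfl⟩ := IsLocalization.mk'_surjective p.primeCompl x
    refine ⟨a / s, ?_⟩
    rw [IsLocalization.eq_mk'_iff_mul_eq, ← map_mul]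
    have : (s : k) ≠ 0 := fun h => s.2 (h ▸ p.zero_mem)
    rw [div_mul_cancel₀ a this]
  exact hs.valuationRing (algebraMap k (Localization.AtPrime p))

instance isLocallyNoetherian_projSpace : IsLocallyNoetherian (CohB1.ProjSpace n k) :=
  haveI := Serre71.isProper_projSpace n k
  LocallyOfFiniteType.isLocallyNoetherian (CohB1.ProjSpace.toSpec n k)

instance compactSpace_projSpace : CompactSpace (CohB1.ProjSpace n k) :=
  haveI := Serre71.isProper_projSpace n k
  QuasiCompact.compactSpace_of_compactSpace (CohB1.ProjSpace.toSpec n k)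

instance isNoetherian_projSpace : IsNoetherian (CohB1.ProjSpace n k) := { }

/-- Serre vanishing. -/
theorem exists_vanish (F : (CohB1.ProjSpace n k).Modules) (hF : Coh.IsCoh F) :
    ∃ J : ℤ, ∀ j : ℤ, J ≤ j → ∀ q : ℕ, 1 ≤ q → Subsingleton (Coh.HH (CohB1.ProjSpace n k) (tw n k F j) q) := by
  obtain ⟨n₀, h⟩ := ValVan29.exists_vanishing_all (fun p _ => valuationRing_localization_field p) F
    (Div89.isFP_of_isCoh hF)
  refine ⟨n₀, fun j hj q hq => ?_⟩
  obtain ⟨t, rfl⟩ := Int.eq_ofNat_of_zero_le ((Int.natCast_nonneg n₀).trans hj)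
  obtain ⟨i⟩ := EGA73.nonempty_twist_iso_tensorPow (hgen n k) t
  exact ValVan29.subsingleton_hh_of_iso (EGA73.tensIso (Iso.refl F) i.symm) q (h t (by omega) q hq)

/-- Every coherent module is regular from some degree on. -/
theorem exists_reg (F : (CohB1.ProjSpace n k).Modules) (hF : Coh.IsCoh F) : ∃ m : ℤ, Reg n k F m := by
  obtain ⟨J, hJ⟩ := exists_vanish F hF
  refine ⟨J + (n + 1 : ℕ), fun i hi => ?_⟩
  rcases le_or_gt i n with hin | hin
  · exact hJ _ (by push_cast; omega) i hi
  · exact subsingleton_hh_gt n k _ (isQCoh_tw n k F hF.1 _) i hin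

theorem finite_hh_tw (F : (CohB1.ProjSpace n k).Modules) (hF : Coh.IsCoh F) (d : ℤ) (i : ℕ) :
    Module.Finite k (Coh.HH (CohB1.ProjSpace n k) (tw n k F d) i) :=
  haveI : IsProper (CohB1.ProjSpace n k ↘ Spec (CommRingCat.of k)) := Serre71.isProper_projSpace n k
  Serre71.finite_hh_of_isProper k _ (Amp73.isCoh_tensorMod hF (Amp73.isCoh_of_isInvertible (isInvertible_twist d))) i

end Field

end Groth.Agent.Var76.Reg

end
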