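import Groth.Agent.Var76.OmegaRegular
import Groth.Agent.Var76.OmegaUniv
import Groth.Agent.QCPull72.Closed

/-! The conormal sequence of a closed immersion on affine charts. -/

universe u

open CategoryTheory CategoryTheory.Limits AlgebraicGeometry TopologicalSpace Opposite
open scoped TensorProduct

set_option backward.isDefEq.respectTransparency false

noncomputable section

namespace Groth.Agent.Var76.ConormalChart

variable {k : Type u} [Field k] {X : Scheme.{u}} [X.Over (Spec (CommRingCat.of k))]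
  [QuasiSeparated (X ↘ Spec (CommRingCat.of k))]
  {ΩX : X.Modules} (dX : OmegaSh.Der (X ↘ Spec (CommRingCat.of k)) ΩX)

/-- Sections of a universal sheaf of differentials, with the differential. -/
theorem omega_equiv (hX : OmegaSh.IsUniversal dX) {U : X.Opens} (hU : IsAffineOpen U) :
    letI := (BertiniScheme.const (k := k) X U).toAlgebra
    ∃ e : Ω[Γ(X, U)⁄k] ≃ₗ[Γ(X, U)] Γ(ΩX, U), ∀ a, e (KaehlerDifferential.D k Γ(X, U) a) = dX.app U a := by
  let q := X ↘ Spec (CommRingCat.of k)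
  let R := CommRingCat.of k
  let : Algebra k Γ(X, U) := (BertiniScheme.const (k := k) X U).toAlgebra
  let : Algebra Γ(Spec R, ⊤) Γ(X, U) := (q.appLE ⊤ U le_top).hom.toAlgebra
  let : Algebra k Γ(Spec R, ⊤) := (Scheme.ΓSpecIso R).inv.hom.toAlgebra
  have : IsScalarTower k Γ(Spec R, ⊤) Γ(X, U) := IsScalarTower.of_algebraMap_eq fun r => rfl
  have := Omega57.isIso_toSect q hU (isAffineOpen_top (Spec R)) (le_top : U ≤ q ⁻¹ᵁ ⊤)
  obtain ⟨eX, heX⟩ := OmegaUniv.exists_iso q dX hX
  let m := KaehlerDifferential.map k Γ(Spec R, ⊤) Γ(X, U) Γ(X, U)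
  have hm : Function.Bijective m := by
    refine ⟨?_, KaehlerDifferential.map_surjective _ _ _⟩
    rw [injective_iff_map_eq_zero]
    intro z hz
    obtain ⟨w, rfl⟩ := (KaehlerDifferential.exact_mapBaseChange_map k Γ(Spec R, ⊤) Γ(X, U) z).1 hz
    have : Subsingleton Ω[Γ(Spec R, ⊤)⁄k] := by
      have := Algebra.FormallyUnramified.of_surjective (Algebra.ofId k Γ(Spec R, ⊤))
        (ConcreteCategory.bijective_of_isIso (Scheme.ΓSpecIso R).inv).2
      exact (Algebra.formallyUnramified_iff _ _).1 this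
    rw [Subsingleton.elim w 0, map_zero]
  let eX' : Γ(Omega.sheaf q, U) ≃ₗ[Γ(X, U)] Γ(ΩX, U) := LinearEquiv.ofBijective
    { toFun := fun x => eX.hom.app U x
      map_add' := fun a b => map_add (eX.hom.app U).hom a b
      map_smul' := fun a x => eX.hom.app_smul a x }
    (ConcreteCategory.bijective_of_isIso (eX.hom.app U))
  refine ⟨(LinearEquiv.ofBijective m hm).trans
    ((asIso (OmAff.toSect q ⊤ U le_top)).toLinearEquiv.trans eX'), fun a => ?_⟩
  show eX.hom.app U (OmAff.toSect q ⊤ U le_top (m (KaehlerDifferential.D k Γ(X, U) a))) = _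
  rw [show m (KaehlerDifferential.D k Γ(X, U) a) = CommRingCat.KaehlerDifferential.d a from
    KaehlerDifferential.map_D _ _ _ _ a, OmAff.toSect_d, ← OmegaUniv.dOmega_app (f := q) U a, ← heX]
  rfl

variable {Y : Scheme.{u}} (i : Y ⟶ X) [IsClosedImmersion i]

omit [X.Over (Spec (CommRingCat.of k))] [QuasiSeparated (X ↘ Spec (CommRingCat.of k))] in
/-- A pulled back section vanishes exactly when it lies in the ideal times the module. -/
theorem pullSect_eq_zero_iff (F : X.Modules) [F.IsQuasicoherent] {U : X.Opens} (hU : IsAffineOpen U)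
    (x : Γ(F, U)) : OmegaSh.pullSect i F U x = 0 ↔
      x ∈ i.ker.ideal ⟨U, hU⟩ • (⊤ : Submodule Γ(X, U) Γ(F, U)) := by
  refine ⟨fun h => QCPull72.pullUnit_app_eq_zero i F (U := ⟨U, hU⟩) h, fun h => ?_⟩
  refine Submodule.smul_induction_on h (fun a ha y _ => ?_) fun a b ha hb => ?_
  · rw [OmegaSh.pullSect_smul, show i.app U a = 0 from i.ideal_ker_le ⟨U, hU⟩ ha, zero_smul]
  · rw [map_add, ha, hb, add_zero]

omit [X.Over (Spec (CommRingCat.of k))] [QuasiSeparated (X ↘ Spec (CommRingCat.of k))] in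
theorem ker_ideal {U : X.Opens} (hU : IsAffineOpen U) :
    i.ker.ideal ⟨U, hU⟩ = RingHom.ker (i.app U).hom := Scheme.Hom.ker_apply i ⟨U, hU⟩

/-- The conormal sequence on an affine chart: the pulled back differentials are the base change, and
the map from the conormal sheaf is injective there iff the algebraic one is. -/
theorem exists_chart (hX : OmegaSh.IsUniversal dX)
    (φ : Omega.conormal i ⟶ (Scheme.Modules.pullback i).obj ΩX) (hφ : OmegaSh.IsConormalDiff i dX φ)
    {U : X.Opens} (hU : IsAffineOpen U) :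
    letI := (BertiniScheme.const (k := k) X U).toAlgebra
    letI := (i.app U).hom.toAlgebra
    ∃ Θ : Γ(Y, i ⁻¹ᵁ U) ⊗[Γ(X, U)] Ω[Γ(X, U)⁄k] ≃ₗ[Γ(Y, i ⁻¹ᵁ U)] Γ((Scheme.Modules.pullback i).obj ΩX, i ⁻¹ᵁ U),
      ((∀ z, φ.app (i ⁻¹ᵁ U) z = 0 → z = 0) ↔
        Function.Injective (KaehlerDifferential.kerCotangentToTensor k Γ(X, U) Γ(Y, i ⁻¹ᵁ U))) ∧
      ∀ x, x ∈ Set.range (φ.app (i ⁻¹ᵁ U)) ↔
        Θ.symm x ∈ Set.range (KaehlerDifferential.kerCotangentToTensor k Γ(X, U) Γ(Y, i ⁻¹ᵁ U)) := by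
  let A := Γ(X, U)
  let B := Γ(Y, i ⁻¹ᵁ U)
  letI : Algebra k A := (BertiniScheme.const (k := k) X U).toAlgebra
  letI : Algebra A B := (i.app U).hom.toAlgebra
  obtain ⟨eX0, heX0⟩ := OmegaUniv.exists_iso (X ↘ Spec (CommRingCat.of k)) dX hX
  have : (Omega.sheaf (X ↘ Spec (CommRingCat.of k))).IsQuasicoherent := Omega57.isQuasicoherent_omega _
  have : ΩX.IsQuasicoherent := QC70.isQuasicoherent_of_iso eX0 inferInstance
  have : (ClSub.idealMod i.ker).IsQuasicoherent := Omega57.isQuasicoherent_idealMod _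
  obtain ⟨e, he⟩ := omega_equiv dX hX hU
  let T := Γ((Scheme.Modules.pullback i).obj ΩX, i ⁻¹ᵁ U)
  letI : Module A T := Module.compHom T (i.app U).hom
  have : IsScalarTower A B T := IsScalarTower.of_algebraMap_smul fun _ _ => rfl
  have hsurj : Function.Surjective (algebraMap A B) := i.app_surjective U hU
  let g : Ω[A⁄k] →ₗ[A] T :=
    { toFun := fun w => OmegaSh.pullSect i ΩX U (e w)
      map_add' := fun a b => by rw [map_add, map_add]
      map_smul' := fun a w => by rw [map_smul, OmegaSh.pullSect_smul]; rfl }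
  let Θ₀ : B ⊗[A] Ω[A⁄k] →ₗ[B] T := g.liftBaseChange B
  have hΘ₀ : ∀ w, Θ₀ (1 ⊗ₜ[A] w) = OmegaSh.pullSect i ΩX U (e w) := fun w => by
    show g.liftBaseChange B (1 ⊗ₜ[A] w) = _
    rw [LinearMap.liftBaseChange_tmul, one_smul]
    rfl
  have hrep : ∀ z : B ⊗[A] Ω[A⁄k], ∃ w, z = 1 ⊗ₜ[A] w := fun z => by
    induction z using TensorProduct.induction_on with
    | zero => exact ⟨0, (TensorProduct.tmul_zero _ _).symm⟩
    | add a b ha hb =>
      obtain ⟨v, rfl⟩ := ha
      obtain ⟨w, rfl⟩ := hb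
      exact ⟨v + w, (TensorProduct.tmul_add _ _ _).symm⟩
    | tmul b w =>
      obtain ⟨a, rfl⟩ := hsurj b
      exact ⟨a • w, by rw [TensorProduct.tmul_smul, TensorProduct.smul_tmul', Algebra.smul_def, mul_one]⟩
  have hΘ : Function.Bijective Θ₀ := by
    refine ⟨?_, fun z => ?_⟩
    · rw [injective_iff_map_eq_zero]
      intro z hz
      obtain ⟨w, rfl⟩ := hrep z
      rw [hΘ₀, pullSect_eq_zero_iff i ΩX hU, ker_ideal i hU] at hz
      have h2 := Submodule.mem_map_of_mem (f := e.symm.toLinearMap) hz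
      rw [Submodule.map_smul'', Submodule.map_top, LinearEquiv.range] at h2
      rw [show e.symm.toLinearMap (e w) = w from e.symm_apply_apply w] at h2
      refine Submodule.smul_induction_on h2 (fun a ha v _ => ?_) fun a b ha hb => ?_
      · rw [TensorProduct.tmul_smul, TensorProduct.smul_tmul', Algebra.smul_def,
          show algebraMap A B a = 0 from ha, zero_mul, TensorProduct.zero_tmul]
      · rw [TensorProduct.tmul_add, ha, hb, add_zero]
    · obtain ⟨x, hx⟩ := QCPull72.pullUnit_app_surjective i ΩX hU z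
      exact ⟨1 ⊗ₜ e.symm x, by rw [hΘ₀, e.apply_symm_apply]; exact hx⟩
  let Θ := LinearEquiv.ofBijective Θ₀ hΘ
  have hI : ∀ s : Γ(ClSub.idealMod i.ker, U), OmegaSh.idealSect i.ker U s ∈ RingHom.ker (algebraMap A B) := by
    intro s
    show OmegaSh.idealSect i.ker U s ∈ RingHom.ker (i.app U).hom
    rw [← ker_ideal i hU, ← Scheme.IdealSheafData.ker_subschemeι_app i.ker ⟨U, hU⟩]
    exact Omega57.subschemeι_idealSect _ _ s
  have hex : ∀ a : RingHom.ker (algebraMap A B), ∃ s, OmegaSh.idealSect i.ker U s = a := by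
    intro a
    refine Omega57.exists_idealSect_eq i.ker U a ?_
    have : (a : A) ∈ i.ker.ideal ⟨U, hU⟩ := by rw [ker_ideal i hU]; exact a.2
    rw [← Scheme.IdealSheafData.ker_subschemeι_app i.ker ⟨U, hU⟩] at this
    exact this
  have key : ∀ s, φ.app (i ⁻¹ᵁ U) (OmegaSh.conormalSect i U s) =
      Θ (KaehlerDifferential.kerCotangentToTensor k A B ((RingHom.ker (algebraMap A B)).toCotangent ⟨_, hI s⟩)) := by
    intro s
    rw [hφ U s, KaehlerDifferential.kerCotangentToTensor_toCotangent]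
    show _ = Θ₀ _
    rw [hΘ₀, he]
  have hzero : ∀ s, OmegaSh.conormalSect i U s = 0 ↔
      (RingHom.ker (algebraMap A B)).toCotangent ⟨_, hI s⟩ = 0 := by
    intro s
    rw [Ideal.toCotangent_eq_zero]
    show OmegaSh.pullSect i (ClSub.idealMod i.ker) U s = 0 ↔ _
    rw [pullSect_eq_zero_iff i (ClSub.idealMod i.ker) hU, ker_ideal i hU]
    constructor
    · intro h
      rw [pow_two]
      refine Submodule.smul_induction_on (p := fun t => OmegaSh.idealSect i.ker U t ∈ RingHom.ker (algebraMap A B) * RingHom.ker (algebraMap A B)) h (fun a ha v _ => ?_) fun a b ha hb => ?_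
      · rw [Omega57.idealSect_smul]
        exact Ideal.mul_mem_mul ha (hI v)
      · rw [map_add]
        exact add_mem ha hb
    · intro h
      rw [pow_two] at h
      have key2 : ∀ z ∈ RingHom.ker (algebraMap A B) * RingHom.ker (algebraMap A B),
          ∃ t, OmegaSh.idealSect i.ker U t = z ∧ t ∈ RingHom.ker (i.app U).hom • (⊤ : Submodule A Γ(ClSub.idealMod i.ker, U)) := by
        intro z hz
        refine Submodule.mul_induction_on hz (fun a ha b hb => ?_) fun a b ha hb => ?_
        · obtain ⟨t, ht⟩ := hex ⟨b, hb⟩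
          exact ⟨a • t, by rw [Omega57.idealSect_smul, ht], Submodule.smul_mem_smul ha trivial⟩
        · obtain ⟨t, rfl, ht⟩ := ha
          obtain ⟨t', rfl, ht'⟩ := hb
          exact ⟨t + t', map_add _ _ _, add_mem ht ht'⟩
      obtain ⟨t, ht, htm⟩ := key2 _ h
      rwa [Omega57.idealSect_injective _ _ ht] at htm
  have hcs : Function.Surjective (OmegaSh.conormalSect i U) :=
    QCPull72.pullUnit_app_surjective i (ClSub.idealMod i.ker) hU
  refine ⟨Θ, ⟨fun h => ?_, fun h z hz => ?_⟩, fun x => ⟨?_, ?_⟩⟩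
  · rw [injective_iff_map_eq_zero]
    intro c hc
    obtain ⟨a, rfl⟩ := Ideal.toCotangent_surjective _ c
    obtain ⟨s, hs⟩ := hex a
    have ha : a = ⟨_, hI s⟩ := Subtype.ext hs.symm
    subst ha
    exact (hzero s).1 (h _ (by rw [key s, hc, map_zero]))
  · obtain ⟨s, rfl⟩ := hcs z
    rw [key s, map_eq_zero_iff _ Θ.injective, map_eq_zero_iff _ h] at hz
    exact (hzero s).2 hz
  · rintro ⟨z, rfl⟩
    obtain ⟨s, rfl⟩ := hcs z
    exact ⟨_, (LinearEquiv.eq_symm_apply Θ).2 (key s).symm⟩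
  · rintro ⟨c, hc⟩
    obtain ⟨a, rfl⟩ := Ideal.toCotangent_surjective _ c
    obtain ⟨s, hs⟩ := hex a
    have ha : a = ⟨_, hI s⟩ := Subtype.ext hs.symm
    subst ha
    exact ⟨OmegaSh.conormalSect i U s, by rw [key s, hc, LinearEquiv.apply_symm_apply]⟩

end Groth.Agent.Var76.ConormalChart
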