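import Groth.Agent.Var76.SectionSemigroup
import Groth.Agent.Var76.VarDim
import Groth.Agent.Amp73.Ext
import Groth.Agent.Amp73.Ample
import Groth.Agent.Crv77.Special

/-! The sections of the powers of an ample module grow at least like the dimension. -/

set_option autoImplicit false
universe u

open CategoryTheory CategoryTheory.Limits AlgebraicGeometry TopologicalSpace Opposite MonoidalCategory

noncomputable section

namespace Groth.Agent.Var76.Growth

open Var76.LineBundle Var76.ZeroScheme Amp73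

variable {X : Scheme.{u}}

theorem shfU_counit' {C : Type u} [SmallCategory C] {J : GrothendieckTopology C} {O : Sheaf J CommRingCat.{u}}
    (M : ModSite.Mod O) {P : Mod48.PreM O} (f : P ⟶ Mod48.pre M) :
    Mod48.shfU P ≫ Mod48.fgt.map (Mod48.shf.map f ≫ Mod48.shfAdj.counit.app M) = f := by
  rw [Functor.map_comp, ← Category.assoc, ← Mod48.shfU_naturality, Category.assoc]
  exact (congrArg (_ ≫ ·) (Mod48.shfAdj.right_triangle_components M)).trans (Category.comp_id _)

theorem unitLeft_tm (M : X.Modules) {U : X.Opens} (c : Γ(X, U)) (m : Γ(M, U)) :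
    (EGA73.tensUnitLeft M).hom.app U (Amp73.tm (Coh.structureModule X) M c m) = c • m := by
  have h : Mod48.shfU (O := X.sheaf) (CohB1.tensorPre (Coh.structureModule X) M) ≫
      (Mod48.fgt (O := X.sheaf)).map (EGA73.tensUnitLeft M).hom =
      (λ_ (Mod48.pre (O := X.sheaf) M)).hom :=
    shfU_counit' (O := X.sheaf) M (λ_ (Mod48.pre (O := X.sheaf) M)).hom
  exact ConcreteCategory.congr_hom (congrArg (fun φ => φ.app (op U)) h) (Mero90.tq c m)

/-- `x` times the `j`th power of the frame `f` extends to a global section. -/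
def Ext' (B : X.Modules) {U : X.Opens} (f : Γ(B, U)) (j : ℕ) (x : Γ(X, U)) : Prop :=
  ∃ t : Γ(CohB1.tensorPow B j, ⊤), res _ (le_top : U ≤ ⊤) t = x • epow f j

theorem ext'_zero (B : X.Modules) {U : X.Opens} (f : Γ(B, U)) : Ext' B f 0 (1 : Γ(X, U)) :=
  ⟨((1 : Γ(X, ⊤)) : Γ(Coh.structureModule X, ⊤)),
    (map_one (X.presheaf.map (homOfLE (le_top : U ≤ ⊤)).op).hom).trans (one_smul _ _).symm⟩

theorem ext'_succ {B : X.Modules} {U : X.Opens} {f : Γ(B, U)} {j : ℕ} {x y : Γ(X, U)} (h : Ext' B f j x)
    {t' : Γ(B, ⊤)} (ht' : res B (le_top : U ≤ ⊤) t' = y • f) : Ext' B f (j + 1) (x * y) := by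
  obtain ⟨t, ht⟩ := h
  refine ⟨tm (CohB1.tensorPow B j) B t t', ?_⟩
  refine (res_tm (le_top : U ≤ ⊤) t t').trans ?_
  refine (congrArg₂ (tm (CohB1.tensorPow B j) B) ht ht').trans ?_
  exact tm_smul _ _ _ _

/-- Monomials extend. -/
theorem ext'_monomial {B : X.Modules} {U : X.Opens} {f : Γ(B, U)} {d : ℕ} (x : Fin d → Γ(X, U))
    (hx : ∀ i, ∃ t : Γ(B, ⊤), res B (le_top : U ≤ ⊤) t = x i • f)
    (h1 : ∃ t : Γ(B, ⊤), res B (le_top : U ≤ ⊤) t = (1 : Γ(X, U)) • f) :
    ∀ (j : ℕ) (a : Fin d → ℕ), ∑ i, a i ≤ j → Ext' B f j (∏ i, x i ^ a i)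
  | 0, a, ha => by
    have : ∀ i, a i = 0 := fun i => by
      have := Finset.single_le_sum (f := a) (fun i _ => Nat.zero_le _) (Finset.mem_univ i)
      omega
    simpa [this] using ext'_zero B f
  | j + 1, a, ha => by
    rcases Nat.lt_or_ge j (∑ i, a i) with h | h
    · obtain ⟨i, hi⟩ : ∃ i, 0 < a i := by
        by_contra hne
        push Not at hne
        have : ∑ i, a i = 0 := Finset.sum_eq_zero fun i _ => Nat.le_zero.1 (hne i)
        omega
      classical
      let b : Fin d → ℕ := Function.update a i (a i - 1)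
      have hb : ∑ l, b l + 1 = ∑ l, a l := by
        rw [Finset.sum_update_of_mem (Finset.mem_univ i), ← Finset.add_sum_erase _ _ (Finset.mem_univ i),
          Finset.sdiff_singleton_eq_erase]
        omega
      have hp : ∏ l, x l ^ a l = (∏ l, x l ^ b l) * x i := by
        rw [← Finset.mul_prod_erase _ _ (Finset.mem_univ i), ← Finset.mul_prod_erase _ _ (Finset.mem_univ i)]
        have : ∏ l ∈ Finset.univ.erase i, x l ^ b l = ∏ l ∈ Finset.univ.erase i, x l ^ a l :=
          Finset.prod_congr rfl fun l hl => by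
            show x l ^ Function.update a i (a i - 1) l = _
            rw [Function.update_of_ne (Finset.ne_of_mem_erase hl)]
        rw [this, show b i = a i - 1 from Function.update_self _ _ _, mul_right_comm, ← pow_succ,
          Nat.sub_add_cancel hi]
      rw [hp]
      obtain ⟨t, ht⟩ := hx i
      exact ext'_succ (ext'_monomial x hx h1 j b (by omega)) ht
    · obtain ⟨t, ht⟩ := h1
      simpa using ext'_succ (ext'_monomial x hx ⟨t, ht⟩ j a h) ht

variable (k : Type u) [Field k] [X.Over (Spec (CommRingCat.of k))]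
  [IsProper (X ↘ (Spec (CommRingCat.of k)))] [IsIntegral X]

/-- Algebraically independent functions whose multiples by a frame extend bound the sections from below. -/
theorem card_le_hp {B : X.Modules} (hB : PicF.IsInvertible B) {U : X.Opens} {f : Γ(B, U)} (hf : IsFrame B U f)
    {d : ℕ} (x : Fin d → Γ(X, U))
    (hind : letI := (BertiniScheme.const (k := k) X U).toAlgebra; AlgebraicIndependent k x)
    (hx : ∀ i, ∃ t : Γ(B, ⊤), res B (le_top : U ≤ ⊤) t = x i • f)
    (h1 : ∃ t : Γ(B, ⊤), res B (le_top : U ≤ ⊤) t = (1 : Γ(X, U)) • f) (q : ℕ) :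
    (q + 1) ^ d ≤ hp k B ((d + 1) * q) := by
  classical
  let : Algebra k Γ(X, U) := (BertiniScheme.const (k := k) X U).toAlgebra
  let ι := Fin d → Fin (q + 1)
  have hsum : ∀ a : ι, ∑ i, (a i : ℕ) ≤ (d + 1) * q := fun a => by
    refine (Finset.sum_le_card_nsmul _ _ q fun i _ => Nat.lt_succ_iff.1 (a i).2).trans ?_
    simp only [Finset.card_univ, Fintype.card_fin, smul_eq_mul]
    exact Nat.mul_le_mul_right q (Nat.le_succ d)
  choose t ht using fun a : ι => ext'_monomial x hx h1 ((d + 1) * q) (fun i => (a i : ℕ)) (hsum a)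
  let v : ι → Coh.HH X (CohB1.tensorPow B ((d + 1) * q)) 0 := fun a => (Crv77.sec _).symm (t a)
  have hmono : LinearIndependent k fun a : ι => ∏ i, x i ^ (a i : ℕ) := by
    let e : ι → (Fin d →₀ ℕ) := fun a => Finsupp.equivFunOnFinite.symm fun i => (a i : ℕ)
    have he : Function.Injective e := fun a b h => funext fun i => Fin.ext
      (congrFun (Finsupp.equivFunOnFinite.symm.injective h) i)
    have h2 := (((MvPolynomial.basisMonomials (Fin d) k).linearIndependent).map'
      (MvPolynomial.aeval x).toLinearMap (LinearMap.ker_eq_bot.2 hind)).comp e he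
    have e2 : (fun a : ι => ∏ i, x i ^ (a i : ℕ)) =
        ((MvPolynomial.aeval x).toLinearMap ∘ MvPolynomial.basisMonomials (Fin d) k) ∘ e := funext fun a => by
      simp [e, MvPolynomial.aeval_monomial, Finsupp.prod_fintype]
    rw [e2]
    exact h2
  have hv : LinearIndependent k v := by
    rw [Fintype.linearIndependent_iff]
    intro c hc
    refine Fintype.linearIndependent_iff.1 hmono c ?_
    refine (isFrame_epow hf ((d + 1) * q) U le_rfl).1 ?_
    dsimp only
    rw [res_self, zero_smul, Finset.sum_smul]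
    have h0 := congrArg (fun z => res _ (le_top : U ≤ ⊤) (Crv77.sec _ z)) hc
    simp only [map_sum, map_zero] at h0
    refine Eq.trans (Finset.sum_congr rfl fun a _ => ?_) h0
    rw [Crv77.sec_smul]
    refine Eq.trans ?_ (Scheme.Modules.map_smul _ (homOfLE (le_top : U ≤ ⊤)) _ _).symm
    have e1 : Crv77.sec _ (v a) = t a := (Crv77.sec _).apply_symm_apply _
    rw [e1]
    refine Eq.trans ?_ (congrArg (_ • ·) (ht a).symm)
    rw [smul_smul]
    refine congrArg (· • epow f _) ?_
    rw [Algebra.smul_def]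
    refine congrArg (· * _) ?_
    show BertiniScheme.const (k := k) X U (c a) =
      X.presheaf.map (homOfLE (le_top : U ≤ ⊤)).op (Coh.toGlobal (X ↘ Spec (CommRingCat.of k)) (c a))
    have h3 : Coh.toGlobal (X ↘ Spec (CommRingCat.of k)) (c a) =
        (Scheme.Hom.appLE (X ↘ Spec (CommRingCat.of k)) ⊤ ⊤ le_top)
          ((Scheme.ΓSpecIso (CommRingCat.of k)).inv (c a)) := by
      simp only [Scheme.Hom.appLE, homOfLE_refl]
      show (X ↘ Spec (CommRingCat.of k)).appTop _ = _
      simp
    rw [h3]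
    show Scheme.Hom.appLE (X ↘ Spec (CommRingCat.of k)) ⊤ U _ _ = _
    rw [← ConcreteCategory.comp_apply (Scheme.Hom.appLE (X ↘ Spec (CommRingCat.of k)) ⊤ ⊤ _), Scheme.Hom.appLE_map]
    rfl
  have := finite_hh0 k (EGA73.isInvertible_tensorPow hB ((d + 1) * q))
  have := hv.fintype_card_le_finrank
  simpa [ι, hp] using this

/-- The sections of the powers of an ample module grow at least like the dimension. -/
theorem exists_ample_lower {A : X.Modules} (hA : CohB1.IsAmple A) {d : ℕ}
    (hd : topologicalKrullDim X = (d : WithBot ℕ∞)) :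
    ∃ e : ℕ, 0 < e ∧ ∀ q : ℕ, (q + 1) ^ d ≤ hp k A (e * q) := by
  have := Crv77.isNoetherian_of_proper k X
  obtain ⟨hA1, -, hA3⟩ := hA
  obtain ⟨n, s, hs, hU⟩ := hA3 (genericPoint X)
  let B0 := CohB1.tensorPow A (n + 1)
  have hB0 : PicF.IsInvertible B0 := EGA73.isInvertible_tensorPow hA1 _
  let U := CohB1.genLocus B0 s
  have : Nonempty U := ⟨⟨genericPoint X, hs⟩⟩
  let : Algebra k Γ(X, U) := (BertiniScheme.const (k := k) X U).toAlgebra
  have hinj : Function.Injective (algebraMap k Γ(X, U)) := (algebraMap k Γ(X, U)).injective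
  have : FaithfulSMul k Γ(X, U) := (faithfulSMul_iff_algebraMap_injective _ _).2 hinj
  obtain ⟨S, hS⟩ := exists_isTranscendenceBasis k Γ(X, U)
  have htr : Algebra.trdeg k Γ(X, U) = (VarDim.trdegFF k X : Cardinal.{u}) :=
    (VarDim.trdeg_chart (k := k) hU).1
  have hdeq : VarDim.trdegFF k X = d := by
    have h := (VarDim.dim_eq (k := k) (X := X)).symm.trans hd
    exact_mod_cast h
  have hcard : Cardinal.mk S = (d : Cardinal.{u}) := by
    rw [hS.cardinalMk_eq_trdeg, htr, hdeq]
  obtain ⟨eS⟩ : Nonempty (Fin d ≃ S) := by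
    rw [← Cardinal.lift_mk_eq'.{0, u}]
    simp [hcard]
  let x : Fin d → Γ(X, U) := fun i => (eS i : Γ(X, U))
  have hind : AlgebraicIndependent k x := hS.1.comp eS eS.injective
  let y : Option (Fin d) → Γ(X, U) := fun o => o.elim 1 x
  have hO : Coh.IsQCoh (Coh.structureModule X) := Mero90.isQCoh_of_isInvertible EGA73.isInvertible_structureModule
  choose N hN using fun o => exists_tw_extend hB0 s hO (y o : Γ(Coh.structureModule X, U))
  let M := Finset.univ.sup N + 1
  let B := CohB1.tensorPow B0 M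
  have hB : PicF.IsInvertible B := EGA73.isInvertible_tensorPow hB0 _
  let f : Γ(B, U) := epow (val B0 s U) M
  have hf : IsFrame B U f := isFrame_epow (isFrame_genLocus s) M
  have hy : ∀ o, ∃ t : Γ(B, ⊤), res B (le_top : U ≤ ⊤) t = y o • f := fun o => by
    obtain ⟨t', ht'⟩ := hN o M ((Finset.le_sup (Finset.mem_univ o)).trans (Nat.le_succ _))
    refine ⟨(EGA73.tensUnitLeft B).hom.app ⊤ t', ?_⟩
    refine (QC70.app_res (EGA73.tensUnitLeft B).hom (le_top : U ≤ ⊤) t').symm.trans ?_
    refine (congrArg ((EGA73.tensUnitLeft B).hom.app U) ht').trans ?_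
    exact unitLeft_tm B _ _
  refine ⟨(n + 1) * M * (d + 1), Nat.mul_pos (Nat.mul_pos (Nat.succ_pos _) (Nat.succ_pos _)) (Nat.succ_pos _),
    fun q => (card_le_hp k hB hf x hind (fun i => hy (some i)) (hy none) q).trans_eq ?_⟩
  rw [hp_pow, hp_pow]
  exact congrArg (hp k A) (by ring)

end Groth.Agent.Var76.Growth

end
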