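import Groth.Agent.Var76.Kodaira
import Groth.Agent.Var76.AmpleLower

/-! Bigness: full growth is the same as containing an ample module after taking a power. -/

set_option autoImplicit false
universe u

open CategoryTheory CategoryTheory.Limits AlgebraicGeometry TopologicalSpace Opposite
open scoped ENNReal

noncomputable section

namespace Groth.Agent.Var76.Growth

variable {X : Scheme.{u}}

theorem hasSec_of_iso {M N : X.Modules} (e : M ≅ N) (h : H98Pos.HasSec M) : H98Pos.HasSec N :=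
  H98Pos.HasSec.of_mono (f := e.hom) h

variable (k : Type u) [Field k] [X.Over (Spec (CommRingCat.of k))]

theorem hasSec_of_nontrivial {M : X.Modules} (h : Nontrivial (Coh.HH X M 0)) : H98Pos.HasSec M := by
  obtain ⟨v, hv⟩ := exists_ne (0 : Coh.HH X M 0)
  refine ⟨Crv77.toHom v, fun h0 => hv ((Crv77.sec M).injective ?_)⟩
  rw [map_zero, ← Crv77.toHom_app_one v, h0]
  rfl

variable [IsProper (X ↘ (Spec (CommRingCat.of k)))] [IsIntegral X]

omit k [Field k] [X.Over (Spec (CommRingCat.of k))] [IsProper (X ↘ (Spec (CommRingCat.of k)))] in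
theorem exists_hasSec_twist {A M : X.Modules} (hA : CohB1.IsAmple A) (hM : PicF.IsInvertible M) :
    ∃ n₀ : ℕ, ∀ n, n₀ ≤ n → H98Pos.HasSec (CohB1.tensorMod M (CohB1.tensorPow A n)) := by
  obtain ⟨n₀, h⟩ := H98Pos.exists_covering_twist hA hM
  refine ⟨n₀, fun n hn => ?_⟩
  obtain ⟨s, hs⟩ := h n hn (genericPoint X)
  exact ⟨s, H98Pos.ne_zero_of_mem_genLocus hs⟩

omit k [Field k] [X.Over (Spec (CommRingCat.of k))] [IsProper (X ↘ (Spec (CommRingCat.of k)))] in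
theorem exists_hasSec_pow {A : X.Modules} (hA : CohB1.IsAmple A) :
    ∃ n₀ : ℕ, ∀ n, n₀ ≤ n → H98Pos.HasSec (CohB1.tensorPow A n) := by
  obtain ⟨n₀, h⟩ := exists_hasSec_twist hA (EGA73.isInvertible_structureModule (X := X))
  exact ⟨n₀, fun n hn => hasSec_of_iso (EGA73.tensUnitLeft _) (h n hn)⟩

omit k [Field k] [X.Over (Spec (CommRingCat.of k))] [IsProper (X ↘ (Spec (CommRingCat.of k)))] [IsIntegral X] in
theorem nonempty_pow_structure : ∀ n : ℕ,
    Nonempty (CohB1.tensorPow (Coh.structureModule X) n ≅ Coh.structureModule X)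
  | 0 => ⟨Iso.refl _⟩
  | n + 1 => by
    obtain ⟨e⟩ := nonempty_pow_structure n
    exact ⟨EGA73.tensIso e (Iso.refl _) ≪≫ EGA73.tensUnitLeft _⟩

include k in
theorem kodaira_ample {L : X.Modules} (hL : PicF.IsInvertible L) {d : ℕ}
    (hd : topologicalKrullDim X ≤ (d : WithBot ℕ∞)) (hb : BigFreq (hp k L) d) {A A' : X.Modules}
    (hA : CohB1.IsAmple A) (hA' : ClSub.IsInverseOf A' A) :
    ∃ m : ℕ, 0 < m ∧ Nontrivial (Coh.HH X (CohB1.tensorMod A' (CohB1.tensorPow L m)) 0) := by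
  obtain ⟨ε₀⟩ := hA'
  have hA'i : PicF.IsInvertible A' := by
    obtain ⟨I, hI, ⟨ε⟩⟩ := An92.InvMod.exists_inverse hA.1
    exact EGA73.isInvertible_of_iso
      ((EGA73.tensUnitLeft I).symm ≪≫ EGA73.tensIso ε₀.symm (Iso.refl I) ≪≫ EGA73.tensAssoc' A' A I ≪≫
        EGA73.tensIso (Iso.refl A') (EGA73.tensComm A I ≪≫ ε) ≪≫ EGA73.tensUnitRight A') hI
  obtain ⟨n, hn⟩ := exists_hasSec_pow hA
  let ε : CohB1.tensorMod A A' ≅ Coh.structureModule X := EGA73.tensComm A A' ≪≫ ε₀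
  obtain ⟨eO⟩ := nonempty_pow_structure (X := X) n
  obtain ⟨eO'⟩ := nonempty_pow_structure (X := X) (n + 1)
  let εn : CohB1.tensorMod (CohB1.tensorPow A n) (CohB1.tensorPow A' n) ≅ Coh.structureModule X :=
    (Amp73.powTens A A' n).symm ≪≫ Amp73.powIso ε n ≪≫ eO
  let εn' : CohB1.tensorMod (CohB1.tensorPow A (n + 1)) (CohB1.tensorPow A' (n + 1)) ≅ Coh.structureModule X :=
    (Amp73.powTens A A' (n + 1)).symm ≪≫ Amp73.powIso ε (n + 1) ≪≫ eO'
  have hn1 := EGA73.isInvertible_tensorPow hA.1 n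
  obtain ⟨m, hm, hm'⟩ := kodaira k hL hd hb (EGA73.isInvertible_tensorPow hA.1 (n + 1))
    (EGA73.isInvertible_tensorPow hA'i (n + 1)) εn' (hn (n + 1) (Nat.le_succ n))
  refine ⟨m, hm, H98Pos.nontrivial_HH_zero ?_⟩
  have hLm := EGA73.isInvertible_tensorPow hL m
  have h1 := (hn n le_rfl).tensor hn1
    (EGA73.isInvertible_tensorMod (EGA73.isInvertible_tensorPow hA'i (n + 1)) hLm) (hasSec_of_nontrivial hm')
  refine hasSec_of_iso ?_ h1
  exact EGA73.tensIso (Iso.refl (CohB1.tensorPow A n)) (EGA73.tensAssoc' (CohB1.tensorPow A' n) A' _) ≪≫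
    (EGA73.tensAssoc' _ _ _).symm ≪≫ EGA73.tensIso εn (Iso.refl _) ≪≫ EGA73.tensUnitLeft _

omit [IsIntegral X] in
theorem hp_le_of_pow_iso [IsIntegral X] {L A E : X.Modules} (hA : PicF.IsInvertible A) (hE : PicF.IsInvertible E)
    (hs : H98Pos.HasSec E) {m : ℕ} (e : CohB1.tensorMod A E ≅ CohB1.tensorPow L m) (j : ℕ) :
    hp k A j ≤ hp k L (m * j) := by
  refine (hp_le_of_effective k hA hE (H98Pos.nontrivial_HH_zero hs) j).trans_eq ?_
  rw [hp_congr k e j, hp_pow]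

/-- A module some powers of which contain every ample one has full growth. -/
theorem big_of_forall {L A₀ : X.Modules} (hL : PicF.IsInvertible L) (hA₀ : CohB1.IsAmple A₀) {d : ℕ}
    (hd : topologicalKrullDim X = (d : WithBot ℕ∞))
    (h : ∀ (A A' : X.Modules), CohB1.IsAmple A → ClSub.IsInverseOf A' A →
        ∃ m : ℕ, 0 < m ∧ Nontrivial (Coh.HH X (CohB1.tensorMod A' (CohB1.tensorPow L m)) 0)) :
    ∃ c : ℝ, 0 < c ∧ ∀ᶠ n : ℕ in Filter.atTop, c * (n : ℝ) ^ d < (hp k L n : ℝ) := by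
  obtain ⟨e, he, hlow⟩ := exists_ample_lower k hA₀ hd
  obtain ⟨n₁, hn₁⟩ := exists_hasSec_pow hA₀
  obtain ⟨n₂, hn₂⟩ := exists_hasSec_twist hA₀ hL
  let r := n₁ + n₂
  let P := e + r
  have hP : 0 < P := by omega
  have hAP : CohB1.IsAmple (CohB1.tensorPow A₀ P) := (Amp73.isAmple_tensorPow_iff hA₀.1 hP).1 hA₀
  obtain ⟨I, hI, ⟨ε⟩⟩ := An92.InvMod.exists_inverse hAP.1
  obtain ⟨m, hm, hm'⟩ := h _ I hAP ⟨ε⟩
  let E := CohB1.tensorMod I (CohB1.tensorPow L m)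
  have hEi : PicF.IsInvertible E := EGA73.isInvertible_tensorMod hI (EGA73.isInvertible_tensorPow hL m)
  have hEs : H98Pos.HasSec E := hasSec_of_nontrivial hm'
  have hAe := EGA73.isInvertible_tensorPow hA₀.1 e
  have hAr := EGA73.isInvertible_tensorPow hA₀.1 r
  let e₁ : CohB1.tensorMod (CohB1.tensorPow A₀ e) (CohB1.tensorMod (CohB1.tensorPow A₀ r) E) ≅
      CohB1.tensorPow L m :=
    (EGA73.tensAssoc' _ _ _).symm ≪≫ EGA73.tensIso (Amp73.powAdd A₀ e r) (Iso.refl E) ≪≫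
      (EGA73.tensAssoc' _ _ _).symm ≪≫ EGA73.tensIso (EGA73.tensComm _ I ≪≫ ε) (Iso.refl _) ≪≫
      EGA73.tensUnitLeft _
  let e₂ : CohB1.tensorMod (CohB1.tensorPow A₀ e)
      (CohB1.tensorMod (CohB1.tensorMod L (CohB1.tensorPow A₀ r)) E) ≅ CohB1.tensorPow L (m + 1) :=
    EGA73.tensIso (Iso.refl _) (EGA73.tensAssoc' L _ E ≪≫ EGA73.tensComm L _) ≪≫
      (EGA73.tensAssoc' _ _ L).symm ≪≫ EGA73.tensIso e₁ (Iso.refl L)
  have hsE₁ : H98Pos.HasSec (CohB1.tensorMod (CohB1.tensorPow A₀ r) E) :=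
    (hn₁ r (Nat.le_add_right _ _)).tensor hAr hEi hEs
  have hsE₂ : H98Pos.HasSec (CohB1.tensorMod (CohB1.tensorMod L (CohB1.tensorPow A₀ r)) E) :=
    (hn₂ r (Nat.le_add_left _ _)).tensor (EGA73.isInvertible_tensorMod hL hAr) hEi hEs
  have k₁ : ∀ j, (j + 1) ^ d ≤ hp k L (m * j) := fun j => by
    refine le_trans ?_ (hp_le_of_pow_iso k hAe (EGA73.isInvertible_tensorMod hAr hEi) hsE₁ e₁ j)
    rw [hp_pow]
    exact hlow j
  have k₂ : ∀ j, (j + 1) ^ d ≤ hp k L ((m + 1) * j) := fun j => by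
    refine le_trans ?_ (hp_le_of_pow_iso k hAe
      (EGA73.isInvertible_tensorMod (EGA73.isInvertible_tensorMod hL hAr) hEi) hsE₂ e₂ j)
    rw [hp_pow]
    exact hlow j
  have H := secFun k hL
  have hm0 : hp k L m ≠ 0 := by
    have := k₁ 1
    rw [mul_one] at this
    exact (lt_of_lt_of_le (pow_pos (by norm_num) d) this).ne'
  have hm1 : hp k L (m + 1) ≠ 0 := by
    have := k₂ 1
    rw [mul_one] at this
    exact (lt_of_lt_of_le (pow_pos (by norm_num) d) this).ne'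
  have hlarge : ∀ t, m * m ≤ t → hp k L t ≠ 0 := fun t ht => by
    have hq : t % m ≤ t / m := le_trans (Nat.mod_lt t hm).le ((Nat.le_div_iff_mul_le hm).2 ht)
    obtain ⟨a, ha⟩ := Nat.exists_eq_add_of_le hq
    have e3 : t = a * m + (t % m) * (m + 1) := by
      conv_lhs => rw [← Nat.div_add_mod t m, ha]
      ring
    rw [e3]
    exact H.add (H.mul hm0 a) (H.mul hm1 _)
  refine ⟨(1 / 2) * (1 / (2 * m : ℝ)) ^ d, by positivity, ?_⟩
  refine Filter.eventually_atTop.2 ⟨2 * (m * m) + 1, fun t ht => ?_⟩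
  let j := t / (2 * m)
  have hj : 2 * m * j ≤ t := Nat.mul_div_le t (2 * m)
  have hjm : m * j ≤ t := by
    have : 2 * m * j = 2 * (m * j) := by ring
    omega
  have hrest : hp k L (t - m * j) ≠ 0 := hlarge _ (by
    have : 2 * m * j = 2 * (m * j) := by ring
    omega)
  have h1 : (j + 1) ^ d ≤ hp k L t := by
    refine (k₁ j).trans ((H.mono _ _ hrest).trans_eq ?_)
    rw [Nat.sub_add_cancel hjm]
  have h2 : (t : ℝ) ≤ (2 * m : ℝ) * ((j + 1 : ℕ) : ℝ) := by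
    have h3 : t < 2 * m * (j + 1) := Nat.lt_mul_div_succ t (by omega)
    exact_mod_cast h3.le
  have h4 : ((((j + 1) ^ d : ℕ)) : ℝ) ≤ hp k L t := by exact_mod_cast h1
  refine lt_of_lt_of_le ?_ h4
  rw [mul_assoc, ← mul_pow, Nat.cast_pow]
  have hmr : (0 : ℝ) < 2 * m := by positivity
  have h5 : 1 / (2 * m : ℝ) * t ≤ ((j + 1 : ℕ) : ℝ) := by
    rw [div_mul_eq_mul_div, one_mul, div_le_iff₀ hmr, mul_comm]
    exact h2
  have h6 : (1 / (2 * m : ℝ) * t) ^ d ≤ ((j + 1 : ℕ) : ℝ) ^ d := pow_le_pow_left₀ (by positivity) h5 d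
  have h7 : (0 : ℝ) < ((j + 1 : ℕ) : ℝ) ^ d := by positivity
  linarith

theorem big_of_bigFreq {L A₀ : X.Modules} (hL : PicF.IsInvertible L) (hA₀ : CohB1.IsAmple A₀) {d : ℕ}
    (hd : topologicalKrullDim X = (d : WithBot ℕ∞)) (hb : BigFreq (hp k L) d) :
    ∃ c : ℝ, 0 < c ∧ ∀ᶠ n : ℕ in Filter.atTop, c * (n : ℝ) ^ d < (hp k L n : ℝ) :=
  big_of_forall k hL hA₀ hd fun _ _ hA hA' => kodaira_ample k hL hd.le hb hA hA'

theorem lowerVol_pos {h : ℕ → ℕ} {d : ℕ}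
    (hb : ∃ c : ℝ, 0 < c ∧ ∀ᶠ n : ℕ in Filter.atTop, c * (n : ℝ) ^ d < (h n : ℝ)) :
    0 < Filter.liminf (fun m : ℕ => (h m : ℝ≥0∞) / (m : ℝ≥0∞) ^ d) Filter.atTop := by
  obtain ⟨c, hc, hev⟩ := hb
  refine (ENNReal.ofReal_pos.2 hc).trans_le (Filter.le_liminf_of_le (by isBoundedDefault) ?_)
  filter_upwards [hev, Filter.eventually_ge_atTop 1] with m hm hm1
  have h0 : (m : ℝ≥0∞) ^ d ≠ 0 := pow_ne_zero _ (Nat.cast_ne_zero.2 (by omega))
  rw [ENNReal.le_div_iff_mul_le (Or.inl h0) (Or.inl (ENNReal.pow_ne_top (ENNReal.natCast_ne_top m))),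
    ← ENNReal.ofReal_natCast m, ← ENNReal.ofReal_pow (Nat.cast_nonneg m), ← ENNReal.ofReal_mul hc.le,
    ← ENNReal.ofReal_natCast (h m)]
  exact ENNReal.ofReal_le_ofReal hm.le

end Groth.Agent.Var76.Growth

end
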