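import Groth.Agent.Var76.Mumford
import Groth.Agent.Var76.HHPush
import Groth.Agent.ValVan29.PushTwist
import Groth.Agent.Amp73.PullTensor
import Groth.Agent.QC70.PushClosed
import Groth.Agent.QC70.DevissageAux
import Groth.Prelude.Def_ShStab
import Mathlib.CategoryTheory.Limits.Preserves.Shapes.Kernels

/-! Mumford's bound on closed subschemes of projective space. -/

universe u

open CategoryTheory Limits AlgebraicGeometry TopologicalSpace Opposite

noncomputable section

set_option maxSynthPendingDepth 6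

namespace Groth.Agent.Var76.Reg

open Crv77

section Abelian

variable {C : Type*} [Category C] [Abelian C] {A B Q : C} (ψ : A ⟶ B) (q : B ⟶ Q)

/-- The kernels of a composite. -/
abbrev kerCompSC : ShortComplex C :=
  ShortComplex.mk (kernel.lift (ψ ≫ q) (kernel.ι ψ) (by rw [← Category.assoc, kernel.condition, zero_comp]))
    (kernel.lift q (kernel.ι (ψ ≫ q) ≫ ψ) (by rw [Category.assoc, kernel.condition])) (by ext; simp)

theorem kerCompSC_shortExact [Epi ψ] : (kerCompSC ψ q).ShortExact := by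
  have hm : Mono (kerCompSC ψ q).f := by
    have : Mono ((kerCompSC ψ q).f ≫ kernel.ι (ψ ≫ q)) := by
      rw [kernel.lift_ι]
      infer_instance
    exact mono_of_mono _ (kernel.ι (ψ ≫ q))
  have he : Epi (kerCompSC ψ q).g := by
    rw [epi_iff_surjective_up_to_refinements]
    intro A' y
    obtain ⟨A₁, p, hp, x, hx⟩ := surjective_up_to_refinements_of_epi ψ (y ≫ kernel.ι q)
    have h0 : x ≫ ψ ≫ q = 0 := by
      rw [← Category.assoc, ← hx, Category.assoc, Category.assoc, kernel.condition, comp_zero, comp_zero]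
    refine ⟨A₁, p, hp, kernel.lift _ x h0, ?_⟩
    ext
    simpa using hx
  refine { exact := ?_ }
  rw [ShortComplex.exact_iff_exact_up_to_refinements]
  intro A' x hx
  have h0 : (x ≫ kernel.ι (ψ ≫ q)) ≫ ψ = 0 := by
    have := congrArg (· ≫ kernel.ι q) hx
    simpa using this
  refine ⟨A', 𝟙 _, inferInstance, kernel.lift ψ _ h0, ?_⟩
  ext
  simp

end Abelian

variable {k : Type u} [Field k] {X : Scheme.{u}}

/-- The images of the basis of a free module. -/
def freeSec {N : ℕ} {F : X.Modules} (q : FlatMod.freeMod X N ⟶ F) (j : Fin N) : Γ(F, ⊤) :=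
  q.app ⊤ ((Sigma.ι (fun _ : Fin N => Coh.structureModule X) j).app ⊤ (1 : Γ(X, ⊤)))

theorem isCoh_free' (N : ℕ) [IsLocallyNoetherian X] : Coh.IsCoh (FlatMod.freeMod X N) := by
  have h := QC70.isCoh_biproduct (fun _ : Fin N => Coh.structureModule X) fun _ => QC70.isCoh_unit
  have := h.1; have := h.2
  exact ⟨QC70.isQuasicoherent_of_iso (biproduct.isoCoproduct _) h.1, QC70.isFiniteType_of_iso (biproduct.isoCoproduct _)⟩

variable {n : ℕ} (ι : X ⟶ CohB1.ProjSpace n k) [IsClosedImmersion ι]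

include ι in
theorem isLocallyNoetherian_of_closed : IsLocallyNoetherian X := LocallyOfFiniteType.isLocallyNoetherian ι

/-- The map from the free module upstairs. -/
def upFree (N : ℕ) : FlatMod.freeMod (CohB1.ProjSpace n k) N ⟶ (Coh.push ι).obj (FlatMod.freeMod X N) :=
  Sigma.desc fun j => EGA73.unitHom _
    (show Γ((Coh.push ι).obj (FlatMod.freeMod X N), ⊤) from
        freeSec (X := X) (F := FlatMod.freeMod X N) (𝟙 (FlatMod.freeMod X N)) j)

theorem epi_upFree (N : ℕ) : Epi (upFree ι N) := by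
  have := isLocallyNoetherian_of_closed ι
  refine Amp73.epi_desc_of_span (QC70.isCoh_pushforward ι _ (isCoh_free' N)).1 _ fun x => ?_
  obtain ⟨l, hl⟩ := exists_mem_xOpen n k x
  refine ⟨xOpen n k l, hl, isAffineOpen_xOpen n k l, eq_top_iff.2 fun z _ => ?_⟩
  obtain ⟨c, hc⟩ := exists_sum_free (𝟙 (FlatMod.freeMod X N)) (ι ⁻¹ᵁ xOpen n k l)
    (show Γ(FlatMod.freeMod X N, ι ⁻¹ᵁ xOpen n k l) from z)
  choose c' hc' using fun j => ι.app_surjective (xOpen n k l) (isAffineOpen_xOpen n k l) (c j)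
  have hz : z = ∑ j, c' j • LineBundle.res ((Coh.push ι).obj (FlatMod.freeMod X N)) (le_top : xOpen n k l ≤ ⊤)
      (show Γ((Coh.push ι).obj (FlatMod.freeMod X N), ⊤) from
        freeSec (X := X) (F := FlatMod.freeMod X N) (𝟙 (FlatMod.freeMod X N)) j) := by
    refine hc.trans (Finset.sum_congr rfl fun j _ => ?_)
    rw [← hc' j]
    exact (QCqs72.pushforward_smul _ _ _ _).symm.trans rfl
  rw [hz]
  exact Submodule.sum_mem _ fun j _ => Submodule.smul_mem _ _ (Submodule.subset_span ⟨j, rfl⟩)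

theorem epi_push_map {M F : X.Modules} (q : M ⟶ F) [Epi q] (hM : Coh.IsQCoh M) (hF : Coh.IsQCoh F) :
    Epi ((Coh.push ι).map q) := by
  refine QC70.epi_of_locally_surjective _ fun W s p hp => ?_
  obtain ⟨V, hpV, hVW⟩ := Div89.exists_affine_le hp
  have : M.IsQuasicoherent := hM
  have : F.IsQuasicoherent := hF
  have := QC70.isQuasicoherent_kernel q
  obtain ⟨t, ht⟩ := QC70.app_surjective_of_isAffineOpen _ (KData.kernel_shortExact q) (V.2.preimage ι)
    (show Γ(F, ι ⁻¹ᵁ V.1) from QC70.res ((Coh.push ι).obj F) hVW s)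
  exact ⟨V.1, hVW, t, hpV, ht⟩

variable [X.Over (Spec (CommRingCat.of k))]

omit [IsClosedImmersion ι] [X.Over (Spec (CommRingCat.of k))] in
theorem exists_twist_iso {L : X.Modules}
    (hL : Nonempty (L ≅ (Scheme.Modules.pullback ι).obj (Twist.twistProjSpace n k 1))) (l : ℕ) :
    Nonempty (CohB1.tensorPow L l ≅ (Scheme.Modules.pullback ι).obj (Twist.twistProjSpace n k (l : ℤ))) := by
  obtain ⟨e⟩ := hL
  obtain ⟨i⟩ := EGA73.nonempty_twist_iso_tensorPow (hgen n k) l
  have hpow : ∀ l : ℕ, Nonempty (CohB1.tensorPow L l ≅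
      CohB1.tensorPow ((Scheme.Modules.pullback ι).obj (Twist.twistProjSpace n k 1)) l) := fun l => by
    induction l with
    | zero => exact ⟨Iso.refl _⟩
    | succ l ih => exact ⟨EGA73.tensIso ih.some e⟩
  exact ⟨(hpow l).some ≪≫ (Amp73.pullPowIso ι (isInvertible_twist 1) l).symm ≪≫
    (Scheme.Modules.pullback ι).mapIso i.symm⟩

omit [IsClosedImmersion ι] [X.Over (Spec (CommRingCat.of k))] in
theorem exists_push_twist_iso {L : X.Modules}
    (hL : Nonempty (L ≅ (Scheme.Modules.pullback ι).obj (Twist.twistProjSpace n k 1))) (G : X.Modules) (l : ℕ) :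
    Nonempty (tw n k ((Coh.push ι).obj G) (l : ℤ) ≅ (Coh.push ι).obj (ShStab.twist X L G l)) := by
  obtain ⟨e⟩ := exists_twist_iso ι hL l
  exact ⟨ValVan29.projIso ι G _ (isInvertible_twist _) ≪≫
    (Coh.push ι).mapIso (EGA73.tensIso (Iso.refl G) e.symm)⟩

variable (hι : ι ≫ CohB1.ProjSpace.toSpec n k = X ↘ Spec (CommRingCat.of k)) {L : X.Modules}
  (hL : Nonempty (L ≅ (Scheme.Modules.pullback ι).obj (Twist.twistProjSpace n k 1)))

include hL in
omit [IsClosedImmersion ι] [X.Over (Spec (CommRingCat.of k))] in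
theorem isCoh_shTwist {G : X.Modules} (hG : Coh.IsCoh G) (l : ℕ) : Coh.IsCoh (ShStab.twist X L G l) := by
  obtain ⟨e⟩ := hL
  have h := Amp73.isInvertible_pullback ι (isInvertible_twist (n := n) (A := k) 1)
  obtain ⟨e'⟩ := exists_twist_iso ι ⟨e⟩ l
  have h2 := Amp73.isCoh_of_isInvertible (Amp73.isInvertible_pullback ι (isInvertible_twist (n := n) (A := k) (l : ℤ)))
  have := h2.1; have := h2.2
  exact Amp73.isCoh_tensorMod hG ⟨QC70.isQuasicoherent_of_iso e'.symm h2.1, QC70.isFiniteType_of_iso e'.symm⟩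

include hι hL in
theorem nonempty_hh_twist {G : X.Modules} (hG : Coh.IsCoh G) (l i : ℕ) :
    Nonempty (Coh.HH (CohB1.ProjSpace n k) (tw n k ((Coh.push ι).obj G) (l : ℤ)) i ≃ₗ[k]
      Coh.HH X (ShStab.twist X L G l) i) := by
  have := isLocallyNoetherian_of_closed ι
  obtain ⟨e⟩ := exists_push_twist_iso ι hL G l
  have hT := isCoh_shTwist ι hL hG l
  have := hT.1
  have : IsProper (CohB1.ProjSpace n k ↘ Spec (CommRingCat.of k)) := Serre71.isProper_projSpace n k
  obtain ⟨f⟩ := nonempty_hhLin_push (A := k) ι hι (ShStab.twist X L G l) (QC70.isCoh_pushforward ι _ hT).1 i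
  exact ⟨(hEquiv k e i).trans f⟩

include hι hL in
theorem chi_push {G : X.Modules} (hG : Coh.IsCoh G) (l : ℕ) :
    chi ((Coh.push ι).obj G) l = Curv2.euler k X (ShStab.twist X L G l) :=
  finsum_congr fun i => by rw [(nonempty_hh_twist ι hι hL hG l i).some.finrank_eq]

include hL in
theorem gg_of_spanned {G : X.Modules} (hG : Coh.IsCoh G) (l : ℕ)
    (h : Spanned (tw n k ((Coh.push ι).obj G) (l : ℤ))) : Curv2.IsGloballyGenerated (ShStab.twist X L G l) := by
  obtain ⟨e⟩ := exists_push_twist_iso ι hL G l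
  refine Amp73.isGloballyGenerated_of_spanAt (isCoh_shTwist ι hL hG l).1 fun x => ?_
  obtain ⟨U, hxU, hU, hsp⟩ := h (ι x)
  have hsp' := Amp73.spanAt_of_iso e.hom hsp
  refine ⟨ι ⁻¹ᵁ U, hxU, hU.preimage ι, eq_top_iff.2 fun z _ => ?_⟩
  let P := (Coh.push ι).obj (ShStab.twist X L G l)
  refine Submodule.span_induction (p := fun (y : Γ(P, U)) _ => (show Γ(ShStab.twist X L G l, ι ⁻¹ᵁ U) from y) ∈
    Submodule.span Γ(X, ι ⁻¹ᵁ U) _) ?_ (zero_mem _) (fun _ _ _ _ ha hb => add_mem ha hb) ?_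
    (hsp'.ge (Submodule.mem_top (x := (show Γ(P, U) from z))))
  · rintro _ ⟨t, rfl⟩
    exact Submodule.subset_span ⟨t, rfl⟩
  · intro a y _ hy
    rw [QCqs72.pushforward_smul]
    exact Submodule.smul_mem _ _ hy

include hι hL in
/-- Uniform vanishing and generation for quotients of `O ^ N` with given Hilbert polynomial. -/
theorem exists_uniform [Infinite k] (N : ℕ) (P : Polynomial ℚ) :
    ∃ l₀ : ℕ, ∀ (F : X.Modules) (q : FlatMod.freeMod X N ⟶ F), Coh.IsCoh F → Epi q →
      ShStab.IsHilbPoly k X L F P → ∀ l : ℕ, l₀ ≤ l →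
        (∀ i : ℕ, 0 < i → Subsingleton (Coh.HH X (ShStab.twist X L F l) i)) ∧
        (∀ i : ℕ, 0 < i → Subsingleton (Coh.HH X (ShStab.twist X L (kernel q) l) i)) ∧
        Curv2.IsGloballyGenerated (ShStab.twist X L (kernel q) l) := by
  have := isLocallyNoetherian_of_closed ι
  have hψ := epi_upFree ι N
  have hXN := isCoh_free' (X := X) N
  have hK₀ : Coh.IsCoh (kernel (upFree ι N)) :=
    QC70.isCoh_kernel _ (isCoh_free N) (QC70.isCoh_pushforward ι _ hXN).1
  obtain ⟨m₀, hm₀⟩ := exists_reg _ hK₀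
  let f : ℤ → ℤ := fun r => ((N * (r.toNat + n).choose n : ℕ) : ℤ) - ⌊P.eval (r : ℚ)⌋
  let M := mumBd n N (n + 1) f 0
  refine ⟨(max (max M m₀) 0).toNat, fun F q hF hq hP l hl => ?_⟩
  have hF' := QC70.isCoh_pushforward ι _ hF
  have hqe := epi_push_map ι q hXN.1 hF.1
  let φ : FlatMod.freeMod (CohB1.ProjSpace n k) N ⟶ (Coh.push ι).obj F := upFree ι N ≫ (Coh.push ι).map q
  have hφ : Epi φ := epi_comp _ _
  have hf : ∀ r : ℕ, 0 ≤ r → chi (kernel φ) r = f r := fun r _ => by
    have h1 := hP r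
    rw [chi_kernel N φ hF', chi_push ι hι hL hF]
    simp only [f, Int.toNat_natCast]
    rw [show ((r : ℤ) : ℚ) = (r : ℚ) by norm_cast, ← h1, Int.floor_intCast]
  have hreg : Reg n k (kernel φ) M := mumford N φ hF' f 0 hf
  have hKc := QC70.isCoh_kernel φ (isCoh_free N) hF'.1
  have hS := kerCompSC_shortExact (upFree ι N) ((Coh.push ι).map q)
  have hKq := QC70.isCoh_kernel q hXN hF.1
  have hreg' : Reg n k (kernel ((Coh.push ι).map q)) (max M m₀) := fun i hi => by
    refine sub_tw_X₃ hS ?_ ?_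
    · exact hreg.vanish hKc.1 hi (by omega)
    · exact hm₀.vanish hK₀.1 (by omega) (by push_cast; omega)
  have e := (PreservesKernel.iso (Coh.push ι) q).symm
  have hregq : Reg n k ((Coh.push ι).obj (kernel q)) (max M m₀) := reg_of_iso e.symm hreg'
  have hcq := QC70.isCoh_pushforward ι _ hKq
  refine ⟨fun i hi => ?_, fun i hi => ?_, gg_of_spanned ι hL hKq l (hregq.spanned hcq (by omega))⟩
  · have : Subsingleton (Coh.HH (CohB1.ProjSpace n k) (tw n k ((Coh.push ι).obj F) (l : ℤ)) i) := by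
      refine sub_tw_X₃ (KData.kernel_shortExact φ) ?_ (hreg.vanish hKc.1 (by omega) (by push_cast; omega))
      exact subsingleton_hh_free N _ hi (by omega)
    exact (nonempty_hh_twist ι hι hL hF l i).some.symm.toEquiv.subsingleton
  · have : Subsingleton (Coh.HH (CohB1.ProjSpace n k) (tw n k ((Coh.push ι).obj (kernel q)) (l : ℤ)) i) :=
      hregq.vanish hcq.1 hi (by omega)
    exact (nonempty_hh_twist ι hι hL hKq l i).some.symm.toEquiv.subsingleton

end Groth.Agent.Var76.Reg

end
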