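import Mathlib.RingTheory.Algebraic.LinearIndependent
import Mathlib.RingTheory.Localization.Ideal
import Mathlib.RingTheory.Nilpotent.Lemmas
import Mathlib.RingTheory.FiniteType
import Mathlib.LinearAlgebra.Dimension.Constructions
import Mathlib.RingTheory.IntegralClosure.IntegralRestrict
import Mathlib.AlgebraicGeometry.Morphisms.FiniteType
import Mathlib.AlgebraicGeometry.Properties

/-! Over an uncountable field a variety is not a countable union of proper closed subsets. -/

set_option autoImplicit false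
universe u

open CategoryTheory AlgebraicGeometry TopologicalSpace Topology

namespace Groth.Agent.Var76.Uncountable

/-- Over an uncountable field, countably many nonzero functions on an affine variety are
simultaneously nonzero at some closed point. -/
theorem exists_maximal_notMem (k : Type u) [Field k] [Uncountable k] (A : Type u) [CommRing A] [IsDomain A]
    [Algebra k A] [Algebra.FiniteType k A] (a : ℕ → A) (ha : ∀ n, a n ≠ 0) :
    ∃ m : Ideal A, m.IsMaximal ∧ ∀ n, a n ∉ m := by
  classical
  let S : Submonoid A := Submonoid.closure (Set.range a)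
  have hS : S ≤ nonZeroDivisors A := Submonoid.closure_le.2 <| by
    rintro _ ⟨n, rfl⟩
    exact mem_nonZeroDivisors_of_ne_zero (ha n)
  let L := Localization S
  have : Nontrivial L := (IsLocalization.injective L hS).nontrivial
  obtain ⟨M, hM⟩ := Ideal.exists_maximal L
  let _ : Field (L ⧸ M) := Ideal.Quotient.field M
  obtain ⟨n, f, hf⟩ := Algebra.FiniteType.iff_quotient_mvPolynomial''.1 ‹Algebra.FiniteType k A›
  have hSc : Countable S := by
    have : S = MonoidHom.mrange (FreeMonoid.lift a) := (FreeMonoid.mrange_lift a).symm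
    rw [this]
    have : Countable (FreeMonoid ℕ) := inferInstanceAs (Countable (List ℕ))
    exact Set.countable_coe_iff.2 (Set.countable_range _)
  -- the residue field has countable dimension
  let v : (Fin n →₀ ℕ) × S → L ⧸ M := fun p =>
    Ideal.Quotient.mk M (IsLocalization.mk' L (f (MvPolynomial.monomial p.1 1)) p.2)
  have : Countable ((Fin n →₀ ℕ) × S) := @instCountableProd _ _ (Function.Injective.countable (f := fun d : Fin n →₀ ℕ => (d : Fin n → ℕ)) DFunLike.coe_injective) hSc
  have hv : Submodule.span k (Set.range v) = ⊤ := by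
    refine top_le_iff.1 fun z _ => ?_
    obtain ⟨w, rfl⟩ := Ideal.Quotient.mk_surjective z
    obtain ⟨x, s, rfl⟩ := IsLocalization.exists_mk'_eq S w
    obtain ⟨P, rfl⟩ := hf x
    induction P using MvPolynomial.induction_on' with
    | monomial d c =>
      have h1 : IsLocalization.mk' L (f (MvPolynomial.monomial d c)) s =
          c • IsLocalization.mk' L (f (MvPolynomial.monomial d 1)) s := by
        rw [Algebra.smul_def, IsScalarTower.algebraMap_apply k A L, IsLocalization.mul_mk'_eq_mk'_of_mul,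
          ← Algebra.smul_def, ← map_smul, MvPolynomial.smul_monomial, smul_eq_mul, mul_one]
      rw [h1, show Ideal.Quotient.mk M (c • IsLocalization.mk' L (f (MvPolynomial.monomial d 1)) s) =
        c • v (d, s) from map_smul (Ideal.Quotient.mkₐ k M) c _]
      exact Submodule.smul_mem _ _ (Submodule.subset_span ⟨(d, s), rfl⟩)
    | add P Q hP hQ =>
      rw [map_add, IsLocalization.mk'_eq_mul_mk'_one, map_add, add_mul, ← IsLocalization.mk'_eq_mul_mk'_one,
        ← IsLocalization.mk'_eq_mul_mk'_one, map_add]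
      exact add_mem (hP trivial) (hQ trivial)
  have halg : Algebra.IsAlgebraic k (L ⧸ M) := by
    refine ⟨fun x => ?_⟩
    by_contra hx
    have h := (Transcendental.linearIndependent_sub_inv (F := k) (x := x) hx).cardinal_le_rank
    have h2 : Module.rank k (L ⧸ M) ≤ Cardinal.aleph0 := by
      rw [← rank_top k, ← hv]
      exact (rank_span_le _).trans (Set.countable_range v).le_aleph0
    have h3 := h.trans h2
    exact not_countable (α := k) (Cardinal.mk_le_aleph0_iff.1 h3)
  let φ : A →ₐ[k] L ⧸ M := (Ideal.Quotient.mkₐ k M).comp (IsScalarTower.toAlgHom k A L)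
  refine ⟨RingHom.ker φ, ?_, fun i hi => ?_⟩
  · let ψ : A ⧸ RingHom.ker φ →ₐ[k] L ⧸ M := Ideal.kerLiftAlg φ
    have hψ : Function.Injective ψ := Ideal.kerLiftAlg_injective φ
    have : (RingHom.ker φ).IsPrime := RingHom.ker_isPrime _
    have : Algebra.IsIntegral k (A ⧸ RingHom.ker φ) :=
      ⟨fun z => (isIntegral_algHom_iff ψ hψ).1 (halg.isAlgebraic _).isIntegral⟩
    exact Ideal.Quotient.maximal_of_isField _ (isField_of_isIntegral_of_isField' (Field.toIsField k))
  · have hu : IsUnit (algebraMap A L (a i)) :=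
      IsLocalization.map_units L (⟨a i, Submonoid.subset_closure ⟨i, rfl⟩⟩ : S)
    exact (hu.map (Ideal.Quotient.mk M)).ne_zero hi

/-- A variety over an uncountable field is not a countable union of proper closed subsets. -/
theorem exists_closedPoint (k : Type u) [Field k] [Uncountable k] {X : Scheme.{u}}
    (sX : X ⟶ Spec (CommRingCat.of k)) [IrreducibleSpace X] [LocallyOfFiniteType sX]
    (Z : ℕ → Closeds X) (hZ : ∀ n, (Z n : Set X) ≠ Set.univ) :
    ∃ x : X, IsClosed ({x} : Set X) ∧ ∀ n, x ∉ Z n := by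
  have : JacobsonSpace X := LocallyOfFiniteType.jacobsonSpace sX
  obtain ⟨W, hW, hxW, -⟩ := exists_isAffineOpen_mem_and_subset (U := (⊤ : X.Opens)) (x := genericPoint X) trivial
  have hne : Nonempty W := ⟨⟨_, hxW⟩⟩
  let φ : k →+* Γ(X, W) := ((Scheme.ΓSpecIso (CommRingCat.of k)).inv ≫ sX.appLE ⊤ W le_top).hom
  let : Algebra k Γ(X, W) := φ.toAlgebra
  have hft : Algebra.FiniteType k Γ(X, W) := by
    have h1 : (sX.appLE ⊤ W le_top).hom.FiniteType :=
      HasRingHomProperty.appLE @LocallyOfFiniteType sX ‹_› ⟨⊤, isAffineOpen_top _⟩ ⟨W, hW⟩ le_top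
    exact RingHom.finiteType_algebraMap.1 (h1.comp (RingHom.FiniteType.of_surjective _
      (ConcreteCategory.bijective_of_isIso (Scheme.ΓSpecIso (CommRingCat.of k)).inv).2))
  let B := Γ(X, W) ⧸ nilradical Γ(X, W)
  have hirr : IrreducibleSpace (PrimeSpectrum Γ(X, W)) := by
    have : IrreducibleSpace W := by
      refine (irreducibleSpace_def W).2 ⟨⟨⟨_, hxW⟩, trivial⟩, fun U V hU hV hUne hVne => ?_⟩
      obtain ⟨U', hU', rfl⟩ := isOpen_induced_iff.1 hU
      obtain ⟨V', hV', rfl⟩ := isOpen_induced_iff.1 hV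
      obtain ⟨z, -, hz⟩ := hUne
      obtain ⟨w, -, hw⟩ := hVne
      refine ⟨⟨genericPoint X, hxW⟩, trivial, ?_, ?_⟩
      · exact (genericPoint_spec X).mem_open_set_iff hU' |>.2 ⟨z.1, trivial, hz⟩
      · exact (genericPoint_spec X).mem_open_set_iff hV' |>.2 ⟨w.1, trivial, hw⟩
    exact hW.isoSpec.hom.homeomorph.surjective.irreducibleSpace hW.isoSpec.hom.continuous
  have hp : (nilradical Γ(X, W)).IsPrime := by
    have h1 : IsIrreducible (PrimeSpectrum.zeroLocus (nilradical Γ(X, W) : Set Γ(X, W))) := by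
      rw [show PrimeSpectrum.zeroLocus (nilradical Γ(X, W) : Set Γ(X, W)) = Set.univ from
        Set.eq_univ_of_forall fun p => nilradical_le_prime p.asIdeal]
      exact IrreducibleSpace.isIrreducible_univ _
    exact (PrimeSpectrum.isIrreducible_zeroLocus_iff_of_radical _ (Ideal.radical_isRadical ⊥)).1 h1
  have hex : ∀ n, ∃ g : Γ(X, W), g ∉ nilradical Γ(X, W) ∧ (X.basicOpen g : Set X) ⊆ (Z n : Set X)ᶜ := by
    intro n
    obtain ⟨y, hy⟩ : ∃ y, y ∉ Z n := by
      by_contra h; push Not at h; exact hZ n (Set.eq_univ_of_forall h)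
    have hη : genericPoint X ∈ (Z n : Set X)ᶜ :=
      (genericPoint_spec X).mem_open_set_iff (Z n).isClosed.isOpen_compl |>.2 ⟨y, trivial, hy⟩
    obtain ⟨g, hg, hgη⟩ := hW.exists_basicOpen_le (V := ⟨(Z n : Set X)ᶜ, (Z n).isClosed.isOpen_compl⟩)
      ⟨genericPoint X, hη⟩ hxW
    refine ⟨g, fun hnil => ?_, hg⟩
    obtain ⟨e, he⟩ := mem_nilradical.1 hnil
    have h0 : X.basicOpen g = ⊥ := X.toLocallyRingedSpace.basicOpen_eq_bot_of_isNilpotent W g ⟨e, he⟩
    rw [h0] at hgη
    exact hgη
  choose g hg hgZ using hex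
  obtain ⟨m, hm, hmg⟩ := exists_maximal_notMem k B (fun n => Ideal.Quotient.mk _ (g n))
    fun n => by rw [Ne, Ideal.Quotient.eq_zero_iff_mem]; exact hg n
  let P : PrimeSpectrum Γ(X, W) := ⟨m.comap (Ideal.Quotient.mk _), inferInstance⟩
  have hPc : IsClosed ({P} : Set (Spec Γ(X, W))) :=
    (PrimeSpectrum.isClosed_singleton_iff_isMaximal P).2
      (Ideal.comap_isMaximal_of_surjective _ Ideal.Quotient.mk_surjective)
  have : IsOpenImmersion hW.fromSpec := IsAffineOpen.isOpenImmersion_fromSpec hW
  have hmem : (P : Spec Γ(X, W)) ∈ closedPoints (Spec Γ(X, W)) := hPc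
  rw [← hW.fromSpec.isOpenEmbedding.preimage_closedPoints] at hmem
  refine ⟨hW.fromSpec P, hmem, fun n hn => ?_⟩
  refine hgZ n ?_ hn
  show (P : Spec Γ(X, W)) ∈ hW.fromSpec ⁻¹ᵁ X.basicOpen (g n)
  rw [hW.fromSpec_preimage_basicOpen]
  exact hmg n

end Groth.Agent.Var76.Uncountable
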