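import Groth.Agent.VarNorm.BranchesDelta
import Mathlib.FieldTheory.IsSepClosed
import Mathlib.FieldTheory.SeparableDegree

universe u

/-! The case of equality between geometric branches and the length of the cokernel plus one. -/

namespace Groth.Agent.Var76

open Groth.Agent.VarNorm

/-- If the number of geometric branches attains the bound, every residue field extension is trivial (the residue
field of the base being separably closed) and elements congruent to a constant at all maximal ideals are constant. -/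
theorem eq_case_card_sigma_embOf (A : Type u) [CommRing A] [IsLocalRing A]
    [IsSepClosed (IsLocalRing.ResidueField A)] (D : Type u) [CommRing D] [Algebra A D] [Module.Finite A D]
    (hfin : Module.length A (D ⧸ LinearMap.range (Algebra.linearMap A D)) < ⊤)
    (heq : Module.length A (D ⧸ LinearMap.range (Algebra.linearMap A D)) + 1 ≤
      ENat.card (Σ Q : MaximalSpectrum D, EmbOf A D Q)) :
    (∀ (Q : MaximalSpectrum D) (d : D), ∃ a : A, d - algebraMap A D a ∈ Q.asIdeal) ∧
      ∀ d : D, (∃ a : A, ∀ Q : MaximalSpectrum D, d - algebraMap A D a ∈ Q.asIdeal) →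
        d ∈ (algebraMap A D).range := by
  classical
  let κ := IsLocalRing.ResidueField A
  have hle : ∀ Q : MaximalSpectrum D, IsLocalRing.maximalIdeal A ≤ Q.asIdeal.comap (algebraMap A D) := fun Q => by
    rw [IsLocalRing.eq_maximalIdeal (Ideal.isMaximal_comap_of_isIntegral_of_isMaximal Q.asIdeal)]
  let _ : ∀ Q : MaximalSpectrum D, Field (D ⧸ Q.asIdeal) := fun Q => Ideal.Quotient.field _
  let _ : ∀ Q : MaximalSpectrum D, Algebra κ (D ⧸ Q.asIdeal) := fun Q =>
    (Ideal.Quotient.lift (IsLocalRing.maximalIdeal A) (algebraMap A (D ⧸ Q.asIdeal)) fun a ha =>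
      Ideal.Quotient.eq_zero_iff_mem.2 (hle Q ha)).toAlgebra
  have htower : ∀ Q : MaximalSpectrum D, IsScalarTower A κ (D ⧸ Q.asIdeal) := fun Q =>
    IsScalarTower.of_algebraMap_eq fun a => rfl
  have hfinite : ∀ Q : MaximalSpectrum D, FiniteDimensional κ (D ⧸ Q.asIdeal) := fun Q =>
    have : Module.Finite A (D ⧸ Q.asIdeal) :=
      Module.Finite.of_surjective (Ideal.Quotient.mkₐ A Q.asIdeal).toLinearMap Ideal.Quotient.mk_surjective
    Module.Finite.of_restrictScalars_finite A κ _
  have hfinspec : Finite (MaximalSpectrum D) := by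
    let I := (IsLocalRing.maximalIdeal A).map (algebraMap A D)
    have : IsArtinianRing (D ⧸ I) := by
      let _ : Algebra κ (D ⧸ I) := Ideal.Quotient.algebraQuotientOfLEComap Ideal.le_comap_map
      have : IsScalarTower A κ (D ⧸ I) := IsScalarTower.of_algebraMap_eq fun _ => rfl
      have : Module.Finite A (D ⧸ I) :=
        Module.Finite.of_surjective (Ideal.Quotient.mkₐ A I).toLinearMap Ideal.Quotient.mk_surjective
      have : Module.Finite κ (D ⧸ I) := Module.Finite.of_restrictScalars_finite A κ _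
      exact IsArtinianRing.of_finite κ _
    refine Finite.of_injective
      (fun Q : MaximalSpectrum D => (⟨Q.asIdeal.map (Ideal.Quotient.mk I),
        Ideal.IsMaximal.map_of_surjective_of_ker_le Ideal.Quotient.mk_surjective
          (by rw [Ideal.mk_ker]; exact Ideal.map_le_iff_le_comap.2 (hle Q))⟩ : MaximalSpectrum (D ⧸ I)))
      fun Q Q' h => ?_
    have hmem : ∀ R : MaximalSpectrum D, (R.asIdeal.map (Ideal.Quotient.mk I)).comap (Ideal.Quotient.mk I) = R.asIdeal :=
      fun R => by
        rw [Ideal.comap_map_of_surjective _ Ideal.Quotient.mk_surjective, ← RingHom.ker_eq_comap_bot, Ideal.mk_ker]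
        exact sup_eq_left.2 (Ideal.map_le_iff_le_comap.2 (hle R))
    exact MaximalSpectrum.ext (by
      rw [← hmem Q, ← hmem Q', show Q.asIdeal.map (Ideal.Quotient.mk I) = Q'.asIdeal.map (Ideal.Quotient.mk I) from
        congrArg MaximalSpectrum.asIdeal h])
  cases nonempty_fintype (MaximalSpectrum D)
  have hlen : ∀ Q : MaximalSpectrum D, Module.length A (D ⧸ Q.asIdeal) = (Module.finrank κ (D ⧸ Q.asIdeal) : ℕ∞) :=
    fun Q => by
      have := hfinite Q
      rw [Module.length_eq_of_surjective (R := κ) (S := A) IsLocalRing.residue_surjective, Module.length_eq_finrank]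
  have hcard : ∀ Q : MaximalSpectrum D,
      ENat.card (EmbOf A D Q) = (Field.finSepDegree κ (D ⧸ Q.asIdeal) : ℕ∞) := fun Q => by
    have := hfinite Q
    obtain ⟨⟨e⟩, -⟩ := nonempty_embOf_equiv A Q (D ⧸ Q.asIdeal) (RingEquiv.refl _) (fun a => rfl)
    have : Finite (Field.Emb κ (D ⧸ Q.asIdeal)) := Finite.of_fintype _
    rw [ENat.card_congr e, ENat.card_eq_coe_natCard]
    rfl
  let M := ∀ Q : MaximalSpectrum D, D ⧸ Q.asIdeal
  let π : D →ₗ[A] M := LinearMap.pi fun Q => (Ideal.Quotient.mkₐ A Q.asIdeal).toLinearMap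
  have hπ : Function.Surjective π := fun z => by
    obtain ⟨d, hd⟩ := Ideal.pi_quotient_surjective
      (I := fun Q : MaximalSpectrum D => Q.asIdeal)
      (fun Q Q' h => Ideal.isCoprime_iff_sup_eq.2 (Q.isMaximal.coprime_of_ne Q'.isMaximal
        fun h' => h (MaximalSpectrum.ext h'))) z
    exact ⟨d, funext hd⟩
  let R₁ : Submodule A M := LinearMap.range (Algebra.linearMap A M)
  have hR₁ : Module.length A R₁ ≤ 1 := by
    let ι : κ →ₗ[A] M :=
      { toFun := fun r Q => algebraMap κ (D ⧸ Q.asIdeal) r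
        map_add' := fun r s => funext fun Q => map_add _ r s
        map_smul' := fun a r => funext fun Q => by
          show algebraMap κ (D ⧸ Q.asIdeal) (a • r) = a • algebraMap κ (D ⧸ Q.asIdeal) r
          rw [Algebra.algebraMap_eq_smul_one, Algebra.algebraMap_eq_smul_one, smul_assoc] }
    have : R₁ ≤ LinearMap.range ι := by
      rintro _ ⟨a, rfl⟩
      exact ⟨IsLocalRing.residue A a, funext fun Q => rfl⟩
    refine (Module.length_le_of_injective (Submodule.inclusion this) (Submodule.inclusion_injective this)).trans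
      ((Module.length_le_of_surjective ι.rangeRestrict ι.surjective_rangeRestrict).trans ?_)
    rw [Module.length_eq_of_surjective (R := κ) (S := A) IsLocalRing.residue_surjective]
    exact (Module.length_eq_one κ κ).le
  have hmapR : LinearMap.range (Algebra.linearMap A D) ≤ R₁.comap π := by
    rintro _ ⟨a, rfl⟩
    exact ⟨a, funext fun Q => rfl⟩
  let q : (D ⧸ LinearMap.range (Algebra.linearMap A D)) →ₗ[A] M ⧸ R₁ :=
    Submodule.mapQ _ R₁ π hmapR
  have hq : Function.Surjective q := by
    intro z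
    obtain ⟨z, rfl⟩ := Submodule.Quotient.mk_surjective _ z
    obtain ⟨d, rfl⟩ := hπ z
    exact ⟨Submodule.Quotient.mk d, rfl⟩
  set δ := Module.length A (D ⧸ LinearMap.range (Algebra.linearMap A D)) with hδ
  have hquot : Module.length A (M ⧸ R₁) ≤ δ := Module.length_le_of_surjective q hq
  have hsum : ENat.card (Σ Q : MaximalSpectrum D, EmbOf A D Q) =
      ((∑ Q : MaximalSpectrum D, Field.finSepDegree κ (D ⧸ Q.asIdeal) : ℕ) : ℕ∞) := by
    rw [enat_card_sigma, tsum_fintype, Nat.cast_sum]
    exact Finset.sum_congr rfl fun Q _ => hcard Q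
  have hM : Module.length A M = ((∑ Q : MaximalSpectrum D, Module.finrank κ (D ⧸ Q.asIdeal) : ℕ) : ℕ∞) := by
    rw [Module.length_pi_of_fintype, Nat.cast_sum]
    exact Finset.sum_congr rfl fun Q _ => hlen Q
  have hadd : Module.length A M = Module.length A R₁ + Module.length A (M ⧸ R₁) :=
    Module.length_eq_add_of_exact R₁.subtype R₁.mkQ (Submodule.subtype_injective _)
      (Submodule.mkQ_surjective _) (LinearMap.exact_subtype_mkQ R₁)
  obtain ⟨n, hn⟩ := ENat.ne_top_iff_exists.1 hfin.ne
  obtain ⟨r, hr⟩ := ENat.ne_top_iff_exists.1 (ne_top_of_le_ne_top (by simp) hR₁)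
  obtain ⟨m, hm⟩ := ENat.ne_top_iff_exists.1 (ne_top_of_le_ne_top hfin.ne hquot)
  rw [hM, ← hr, ← hm, ← Nat.cast_add, Nat.cast_inj] at hadd
  rw [hsum, ← hn, ← Nat.cast_one, ← Nat.cast_add, Nat.cast_le] at heq
  rw [← hr, ← Nat.cast_one, Nat.cast_le] at hR₁
  rw [← hm, ← hn, Nat.cast_le] at hquot
  have hsd : ∀ Q ∈ (Finset.univ : Finset (MaximalSpectrum D)),
      Field.finSepDegree κ (D ⧸ Q.asIdeal) ≤ Module.finrank κ (D ⧸ Q.asIdeal) := fun Q _ => by
    have := hfinite Q
    exact Field.finSepDegree_le_finrank κ (D ⧸ Q.asIdeal)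
  have hsumle := Finset.sum_le_sum hsd
  have hmn : m = n := by omega
  have hsumeq : ∑ Q : MaximalSpectrum D, Field.finSepDegree κ (D ⧸ Q.asIdeal) =
      ∑ Q : MaximalSpectrum D, Module.finrank κ (D ⧸ Q.asIdeal) := by omega
  constructor
  · intro Q d
    have := hfinite Q
    have h := (Finset.sum_eq_sum_iff_of_le hsd).1 hsumeq Q (Finset.mem_univ Q)
    have : Algebra.IsSeparable κ (D ⧸ Q.asIdeal) := (Field.finSepDegree_eq_finrank_iff κ _).1 h
    obtain ⟨c, hc⟩ := IsSepClosed.algebraMap_surjective κ (D ⧸ Q.asIdeal) (Ideal.Quotient.mk Q.asIdeal d)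
    obtain ⟨a, rfl⟩ := IsLocalRing.residue_surjective c
    exact ⟨a, Ideal.Quotient.eq.1 hc.symm⟩
  · rintro d ⟨a, ha⟩
    have hinj : Function.Injective q := by
      have h := Module.length_eq_add_of_exact (LinearMap.ker q).subtype q (Submodule.subtype_injective _) hq
        (LinearMap.exact_subtype_ker_map q)
      rw [← hδ, ← hn, ← hm, hmn] at h
      have hker : Module.length A (LinearMap.ker q) = 0 :=
        le_antisymm ((ENat.add_le_add_iff_right (ENat.natCast_ne_top n)).1
          (by rw [zero_add]; exact h.ge)) bot_le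
      have : Subsingleton (LinearMap.ker q) := Module.length_eq_zero_iff.1 hker
      exact LinearMap.ker_eq_bot.1 (Submodule.subsingleton_iff_eq_bot.1 this)
    have h0 : q (Submodule.Quotient.mk d) = 0 := by
      refine (Submodule.Quotient.mk_eq_zero R₁).2 ⟨a, funext fun Q => ?_⟩
      exact (Ideal.Quotient.eq.2 (ha Q)).symm
    obtain ⟨b, hb⟩ := (Submodule.Quotient.mk_eq_zero _).1 (hinj (h0.trans (map_zero q).symm))
    exact ⟨b, hb⟩

end Groth.Agent.Var76
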