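import Groth.Agent.Var76.GenSmooth
import Groth.Agent.Var76.BertiniScheme
import Mathlib.RingTheory.MvPolynomial.Tower

/-! Bertini's theorem for base-point-free systems in characteristic zero. -/

universe u

open CategoryTheory CategoryTheory.Limits AlgebraicGeometry Opposite TopologicalSpace
open scoped TensorProduct

namespace Groth.Agent.Var76.BertiniChar0

/-- The algebraic core: the general member of a system with a unit among its coordinates is smooth. -/
theorem exists_poly {k A : Type u} [Field k] [CharZero k] [CommRing A] [Algebra k A] [Algebra.Smooth k A]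
    {m : ℕ} (φ : Fin (m + 1) → A) (j : Fin (m + 1)) (hj : φ j = 1) :
    ∃ p : MvPolynomial (Fin (m + 1)) k, p ≠ 0 ∧ ∀ c : Fin (m + 1) → k, MvPolynomial.eval c p ≠ 0 →
      Algebra.Smooth k (A ⧸ Ideal.span {∑ i, c i • φ i}) := by
  classical
  let σ := ULift.{u} {i : Fin (m + 1) // i ≠ j}
  let P := MvPolynomial (Fin (m + 1)) k
  let B := MvPolynomial σ A
  let img : Fin (m + 1) → B := fun i =>
    if h : i = j then -∑ s : σ, MvPolynomial.C (φ s.down.1) * MvPolynomial.X s
    else MvPolynomial.X ⟨⟨i, h⟩⟩
  let ψ : P →ₐ[k] B := MvPolynomial.aeval img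
  let : Algebra P B := ψ.toRingHom.toAlgebra
  have : IsScalarTower k P B := IsScalarTower.of_algebraMap_eq fun r => (ψ.commutes r).symm
  have : Algebra.Smooth A B := ⟨inferInstance, inferInstance⟩
  have : Algebra.Smooth k B := Algebra.Smooth.comp k A B
  obtain ⟨p, hp0, hsm⟩ := GenSmooth.exists_smooth k (A := P) (B := B)
  refine ⟨p, hp0, fun c hc => ?_⟩
  let T := Localization.Away (algebraMap P B p)
  let ev : P →+* k := MvPolynomial.eval c
  let : Algebra P k := ev.toAlgebra
  let g := ∑ i, c i • φ i
  let E := A ⧸ Ideal.span {g}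
  let : Algebra P E := ((algebraMap k E).comp ev).toAlgebra
  have : IsScalarTower P k E := IsScalarTower.of_algebraMap_eq fun _ => rfl
  have hsum : ∀ {M : Type u} [AddCommGroup M] (G : Fin (m + 1) → M),
      ∑ i, G i = G j + ∑ s : σ, G s.down.1 := by
    intro M _ G
    rw [Fintype.sum_eq_add_sum_subtype_ne G j]
    congr 1
    exact (Fintype.sum_equiv Equiv.ulift (fun s : σ => G s.down.1) (fun s => G s.1) fun _ => rfl).symm
  -- the map to the fibre
  let fB : B →+* E := MvPolynomial.eval₂Hom (algebraMap A E) fun s => algebraMap k E (c s.down.1)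
  have hgE : algebraMap A E g = 0 := Ideal.Quotient.eq_zero_iff_mem.2 (Ideal.mem_span_singleton_self g)
  have hfB : fB.comp ψ.toRingHom = (algebraMap k E).comp ev := by
    refine MvPolynomial.ringHom_ext (fun r => ?_) fun i => ?_
    · show fB (ψ (MvPolynomial.C r)) = algebraMap k E (ev (MvPolynomial.C r))
      rw [← MvPolynomial.algebraMap_eq, ψ.commutes, IsScalarTower.algebraMap_apply k A B,
        MvPolynomial.algebraMap_eq]
      refine (MvPolynomial.eval₂Hom_C _ _ _).trans ?_
      rw [show ev (algebraMap k P r) = r from MvPolynomial.eval_C r]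
      exact (IsScalarTower.algebraMap_apply k A E r).symm
    · show fB (ψ (MvPolynomial.X i)) = algebraMap k E (ev (MvPolynomial.X i))
      rw [show ψ (MvPolynomial.X i) = img i from MvPolynomial.aeval_X img i,
        show ev (MvPolynomial.X i) = c i from MvPolynomial.eval_X i]
      by_cases h : i = j
      · rw [show img i = -∑ s : σ, MvPolynomial.C (φ s.down.1) * MvPolynomial.X s from dif_pos h]
        subst h
        have h0 := hgE
        replace h0 : algebraMap A E (∑ i, c i • φ i) = 0 := h0
        rw [hsum (fun i => c i • φ i), map_add, map_sum, hj] at h0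
        simp only [Algebra.smul_def, map_mul, mul_one, ← IsScalarTower.algebraMap_apply] at h0
        have e3 : ∀ s : σ, fB (MvPolynomial.C (φ s.down.1) * MvPolynomial.X s) =
            algebraMap k E (c s.down.1) * algebraMap A E (φ s.down.1) := fun s => by
          rw [map_mul]
          exact (congrArg₂ (· * ·) (MvPolynomial.eval₂Hom_C _ _ _) (MvPolynomial.eval₂Hom_X' _ _ _)).trans
            (mul_comm _ _)
        rw [map_neg, map_sum, Finset.sum_congr rfl fun s _ => e3 s, neg_eq_iff_add_eq_zero, add_comm]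
        exact h0
      · rw [show img i = MvPolynomial.X ⟨⟨i, h⟩⟩ from dif_neg h]
        exact MvPolynomial.eval₂Hom_X' _ _ _
  let fB' : B →ₐ[P] E := { fB with commutes' := fun r => RingHom.congr_fun hfB r }
  have hu : IsUnit (fB' (algebraMap P B p)) := by
    rw [AlgHom.commutes]
    show IsUnit (algebraMap k E (ev p))
    exact (Ne.isUnit hc).map _
  let fT : T →ₐ[P] E := IsLocalization.liftAlgHom (M := Submonoid.powers (algebraMap P B p))
    (f := fB') (by rintro ⟨_, n, rfl⟩; simpa using hu.pow n)
  let F : k ⊗[P] T →ₐ[k] E := Algebra.TensorProduct.lift (Algebra.ofId k E) fT fun _ _ => Commute.all _ _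
  -- the inverse
  have hkP : ∀ r : k, algebraMap k T r = algebraMap P T (algebraMap k P r) := fun r =>
    IsScalarTower.algebraMap_apply k P T r
  have hbase : ∀ r : k, ev (algebraMap k P r) = r := fun r => MvPolynomial.eval_C _
  have htm : ∀ q : P, (1 : k) ⊗ₜ[P] (algebraMap P T q) = (ev q) ⊗ₜ[P] (1 : T) := by
    intro q
    have h1 : algebraMap P T q = q • (1 : T) := Algebra.algebraMap_eq_smul_one q
    have h2 : q • (1 : k) = ev q := mul_one _
    rw [← h2]
    exact (congrArg (fun t : T => (1 : k) ⊗ₜ[P] t) h1).trans (TensorProduct.smul_tmul q (1 : k) (1 : T)).symm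
  have hk : ∀ r : k, (1 : k) ⊗ₜ[P] (algebraMap k T r) = r ⊗ₜ[P] (1 : T) := fun r => by
    rw [hkP, htm, hbase]
  let iA : A →ₐ[k] k ⊗[P] T :=
    { toRingHom := (Algebra.TensorProduct.includeRight : T →ₐ[P] k ⊗[P] T).toRingHom.comp
        ((algebraMap B T).comp (algebraMap A B))
      commutes' := fun r => by
        show (1 : k) ⊗ₜ[P] algebraMap B T (algebraMap A B (algebraMap k A r)) = r ⊗ₜ[P] (1 : T)
        rw [← hk r, ← IsScalarTower.algebraMap_apply k A B, ← IsScalarTower.algebraMap_apply k B T] }
  have hiX : ∀ i, (c i) ⊗ₜ[P] (1 : T) = (1 : k) ⊗ₜ[P] algebraMap B T (img i) := by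
    intro i
    have : algebraMap P T (MvPolynomial.X i) = algebraMap B T (img i) := by
      rw [IsScalarTower.algebraMap_apply P B T]
      congr 1
      exact MvPolynomial.aeval_X img i
    rw [← this, htm, show ev (MvPolynomial.X i) = c i from MvPolynomial.eval_X i]
  have higt : iA g = 0 := by
    have h0 : img j + ∑ s : σ, MvPolynomial.C (φ s.down.1) * MvPolynomial.X s = 0 := by
      simp [img]
    show iA (∑ i, c i • φ i) = 0
    rw [hsum (fun i => c i • φ i), map_add, map_sum, hj]
    simp only [map_smul]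
    have e1 : ∀ (r : k) (x : T), r • ((1 : k) ⊗ₜ[P] x) = (r ⊗ₜ[P] (1 : T)) * ((1 : k) ⊗ₜ[P] x) := fun r x => by
      rw [TensorProduct.smul_tmul', Algebra.TensorProduct.tmul_mul_tmul, one_mul, smul_eq_mul]
    have e2 : ∀ i a, c i • iA a = (1 : k) ⊗ₜ[P] algebraMap B T (img i * algebraMap A B a) := fun i a => by
      show c i • ((1 : k) ⊗ₜ[P] algebraMap B T (algebraMap A B a)) = _
      rw [e1, hiX, Algebra.TensorProduct.tmul_mul_tmul, one_mul, map_mul]
    rw [e2 j 1]
    simp only [e2, map_one, mul_one]
    rw [← TensorProduct.tmul_sum, ← TensorProduct.tmul_add, ← map_sum, ← map_add]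
    have h1 : ∀ s : σ, img s.down.1 * algebraMap A B (φ s.down.1) = MvPolynomial.C (φ s.down.1) * MvPolynomial.X s := by
      intro s
      simp only [img, dif_neg s.down.2, MvPolynomial.algebraMap_eq]
      exact mul_comm _ _
    simp only [h1, h0, map_zero, TensorProduct.tmul_zero]
  let G : E →ₐ[k] k ⊗[P] T := Ideal.Quotient.liftₐ _ iA fun a ha => by
    obtain ⟨b, rfl⟩ := Ideal.mem_span_singleton'.1 ha
    rw [map_mul, higt, mul_zero]
  have hGF : G.comp F = AlgHom.id k _ := by
    refine Algebra.TensorProduct.ext' fun r t => ?_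
    show G (F (r ⊗ₜ t)) = r ⊗ₜ t
    suffices h : G (fT t) = (1 : k) ⊗ₜ[P] t by
      simp only [F, Algebra.TensorProduct.lift_tmul, map_mul]
      rw [h, Algebra.ofId_apply, AlgHom.commutes, Algebra.TensorProduct.algebraMap_apply,
        Algebra.TensorProduct.tmul_mul_tmul]
      simp
    have key : (G.toRingHom.comp fT.toRingHom) =
        (Algebra.TensorProduct.includeRight : T →ₐ[P] k ⊗[P] T).toRingHom := by
      refine IsLocalization.ringHom_ext (Submonoid.powers (algebraMap P B p)) ?_
      refine MvPolynomial.ringHom_ext (fun a => ?_) fun s => ?_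
      · show G (fT (algebraMap B T (MvPolynomial.C a))) = (1 : k) ⊗ₜ[P] algebraMap B T (MvPolynomial.C a)
        rw [show fT (algebraMap B T (MvPolynomial.C a)) = algebraMap A E a from
          (IsLocalization.lift_eq _ _).trans (MvPolynomial.eval₂Hom_C _ _ a)]
        rfl
      · show G (fT (algebraMap B T (MvPolynomial.X s))) = (1 : k) ⊗ₜ[P] algebraMap B T (MvPolynomial.X s)
        rw [show fT (algebraMap B T (MvPolynomial.X s)) = algebraMap k E (c s.down.1) from
          (IsLocalization.lift_eq _ _).trans (MvPolynomial.eval₂Hom_X' _ _ s), AlgHom.commutes,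
          Algebra.TensorProduct.algebraMap_apply]
        show (c s.down.1) ⊗ₜ[P] (1 : T) = _
        rw [hiX, show img s.down.1 = MvPolynomial.X s by simp only [img, dif_neg s.down.2]; rfl]
    exact RingHom.congr_fun key t
  have hFG : F.comp G = AlgHom.id k _ := by
    refine Ideal.Quotient.algHom_ext _ (AlgHom.ext fun a => ?_)
    show F ((1 : k) ⊗ₜ[P] algebraMap B T (algebraMap A B a)) = Ideal.Quotient.mk _ a
    simp only [F, Algebra.TensorProduct.lift_tmul, map_one, one_mul]
    exact (IsLocalization.lift_eq _ _).trans (MvPolynomial.eval₂Hom_C _ _ a)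
  exact Algebra.Smooth.of_equiv (AlgEquiv.ofAlgHom F G hFG hGF)

open LineBundle ZeroScheme BertiniScheme

variable {k : Type u} [Field k] [CharZero k] {X : Scheme.{u}} [X.Over (Spec (CommRingCat.of k))]

local notation "qX" => (X ↘ Spec (CommRingCat.of k))

theorem bertini [Smooth qX] [QuasiCompact qX]
    {L : X.Modules} (hL : FlatMod.IsFinLocFreeOfRank 1 L) {m : ℕ}
    (s : Fin (m + 1) → (Coh.structureModule X ⟶ L))
    (hgen : ⨆ i : Fin (m + 1), PicF2.zeroScheme L (s i) = ⊤) :
    ∃ p : MvPolynomial (Fin (m + 1)) k, p ≠ 0 ∧ ∀ c : Fin (m + 1) → k, MvPolynomial.eval c p ≠ 0 →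
      Smooth ((PicF2.zeroScheme L (∑ i : Fin (m + 1), Formal.smulMod k (Coh.structureModule X) (c i) ≫ s i)).subschemeι ≫ qX) := by
  classical
  have : CompactSpace X := QuasiCompact.compactSpace_of_compactSpace qX
  have hcov : ∀ x : X, ∃ (W : X.affineOpens) (j : Fin (m + 1)), x ∈ W.1 ∧ IsFrame L W.1 (val L (s j) W.1) := by
    intro x
    obtain ⟨U, hxU, e, he⟩ := exists_frame hL x
    obtain ⟨W, hW, hxW, hWU⟩ := exists_isAffineOpen_mem_and_subset hxU
    have heW := he.res (show W ≤ U from hWU)
    obtain ⟨j, hj⟩ : ∃ j, x ∉ (PicF2.zeroScheme L (s j)).support := by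
      by_contra hall
      push Not at hall
      have : x ∈ (⨆ i, PicF2.zeroScheme L (s i)).support := by
        rw [Scheme.IdealSheafData.support_iSup]
        exact TopologicalSpace.Closeds.mem_iInf.2 hall
      rw [hgen, Scheme.IdealSheafData.support_top] at this
      exact this
    obtain ⟨a, ha⟩ := (heW W le_rfl).2 (val L (s j) W)
    simp only [show res L (le_refl W) (res L hWU e) = res L hWU e by simp [res]] at ha
    have hid := ideal_zeroScheme hL ⟨W, hW⟩ heW ha
    have hxa : x ∈ X.basicOpen a := by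
      by_contra hna
      refine hj ((Scheme.IdealSheafData.coe_support_inter _ (⟨W, hW⟩ : X.affineOpens)).ge ⟨?_, hxW⟩).1
      rw [hid, Scheme.zeroLocus_span, Scheme.mem_zeroLocus_iff]
      rintro _ rfl
      exact hna
    refine ⟨⟨X.basicOpen a, hW.basicOpen a⟩, j, hxa, fun V hV => ?_⟩
    have hu : IsUnit (X.presheaf.map (homOfLE hV).op (X.presheaf.map (homOfLE (X.basicOpen_le a)).op a)) :=
      (RingedSpace.isUnit_res_basicOpen _ a).map _
    have hb := (heW.res (X.basicOpen_le a)) V hV
    have e1 : res L hV (val L (s j) (X.basicOpen a)) =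
        X.presheaf.map (homOfLE hV).op (X.presheaf.map (homOfLE (X.basicOpen_le a)).op a) •
          res L hV (res L (X.basicOpen_le a) (res L hWU e)) := by
      rw [← res_smul, ← res_smul, ha]
      simp only [res_val]
    simp only [e1, smul_smul]
    exact hb.comp (IsUnit.isUnit_iff_mulRight_bijective.1 hu)
  choose W j hxW hframe using hcov
  have hpoly : ∀ x : X, ∃ p : MvPolynomial (Fin (m + 1)) k, p ≠ 0 ∧ ∀ c : Fin (m + 1) → k,
      MvPolynomial.eval c p ≠ 0 →
      Smooth (Spec.map (CommRingCat.ofHom ((Ideal.Quotient.mk ((PicF2.zeroScheme L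
        (∑ i : Fin (m + 1), Formal.smulMod k (Coh.structureModule X) (c i) ≫ s i)).ideal (W x))).comp
          (const (k := k) X (W x).1)))) := by
    intro x
    let : Algebra k Γ(X, (W x).1) := (const (k := k) X (W x).1).toAlgebra
    have : Algebra.Smooth k Γ(X, (W x).1) := by
      have h1 : Smooth ((W x).2.fromSpec ≫ qX) := by
        have : IsOpenImmersion (W x).2.fromSpec := IsAffineOpen.isOpenImmersion_fromSpec (W x).2
        infer_instance
      rw [← SpecMap_const (W x).2, HasRingHomProperty.Spec_iff (P := @Smooth)] at h1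
      exact RingHom.smooth_algebraMap.1 h1
    choose φ hφ using fun i => (hframe x (W x).1 le_rfl).2 (val L (s i) (W x).1)
    have hres : res L (le_refl (W x).1) (val L (s (j x)) (W x).1) = val L (s (j x)) (W x).1 := by simp [res]
    simp only [hres] at hφ
    have hφj : φ (j x) = 1 := (hframe x (W x).1 le_rfl).1 (by
      simp only [hres, hφ, one_smul])
    obtain ⟨p, hp0, hp⟩ := exists_poly (k := k) φ (j x) hφj
    refine ⟨p, hp0, fun c hc => ?_⟩
    have hval : (∑ i, c i • φ i) • val L (s (j x)) (W x).1 =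
        val L (∑ i : Fin (m + 1), Formal.smulMod k (Coh.structureModule X) (c i) ≫ s i) (W x).1 := by
      simp only [val_sum, val_smulMod_comp, Finset.sum_smul, Algebra.smul_def,
        RingHom.algebraMap_toAlgebra, mul_smul, hφ]
    rw [ideal_zeroScheme hL (W x) (hframe x) hval, HasRingHomProperty.Spec_iff (P := @Smooth)]
    exact RingHom.smooth_algebraMap.2 (hp c hc)
  choose q hq0 hq using hpoly
  obtain ⟨T, hT⟩ := CompactSpace.isCompact_univ (X := X) |>.elim_finite_subcover
    (fun y => ((W y).1 : Set X)) (fun y => (W y).1.2) (fun y _ => Set.mem_iUnion.2 ⟨y, hxW y⟩)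
  refine ⟨∏ y ∈ T, q y, Finset.prod_ne_zero_iff.2 fun y _ => hq0 y, fun c hc => ?_⟩
  rw [map_prod, Finset.prod_ne_zero_iff] at hc
  set I := PicF2.zeroScheme L (∑ i : Fin (m + 1), Formal.smulMod k (Coh.structureModule X) (c i) ≫ s i)
  have : IsZariskiLocalAtSource @Smooth := HasRingHomProperty.instIsZariskiLocalAtSource (Q := RingHom.Smooth)
  rw [IsZariskiLocalAtSource.iff_of_iSup_eq_top (P := @Smooth)
    (fun y : T => I.subschemeι ⁻¹ᵁ (W y.1).1) (by
      rw [eq_top_iff]
      intro z _
      obtain ⟨y, hy, hz⟩ := Set.mem_iUnion₂.1 (hT (Set.mem_univ (I.subschemeι z)))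
      exact Opens.mem_iSup.2 ⟨⟨y, hy⟩, hz⟩)]
  intro y
  have : MorphismProperty.RespectsIso @Smooth := MorphismProperty.IsStableUnderBaseChange.respectsIso
  have : IsOpenImmersion (I.subschemeCover.f (W y.1)) := I.subschemeCover.openCover.map_prop (W y.1)
  rw [← I.opensRange_subschemeCover_map (W y.1), ← MorphismProperty.cancel_left_of_respectsIso
    @Smooth (I.subschemeCover.f (W y.1)).isoOpensRange.hom, Scheme.Hom.isoOpensRange_hom_ι_assoc,
    reassoc_of% (I.subschemeCover_map_subschemeι (W y.1))]
  have h1 := hq y.1 c (hc y.1 y.2)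
  rw [I.glueDataObjι_ι (W y.1)]
  rw [CommRingCat.ofHom_comp, Spec.map_comp, SpecMap_const (W y.1).2] at h1
  exact Eq.mp (congrArg Smooth (Category.assoc _ _ _).symm) h1

end Groth.Agent.Var76.BertiniChar0
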