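import Groth.Agent.Var76.GenSmooth

/-! Smoothness near the generic point of the source. -/

universe u

namespace Groth.Agent.Var76.GenSmooth

variable {A B : Type u} [CommRing A] [IsNoetherianRing A] [CommRing B] [IsDomain B] [Algebra A B]
  [Algebra.FiniteType A B]

/-- An algebra whose fraction field is formally smooth over the base is smooth near the generic
point. -/
theorem exists_away_smooth (L : Type u) [Field L] [Algebra B L] [IsFractionRing B L] [Algebra A L]
    [IsScalarTower A B L] [Algebra.FormallySmooth A L] :
    ∃ g : B, g ≠ 0 ∧ Algebra.Smooth A (Localization.Away g) := by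
  have : Algebra.FinitePresentation A B := Algebra.FinitePresentation.of_finiteType.1 ‹_›
  have hS : (⊥ : Ideal B).primeCompl = nonZeroDivisors B := by
    ext x
    simp
  have : IsLocalization (⊥ : Ideal B).primeCompl L := hS ▸ (inferInstance : IsLocalization (nonZeroDivisors B) L)
  have hsm : Algebra.IsSmoothAt A (⊥ : Ideal B) :=
    Algebra.FormallySmooth.of_equiv
      ((IsLocalization.algEquiv (⊥ : Ideal B).primeCompl L (Localization.AtPrime (⊥ : Ideal B))).restrictScalars A)
  obtain ⟨g, hg, hsub⟩ := hsm.exists_notMem_smooth
  exact ⟨g, fun h => hg (h ▸ Ideal.zero_mem _), hsub⟩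

end Groth.Agent.Var76.GenSmooth
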