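import Groth.Agent.Var76.BertiniScheme
import Groth.Agent.Div89.Stalk
import Groth.Prelude.Def_FixPt

/-! Fibres of quasi-coherent modules at closed points through affine charts. -/

universe u

open CategoryTheory AlgebraicGeometry TopologicalSpace

set_option backward.isDefEq.respectTransparency false

attribute [local instance] FixPt.fiberModule

namespace Groth.Agent.Var76.OmegaFibre

variable {k : Type u} [Field k] {X : Scheme.{u}} [X.Over (Spec (CommRingCat.of k))]

theorem germ_const {W : X.Opens} {x : X} (hx : x ∈ W) (r : k) :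
    X.presheaf.germ W x hx (BertiniScheme.const (k := k) X W r) = Curv2.stalkMap k X x r := by
  show X.presheaf.germ W x hx ((X ↘ Spec (CommRingCat.of k)).appLE ⊤ W le_top
    ((Scheme.ΓSpecIso (CommRingCat.of k)).inv r)) = _
  rw [Scheme.Hom.appLE, ConcreteCategory.comp_apply, TopCat.Presheaf.germ_res_apply]
  rfl

/-- The fibre of a quasi-coherent module at a closed point. -/
theorem fiber_equiv (F : X.Modules) (hF : Coh.IsQCoh F) (U : X.affineOpens) {x : X} (hx : x ∈ U.1)
    [(Div89.primeAt U x hx).IsMaximal] (N : Type u) [AddCommGroup N] [Module Γ(X, U.1) N]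
    (e : N ≃ₗ[Γ(X, U.1)] Γ(F, U.1)) [Module k N] :
    letI := (BertiniScheme.const (k := k) X U.1).toAlgebra
    ∀ [IsScalarTower k Γ(X, U.1) N],
      Nonempty ((N ⧸ (Div89.primeAt U x hx • ⊤ : Submodule Γ(X, U.1) N)) ≃ₗ[k] FixPt.fiber F x) := by
  letI := (BertiniScheme.const (k := k) X U.1).toAlgebra
  intro _
  let A := Γ(X, U.1)
  let O := X.presheaf.stalk x
  let p := Div89.primeAt U x hx
  letI := Div89.stalkModule F U.1 x hx
  letI := Div89.stalkAlg U.1 x hx
  have := Div89.isScalarTower_stalk F U.1 x hx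
  have := Div89.isLocalizedModule_germLin F hF U x hx
  have : IsLocalization.AtPrime O p := U.2.isLocalization_stalk ⟨x, hx⟩
  let gl := (Div89.germLin F U.1 x hx).comp e.toLinearMap
  have hloc : IsLocalizedModule p.primeCompl gl := inferInstance
  let π : N →ₗ[k] FixPt.fiber F x :=
    { toFun := fun n => FixPt.fiberMk F x (gl n)
      map_add' := fun a b => by rw [map_add, map_add]
      map_smul' := fun c n => by
        rw [← algebraMap_smul A c n, map_smul]
        show FixPt.fiberMk F x (X.presheaf.germ U.1 x hx (BertiniScheme.const (k := k) X U.1 c) • gl n) = _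
        rw [map_smul, germ_const]
        rfl }
  have hmax : ∀ a ∈ p, algebraMap A O a ∈ IsLocalRing.maximalIdeal O := fun a ha =>
    (IsLocalization.AtPrime.to_map_mem_maximal_iff O p a).2 ha
  have hker : ∀ n, π n = 0 ↔ n ∈ (p • ⊤ : Submodule A N) := by
    intro n
    constructor
    · intro hn
      have hn' : gl n ∈ (IsLocalRing.maximalIdeal O • ⊤ : Submodule O (F.presheaf.stalk x)) :=
        (Submodule.Quotient.mk_eq_zero _).1 hn
      have key : ∀ z ∈ (IsLocalRing.maximalIdeal O • ⊤ : Submodule O (F.presheaf.stalk x)),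
          ∃ t : A, t ∉ p ∧ ∃ m ∈ (p • ⊤ : Submodule A N), t • z = gl m := by
        intro z hz
        induction hz using Submodule.smul_induction_on' with
        | smul a ha w _ =>
          obtain ⟨⟨q, s⟩, hqs⟩ := IsLocalization.surj p.primeCompl a
          obtain ⟨⟨n', t⟩, hnt⟩ := IsLocalizedModule.surj p.primeCompl gl w
          refine ⟨s.1 * t.1, p.primeCompl.mul_mem s.2 t.2, q • n', Submodule.smul_mem_smul ?_ trivial, ?_⟩
          · exact (IsLocalization.AtPrime.to_map_mem_maximal_iff O p q).1 (hqs ▸ Ideal.mul_mem_right _ _ ha)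
          · rw [map_smul, ← hnt, ← algebraMap_smul O (s.1 * t.1) (a • w), ← algebraMap_smul O q]
            show _ = algebraMap A O q • (t.1 • w)
            rw [← algebraMap_smul O t.1 w, smul_smul, smul_smul]
            simp only at hqs
            rw [← hqs, map_mul]
            congr 1
            ring
        | add y _ z _ hy hz =>
          obtain ⟨t₁, ht₁, m₁, hm₁, e₁⟩ := hy
          obtain ⟨t₂, ht₂, m₂, hm₂, e₂⟩ := hz
          refine ⟨t₁ * t₂, p.primeCompl.mul_mem ht₁ ht₂, t₂ • m₁ + t₁ • m₂,
            add_mem (Submodule.smul_mem _ _ hm₁) (Submodule.smul_mem _ _ hm₂), ?_⟩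
          rw [map_add, map_smul, map_smul, ← e₁, ← e₂, smul_add, smul_smul, smul_smul, mul_comm t₂ t₁]
      obtain ⟨t, ht, m, hm, hmn⟩ := key _ hn'
      rw [← map_smul] at hmn
      obtain ⟨⟨c, hc⟩, hc'⟩ := IsLocalizedModule.exists_of_eq (S := p.primeCompl) hmn
      change c • (t • n) = c • m at hc'
      obtain ⟨i, hi⟩ := Ideal.Quotient.exists_inv (I := p) (a := Ideal.Quotient.mk p (c * t)) (by
        rw [Ne, Ideal.Quotient.eq_zero_iff_mem]
        exact p.primeCompl.mul_mem hc ht)
      obtain ⟨i, rfl⟩ := Ideal.Quotient.mk_surjective i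
      rw [← map_mul, ← map_one (Ideal.Quotient.mk p), Ideal.Quotient.eq] at hi
      have hsum : n = i • (c • m) - (c * t * i - 1) • n := by
        rw [← hc', sub_smul, one_smul, smul_smul, smul_smul, show i * c * t = c * t * i by ring]
        abel
      rw [hsum]
      exact sub_mem (Submodule.smul_mem _ _ (Submodule.smul_mem _ _ hm))
        (Submodule.smul_mem_smul hi trivial)
    · intro hn
      refine (Submodule.Quotient.mk_eq_zero _).2 ?_
      induction hn using Submodule.smul_induction_on' with
      | smul a ha w _ =>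
        rw [map_smul, ← algebraMap_smul O a]
        exact Submodule.smul_mem_smul (hmax a ha) trivial
      | add y _ z _ hy hz => rw [map_add]; exact add_mem hy hz
  have hsurj : Function.Surjective π := by
    intro z
    obtain ⟨w, rfl⟩ := Submodule.Quotient.mk_surjective _ z
    obtain ⟨⟨n, t⟩, hnt⟩ := IsLocalizedModule.surj p.primeCompl gl w
    obtain ⟨i, hi⟩ := Ideal.Quotient.exists_inv (I := p) (a := Ideal.Quotient.mk p t.1) (by
      rw [Ne, Ideal.Quotient.eq_zero_iff_mem]; exact t.2)
    obtain ⟨i, rfl⟩ := Ideal.Quotient.mk_surjective i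
    rw [← map_mul, ← map_one (Ideal.Quotient.mk p), Ideal.Quotient.eq] at hi
    refine ⟨i • n, (Submodule.Quotient.eq _).2 ?_⟩
    have he : gl (i • n) - w = (t.1 * i - 1) • w := by
      rw [map_smul, ← hnt, sub_smul, one_smul, mul_comm, mul_smul]
      rfl
    rw [he, ← algebraMap_smul O (t.1 * i - 1)]
    exact Submodule.smul_mem_smul (hmax _ hi) trivial
  let P := (p • ⊤ : Submodule A N)
  have hk : LinearMap.ker π = P.restrictScalars k := SetLike.ext fun n => hker n
  exact ⟨(Submodule.Quotient.restrictScalarsEquiv k P).symm ≪≫ₗ Submodule.quotEquivOfEq _ _ hk.symm ≪≫ₗ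
    π.quotKerEquivOfSurjective hsurj⟩

end Groth.Agent.Var76.OmegaFibre
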