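import Mathlib.RingTheory.MvPolynomial.Homogeneous
import Mathlib.Algebra.Polynomial.BigOperators
import Mathlib.Algebra.Polynomial.Degree.Lemmas

/-! Leading coefficient of a polynomial after the substitution `x_i ↦ x_i + g_i t^N`. -/

namespace Groth.Agent.Var76.Twist

universe u v

open Polynomial

variable {k : Type u} [Field k] {r : ℕ} {K : Type v} [Field K] [Algebra k K]

/-- The substitution `x_i ↦ x_i + g_i t^N`. -/
noncomputable def sub (N : ℕ) (g : Fin r → K) :
    MvPolynomial (Fin r) k →ₐ[k] Polynomial (MvPolynomial (Fin r) K) :=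
  MvPolynomial.aeval (fun i : Fin r => C (MvPolynomial.X i) + C (MvPolynomial.C (g i)) * X ^ N)

theorem sub_monomial (N : ℕ) (hN : N ≠ 0) (g : Fin r → K) (a : Fin r →₀ ℕ) (c : k) :
    (sub N g (MvPolynomial.monomial a c)).natDegree ≤ N * a.degree ∧
      (sub N g (MvPolynomial.monomial a c)).coeff (N * a.degree) =
        MvPolynomial.C (MvPolynomial.aeval g (MvPolynomial.monomial a c)) := by
  induction a using Finsupp.induction_linear generalizing c with
  | zero =>
    rw [MvPolynomial.monomial_zero', sub, MvPolynomial.aeval_C, MvPolynomial.aeval_C]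
    simp [Polynomial.algebraMap_apply, MvPolynomial.algebraMap_eq, IsScalarTower.algebraMap_apply k K (MvPolynomial (Fin r) K)]
  | add a b ha hb =>
    have hsplit : MvPolynomial.monomial (a + b) c =
        MvPolynomial.monomial a c * MvPolynomial.monomial b (1 : k) := by simp
    obtain ⟨ha1, ha2⟩ := ha c
    obtain ⟨hb1, hb2⟩ := hb 1
    rw [hsplit, map_mul, map_mul, map_mul, map_add, mul_add]
    exact ⟨natDegree_mul_le_of_le ha1 hb1, by rw [coeff_mul_add_eq_of_natDegree_le ha1 hb1, ha2, hb2]⟩
  | single i e =>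
    have hsingle : MvPolynomial.monomial (Finsupp.single i e) c =
        MvPolynomial.C c * MvPolynomial.X i ^ e := by
      rw [← MvPolynomial.C_mul_X_pow_eq_monomial]
    simp only [hsingle, map_mul, map_pow, sub, MvPolynomial.aeval_C, MvPolynomial.aeval_X,
      Finsupp.degree_single, IsScalarTower.algebraMap_apply k K (MvPolynomial (Fin r) K),
      Polynomial.algebraMap_apply, MvPolynomial.algebraMap_eq]
    have h1 : (C (MvPolynomial.X i) + C (MvPolynomial.C (g i)) * X ^ N :
        Polynomial (MvPolynomial (Fin r) K)).natDegree ≤ N := by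
      refine natDegree_add_le_of_degree_le ?_ (natDegree_C_mul_X_pow_le _ _)
      simp
    constructor
    · rw [mul_comm N e]
      exact natDegree_C_mul_le _ _ |>.trans (natDegree_pow_le_of_le _ h1)
    · rw [coeff_C_mul, mul_comm N e, coeff_pow_of_natDegree_le h1]
      simp [hN, coeff_C]

theorem sub_bound (N : ℕ) (hN : N ≠ 0) (g : Fin r → K) (p : MvPolynomial (Fin r) k) (D : ℕ)
    (hp : p.totalDegree ≤ D) :
    (sub N g p).natDegree ≤ N * p.totalDegree ∧
      (sub N g p).coeff (N * D) =
        MvPolynomial.C (MvPolynomial.aeval g (MvPolynomial.homogeneousComponent D p)) := by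
  classical
  have hle : ∀ a ∈ p.support, a.degree ≤ p.totalDegree := fun a ha => by
    exact le_of_eq_of_le rfl (MvPolynomial.le_totalDegree ha)
  constructor
  · conv_lhs => rw [p.as_sum, map_sum]
    exact natDegree_sum_le_of_forall_le _ _ fun a ha =>
      (sub_monomial N hN g a _).1.trans (Nat.mul_le_mul_left _ (hle a ha))
  · conv_lhs => rw [p.as_sum, map_sum, finsetSum_coeff]
    rw [MvPolynomial.homogeneousComponent_apply, map_sum, map_sum, Finset.sum_filter]
    refine Finset.sum_congr rfl fun a ha => ?_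
    rcases eq_or_lt_of_le ((hle a ha).trans hp) with h | h
    · rw [if_pos h, ← h]
      exact (sub_monomial N hN g a _).2
    · rw [if_neg h.ne]
      refine (coeff_eq_zero_of_natDegree_lt (lt_of_le_of_lt (sub_monomial N hN g a _).1 ?_)).trans (by simp)
      exact Nat.mul_lt_mul_of_pos_left h (Nat.pos_of_ne_zero hN)

/-- The maximal total degree of the coefficients. -/
noncomputable def topDeg (f : Polynomial (MvPolynomial (Fin r) k)) : ℕ :=
  f.support.sup fun j => (f.coeff j).totalDegree

theorem exists_top (f : Polynomial (MvPolynomial (Fin r) k)) (hf : f ≠ 0) :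
    ∃ j₀ ∈ f.support, (f.coeff j₀).totalDegree = topDeg f ∧
      ∀ j ∈ f.support, j₀ < j → (f.coeff j).totalDegree < topDeg f := by
  classical
  have hne : (f.support.filter fun j => (f.coeff j).totalDegree = topDeg f).Nonempty := by
    obtain ⟨j, hj, hjeq⟩ := Finset.exists_mem_eq_sup f.support (support_nonempty.2 hf)
      (fun j => (f.coeff j).totalDegree)
    exact ⟨j, Finset.mem_filter.2 ⟨hj, hjeq.symm⟩⟩
  obtain ⟨h1, h2⟩ := Finset.mem_filter.1 (Finset.max'_mem _ hne)
  refine ⟨_, h1, h2, fun j hj hlt => lt_of_le_of_ne (Finset.le_sup (f := fun j => (f.coeff j).totalDegree) hj) fun he => ?_⟩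
  exact absurd (Finset.le_max' _ j (Finset.mem_filter.2 ⟨hj, he⟩)) (not_le.2 hlt)

theorem leadingCoeff_eq (f : Polynomial (MvPolynomial (Fin r) k)) (hf : f ≠ 0) :
    ∃ (h : MvPolynomial (Fin r) k) (j₀ : ℕ), h ≠ 0 ∧ j₀ ∈ f.support ∧
      (topDeg f = 0 → j₀ = f.natDegree) ∧
      ∀ N : ℕ, f.natDegree < N → ∀ (K : Type v) [Field K] [Algebra k K] (g : Fin r → K),
        MvPolynomial.aeval g h ≠ 0 →
        (eval₂ (sub (k := k) N g).toRingHom X f).natDegree = N * topDeg f + j₀ ∧
        (eval₂ (sub (k := k) N g).toRingHom X f).leadingCoeff =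
          MvPolynomial.C (MvPolynomial.aeval g h) := by
  classical
  obtain ⟨j₀, hj₀, hdeg, hmax⟩ := exists_top f hf
  refine ⟨MvPolynomial.homogeneousComponent (topDeg f) (f.coeff j₀), j₀, ?_, hj₀, ?_, ?_⟩
  · rw [← hdeg]
    obtain ⟨a, ha, hadeg⟩ := Finset.exists_mem_eq_sup _
      (MvPolynomial.support_nonempty.2 (mem_support_iff.1 hj₀)) (fun s : Fin r →₀ ℕ => s.sum fun _ e => e)
    intro h0
    have := congrArg (MvPolynomial.coeff a) h0
    rw [MvPolynomial.coeff_homogeneousComponent, if_pos] at this
    · exact MvPolynomial.mem_support_iff.1 ha (by simpa using this)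
    · exact hadeg.symm
  · intro h0
    by_contra hne
    have := hmax f.natDegree (natDegree_mem_support_of_nonzero hf)
      (lt_of_le_of_ne (le_natDegree_of_mem_supp _ hj₀) hne)
    omega
  intro N hN K _ _ g hg
  have hN0 : N ≠ 0 := by omega
  set D := topDeg f
  set φ := (sub (k := k) N g).toRingHom
  have hb : ∀ j ∈ f.support, (φ (f.coeff j) * X ^ j).natDegree ≤ N * (f.coeff j).totalDegree + j :=
    fun j _ => natDegree_mul_le_of_le (sub_bound N hN0 g _ _ le_rfl).1 (natDegree_X_pow_le j)
  have hkey : ∀ j ∈ f.support, j ≠ j₀ → N * (f.coeff j).totalDegree + j < N * D + j₀ := by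
    intro j hj hne
    have hle : (f.coeff j).totalDegree ≤ D := Finset.le_sup (f := fun j => (f.coeff j).totalDegree) hj
    rcases eq_or_lt_of_le hle with h | h
    · rw [h]
      rcases lt_or_gt_of_ne hne with h' | h'
      · omega
      · exact absurd (hmax j hj h') (by omega)
    · have h1 : N * ((f.coeff j).totalDegree + 1) ≤ N * D := Nat.mul_le_mul_left _ h
      have h2 : j ≤ f.natDegree := le_natDegree_of_mem_supp _ hj
      rw [Nat.mul_succ] at h1
      omega
  have heq : eval₂ φ X f = ∑ j ∈ f.support, φ (f.coeff j) * X ^ j := eval₂_eq_sum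
  have hcoeff : (eval₂ φ X f).coeff (N * D + j₀) =
      MvPolynomial.C (MvPolynomial.aeval g (MvPolynomial.homogeneousComponent D (f.coeff j₀))) := by
    rw [heq, finsetSum_coeff, Finset.sum_eq_single j₀]
    · rw [coeff_mul_X_pow]
      exact (sub_bound N hN0 g _ D hdeg.le).2
    · exact fun j hj hne => coeff_eq_zero_of_natDegree_lt (lt_of_le_of_lt (hb j hj) (hkey j hj hne))
    · exact fun h => absurd hj₀ h
  have hnd : (eval₂ φ X f).natDegree = N * D + j₀ := by
    refine le_antisymm ?_ (le_natDegree_of_ne_zero ?_)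
    · rw [heq]
      refine natDegree_sum_le_of_forall_le _ _ fun j hj => (hb j hj).trans ?_
      rcases eq_or_ne j j₀ with rfl | hne
      · rw [hdeg]
      · exact (hkey j hj hne).le
    · rw [hcoeff]
      exact fun h0 => hg ((MvPolynomial.C_eq_zero).1 h0)
  exact ⟨hnd, by rw [leadingCoeff, hnd, hcoeff]⟩

end Groth.Agent.Var76.Twist
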