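import Groth.Agent.Crv77.Hopf
import Groth.Agent.Amp73.Powers
import Groth.Agent.H98Pos.Big
import Groth.Agent.Serre71.Finite
import Mathlib.Analysis.SpecificLimits.Basic
import Mathlib.Order.LiminfLimsup
import Mathlib.Order.Filter.ENNReal

/-! The semigroup of exponents with sections, and scaling of the upper volume. -/

set_option autoImplicit false
universe u

open CategoryTheory CategoryTheory.Limits AlgebraicGeometry TopologicalSpace Opposite
open scoped ENNReal Topology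

noncomputable section

namespace Groth.Agent.Var76.Growth

/-- A numerical function behaving like the dimensions of the sections of the powers. -/
structure SecFun (h : ℕ → ℕ) : Prop where
  zero : h 0 ≠ 0
  mono : ∀ r m, h r ≠ 0 → h m ≤ h (r + m)

theorem SecFun.add {h : ℕ → ℕ} (H : SecFun h) {r s : ℕ} (hr : h r ≠ 0) (hs : h s ≠ 0) : h (r + s) ≠ 0 := by
  have := H.mono r s hr
  omega

theorem SecFun.mul {h : ℕ → ℕ} (H : SecFun h) {r : ℕ} (hr : h r ≠ 0) : ∀ t : ℕ, h (t * r) ≠ 0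
  | 0 => by simpa using H.zero
  | t + 1 => by
    rw [Nat.succ_mul]
    exact H.add (SecFun.mul H hr t) hr

/-- Every exponent with sections is dominated by a nearby multiple of `a`. -/
theorem SecFun.exists_near {h : ℕ → ℕ} (H : SecFun h) {a : ℕ} (ha : 0 < a) :
    ∃ C : ℕ, ∀ m : ℕ, h m ≠ 0 → ∃ j : ℕ, m ≤ a * j ∧ a * j ≤ m + C ∧ h m ≤ h (a * j) := by
  classical
  let pick : ℕ → ℕ := fun ρ => if hρ : ∃ r, h r ≠ 0 ∧ r % a = ρ then hρ.choose else 0
  refine ⟨∑ ρ ∈ Finset.range a, pick ρ, fun m hm => ?_⟩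
  have hex : ∃ r, h r ≠ 0 ∧ r % a = (a - 1) * m % a := ⟨(a - 1) * m, H.mul hm _, rfl⟩
  let r := pick ((a - 1) * m % a)
  have hr : h r ≠ 0 ∧ r % a = (a - 1) * m % a := by
    have : r = hex.choose := dif_pos hex
    rw [this]
    exact hex.choose_spec
  have hdvd : a ∣ r + m := by
    rw [Nat.dvd_iff_mod_eq_zero, Nat.add_mod, hr.2, ← Nat.add_mod]
    obtain ⟨b, rfl⟩ : ∃ b, a = b + 1 := ⟨a - 1, by omega⟩
    rw [Nat.add_sub_cancel, ← Nat.succ_mul, Nat.mul_mod_right]
  obtain ⟨j, hj⟩ := hdvd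
  refine ⟨j, by omega, ?_, ?_⟩
  · have : r ≤ ∑ ρ ∈ Finset.range a, pick ρ :=
      Finset.single_le_sum (f := pick) (fun i _ => Nat.zero_le _) (Finset.mem_range.2 (Nat.mod_lt _ ha))
    omega
  · rw [← hj]
    exact H.mono r m hr.1

/-- The upper growth rate of a numerical function in degree `d`. -/
def upperVol (h : ℕ → ℕ) (d : ℕ) : ℝ≥0∞ :=
  Filter.limsup (fun m : ℕ => (h m : ℝ≥0∞) / (m : ℝ≥0∞) ^ d) Filter.atTop

theorem SecFun.upperVol_scale {h : ℕ → ℕ} (H : SecFun h) {a : ℕ} (ha : 0 < a) (d : ℕ) :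
    upperVol (fun j => h (a * j)) d = (a : ℝ≥0∞) ^ d * upperVol h d := by
  have ha0 : (a : ℝ≥0∞) ^ d ≠ 0 := pow_ne_zero _ (Nat.cast_ne_zero.2 ha.ne')
  have hat : (a : ℝ≥0∞) ^ d ≠ ⊤ := ENNReal.pow_ne_top (ENNReal.natCast_ne_top a)
  have hmul : (a : ℝ≥0∞) ^ d * upperVol h d =
      Filter.limsup (fun m : ℕ => (a : ℝ≥0∞) ^ d * ((h m : ℝ≥0∞) / (m : ℝ≥0∞) ^ d)) Filter.atTop :=
    (ENNReal.limsup_const_mul_of_ne_top hat).symm
  rw [hmul]
  refine le_antisymm ?_ ?_
  · have e : ∀ j : ℕ, (h (a * j) : ℝ≥0∞) / (j : ℝ≥0∞) ^ d =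
        (a : ℝ≥0∞) ^ d * ((h (a * j) : ℝ≥0∞) / ((a * j : ℕ) : ℝ≥0∞) ^ d) := fun j => by
      rw [Nat.cast_mul, mul_pow, mul_div_assoc', ENNReal.mul_div_mul_left _ _ ha0 hat]
    refine (le_of_eq (congrArg (fun f => Filter.limsup f Filter.atTop) (funext e))).trans ?_
    have ht : Filter.Tendsto (fun j : ℕ => a * j) Filter.atTop Filter.atTop :=
      Filter.tendsto_atTop_mono (fun j => Nat.le_mul_of_pos_left j ha) Filter.tendsto_id
    exact (Filter.limsup_comp (fun m : ℕ => (a : ℝ≥0∞) ^ d * ((h m : ℝ≥0∞) / (m : ℝ≥0∞) ^ d))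
      (fun j : ℕ => a * j) Filter.atTop).trans_le (Filter.limsup_le_limsup_of_le ht)
  · refine le_of_forall_gt_imp_ge_of_dense fun b hb => ?_
    obtain ⟨b', hb', hbb⟩ := exists_between hb
    obtain ⟨C, hC⟩ := H.exists_near ha
    obtain ⟨N, hN⟩ := Filter.eventually_atTop.1 (Filter.eventually_lt_of_limsup_lt hb')
    have hlim : Filter.Tendsto (fun m : ℕ => b' * (1 + (C : ℝ≥0∞) * (m : ℝ≥0∞)⁻¹) ^ d) Filter.atTop (𝓝 b') := by
      have h1 : Filter.Tendsto (fun m : ℕ => (C : ℝ≥0∞) * (m : ℝ≥0∞)⁻¹) Filter.atTop (𝓝 0) := by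
        have := ENNReal.Tendsto.const_mul (a := (C : ℝ≥0∞)) ENNReal.tendsto_inv_nat_nhds_zero
          (Or.inr (ENNReal.natCast_ne_top C))
        rwa [mul_zero] at this
      have h2' := ((tendsto_const_nhds (x := (1 : ℝ≥0∞))).add h1)
      have h2 := ((ENNReal.continuous_pow d).tendsto _).comp h2'
      simp only [Function.comp_def, add_zero, one_pow] at h2
      have h3 := ENNReal.Tendsto.const_mul (a := b') h2 (Or.inl one_ne_zero)
      rwa [mul_one] at h3
    refine Filter.limsup_le_of_le (h := ?_)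
    filter_upwards [hlim.eventually_lt_const hbb, Filter.eventually_ge_atTop (a * N + 1)] with m hm hmN
    rcases eq_or_ne (h m) 0 with h0 | h0
    · simp [h0]
    obtain ⟨j, hj1, hj2, hj3⟩ := hC m h0
    have hjN : N ≤ j := by
      by_contra hlt
      have := Nat.mul_le_mul_left a (Nat.le_of_lt (Nat.lt_of_not_le hlt))
      omega
    have hj0 : (j : ℝ≥0∞) ^ d ≠ 0 := by
      refine pow_ne_zero _ (Nat.cast_ne_zero.2 ?_)
      rintro rfl
      omega
    have hg : (h (a * j) : ℝ≥0∞) ≤ b' * (j : ℝ≥0∞) ^ d := by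
      have := (hN j hjN).le
      exact (ENNReal.div_le_iff hj0 (ENNReal.pow_ne_top (ENNReal.natCast_ne_top j))).1 this
    have hm0 : (m : ℝ≥0∞) ≠ 0 := Nat.cast_ne_zero.2 (by omega)
    refine le_trans ?_ hm.le
    rw [mul_div_assoc', ENNReal.div_le_iff (pow_ne_zero _ hm0) (ENNReal.pow_ne_top (ENNReal.natCast_ne_top m)),
      mul_assoc, ← mul_pow, add_mul, one_mul, mul_assoc, ENNReal.inv_mul_cancel hm0 (ENNReal.natCast_ne_top m),
      mul_one]
    calc (a : ℝ≥0∞) ^ d * (h m : ℝ≥0∞) ≤ (a : ℝ≥0∞) ^ d * (b' * (j : ℝ≥0∞) ^ d) :=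
          mul_le_mul_right ((Nat.cast_le.2 hj3).trans hg) _
      _ = b' * (((a * j : ℕ) : ℝ≥0∞)) ^ d := by rw [Nat.cast_mul, mul_pow]; ring
      _ ≤ b' * ((m : ℝ≥0∞) + (C : ℝ≥0∞)) ^ d := by
          refine mul_le_mul_right (pow_le_pow_left₀ zero_le ?_ d) _
          rw [← Nat.cast_add]
          exact Nat.cast_le.2 hj2

theorem upperVol_mono {h h' : ℕ → ℕ} (hle : ∀ m, h m ≤ h' m) (d : ℕ) : upperVol h d ≤ upperVol h' d :=
  Filter.limsup_le_limsup (Filter.Eventually.of_forall fun m => ENNReal.div_le_div_right (Nat.cast_le.2 (hle m)) _)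

section Scheme

variable (k : Type u) [Field k] {X : Scheme.{u}} [X.Over (Spec (CommRingCat.of k))]
  [IsProper (X ↘ (Spec (CommRingCat.of k)))]

/-- The dimension of the sections of a power. -/
def hp (L : X.Modules) (m : ℕ) : ℕ := Module.finrank k (Coh.HH X (CohB1.tensorPow L m) 0)

theorem finite_hh0 {M : X.Modules} (hM : PicF.IsInvertible M) : Module.Finite k (Coh.HH X M 0) :=
  Serre71.finite_hh_of_isProper k M (Amp73.isCoh_of_isInvertible hM) 0

theorem finrank_le_of_sec [IsIntegral X] {M N : X.Modules} (hM : PicF.IsInvertible M) (hN : PicF.IsInvertible N)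
    (h : Nontrivial (Coh.HH X M 0)) :
    Module.finrank k (Coh.HH X N 0) ≤ Module.finrank k (Coh.HH X (CohB1.tensorMod M N) 0) := by
  obtain ⟨v, hv⟩ := exists_ne (0 : Coh.HH X M 0)
  have := finite_hh0 k (EGA73.isInvertible_tensorMod hM hN)
  exact LinearMap.finrank_le_finrank_of_injective (Crv77.mulSec_injective (k := k) hM hN hv)

theorem hp_congr {L L' : X.Modules} (e : L ≅ L') (m : ℕ) : hp k L m = hp k L' m :=
  (Crv77.hEquiv k (Amp73.powIso e m) 0).finrank_eq

theorem hp_pow (L : X.Modules) (a m : ℕ) : hp k (CohB1.tensorPow L a) m = hp k L (a * m) :=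
  (Crv77.hEquiv k (Amp73.powMul L a m) 0).finrank_eq

theorem hp_ne_zero_iff {L : X.Modules} (hL : PicF.IsInvertible L) (m : ℕ) :
    hp k L m ≠ 0 ↔ Nontrivial (Coh.HH X (CohB1.tensorPow L m) 0) := by
  have := finite_hh0 k (EGA73.isInvertible_tensorPow hL m)
  exact Nat.pos_iff_ne_zero.symm.trans Module.finrank_pos_iff

theorem nontrivial_structure [IsIntegral X] : Nontrivial (Coh.HH X (Coh.structureModule X) 0) := by
  have : Nontrivial Γ(Coh.structureModule X, ⊤) := inferInstanceAs (Nontrivial Γ(X, ⊤))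
  exact (Crv77.sec (Coh.structureModule X)).toEquiv.nontrivial

theorem secFun [IsIntegral X] {L : X.Modules} (hL : PicF.IsInvertible L) : SecFun (hp k L) where
  zero := (hp_ne_zero_iff k hL 0).2 nontrivial_structure
  mono r m hr := by
    refine (finrank_le_of_sec k (EGA73.isInvertible_tensorPow hL r) (EGA73.isInvertible_tensorPow hL m)
      ((hp_ne_zero_iff k hL r).1 hr)).trans_eq ?_
    exact (Crv77.hEquiv k (Amp73.powAdd L r m) 0).finrank_eq

/-- Twisting by an effective module does not decrease sections of powers. -/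
theorem hp_le_of_effective [IsIntegral X] {L E : X.Modules} (hL : PicF.IsInvertible L) (hE : PicF.IsInvertible E)
    (h : Nontrivial (Coh.HH X E 0)) (m : ℕ) : hp k L m ≤ hp k (CohB1.tensorMod L E) m := by
  have h1 : hp k E 1 ≠ 0 := by
    refine (hp_ne_zero_iff k hE 1).2 ?_
    exact (Crv77.hEquiv k (Amp73.powOne E) 0).toEquiv.nontrivial
  have hm := (secFun k hE).mul h1 m
  rw [mul_one] at hm
  refine (finrank_le_of_sec k (EGA73.isInvertible_tensorPow hE m) (EGA73.isInvertible_tensorPow hL m)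
    ((hp_ne_zero_iff k hE m).1 hm)).trans_eq ?_
  exact (Crv77.hEquiv k (EGA73.tensComm _ _ ≪≫ (Amp73.powTens L E m).symm) 0).finrank_eq

end Scheme

end Groth.Agent.Var76.Growth

end
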