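import Groth.Agent.Var76.H0Growth
import Groth.Agent.Var76.SectionSemigroup
import Groth.Agent.VarCurve.HomDeg
import Groth.Agent.Snapper75.Coeff
import Groth.Agent.Crv77.IdealSeq

/-! Kodaira's lemma: growth of degree the dimension gives sections after removing something small. -/

set_option autoImplicit false
set_option backward.isDefEq.respectTransparency.types false
universe u

open CategoryTheory CategoryTheory.Limits AlgebraicGeometry TopologicalSpace Opposite
open scoped ENNReal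

noncomputable section

namespace Groth.Agent.Var76.Growth

/-- Growth of full degree along a sequence. -/
def BigFreq (h : ℕ → ℕ) (d : ℕ) : Prop := ∀ C : ℕ, ∃ m : ℕ, 0 < m ∧ C * w d m < h m

theorem bigFreq_of_frequently {h : ℕ → ℕ} {d : ℕ} {c : ℝ} (hc : 0 < c)
    (hf : ∃ᶠ m : ℕ in Filter.atTop, c * (m : ℝ) ^ d < (h m : ℝ)) : BigFreq h d := by
  intro C
  obtain ⟨N, hN⟩ := exists_nat_gt ((C : ℝ) * 2 ^ d / c)
  obtain ⟨m, hm, hlt⟩ := Filter.frequently_atTop.1 hf (N + 1)
  refine ⟨m, by omega, ?_⟩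
  rcases d with _ | e
  · simp only [w, mul_zero]
    simp only [pow_zero, mul_one] at hlt
    exact_mod_cast hc.trans hlt
  · have hm1 : (1 : ℝ) ≤ m := by exact_mod_cast (by omega : 1 ≤ m)
    have h1 : ((C * w (e + 1) m : ℕ) : ℝ) ≤ (C : ℝ) * (2 ^ (e + 1) * (m : ℝ) ^ e) := by
      simp only [w, Nat.cast_mul, Nat.cast_pow, Nat.cast_add, Nat.cast_one]
      refine mul_le_mul_of_nonneg_left ?_ (Nat.cast_nonneg C)
      refine (pow_le_pow_left₀ (by positivity) (by linarith : (m : ℝ) + 1 ≤ 2 * m) e).trans ?_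
      rw [mul_pow]
      exact mul_le_mul_of_nonneg_right (pow_le_pow_right₀ (by norm_num) (Nat.le_succ e)) (by positivity)
    have h2 : (C : ℝ) * 2 ^ (e + 1) ≤ c * m := by
      have h3 : (C : ℝ) * 2 ^ (e + 1) < N * c := (div_lt_iff₀ hc).1 hN
      have h4 : (N : ℝ) ≤ m := by exact_mod_cast (by omega : N ≤ m)
      have h5 := mul_le_mul_of_nonneg_right h4 hc.le
      linarith
    have h6 : (C : ℝ) * (2 ^ (e + 1) * (m : ℝ) ^ e) ≤ c * (m : ℝ) ^ (e + 1) := by
      rw [← mul_assoc, pow_succ' (m : ℝ), ← mul_assoc c]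
      exact mul_le_mul_of_nonneg_right h2 (by positivity)
    exact_mod_cast (h1.trans h6).trans_lt hlt

theorem bigFreq_of_eventually {h : ℕ → ℕ} {d : ℕ}
    (hb : ∃ c : ℝ, 0 < c ∧ ∀ᶠ m : ℕ in Filter.atTop, c * (m : ℝ) ^ d < (h m : ℝ)) : BigFreq h d := by
  obtain ⟨c, hc, hf⟩ := hb
  exact bigFreq_of_frequently hc hf.frequently

theorem bigFreq_of_upperVol {h : ℕ → ℕ} {d : ℕ} (hb : 0 < upperVol h d) : BigFreq h d := by
  obtain ⟨q, hq0, hq⟩ := exists_between hb
  have hqt : q ≠ ⊤ := hq.ne_top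
  refine bigFreq_of_frequently (ENNReal.toReal_pos hq0.ne' hqt) ?_
  have hfr : ∃ᶠ m : ℕ in Filter.atTop, q < (h m : ℝ≥0∞) / (m : ℝ≥0∞) ^ d :=
    Filter.frequently_lt_of_lt_limsup (by isBoundedDefault) hq
  refine (hfr.and_eventually (Filter.eventually_ge_atTop 1)).mono fun m hm => ?_
  have h0 : (m : ℝ≥0∞) ^ d ≠ 0 := pow_ne_zero _ (Nat.cast_ne_zero.2 (by omega))
  have h1 : q * (m : ℝ≥0∞) ^ d < (h m : ℝ≥0∞) :=
    (ENNReal.lt_div_iff_mul_lt (Or.inl h0) (Or.inl (ENNReal.pow_ne_top (ENNReal.natCast_ne_top m)))).1 hm.1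
  have h2 := (ENNReal.toReal_lt_toReal (ENNReal.mul_ne_top hqt (ENNReal.pow_ne_top (ENNReal.natCast_ne_top m)))
    (ENNReal.natCast_ne_top (h m))).2 h1
  simpa [ENNReal.toReal_mul, ENNReal.toReal_pow] using h2

variable (k : Type u) [Field k] {X : Scheme.{u}} [X.Over (Spec (CommRingCat.of k))]
  [IsProper (X ↘ (Spec (CommRingCat.of k)))]

omit [IsProper (X ↘ (Spec (CommRingCat.of k)))] in
theorem h0_structure (L : X.Modules) (m : ℕ) : h0 k L (Coh.structureModule X) m = hp k L m :=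
  (Crv77.hEquiv k (EGA73.tensUnitLeft (CohB1.tensorPow L m)) 0).finrank_eq

/-- Kodaira: the kernel of `O → Q`, with `Q` of smaller dimension, keeps sections in some power. -/
theorem exists_nontrivial_kernel {L : X.Modules} (hL : PicF.IsInvertible L) {d : ℕ} (hb : BigFreq (hp k L) d)
    {S : ShortComplex X.Modules} (hS : S.ShortExact) (e : S.X₂ ≅ Coh.structureModule X) (h₁ : Coh.IsCoh S.X₁)
    (h₃ : Coh.IsCoh S.X₃) (hd : topologicalKrullDim (CohB1.support S.X₃) < (d : WithBot ℕ∞)) :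
    ∃ m : ℕ, 0 < m ∧ Nontrivial (Coh.HH X (CohB1.tensorMod S.X₁ (CohB1.tensorPow L m)) 0) := by
  obtain ⟨C, hC⟩ := bd_of_dim k hL d S.X₃ h₃ hd
  obtain ⟨m, hm0, hm⟩ := hb C
  refine ⟨m, hm0, ?_⟩
  have h₂ : Coh.IsCoh S.X₂ := QC70.isCoh_X₂ S hS h₁ h₃
  have h := h0_subadd k hL hS h₂ h₃ m
  rw [h0_congr k e m, h0_structure] at h
  have := hC m
  have := finite_h0 k (isCoh_twist hL h₁ m)
  exact Module.finrank_pos_iff (R := k).1 (show 0 < h0 k L S.X₁ m by omega)

theorem exists_sections_idealMod {L : X.Modules} (hL : PicF.IsInvertible L) {d : ℕ} (hb : BigFreq (hp k L) d)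
    (Z : X.IdealSheafData) (hZ : topologicalKrullDim (Z.support : Set X) < (d : WithBot ℕ∞)) :
    ∃ m : ℕ, 0 < m ∧
      Nontrivial (Coh.HH X (CohB1.tensorMod (ClSub.idealMod Z) (CohB1.tensorPow L m)) 0) := by
  have := Crv77.isNoetherian_of_proper k X
  let S : ShortComplex X.Modules :=
    ShortComplex.mk (ClSub.idealModι Z) (ClSub.toSubscheme Z) (kernel.condition _)
  have hS : S.ShortExact := Crv77.idealSeq_shortExact Z
  have h₁ : Coh.IsCoh S.X₁ := Crv77.isCoh_idealMod Z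
  have h₃ : Coh.IsCoh S.X₃ := Crv77.isCoh_quotMod Z
  have hd : topologicalKrullDim (CohB1.support S.X₃) < (d : WithBot ℕ∞) :=
    lt_of_le_of_lt (LC17.dim_mono (Snapper75.support_quotMod_subset Z)) hZ
  have key := exists_nontrivial_kernel k hL hb (S := S) hS (Iso.refl S.X₂) h₁ h₃ hd
  exact key

variable [IsIntegral X]

include k in
/-- Kodaira's lemma. -/
theorem kodaira {L : X.Modules} (hL : PicF.IsInvertible L) {d : ℕ}
    (hd : topologicalKrullDim X ≤ (d : WithBot ℕ∞)) (hb : BigFreq (hp k L) d) {A A' : X.Modules}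
    (hA : PicF.IsInvertible A) (hA' : PicF.IsInvertible A')
    (ε : CohB1.tensorMod A A' ≅ Coh.structureModule X) (hs : H98Pos.HasSec A) :
    ∃ m : ℕ, 0 < m ∧ Nontrivial (Coh.HH X (CohB1.tensorMod A' (CohB1.tensorPow L m)) 0) := by
  have := Crv77.isNoetherian_of_proper k X
  obtain ⟨s, hs⟩ := hs
  let φ : A' ⟶ Coh.structureModule X := (EGA73.tensUnitLeft A').inv ≫ H98Pos.tensMap s A' ≫ ε.hom
  have hφ : φ ≠ 0 := fun h0 => by
    have h1 : H98Pos.tensMap s A' ≫ ε.hom = 0 :=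
      (cancel_epi (EGA73.tensUnitLeft A').inv).1 (h0.trans comp_zero.symm)
    exact H98Pos.tensMap_ne_zero EGA73.isInvertible_structureModule hA hA' hs
      ((cancel_mono ε.hom).1 (h1.trans zero_comp.symm))
  obtain ⟨hm, hgen⟩ := VarCurve.hom_of_invertible hA' EGA73.isInvertible_structureModule φ hφ
  have hA'c := Amp73.isCoh_of_isInvertible hA'
  have hOc := Amp73.isCoh_of_isInvertible (EGA73.isInvertible_structureModule (X := X))
  have hQ : Coh.IsCoh (cokernel φ) := QC70.isCoh_cokernel φ hA'c.1 hOc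
  have hS : (ShortComplex.mk φ (cokernel.π φ) (cokernel.condition φ)).ShortExact :=
    { exact := ShortComplex.exact_of_g_is_cokernel _ (cokernelIsCokernel φ)
      mono_f := hm }
  haveI := hQ.2
  refine exists_nontrivial_kernel k hL hb (S := ShortComplex.mk φ (cokernel.π φ) (cokernel.condition φ)) hS
    (Iso.refl (Coh.structureModule X)) hA'c hQ ?_
  refine Snapper75.dim_lt_of_notMem (QC70.isClosed_support _) (y := genericPoint X) ?_
    (QC70.notMem_support_iff.2 (QC70.subsingleton_stalk_cokernel φ _ hgen)) ?_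
  · rw [genericPoint_closure]
    exact Set.subset_univ _
  · exact lt_of_le_of_lt ((Topology.IsInducing.subtypeVal.topologicalKrullDim_le).trans hd)
      (by exact_mod_cast Nat.lt_succ_self d)

end Groth.Agent.Var76.Growth

end
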