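import Groth.Agent.Var76.Kodaira
import Groth.Agent.Crv77.Birat3
import Groth.Agent.Birat57.Global
import Groth.Agent.Birat57.Over
import Groth.Agent.RB70.Coherent
import Groth.Agent.Amp73.PullTensor
import Groth.Agent.Coh69.Grothendieck
import Groth.Agent.ValVan29.PushTwist
import Groth.Prelude.Def_EGA4Misc

/-! Bigness is a birational invariant: sections of pullbacks to a birational proper scheme. -/

set_option autoImplicit false
set_option backward.isDefEq.respectTransparency.types false
universe u

open CategoryTheory CategoryTheory.Limits AlgebraicGeometry TopologicalSpace Opposite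

noncomputable section

namespace Groth.Agent.Var76.Growth

variable {X Y : Scheme.{u}} (f : Y ⟶ X)

/-- A birational morphism of integral schemes is an isomorphism over a dense open. -/
theorem exists_dense_isIso_of_isBirational [IsIntegral X] [IsIntegral Y] [IsNoetherian X] [IsNoetherian Y]
    [LocallyOfFiniteType f] [QuasiCompact f] (hbir : RadPt.IsBirational f) :
    ∃ V : X.Opens, Dense (V : Set X) ∧ IsIso (f ∣_ V) := by
  have e1 : ∀ Z : Scheme.{u}, {z : Z | Norm57.IsMax' z} = genericPoints Z := fun Z =>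
    Set.ext fun z => Norm57.isMax'_iff
  have hgen : ∀ (Z : Scheme.{u}) [IsIntegral Z] (z : Z), z ∈ genericPoints Z → z = genericPoint Z :=
    fun Z _ z hz => ((Norm57.isMax'_iff.2 hz) (genericPoint Z) (genericPoint_specializes z)).symm
  refine Birat57.exists_isIso_restrict f TopologicalSpace.NoetherianSpace.finite_irreducibleComponents
    TopologicalSpace.NoetherianSpace.finite_irreducibleComponents
    (by rw [e1, e1]; exact hbir.1) ?_ (Or.inl inferInstance) (Or.inl ⟨inferInstance, inferInstance⟩)
  intro y hy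
  have hy' : y ∈ genericPoints Y := Norm57.isMax'_iff.1 hy
  have hx : f y ∈ genericPoints X := hbir.1.mapsTo hy'
  haveI : IsIso (X.residue (f y)) := Birat57.isIso_residue_of_eq (hgen X _ hx)
  haveI : IsIso (Y.residue y) := Birat57.isIso_residue_of_eq (hgen Y _ hy')
  haveI : IsIso (f.residueFieldMap y) :=
    (ConcreteCategory.isIso_iff_bijective _).2 ((hbir.2 (f y) hx).2 y rfl)
  have h := Scheme.residue_residueFieldMap f y
  have : f.stalkMap y = X.residue (f y) ≫ f.residueFieldMap y ≫ inv (Y.residue y) := by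
    rw [← Category.assoc, IsIso.eq_comp_inv]
    exact h.symm
  rw [this]
  infer_instance

variable (k : Type u) [Field k] [X.Over (Spec (CommRingCat.of k))] [Y.Over (Spec (CommRingCat.of k))]

/-- Sections of a direct image, linearly. -/
def secPushEquiv (hf : f ≫ (X ↘ (Spec (CommRingCat.of k))) = Y ↘ (Spec (CommRingCat.of k))) (M : Y.Modules) :
    Coh.HH X ((Coh.push f).obj M) 0 ≃ₗ[k] Coh.HH Y M 0 :=
  AddEquiv.toLinearEquiv ((Crv77.sec ((Coh.push f).obj M)).trans (Crv77.sec M).symm) fun a x => by
    apply (Crv77.sec M).injective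
    show Crv77.sec M ((Crv77.sec M).symm (Crv77.sec ((Coh.push f).obj M) (a • x))) =
      Crv77.sec M (a • (Crv77.sec M).symm (Crv77.sec ((Coh.push f).obj M) x))
    rw [Crv77.sec_smul, AddEquiv.apply_symm_apply, Crv77.sec_smul, AddEquiv.apply_symm_apply]
    show (show Γ(Y, f ⁻¹ᵁ ⊤) from f.app ⊤ (Coh.toGlobal (X ↘ Spec (CommRingCat.of k)) a)) •
        (show Γ(M, f ⁻¹ᵁ ⊤) from Crv77.sec ((Coh.push f).obj M) x) =
      (show Γ(Y, ⊤) from Coh.toGlobal (Y ↘ Spec (CommRingCat.of k)) a) • (show Γ(M, ⊤) from Crv77.sec ((Coh.push f).obj M) x)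
    refine congrArg (fun r : Γ(Y, ⊤) => r • (show Γ(M, ⊤) from Crv77.sec ((Coh.push f).obj M) x)) ?_
    show f.app ⊤ ((X ↘ Spec (CommRingCat.of k)).appTop ((Scheme.ΓSpecIso (CommRingCat.of k)).inv a)) =
      (Y ↘ Spec (CommRingCat.of k)).appTop ((Scheme.ΓSpecIso (CommRingCat.of k)).inv a)
    rw [← hf, Scheme.Hom.comp_appTop]
    rfl

variable [IsProper (X ↘ (Spec (CommRingCat.of k)))] [IsProper (Y ↘ (Spec (CommRingCat.of k)))]
  [IsIntegral X] [IsIntegral Y]
  (hf : f ≫ (X ↘ (Spec (CommRingCat.of k))) = Y ↘ (Spec (CommRingCat.of k)))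

include hf in
/-- Comparison of sections along a birational morphism. -/
theorem hp_birational (hbir : RadPt.IsBirational f) {L : X.Modules} (hL : PicF.IsInvertible L) {d : ℕ}
    (hd : topologicalKrullDim X ≤ (d : WithBot ℕ∞)) :
    (∀ m, hp k L m ≤ hp k ((Scheme.Modules.pullback f).obj L) m) ∧
      ∃ C : ℕ, ∀ m, hp k ((Scheme.Modules.pullback f).obj L) m ≤ hp k L m + C * w d m := by
  have := Crv77.isNoetherian_of_proper k X
  have := Crv77.isNoetherian_of_proper k Y
  have : IsProper (f ≫ (X ↘ (Spec (CommRingCat.of k)))) := hf.symm ▸ inferInstance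
  have : IsProper f := IsProper.of_comp f (X ↘ (Spec (CommRingCat.of k)))
  obtain ⟨V, hV, hVi⟩ := exists_dense_isIso_of_isBirational f hbir
  have hη : genericPoint X ∈ V := by
    obtain ⟨x, -, hx⟩ := hV.inter_open_nonempty Set.univ isOpen_univ Set.univ_nonempty
    exact (genericPoint_specializes x).mem_open V.2 hx
  let φ : Coh.structureModule X ⟶ (Coh.push f).obj (Coh.structureModule Y) := ClSub.unitToPush f
  have hP : Coh.IsCoh ((Coh.push f).obj (Coh.structureModule Y)) :=
    QC70.isCoh_of_iso ((Scheme.Modules.pushforward f).rightDerivedZeroIsoSelf.app _)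
      (RB70.isCoh_rpush f _ (Amp73.isCoh_of_isInvertible EGA73.isInvertible_structureModule) 0)
  have hOc := Amp73.isCoh_of_isInvertible (EGA73.isInvertible_structureModule (X := X))
  have hsurj : Function.Surjective (QC70.stalkMapM φ (genericPoint X)) :=
    Crv77.surjective_stalkMapM_unitToPush f V inferInstance _ hη
  have hmono : Mono φ := QC70.mono_of_app_injective φ fun U => Crv77.injective_app_of_dense f V hV hVi U
  have hQ : Coh.IsCoh (cokernel φ) := QC70.isCoh_cokernel φ hOc.1 hP
  let S : ShortComplex X.Modules := ShortComplex.mk φ (cokernel.π φ) (cokernel.condition φ)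
  have hS : S.ShortExact :=
    { exact := ShortComplex.exact_of_g_is_cokernel _ (cokernelIsCokernel φ)
      mono_f := hmono }
  haveI := hQ.2
  obtain ⟨C, hC⟩ := bd_of_dim k hL d (cokernel φ) hQ (Snapper75.dim_lt_of_notMem (QC70.isClosed_support _)
    (y := genericPoint X) (by rw [genericPoint_closure]; exact Set.subset_univ _)
    (QC70.notMem_support_iff.2 (QC70.subsingleton_stalk_cokernel φ _ hsurj))
    (lt_of_le_of_lt ((Topology.IsInducing.subtypeVal.topologicalKrullDim_le).trans hd)
      (by exact_mod_cast Nat.lt_succ_self d)))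
  have key : ∀ m, h0 k L S.X₂ m = hp k ((Scheme.Modules.pullback f).obj L) m := fun m => by
    have hLm := EGA73.isInvertible_tensorPow hL m
    haveI := ValVan29.isIso_projHom f (Coh.structureModule Y) (CohB1.tensorPow L m) hLm
    let e : CohB1.tensorMod ((Coh.push f).obj (Coh.structureModule Y)) (CohB1.tensorPow L m) ≅
        (Coh.push f).obj (CohB1.tensorPow ((Scheme.Modules.pullback f).obj L) m) :=
      asIso (ValVan29.projHom f (Coh.structureModule Y) (CohB1.tensorPow L m)) ≪≫
        (Coh.push f).mapIso (EGA73.tensUnitLeft _ ≪≫ Amp73.pullPowIso f hL m)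
    exact ((Crv77.hEquiv k e 0).finrank_eq).trans (secPushEquiv f k hf _).finrank_eq
  have hOL : ∀ m, h0 k L S.X₁ m = hp k L m := fun m => h0_structure k L m
  refine ⟨fun m => ?_, C, fun m => ?_⟩
  · rw [← key, ← hOL]
    exact h0_mono k hL hS hP m
  · rw [← key, ← hOL]
    exact (h0_subadd k hL hS hP hQ m).trans (add_le_add le_rfl (hC m))

end Groth.Agent.Var76.Growth

end
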