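import Groth.Agent.QC70.PushGeneric
import Groth.Agent.QC70.PushClosed
import Groth.Agent.Fin57.FunctionField
import Groth.Agent.Birat57.Over
import Groth.Prelude.Def_ResDeg

/-! The generic rank of the direct image of the structure sheaf is the residue degree. -/

set_option autoImplicit false
set_option backward.isDefEq.respectTransparency.types false
universe u

open CategoryTheory CategoryTheory.Limits AlgebraicGeometry TopologicalSpace Opposite

noncomputable section

namespace Groth.Agent.Var76.PushDeg

variable {X Y : Scheme.{u}} (f : Y ⟶ X)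

/-- The map from the stalk of the direct image of the structure sheaf. -/
def pushMap (y : Y) :
    ((Scheme.Modules.pushforward f).obj (QC70.unitMod Y)).presheaf.stalk (f y) →+ Y.presheaf.stalk y :=
  (QC70.unitStalkEquiv y).symm.toLinearMap.toAddMonoidHom.comp
    (TopCat.Presheaf.stalkPushforward AddCommGrpCat.{u} f.base (QC70.unitMod Y).presheaf y).hom

theorem pushMap_germ (y : Y) {W : X.Opens} (hy : f y ∈ W) (b : Γ(Y, f ⁻¹ᵁ W)) :
    pushMap f y (QC70.germM ((Scheme.Modules.pushforward f).obj (QC70.unitMod Y)) W (f y) hy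
      (QC70.toUnit b)) = Y.presheaf.germ (f ⁻¹ᵁ W) y hy b :=
  (congrArg (QC70.unitStalkEquiv y).symm
    congr($(TopCat.Presheaf.stalkPushforward_germ AddCommGrpCat.{u} f.base (QC70.unitMod Y).presheaf W y hy)
      (QC70.toUnit b))).trans ((LinearEquiv.symm_apply_eq _).2 (QC70.unitStalkEquiv_germ _ b).symm)

theorem pushMap_smul (y : Y) (r : X.presheaf.stalk (f y))
    (e : ((Scheme.Modules.pushforward f).obj (QC70.unitMod Y)).presheaf.stalk (f y)) :
    pushMap f y (r • e) = f.stalkMap y r * pushMap f y e := by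
  obtain ⟨W, hzW, s, rfl⟩ := QC70.germM_exist e
  obtain ⟨W', hzW', a, rfl⟩ := TopCat.Presheaf.exists_germ_eq X.presheaf r
  have h : f y ∈ W ⊓ W' := ⟨hzW, hzW'⟩
  rw [← QC70.germM_res (inf_le_left : W ⊓ W' ≤ W) h s, ← QC70.germ_resO (inf_le_right : W ⊓ W' ≤ W') h a,
    ← QC70.germM_smul]
  set a' := X.presheaf.map (homOfLE (inf_le_right : W ⊓ W' ≤ W')).op a
  set s' := QC70.res ((Scheme.Modules.pushforward f).obj (QC70.unitMod Y)) (inf_le_left : W ⊓ W' ≤ W) s
  obtain ⟨b, hb⟩ : ∃ b : Γ(Y, f ⁻¹ᵁ (W ⊓ W')), QC70.toUnit b = s' := ⟨_, rfl⟩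
  rw [← hb]
  have h1 : a' • (show Γ((Scheme.Modules.pushforward f).obj (QC70.unitMod Y), W ⊓ W') from QC70.toUnit b) =
      QC70.toUnit (f.app (W ⊓ W') a' * b) :=
    (QCqs72.pushforward_smul (M := QC70.unitMod Y) f a' (QC70.toUnit b)).trans (QC70.smul_unit _ _)
  refine (congrArg (fun z => pushMap f y (QC70.germM _ (W ⊓ W') (f y) h z)) h1).trans ?_
  rw [pushMap_germ, pushMap_germ, map_mul, Scheme.Hom.germ_stalkMap_apply]

/-- The preimage of an affine open over which `f` is finite carries the whole generic stalk. -/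
theorem bijective_pushMap [IsIntegral X] [IsIntegral Y] (hdom : f (genericPoint Y) = genericPoint X)
    {V : X.Opens} (hV : IsAffineOpen V) (hVn : Nonempty ↥V) (hfin : IsFinite (f ∣_ V)) :
    Function.Bijective (pushMap f (genericPoint Y)) := by
  set ξ := genericPoint Y with hξdef
  constructor
  · refine (injective_iff_map_eq_zero _).2 fun e he => ?_
    obtain ⟨W, hW, s, rfl⟩ := QC70.germM_exist e
    obtain ⟨b, hb⟩ : ∃ b : Γ(Y, f ⁻¹ᵁ W), QC70.toUnit b = s := ⟨_, rfl⟩
    rw [← hb, pushMap_germ] at he
    have : Nonempty (f ⁻¹ᵁ W : Y.Opens) := ⟨⟨ξ, hW⟩⟩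
    have hb0 : b = 0 := germ_injective_of_isIntegral Y ξ hW (he.trans (map_zero _).symm)
    rw [← hb, hb0]
    exact QC70.germM_zero hW
  · intro l
    have hη : f ξ ∈ V := by
      obtain ⟨⟨x, hx⟩⟩ := hVn
      rw [hdom]
      exact (genericPoint_specializes x).mem_open V.2 hx
    let U := f ⁻¹ᵁ V
    haveI : Nonempty U := ⟨⟨ξ, hη⟩⟩
    haveI : Nonempty V := hVn
    haveI : IsAffine V := hV
    have hU : IsAffineOpen U := isAffine_of_isAffineHom (f ∣_ V)
    letI := (f.app V).hom.toAlgebra
    haveI : Module.Finite Γ(X, V) Γ(Y, U) :=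
      ((Fin57.isFinite_resLE_iff f hU hV le_rfl).mp (Scheme.Hom.resLE_eq_morphismRestrict f ▸ hfin) :
        (f.appLE V U le_rfl).hom.Finite) |> fun h => by rwa [← Scheme.Hom.app_eq_appLE] at h
    haveI : IsFractionRing Γ(Y, U) Y.functionField := functionField_isFractionRing_of_isAffineOpen Y U hU
    obtain ⟨b, c, hc, hbc⟩ := IsFractionRing.div_surjective (A := Γ(Y, U)) (K := Y.functionField) l
    have halg : IsAlgebraic Γ(X, V) c :=
      haveI := Algebra.IsIntegral.of_finite Γ(X, V) Γ(Y, U)
      (Algebra.IsIntegral.isIntegral c).isAlgebraic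
    obtain ⟨a, ha, d, hd⟩ := halg.exists_nonzero_dvd hc
    have hcne : Y.presheaf.germ U ξ hη c ≠ 0 :=
      IsFractionRing.to_map_ne_zero_of_mem_nonZeroDivisors (K := Y.functionField) hc
    have hl' : Y.presheaf.germ U ξ hη c * l = Y.presheaf.germ U ξ hη b := by
      rw [← hbc]
      change algebraMap Γ(Y, U) Y.functionField c *
        (algebraMap Γ(Y, U) Y.functionField b / algebraMap Γ(Y, U) Y.functionField c) = _
      rw [mul_div_cancel₀ _ (show algebraMap Γ(Y, U) Y.functionField c ≠ 0 from hcne)]
      rfl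
    have hf : IsField (X.presheaf.stalk (f ξ)) := hdom.symm ▸ Field.toIsField X.functionField
    obtain ⟨a', ha'⟩ := hf.mul_inv_cancel (a := X.presheaf.germ V (f ξ) hη a) (fun h0 => ha
      (germ_injective_of_isIntegral X (f ξ) hη (h0.trans (map_zero _).symm)))
    refine ⟨a' • QC70.germM ((Scheme.Modules.pushforward f).obj (QC70.unitMod Y)) V (f ξ) hη
      (QC70.toUnit (b * d)), ?_⟩
    have h1 : f.stalkMap ξ (X.presheaf.germ V (f ξ) hη a) = Y.presheaf.germ U ξ hη (c * d) :=
      (Scheme.Hom.germ_stalkMap_apply f V ξ hη a).trans (congrArg (Y.presheaf.germ U ξ hη) hd)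
    have h2 := congrArg (f.stalkMap ξ) ha'
    rw [map_mul, map_one, h1, map_mul] at h2
    rw [pushMap_smul, pushMap_germ, map_mul, ← hl']
    linear_combination (l : Y.presheaf.stalk ξ) * h2

/-- Residue degree at the generic point as a degree of stalks. -/
theorem residueDegree_eq [IsIntegral X] [IsIntegral Y] (hdom : f (genericPoint Y) = genericPoint X) :
    f.residueDegree (genericPoint Y) =
      (letI := (f.stalkMap (genericPoint Y)).hom.toAlgebra
       Module.finrank (X.presheaf.stalk (f (genericPoint Y))) (Y.presheaf.stalk (genericPoint Y))) := by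
  have := Birat57.isIso_residue_of_eq (X := X) hdom
  have := Birat57.isIso_residue_of_eq (X := Y) (x := genericPoint Y) rfl
  letI := (f.stalkMap (genericPoint Y)).hom.toAlgebra
  letI := (f.residueFieldMap (genericPoint Y)).hom.toAlgebra
  refine (Algebra.finrank_eq_of_equiv_equiv (asIso (X.residue (f (genericPoint Y)))).commRingCatIsoToRingEquiv
    (asIso (Y.residue (genericPoint Y))).commRingCatIsoToRingEquiv ?_).symm
  refine RingHom.ext fun a => ?_
  exact congr($(Scheme.residue_residueFieldMap f (genericPoint Y)) a)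

/-- The generic rank of the direct image of the structure sheaf. -/
theorem finrank_stalk_push [IsIntegral X] [IsIntegral Y] [LocallyOfFiniteType f] [QuasiCompact f]
    (hdom : f (genericPoint Y) = genericPoint X) {n : ℕ} (hn : f.residueDegree (genericPoint Y) = n)
    (hn0 : 0 < n) (x : X) (hx : x = f (genericPoint Y)) :
    Module.finrank (X.presheaf.stalk x)
      (((Scheme.Modules.pushforward f).obj (Coh.structureModule Y)).presheaf.stalk x) = n := by
  subst hx
  have hfin : (letI := (f.residueFieldMap (genericPoint Y)).hom.toAlgebra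
      Module.Finite (X.residueField (f (genericPoint Y))) (Y.residueField (genericPoint Y))) := by
    letI := (f.residueFieldMap (genericPoint Y)).hom.toAlgebra
    exact Module.finite_of_finrank_pos (hn.symm ▸ hn0 : 0 < f.residueDegree (genericPoint Y))
  have hcl := (Fin57.finite_residueField_iff f (genericPoint Y)).1 hfin
  have : IsDominant f := ⟨by
    have h : (genericPoint X : X) ∈ Set.range f := ⟨_, hdom⟩
    exact dense_iff_closure_eq.2 (Set.eq_univ_of_univ_subset
      ((genericPoint_closure X).ge.trans (closure_mono (Set.singleton_subset_iff.2 h))))⟩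
  obtain ⟨V, hV, hVn, hVf⟩ := Fin57.exists_isFinite_restrict_of_quasiCompact f
    fun x hx => hcl x (hx.trans hdom.symm) (genericPoint_specializes x)
  letI := (f.stalkMap (genericPoint Y)).hom.toAlgebra
  let e : ((Scheme.Modules.pushforward f).obj (Coh.structureModule Y)).presheaf.stalk (f (genericPoint Y))
      ≃ₗ[X.presheaf.stalk (f (genericPoint Y))] Y.presheaf.stalk (genericPoint Y) :=
    { AddEquiv.ofBijective (pushMap f (genericPoint Y)) (bijective_pushMap f hdom hV hVn hVf) with
      map_smul' := pushMap_smul f (genericPoint Y) }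
  rw [e.finrank_eq, ← hn, residueDegree_eq f hdom]

end Groth.Agent.Var76.PushDeg

end
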