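import Groth.Agent.Var76.GenericCompare

/-! Asymptotic cohomology along arithmetic progressions. -/

set_option autoImplicit false
set_option backward.isDefEq.respectTransparency.types false
universe u

open CategoryTheory CategoryTheory.Limits AlgebraicGeometry TopologicalSpace Filter

noncomputable section

namespace Groth.Agent.Var76.Growth

theorem step_iterate {c : ℕ → ℕ} {n C : ℕ}
    (h : ∀ m, c (m + 1) ≤ c m + C * w n m ∧ c m ≤ c (m + 1) + C * w n m) (b r : ℕ) :
    c (b + r) ≤ c b + r * (C * w n (b + r)) ∧ c b ≤ c (b + r) + r * (C * w n (b + r)) := by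
  induction r with
  | zero => simp
  | succ r ih =>
    have hw : C * w n (b + r) ≤ C * w n (b + r + 1) := Nat.mul_le_mul_left C (w_mono n _)
    have h2 := Nat.mul_le_mul_left r hw
    have := h (b + r)
    rw [← add_assoc, add_mul, one_mul]
    omega

theorem tendsto_floor_ratio {a : ℕ} (ha : 1 ≤ a) (n : ℕ) :
    Tendsto (fun m : ℕ => ((a * (m / a) : ℕ) : ℝ) ^ n / (m : ℝ) ^ n) atTop (nhds 1) := by
  have h0 : Tendsto (fun m : ℕ => ((a * (m / a) : ℕ) : ℝ) / (m : ℝ)) atTop (nhds 1) := by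
    have hl : Tendsto (fun m : ℕ => 1 - (a : ℝ) / (m : ℝ)) atTop (nhds 1) := by
      simpa using tendsto_const_nhds.sub
        ((tendsto_const_nhds (x := (a : ℝ))).div_atTop tendsto_natCast_atTop_atTop)
    refine tendsto_of_tendsto_of_tendsto_of_le_of_le' hl tendsto_const_nhds ?_ ?_
    · filter_upwards [eventually_ge_atTop 1] with m hm
      have hm0 : (0 : ℝ) < m := by exact_mod_cast hm
      rw [sub_le_iff_le_add, ← add_div, one_le_div hm0]
      have h1 := Nat.div_add_mod m a
      have h2 := Nat.mod_lt m (show a > 0 by omega)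
      exact_mod_cast (by omega : m ≤ a * (m / a) + a)
    · filter_upwards [eventually_ge_atTop 1] with m hm
      have hm0 : (0 : ℝ) < m := by exact_mod_cast hm
      rw [div_le_one hm0]
      exact_mod_cast Nat.mul_div_le m a
  simpa [div_pow] using h0.pow n

theorem limsup_eq_of_sub_tendsto {u v : ℕ → ℝ} (hd : Tendsto (u - v) atTop (nhds 0))
    (hub : IsBoundedUnder (· ≤ ·) atTop u) (hu0 : IsBoundedUnder (· ≥ ·) atTop u) :
    limsup u atTop = limsup v atTop := by
  have h1 : ∀ ε > (0 : ℝ), ∀ᶠ m in atTop, v m ≤ u m + ε ∧ u m ≤ v m + ε := fun ε hε => by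
    filter_upwards [hd.eventually (Ioo_mem_nhds (neg_neg_of_pos hε) hε)] with m hm
    simp only [Pi.sub_apply, Set.mem_Ioo] at hm
    exact ⟨by linarith [hm.1], by linarith [hm.2]⟩
  have hvb : IsBoundedUnder (· ≤ ·) atTop v := by
    obtain ⟨B, hB⟩ := hub
    refine isBoundedUnder_of_eventually_le (a := B + 1) ?_
    filter_upwards [eventually_map.1 hB, h1 1 one_pos] with m hm h
    linarith [h.1]
  have hv0 : IsBoundedUnder (· ≥ ·) atTop v := by
    obtain ⟨B, hB⟩ := hu0
    refine isBoundedUnder_of_eventually_ge (a := B - 1) ?_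
    filter_upwards [eventually_map.1 hB, h1 1 one_pos] with m hm h
    linarith [h.2]
  refine le_antisymm (le_of_forall_pos_le_add fun ε hε => ?_) (le_of_forall_pos_le_add fun ε hε => ?_)
  · rw [← limsup_add_const atTop v ε hvb hv0.isCoboundedUnder_le]
    refine limsup_le_limsup ((h1 ε hε).mono fun m h => h.2) hu0.isCoboundedUnder_le ?_
    obtain ⟨B, hB⟩ := hvb
    exact isBoundedUnder_of_eventually_le (a := B + ε) ((eventually_map.1 hB).mono fun m hm => by linarith)
  · rw [← limsup_add_const atTop u ε hub hu0.isCoboundedUnder_le]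
    refine limsup_le_limsup ((h1 ε hε).mono fun m h => h.1) hv0.isCoboundedUnder_le ?_
    obtain ⟨B, hB⟩ := hub
    exact isBoundedUnder_of_eventually_le (a := B + ε) ((eventually_map.1 hB).mono fun m hm => by linarith)

theorem limsup_progression {c : ℕ → ℕ} {n a C D : ℕ} (ha : 1 ≤ a)
    (h : ∀ m, c (m + 1) ≤ c m + C * w n m ∧ c m ≤ c (m + 1) + C * w n m)
    (hD : ∀ m, c m ≤ D * (m + 1) ^ n) :
    limsup (fun q : ℕ => (c (a * q) : ℝ) * (n.factorial : ℝ) / ((a * q : ℕ) : ℝ) ^ n) atTop =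
      limsup (fun m : ℕ => (c m : ℝ) * (n.factorial : ℝ) / (m : ℝ) ^ n) atTop := by
  set u := fun m : ℕ => (c m : ℝ) * (n.factorial : ℝ) / (m : ℝ) ^ n with hu
  have e : limsup (fun q : ℕ => u (a * q)) atTop = limsup (fun m : ℕ => u (a * (m / a))) atTop := by
    conv_lhs => rw [← map_div_atTop_eq_nat a ha]
    simp only [limsup, map_map, Function.comp_def]
  refine e.trans ?_
  have hu0 : IsBoundedUnder (· ≥ ·) atTop u := isBoundedUnder_of ⟨0, fun m => by rw [hu]; positivity⟩
  have hub' : ∀ m : ℕ, 1 ≤ m → u m ≤ (D : ℝ) * n.factorial * 2 ^ n := by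
    intro m hm
    have hm' : (1 : ℝ) ≤ m := by exact_mod_cast hm
    have hb' : (c m : ℝ) ≤ D * ((m : ℝ) + 1) ^ n := by exact_mod_cast hD m
    have hp : ((m : ℝ) + 1) ^ n ≤ 2 ^ n * (m : ℝ) ^ n := by
      rw [← mul_pow]
      gcongr
      linarith
    rw [hu]
    simp only
    rw [div_le_iff₀ (by positivity)]
    calc (c m : ℝ) * n.factorial ≤ D * (2 ^ n * (m : ℝ) ^ n) * n.factorial :=
          mul_le_mul_of_nonneg_right (hb'.trans (mul_le_mul_of_nonneg_left hp (Nat.cast_nonneg D)))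
            (Nat.cast_nonneg _)
      _ = _ := by ring
  have hub : IsBoundedUnder (· ≤ ·) atTop u :=
    isBoundedUnder_of_eventually_le ((eventually_ge_atTop 1).mono hub')
  refine (limsup_eq_of_sub_tendsto ?_ hub hu0).symm
  have t1 : Tendsto (fun m : ℕ => ((a : ℝ) * C * n.factorial) * ((w n m : ℝ) / (m : ℝ) ^ n)) atTop (nhds 0) := by
    simpa using (tendsto_w n).const_mul ((a : ℝ) * C * n.factorial)
  have t2 : Tendsto (fun m : ℕ => ((D : ℝ) * n.factorial * 2 ^ n) *
      |((a * (m / a) : ℕ) : ℝ) ^ n / (m : ℝ) ^ n - 1|) atTop (nhds 0) := by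
    simpa using (((tendsto_floor_ratio ha n).sub_const 1).abs.const_mul ((D : ℝ) * n.factorial * 2 ^ n))
  refine squeeze_zero_norm' ?_ (by simpa only [add_zero] using t1.add t2)
  filter_upwards [eventually_ge_atTop a] with m hm
  have hq : 1 ≤ a * (m / a) := Nat.mul_pos (by omega) (Nat.div_pos hm (by omega))
  have hbq : 1 ≤ m := le_trans ha hm
  obtain ⟨b, r, hb, hr, hm'⟩ : ∃ b r, b = a * (m / a) ∧ r ≤ a ∧ m = b + r :=
    ⟨_, m % a, rfl, (Nat.mod_lt m (by omega)).le, (Nat.div_add_mod m a).symm⟩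
  have hs := step_iterate h b r
  rw [← hm'] at hs
  have hra : r * (C * w n m) ≤ a * (C * w n m) := Nat.mul_le_mul_right _ hr
  have h1 : (c m : ℝ) ≤ c b + a * (C * w n m) := by exact_mod_cast hs.1.trans (by omega)
  have h2 : (c b : ℝ) ≤ c m + a * (C * w n m) := by exact_mod_cast hs.2.trans (by omega)
  have hb0 : (0 : ℝ) < (b : ℝ) ^ n := pow_pos (by exact_mod_cast (hb ▸ hq : 1 ≤ b)) n
  have hm0 : (0 : ℝ) < (m : ℝ) ^ n := pow_pos (by exact_mod_cast hbq) n
  have key : u m - u b = ((c m : ℝ) - c b) * n.factorial / (m : ℝ) ^ n +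
      u b * ((b : ℝ) ^ n / (m : ℝ) ^ n - 1) := by
    rw [hu]
    field_simp
    ring
  simp only [Pi.sub_apply, Real.norm_eq_abs]
  rw [← hb, key]
  refine (abs_add_le _ _).trans (add_le_add ?_ ?_)
  · rw [abs_div, abs_mul, abs_of_pos hm0, Nat.abs_cast, ← mul_div_assoc]
    refine div_le_div_of_nonneg_right ?_ hm0.le
    calc _ ≤ ((a : ℝ) * (C * w n m)) * n.factorial :=
          mul_le_mul_of_nonneg_right (abs_sub_le_iff.2 ⟨by linarith, by linarith⟩) (Nat.cast_nonneg _)
      _ = _ := by ring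
  · rw [abs_mul]
    refine mul_le_mul_of_nonneg_right ?_ (abs_nonneg _)
    rw [abs_of_nonneg (by rw [hu]; positivity)]
    exact hub' b (hb ▸ hq)

variable (k : Type u) [Field k] {X : Scheme.{u}} [X.Over (Spec (CommRingCat.of k))]
  [IsProper (X ↘ (Spec (CommRingCat.of k)))] [IsIntegral X] {L : X.Modules}

/-- Consecutive powers have close cohomology. -/
theorem exists_step (hL : PicF.IsInvertible L) {n : ℕ} (hn : topologicalKrullDim X ≤ (n : WithBot ℕ∞)) (i : ℕ) :
    ∃ C, ∀ m, hi k i L (Coh.structureModule X) (m + 1) ≤ hi k i L (Coh.structureModule X) m + C * w n m ∧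
      hi k i L (Coh.structureModule X) m ≤ hi k i L (Coh.structureModule X) (m + 1) + C * w n m := by
  have := Crv77.isNoetherian_of_proper k X
  have hO : Coh.IsCoh (Coh.structureModule X) := QC70.isCoh_unit
  haveI := hO.1
  obtain ⟨σ⟩ := Snapper75.nonempty_stalk_twist (Coh.structureModule X) hL (genericPoint X)
  obtain ⟨C, hC⟩ := close_of_stalk_equiv k hL hO (Amp73.isCoh_tensorMod hO (Amp73.isCoh_of_isInvertible hL))
    hn σ.symm i
  refine ⟨C, fun m => ?_⟩
  rw [← hi_shift]
  exact (hC m).symm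

end Groth.Agent.Var76.Growth

end
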