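import Groth.Agent.Var76.PushDegree
import Groth.Agent.Snapper75.Twist

/-! Stalks of direct images at points with a single point in the fibre. -/

set_option autoImplicit false
set_option backward.isDefEq.respectTransparency.types false
universe u

open CategoryTheory CategoryTheory.Limits AlgebraicGeometry TopologicalSpace Opposite

noncomputable section

namespace Groth.Agent.Var76.PushDeg

variable {X Y : Scheme.{u}} (f : Y ⟶ X) (H : Y.Modules)

/-- The canonical map of stalks of a direct image. -/
def stMap (y : Y) :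
    ((Scheme.Modules.pushforward f).obj H).presheaf.stalk (f y) →+ H.presheaf.stalk y :=
  (TopCat.Presheaf.stalkPushforward AddCommGrpCat.{u} f.base H.presheaf y).hom

theorem stMap_germ (y : Y) {W : X.Opens} (hy : f y ∈ W)
    (s : Γ((Scheme.Modules.pushforward f).obj H, W)) :
    stMap f H y (QC70.germM ((Scheme.Modules.pushforward f).obj H) W (f y) hy s) =
      QC70.germM H (f ⁻¹ᵁ W) y hy s :=
  congr($(TopCat.Presheaf.stalkPushforward_germ AddCommGrpCat.{u} f.base H.presheaf W y hy) s)

theorem stMap_smul (y : Y) (r : X.presheaf.stalk (f y))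
    (e : ((Scheme.Modules.pushforward f).obj H).presheaf.stalk (f y)) :
    stMap f H y (r • e) = f.stalkMap y r • stMap f H y e := by
  obtain ⟨W, hzW, s, rfl⟩ := QC70.germM_exist e
  obtain ⟨W', hzW', a, rfl⟩ := TopCat.Presheaf.exists_germ_eq X.presheaf r
  have h : f y ∈ W ⊓ W' := ⟨hzW, hzW'⟩
  rw [← QC70.germM_res (inf_le_left : W ⊓ W' ≤ W) h s, ← QC70.germ_resO (inf_le_right : W ⊓ W' ≤ W') h a,
    ← QC70.germM_smul, stMap_germ, stMap_germ, Scheme.Hom.germ_stalkMap_apply,
    QCqs72.pushforward_smul]
  exact QC70.germM_smul (M := H) h _ _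

variable {f} in
/-- The preimages of neighbourhoods are cofinal at a point alone in its fibre. -/
theorem exists_preimage_le [IsProper f] {y : Y} (h : ∀ y', f y' = f y → y' = y) {U : Y.Opens} (hU : y ∈ U) :
    ∃ W : X.Opens, f y ∈ W ∧ f ⁻¹ᵁ W ≤ U := by
  refine ⟨⟨(f '' (U : Set Y)ᶜ)ᶜ, (f.isClosedMap _ U.2.isClosed_compl).isOpen_compl⟩, ?_, fun z hz => ?_⟩
  · rintro ⟨z, hz, hzy⟩
    exact hz (h z hzy ▸ hU)
  · by_contra hzU
    exact hz ⟨z, hzU, rfl⟩

theorem bijective_stMap [IsProper f] {y : Y} (h : ∀ y', f y' = f y → y' = y) :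
    Function.Bijective (stMap f H y) := by
  constructor
  · refine (injective_iff_map_eq_zero _).2 fun e he => ?_
    obtain ⟨W, hW, s, rfl⟩ := QC70.germM_exist e
    rw [stMap_germ] at he
    obtain ⟨U, hUW, hyU, hs⟩ := QC70.germM_eq_zero he
    obtain ⟨W', hyW', hW'⟩ := exists_preimage_le h hyU
    have hm : f y ∈ W ⊓ W' := ⟨hW, hyW'⟩
    rw [← QC70.germM_res (inf_le_left : W ⊓ W' ≤ W) hm s]
    refine (congrArg (QC70.germM _ (W ⊓ W') (f y) hm) ?_).trans (QC70.germM_zero hm)
    show QC70.res H (f.preimage_mono (inf_le_left : W ⊓ W' ≤ W)) s = 0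
    rw [← QC70.res_res hUW (show f ⁻¹ᵁ (W ⊓ W') ≤ U from fun z hz => hW' hz.2) s,
      show QC70.res H hUW s = 0 from hs]
    exact map_zero _
  · intro l
    obtain ⟨U, hyU, s, rfl⟩ := QC70.germM_exist l
    obtain ⟨W, hyW, hW⟩ := exists_preimage_le h hyU
    exact ⟨QC70.germM ((Scheme.Modules.pushforward f).obj H) W (f y) hyW (QC70.res H hW s),
      (stMap_germ f H y hyW _).trans (QC70.germM_res hW _ s)⟩

/-- The generic rank of the direct image of an invertible twist of the structure sheaf. -/
theorem finrank_stalk_push_twist [IsIntegral X] [IsIntegral Y] [IsProper f]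
    (hdom : f (genericPoint Y) = genericPoint X) {n : ℕ} (hn : f.residueDegree (genericPoint Y) = n)
    (hn0 : 0 < n) {M : Y.Modules} (hM : PicF.IsInvertible M) (x : X) (hx : x = f (genericPoint Y)) :
    Module.finrank (X.presheaf.stalk x) (((Scheme.Modules.pushforward f).obj
      (CohB1.tensorMod (Coh.structureModule Y) M)).presheaf.stalk x) = n := by
  subst hx
  have hfin : (letI := (f.residueFieldMap (genericPoint Y)).hom.toAlgebra
      Module.Finite (X.residueField (f (genericPoint Y))) (Y.residueField (genericPoint Y))) := by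
    letI := (f.residueFieldMap (genericPoint Y)).hom.toAlgebra
    exact Module.finite_of_finrank_pos (hn.symm ▸ hn0 : 0 < f.residueDegree (genericPoint Y))
  have hcl := (Fin57.finite_residueField_iff f (genericPoint Y)).1 hfin
  have hfib : ∀ y', f y' = f (genericPoint Y) → y' = genericPoint Y :=
    fun y' hy' => hcl y' hy' (genericPoint_specializes y')
  have hO : (Coh.structureModule Y).IsQuasicoherent :=
    Mero90.isQCoh_of_isInvertible EGA73.isInvertible_structureModule
  obtain ⟨e₁⟩ := Snapper75.nonempty_stalk_twist (Coh.structureModule Y) hM (genericPoint Y)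
  let e₂ := e₁.trans (QC70.unitStalkEquiv (genericPoint Y)).symm
  letI := (f.stalkMap (genericPoint Y)).hom.toAlgebra
  let e : ((Scheme.Modules.pushforward f).obj
      (CohB1.tensorMod (Coh.structureModule Y) M)).presheaf.stalk (f (genericPoint Y))
      ≃ₗ[X.presheaf.stalk (f (genericPoint Y))] Y.presheaf.stalk (genericPoint Y) :=
    { (AddEquiv.ofBijective _ (bijective_stMap f (CohB1.tensorMod (Coh.structureModule Y) M) hfib)).trans
        e₂.toAddEquiv with
      map_smul' := fun r z => (congrArg e₂ (stMap_smul f _ _ r z)).trans (map_smul e₂ _ _) }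
  rw [e.finrank_eq, ← hn, residueDegree_eq f hdom]

end Groth.Agent.Var76.PushDeg

end
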