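import Groth.Agent.RB70.AmpleVanish
import Groth.Agent.RB70.Coherent
import Groth.Agent.FMK72.Acyclic
import Groth.Agent.RegImm10.BlowCech.Pushed
import Groth.Agent.Amp73.PullTensor
import Groth.Agent.Amp73.Local
import Groth.Agent.PP93.PicInj
import Groth.Agent.ValVan29.PushTwist
import Groth.Agent.ValVan29.Vanish
import Groth.Agent.Crv77.HH
import Groth.Agent.Crv77.RR

/-! Cohomology of high twists by an ample module commutes with direct image, uniformly in twists from the base. -/

set_option autoImplicit false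
set_option backward.isDefEq.respectTransparency.types false
set_option maxSynthPendingDepth 6
universe u

open CategoryTheory CategoryTheory.Limits AlgebraicGeometry TopologicalSpace Opposite

noncomputable section

namespace Groth.Agent.Var76.PushVan

variable {X Y : Scheme.{u}} (f : Y ⟶ X)

/-- Over an open where a module is trivial, so is its pullback. -/
theorem nonempty_pullback_restrict {N : X.Modules} (V : X.Opens)
    (e : N.restrict V.ι ≅ Coh.structureModule V) :
    Nonempty (((Scheme.Modules.pullback f).obj N).restrict (f ⁻¹ᵁ V).ι ≅ Coh.structureModule (f ⁻¹ᵁ V).toScheme) := by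
  obtain ⟨u⟩ := PP93.nonempty_pullback_unit (f := f ∣_ V)
  exact ⟨(Scheme.Modules.restrictFunctorIsoPullback (f ⁻¹ᵁ V).ι).app _ ≪≫
    (Scheme.Modules.pullbackComp (f ⁻¹ᵁ V).ι f).app N ≪≫
    (Scheme.Modules.pullbackCongr (morphismRestrict_ι f V).symm).app N ≪≫
    ((Scheme.Modules.pullbackComp (f ∣_ V) V.ι).app N).symm ≪≫
    (Scheme.Modules.pullback (f ∣_ V)).mapIso (((Scheme.Modules.restrictFunctorIsoPullback V.ι).app N).symm ≪≫ e) ≪≫
    u⟩

/-- Vanishing over the basic opens of an affine open trivializing `L`. -/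
theorem exists_vanish_affine [IsNoetherian X] [IsNoetherian Y] [IsProper f] {B : Y.Modules}
    (hB : CohB1.IsAmple B) {L : X.Modules} (hL : PicF.IsInvertible L) {V : X.Opens} (hV : IsAffineOpen V)
    (e : L.restrict V.ι ≅ Coh.structureModule V) :
    ∃ t₀ : ℕ, ∀ t, t₀ ≤ t → ∀ (m q : ℕ), 1 ≤ q → ∀ g : Γ(X, V),
      Subsingleton (Coh69.HE (Coh.toAb (CohB1.tensorMod (CohB1.tensorPow B t)
        ((Scheme.Modules.pullback f).obj (CohB1.tensorPow L m)))) q (f ⁻¹ᵁ X.basicOpen g)) := by
  haveI : IsNoetherianRing Γ(X, V) := IsLocallyNoetherian.component_noetherian ⟨V, hV⟩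
  let j := (f ⁻¹ᵁ V).ι
  let π : (f ⁻¹ᵁ V).toScheme ⟶ Spec Γ(X, V) := (f ∣_ V) ≫ hV.isoSpec.hom
  haveI : IsProper π := inferInstance
  haveI : CompactSpace (f ⁻¹ᵁ V).toScheme := QuasiCompact.compactSpace_of_compactSpace π
  haveI : QuasiSeparatedSpace (f ⁻¹ᵁ V).toScheme := quasiSeparatedSpace_of_quasiSeparated π
  have hBV : CohB1.IsAmple (B.restrict j) := Amp73.isAmple_restrict hB j
  obtain ⟨t₀, ht⟩ := RB70.exists_vanishing_ample π hBV (Coh.structureModule _)
    (Amp73.isCoh_of_isInvertible EGA73.isInvertible_structureModule)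
  refine ⟨t₀, fun t htt m q hq g => ?_⟩
  let M := CohB1.tensorMod (CohB1.tensorPow B t) ((Scheme.Modules.pullback f).obj (CohB1.tensorPow L m))
  have hM : PicF.IsInvertible M :=
    EGA73.isInvertible_tensorMod (EGA73.isInvertible_tensorPow hB.1 t)
      (Amp73.isInvertible_pullback f (EGA73.isInvertible_tensorPow hL m))
  haveI := Mero90.isQCoh_of_isInvertible (EGA73.isInvertible_restrict hM j)
  obtain ⟨v⟩ := nonempty_pullback_restrict f V
    ((Amp73.powRestrict V.ι L m).symm ≪≫ Amp73.powIso e m ≪≫ Amp73.powUnit _ m)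
  let ψ : M.restrict j ≅ CohB1.tensorMod (Coh.structureModule _) (CohB1.tensorPow (B.restrict j) t) :=
    (EGA73.tensorRestrictIso j _ _).symm ≪≫ EGA73.tensIso (Amp73.powRestrict j B t).symm v ≪≫
      EGA73.tensComm _ _
  have h0 : Subsingleton (Coh69.HE (Coh.toAb (M.restrict j)) q (⊤ : (f ⁻¹ᵁ V).toScheme.Opens)) :=
    haveI := ValVan29.subsingleton_hh_of_iso ψ.symm q (ht t htt q hq)
    (Coh69.hhEquiv (M.restrict j) q).symm.toEquiv.subsingleton
  have hW : (j ≫ f) ⁻¹ᵁ V = ⊤ := by
    rw [Scheme.Hom.comp_preimage]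
    exact Scheme.Opens.ι_preimage_self _
  have h1 := FMK72.subsingleton_HE_preimage_basicOpen (j ≫ f) (M.restrict j) q hW h0 g
  rw [FMK72.subsingleton_HE_restrict_iff, Scheme.Hom.comp_preimage, Scheme.Hom.image_preimage_eq_opensRange_inf,
    Scheme.Opens.opensRange_ι, inf_eq_right.2 (f.preimage_mono (X.basicOpen_le g))] at h1
  exact h1

/-- High twists by an ample module have the cohomology of their direct image. -/
theorem exists_push_equiv (k : Type u) [Field k] [X.Over (Spec (CommRingCat.of k))]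
    [Y.Over (Spec (CommRingCat.of k))] [IsProper (X ↘ (Spec (CommRingCat.of k)))]
    [IsProper (Y ↘ (Spec (CommRingCat.of k)))]
    (hf : f ≫ (X ↘ (Spec (CommRingCat.of k))) = Y ↘ (Spec (CommRingCat.of k)))
    {B : Y.Modules} (hB : CohB1.IsAmple B) {L : X.Modules} (hL : PicF.IsInvertible L) :
    ∃ t₀ : ℕ, ∀ t, t₀ ≤ t → ∀ (m p : ℕ),
      Nonempty (Coh.HH X (CohB1.tensorMod ((Coh.push f).obj (CohB1.tensorPow B t)) (CohB1.tensorPow L m)) p ≃ₗ[k]
        Coh.HH Y (CohB1.tensorMod (CohB1.tensorPow B t) (CohB1.tensorPow ((Scheme.Modules.pullback f).obj L) m)) p) := by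
  classical
  have := Crv77.isNoetherian_of_proper k X
  have := Crv77.isNoetherian_of_proper k Y
  have : IsProper (f ≫ (X ↘ (Spec (CommRingCat.of k)))) := hf.symm ▸ inferInstance
  have : IsProper f := IsProper.of_comp f (X ↘ (Spec (CommRingCat.of k)))
  choose V hxV hVU e he using fun x : X => Mero90.exists_affine_frame hL x ⊤ trivial
  have hiso : ∀ x, Nonempty (L.restrict (V x).1.ι ≅ Coh.structureModule (V x).1) := fun x =>
    EGA73.nonempty_restrict_iso_unit L _ (e x) fun W hW => he x W hW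
  obtain ⟨s, hs⟩ := isCompact_univ.elim_finite_subcover (fun x => ((V x).1 : Set X)) (fun x => (V x).1.2)
    fun x _ => Set.mem_iUnion.2 ⟨x, hxV x⟩
  choose t₀ ht using fun x => exists_vanish_affine f hB hL (V x).2 (Classical.choice (hiso x))
  refine ⟨s.sup t₀, fun t htt m p => ?_⟩
  let M := CohB1.tensorMod (CohB1.tensorPow B t) ((Scheme.Modules.pullback f).obj (CohB1.tensorPow L m))
  have hBt := EGA73.isInvertible_tensorPow hB.1 t
  have hLm := EGA73.isInvertible_tensorPow hL m
  haveI := ValVan29.isIso_projHom f (CohB1.tensorPow B t) (CohB1.tensorPow L m) hLm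
  let ε : CohB1.tensorMod ((Coh.push f).obj (CohB1.tensorPow B t)) (CohB1.tensorPow L m) ≅ (Coh.push f).obj M :=
    asIso (ValVan29.projHom f (CohB1.tensorPow B t) (CohB1.tensorPow L m))
  have hMi : PicF.IsInvertible M := EGA73.isInvertible_tensorMod hBt (Amp73.isInvertible_pullback f hLm)
  have hP : Coh.IsCoh ((Coh.push f).obj M) :=
    QC70.isCoh_of_iso ((Scheme.Modules.pushforward f).rightDerivedZeroIsoSelf.app _)
      (RB70.isCoh_rpush f _ (Amp73.isCoh_of_isInvertible hMi) 0)
  obtain ⟨φ⟩ := RegImm10.BlowCech.nonempty_hhLin_push_of_acyclic (A := k) f hf M hP.1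
    {W | ∃ x ∈ s, ∃ g : Γ(X, (V x).1), W = X.basicOpen g} (fun W z hz => by
      obtain ⟨x, hx, hzx⟩ := Set.mem_iUnion₂.1 (hs (Set.mem_univ z))
      obtain ⟨g, hgW, hzg⟩ := (V x).2.exists_basicOpen_le ⟨z, hz⟩ hzx
      exact ⟨_, ⟨x, hx, g, rfl⟩, hzg, hgW⟩)
    (by
      rintro W ⟨x, hx, g, rfl⟩ q
      exact ht x t ((Finset.le_sup hx).trans htt) m (q + 1) (by omega) g) p
  exact ⟨(Crv77.hEquiv k ε p).trans (φ.trans (Crv77.hEquiv k
    (EGA73.tensIso (Iso.refl _) (Amp73.pullPowIso f hL m)) p))⟩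

end Groth.Agent.Var76.PushVan

end
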