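import Groth.Agent.Var76.GenericCompare
import Groth.Agent.Var76.PushVanish
import Groth.Agent.Var76.PushStalk

/-! Asymptotic cohomology of pullbacks. -/

set_option autoImplicit false
set_option backward.isDefEq.respectTransparency.types false
universe u

open CategoryTheory CategoryTheory.Limits AlgebraicGeometry TopologicalSpace Filter

noncomputable section

namespace Groth.Agent.Var76.Growth

variable {X Y : Scheme.{u}} (f : Y ⟶ X) (k : Type u) [Field k]
  [X.Over (Spec (CommRingCat.of k))] [Y.Over (Spec (CommRingCat.of k))]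

theorem hi_unit (i : ℕ) (L : X.Modules) (m : ℕ) :
    hi k i L (Coh.structureModule X) m = Module.finrank k (Coh.HH X (CohB1.tensorPow L m) i) :=
  (Crv77.hEquiv k (EGA73.tensUnitLeft (CohB1.tensorPow L m)) i).finrank_eq

variable [IsProper (X ↘ (Spec (CommRingCat.of k)))] [IsProper (Y ↘ (Spec (CommRingCat.of k)))]
  [IsIntegral Y] (hf : f ≫ (X ↘ (Spec (CommRingCat.of k))) = Y ↘ (Spec (CommRingCat.of k)))
  {L : X.Modules} (hL : PicF.IsInvertible L)
include hf hL

/-- Pullbacks have, up to lower order terms, the cohomology of a coherent module downstairs. -/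
theorem exists_push_model {B : Y.Modules} (hB : CohB1.IsAmple B) {e : ℕ}
    (he : topologicalKrullDim Y ≤ (e : WithBot ℕ∞)) :
    ∃ M : Y.Modules, PicF.IsInvertible M ∧
      Coh.IsCoh ((Scheme.Modules.pushforward f).obj (CohB1.tensorMod (Coh.structureModule Y) M)) ∧
      ∀ i, CloseH (fun m => Module.finrank k (Coh.HH Y (CohB1.tensorPow ((Scheme.Modules.pullback f).obj L) m) i))
        (hi k i L ((Scheme.Modules.pushforward f).obj (CohB1.tensorMod (Coh.structureModule Y) M))) e := by
  have := Crv77.isNoetherian_of_proper k X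
  have := Crv77.isNoetherian_of_proper k Y
  have : IsProper (f ≫ (X ↘ (Spec (CommRingCat.of k)))) := hf.symm ▸ inferInstance
  have : IsProper f := IsProper.of_comp f (X ↘ (Spec (CommRingCat.of k)))
  obtain ⟨t₀, ht⟩ := PushVan.exists_push_equiv f k hf hB hL
  let M := CohB1.tensorPow B t₀
  have hM : PicF.IsInvertible M := EGA73.isInvertible_tensorPow hB.1 t₀
  have hO : Coh.IsCoh (Coh.structureModule Y) := QC70.isCoh_unit
  haveI := hO.1
  have hOM : Coh.IsCoh (CohB1.tensorMod (Coh.structureModule Y) M) :=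
    Amp73.isCoh_tensorMod hO (Amp73.isCoh_of_isInvertible hM)
  refine ⟨M, hM, QC70.isCoh_of_iso ((Scheme.Modules.pushforward f).rightDerivedZeroIsoSelf.app _)
      (RB70.isCoh_rpush f _ hOM 0), fun i => ?_⟩
  have hL' := Amp73.isInvertible_pullback f hL
  obtain ⟨σ⟩ := Snapper75.nonempty_stalk_twist (Coh.structureModule Y) hM (genericPoint Y)
  have h1 := close_of_stalk_equiv k hL' hO hOM he σ.symm i
  refine ((CloseH.of_eq e fun m => (hi_unit k i _ m).symm).trans h1).trans (CloseH.of_eq e fun m => ?_)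
  obtain ⟨φ⟩ := ht t₀ le_rfl m i
  refine (hi_congr k i _ (EGA73.tensUnitLeft M) m).trans ?_
  refine φ.symm.finrank_eq.trans ?_
  exact (hi_congr k i L ((Scheme.Modules.pushforward f).mapIso (EGA73.tensUnitLeft M)) m).symm

theorem close_pullback_genFinite [IsIntegral X] {B : Y.Modules} (hB : CohB1.IsAmple B) {n : ℕ}
    (hnY : topologicalKrullDim Y ≤ (n : WithBot ℕ∞)) (hnX : topologicalKrullDim X ≤ (n : WithBot ℕ∞))
    (hdom : f (genericPoint Y) = genericPoint X) {d : ℕ} (hd : f.residueDegree (genericPoint Y) = d)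
    (hd0 : 0 < d) (i : ℕ) :
    CloseH (fun m => Module.finrank k (Coh.HH Y (CohB1.tensorPow ((Scheme.Modules.pullback f).obj L) m) i))
      (fun m => d * Module.finrank k (Coh.HH X (CohB1.tensorPow L m) i)) n := by
  have : IsProper (f ≫ (X ↘ (Spec (CommRingCat.of k)))) := hf.symm ▸ inferInstance
  have : IsProper f := IsProper.of_comp f (X ↘ (Spec (CommRingCat.of k)))
  obtain ⟨M, hM, hP, h⟩ := exists_push_model f k hf hL hB hnY
  have h' := close_rank k hL hP hnX (PushDeg.finrank_stalk_push_twist f hdom hd hd0 hM _ hdom.symm) i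
  exact ((h i).trans h').trans (CloseH.of_eq n fun m => congrArg (d * ·) (hi_unit k i L m))

theorem tendsto_pullback_of_lt {B : Y.Modules} (hB : CohB1.IsAmple B) {n e : ℕ}
    (hnX : topologicalKrullDim X ≤ (n : WithBot ℕ∞)) (he : topologicalKrullDim Y ≤ (e : WithBot ℕ∞))
    (hne : n < e) (i : ℕ) :
    limsup (fun m : ℕ =>
      (Module.finrank k (Coh.HH Y (CohB1.tensorPow ((Scheme.Modules.pullback f).obj L) m) i) : ℝ) *
        (e.factorial : ℝ) / (m : ℝ) ^ e) atTop = 0 := by
  obtain ⟨M, hM, hP, h⟩ := exists_push_model f k hf hL hB he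
  obtain ⟨C, hC⟩ := exists_bound_hi k hL _ hP hnX i
  have hle : ∀ m : ℕ, (m + 1) ^ n ≤ (m + 1) ^ e := fun m => Nat.pow_le_pow_right (Nat.succ_pos m) hne.le
  refine (limsup_eq_of_close (h i) ⟨C, fun m => (hC m).trans (Nat.mul_le_mul_left C (hle m))⟩).trans ?_
  have hw : ∀ m : ℕ, hi k i L ((Scheme.Modules.pushforward f).obj
      (CohB1.tensorMod (Coh.structureModule Y) M)) m ≤ C * w e m := fun m => by
    refine (hC m).trans (Nat.mul_le_mul_left C ?_)
    obtain ⟨e', rfl⟩ : ∃ e', e = e' + 1 := ⟨e - 1, by omega⟩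
    exact Nat.pow_le_pow_right (Nat.succ_pos m) (by omega)
  refine Tendsto.limsup_eq (squeeze_zero (fun m => by positivity) (fun m => ?_)
    (by simpa using (tendsto_w e).const_mul ((C : ℝ) * (e.factorial : ℝ))))
  calc _ ≤ ((C : ℝ) * w e m) * e.factorial / (m : ℝ) ^ e := by gcongr; exact_mod_cast hw m
    _ = _ := by ring

end Groth.Agent.Var76.Growth

end
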