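import Groth.Agent.Var76.Bigness
import Groth.Agent.Var76.SuppVanish
import Groth.Agent.RB70.AmpleVanish

/-! Top cohomology of high powers of a big invertible module vanishes. -/

set_option autoImplicit false
universe u

open CategoryTheory CategoryTheory.Limits AlgebraicGeometry TopologicalSpace Opposite

noncomputable section

namespace Groth.Agent.Var76.Growth

variable {X : Scheme.{u}} [IsIntegral X] [NoetherianSpace X]

/-- Top cohomology maps onto along a nonzero map of invertible modules. -/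
theorem subsingleton_top_of_hom {n : ℕ}
    (hn : topologicalKrullDim X ≤ (n : WithBot ℕ∞)) (hn1 : 1 ≤ n) {N L : X.Modules} (hN : PicF.IsInvertible N)
    (hL : PicF.IsInvertible L) (φ : N ⟶ L) (hφ : φ ≠ 0) (h : Subsingleton (Coh.HH X N n)) :
    Subsingleton (Coh.HH X L n) := by
  obtain ⟨hm, hgen⟩ := VarCurve.hom_of_invertible hN hL φ hφ
  have hS : (ShortComplex.mk φ (cokernel.π φ) (cokernel.condition φ)).ShortExact :=
    { exact := ShortComplex.exact_of_g_is_cokernel _ (cokernelIsCokernel φ)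
      mono_f := hm }
  have hQ : Coh.IsCoh (cokernel φ) := QC70.isCoh_cokernel φ (Amp73.isCoh_of_isInvertible hN).1
    (Amp73.isCoh_of_isInvertible hL)
  haveI := hQ.2
  have hcl := QC70.isClosed_support (cokernel φ)
  have hd : topologicalKrullDim (CohB1.support (cokernel φ)) < (n : WithBot ℕ∞) := by
    refine Snapper75.dim_lt_of_notMem hcl (y := genericPoint X) ?_
      (QC70.notMem_support_iff.2 (QC70.subsingleton_stalk_cokernel φ _ hgen)) ?_
    · rw [genericPoint_closure]
      exact Set.subset_univ _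
    · exact lt_of_le_of_lt ((Topology.IsInducing.subtypeVal.topologicalKrullDim_le).trans hn)
        (by exact_mod_cast Nat.lt_succ_self n)
  obtain ⟨e, rfl⟩ : ∃ e, n = e + 1 := ⟨n - 1, by omega⟩
  have hQv : Subsingleton (Coh.HH X (cokernel φ) (e + 1)) :=
    subsingleton_HH_of_support (cokernel φ) hcl (fun x hx => QC70.notMem_support_iff.1 hx)
      (Snapper75.le_of_lt_succ hd) (e + 1) (Nat.lt_succ_self e)
  exact ValVan29.subsingleton_hh_X₂
    (S := ShortComplex.mk φ (cokernel.π φ) (cokernel.condition φ)) hS (e + 1) h hQv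

variable (k : Type u) [Field k] [X.Over (Spec (CommRingCat.of k))] [IsProper (X ↘ (Spec (CommRingCat.of k)))]

/-- High powers of a big module have no top cohomology. -/
theorem eventually_top_vanish {A L : X.Modules} (hA : CohB1.IsAmple A) (hL : PicF.IsInvertible L) {n : ℕ}
    (hn : topologicalKrullDim X ≤ (n : WithBot ℕ∞)) (hn1 : 1 ≤ n) (hb : BigFreq (hp k L) n) :
    ∀ᶠ t : ℕ in Filter.atTop, Subsingleton (Coh.HH X (CohB1.tensorPow L t) n) := by
  obtain ⟨I, hI, ⟨ε⟩⟩ := An92.InvMod.exists_inverse hA.1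
  obtain ⟨m, hm, hm'⟩ := kodaira_ample k hL hn hb hA ⟨ε⟩
  let E := CohB1.tensorMod I (CohB1.tensorPow L m)
  have hEi : PicF.IsInvertible E := EGA73.isInvertible_tensorMod hI (EGA73.isInvertible_tensorPow hL m)
  let e₀ : CohB1.tensorMod A E ≅ CohB1.tensorPow L m :=
    (EGA73.tensAssoc' _ _ _).symm ≪≫ EGA73.tensIso (EGA73.tensComm _ I ≪≫ ε) (Iso.refl _) ≪≫
      EGA73.tensUnitLeft _
  choose N hN using fun r : Fin m => RB70.exists_vanishing_ample (X ↘ (Spec (CommRingCat.of k))) hA
    (CohB1.tensorPow L r) (Amp73.isCoh_of_isInvertible (EGA73.isInvertible_tensorPow hL r))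
  refine Filter.eventually_atTop.2 ⟨(Finset.univ.sup N + 1) * m, fun t ht => ?_⟩
  let q := t / m
  let r : Fin m := ⟨t % m, Nat.mod_lt t hm⟩
  have hq : Finset.univ.sup N + 1 ≤ q := (Nat.le_div_iff_mul_le hm).2 ht
  have hNr : N r ≤ q := le_trans (Finset.le_sup (Finset.mem_univ r)) (by omega)
  let P := CohB1.tensorMod (CohB1.tensorPow L r) (CohB1.tensorPow A q)
  have hP : PicF.IsInvertible P :=
    EGA73.isInvertible_tensorMod (EGA73.isInvertible_tensorPow hL r) (EGA73.isInvertible_tensorPow hA.1 q)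
  have hEq := EGA73.isInvertible_tensorPow hEi q
  have hEn : hp k E q ≠ 0 := by
    have h1 : hp k E 1 ≠ 0 := (hp_ne_zero_iff k hEi 1).2 (Crv77.hEquiv k (Amp73.powOne E) 0).toEquiv.nontrivial
    simpa using (secFun k hEi).mul h1 q
  obtain ⟨s, hs⟩ := hasSec_of_nontrivial ((hp_ne_zero_iff k hEi q).1 hEn)
  let iso : CohB1.tensorMod (CohB1.tensorPow E q) P ≅ CohB1.tensorPow L t :=
    EGA73.tensIso (Iso.refl _) (EGA73.tensComm _ _) ≪≫ (EGA73.tensAssoc' _ _ _).symm ≪≫
      EGA73.tensIso (EGA73.tensComm _ _ ≪≫ (Amp73.powTens A E q).symm ≪≫ Amp73.powIso e₀ q ≪≫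
        Amp73.powMul L m q) (Iso.refl _) ≪≫
      Amp73.powAdd L (m * q) r ≪≫ eqToIso (congrArg (CohB1.tensorPow L) (Nat.div_add_mod t m))
  refine ValVan29.subsingleton_hh_of_iso iso n ?_
  refine subsingleton_top_of_hom hn hn1 (EGA73.isInvertible_tensorMod EGA73.isInvertible_structureModule hP)
    (EGA73.isInvertible_tensorMod hEq hP) (H98Pos.tensMap s P)
    (H98Pos.tensMap_ne_zero EGA73.isInvertible_structureModule hEq hP hs) ?_
  exact ValVan29.subsingleton_hh_of_iso (EGA73.tensUnitLeft P).symm n (hN r q hNr n hn1)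

end Groth.Agent.Var76.Growth

end
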