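import Groth.Agent.Var76.HiGrowth
import Groth.Prelude.Def_W4c5asymptcohfnACF

/-! Comparing asymptotic cohomological functions up to lower order terms. -/

set_option autoImplicit false
set_option backward.isDefEq.respectTransparency.types false
universe u

open CategoryTheory CategoryTheory.Limits AlgebraicGeometry TopologicalSpace Filter

noncomputable section

namespace Groth.Agent.Var76.Growth

variable (k : Type u) [Field k] {X : Scheme.{u}} [X.Over (Spec (CommRingCat.of k))]

/-- Two sequences that differ by lower order terms. -/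
def CloseH (a b : ℕ → ℕ) (n : ℕ) : Prop :=
  ∃ C : ℕ, ∀ m, a m ≤ b m + C * w n m ∧ b m ≤ a m + C * w n m

theorem tendsto_w (n : ℕ) : Tendsto (fun m : ℕ => (w n m : ℝ) / (m : ℝ) ^ n) atTop (nhds 0) := by
  rcases n with _ | e
  · simp [w]
  · have h0 : Tendsto (fun m : ℕ => (2 : ℝ) ^ e / (m : ℝ)) atTop (nhds 0) :=
      tendsto_const_nhds.div_atTop tendsto_natCast_atTop_atTop
    refine squeeze_zero' (Eventually.of_forall fun m => by positivity) ?_ h0
    filter_upwards [eventually_ge_atTop 1] with m hm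
    have hm' : (1 : ℝ) ≤ m := by exact_mod_cast hm
    have hm0 : (0 : ℝ) < m := by linarith
    simp only [w, Nat.cast_pow, Nat.cast_add, Nat.cast_one]
    rw [div_le_div_iff₀ (by positivity) hm0, pow_succ, ← mul_assoc, ← mul_pow]
    exact mul_le_mul_of_nonneg_right (pow_le_pow_left₀ (by positivity) (by linarith) e) hm0.le

theorem limsup_eq_of_close {a b : ℕ → ℕ} {n : ℕ} (h : CloseH a b n) (hb : ∃ C : ℕ, ∀ m, b m ≤ C * (m + 1) ^ n) :
    limsup (fun m : ℕ => (a m : ℝ) * (n.factorial : ℝ) / (m : ℝ) ^ n) atTop =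
      limsup (fun m : ℕ => (b m : ℝ) * (n.factorial : ℝ) / (m : ℝ) ^ n) atTop := by
  obtain ⟨C, hC⟩ := h
  obtain ⟨D, hD⟩ := hb
  set u := fun m : ℕ => (a m : ℝ) * (n.factorial : ℝ) / (m : ℝ) ^ n with hu
  set v := fun m : ℕ => (b m : ℝ) * (n.factorial : ℝ) / (m : ℝ) ^ n with hv
  have hd : Tendsto (u - v) atTop (nhds 0) := by
    refine squeeze_zero_norm (fun m => ?_)
      (by simpa using (tendsto_w n).const_mul ((C : ℝ) * (n.factorial : ℝ)))
    have h1 : (a m : ℝ) ≤ b m + C * w n m := by exact_mod_cast (hC m).1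
    have h2 : (b m : ℝ) ≤ a m + C * w n m := by exact_mod_cast (hC m).2
    have habs : |(a m : ℝ) - b m| ≤ C * w n m := abs_sub_le_iff.2 ⟨by linarith, by linarith⟩
    rw [Real.norm_eq_abs, Pi.sub_apply, hu, hv]
    simp only
    rw [← sub_div, ← sub_mul, abs_div, abs_mul, abs_pow, Nat.abs_cast, Nat.abs_cast]
    calc _ ≤ (C : ℝ) * w n m * n.factorial / (m : ℝ) ^ n := by gcongr
      _ = _ := by ring
  have hvb : IsBoundedUnder (· ≤ ·) atTop v := by
    refine isBoundedUnder_of_eventually_le (a := (D : ℝ) * n.factorial * 2 ^ n) ?_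
    filter_upwards [eventually_ge_atTop 1] with m hm
    have hm' : (1 : ℝ) ≤ m := by exact_mod_cast hm
    have hb' : (b m : ℝ) ≤ D * ((m : ℝ) + 1) ^ n := by exact_mod_cast hD m
    have hp : ((m : ℝ) + 1) ^ n ≤ 2 ^ n * (m : ℝ) ^ n := by
      rw [← mul_pow]
      gcongr
      linarith
    rw [hv]
    simp only
    rw [div_le_iff₀ (by positivity)]
    calc (b m : ℝ) * n.factorial ≤ D * (2 ^ n * (m : ℝ) ^ n) * n.factorial :=
          mul_le_mul_of_nonneg_right (hb'.trans (mul_le_mul_of_nonneg_left hp (Nat.cast_nonneg D)))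
            (Nat.cast_nonneg _)
      _ = _ := by ring
  have hv0 : IsBoundedUnder (· ≥ ·) atTop v := isBoundedUnder_of ⟨0, fun m => by rw [hv]; positivity⟩
  have hu0 : IsBoundedUnder (· ≥ ·) atTop u := isBoundedUnder_of ⟨0, fun m => by rw [hu]; positivity⟩
  have hub : IsBoundedUnder (· ≤ ·) atTop u := by
    obtain ⟨B, hB⟩ := hvb
    refine isBoundedUnder_of_eventually_le (a := B + 1) ?_
    filter_upwards [eventually_map.1 hB, hd.eventually (Iio_mem_nhds (zero_lt_one (α := ℝ)))] with m h1 h2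
    simp only [Pi.sub_apply] at h2
    linarith
  refine le_antisymm ?_ ?_
  · refine le_of_forall_pos_le_add fun ε hε => ?_
    have he : ∀ᶠ m in atTop, u m ≤ v m + ε := by
      filter_upwards [hd.eventually (Iio_mem_nhds hε)] with m h1
      simp only [Pi.sub_apply] at h1
      linarith
    refine (limsup_le_limsup he hu0.isCoboundedUnder_le ?_).trans ?_
    · obtain ⟨B, hB⟩ := hvb
      exact isBoundedUnder_of_eventually_le (a := B + ε)
        ((eventually_map.1 hB).mono fun m hm => by linarith)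
    · rw [limsup_add_const atTop v ε hvb hv0.isCoboundedUnder_le]
  · refine le_of_forall_pos_le_add fun ε hε => ?_
    have he : ∀ᶠ m in atTop, v m ≤ u m + ε := by
      filter_upwards [hd.eventually (Ioi_mem_nhds (neg_neg_of_pos hε))] with m h1
      simp only [Pi.sub_apply] at h1
      linarith
    refine (limsup_le_limsup he hv0.isCoboundedUnder_le ?_).trans ?_
    · obtain ⟨B, hB⟩ := hub
      exact isBoundedUnder_of_eventually_le (a := B + ε)
        ((eventually_map.1 hB).mono fun m hm => by linarith)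
    · rw [limsup_add_const atTop u ε hub hu0.isCoboundedUnder_le]

theorem CloseH.of_eq {a b : ℕ → ℕ} (n : ℕ) (h : ∀ m, a m = b m) : CloseH a b n :=
  ⟨0, fun m => by simp [h m]⟩

theorem CloseH.symm {a b : ℕ → ℕ} {n : ℕ} (h : CloseH a b n) : CloseH b a n :=
  h.imp fun _ hC m => (hC m).symm

theorem CloseH.trans {a b c : ℕ → ℕ} {n : ℕ} (h : CloseH a b n) (h' : CloseH b c n) : CloseH a c n := by
  obtain ⟨C, hC⟩ := h
  obtain ⟨D, hD⟩ := h'
  refine ⟨C + D, fun m => ?_⟩
  have := hC m
  have := hD m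
  rw [add_mul]
  omega

variable [IsProper (X ↘ (Spec (CommRingCat.of k)))] {L : X.Modules} (hL : PicF.IsInvertible L)
  {S : ShortComplex X.Modules} (hS : S.ShortExact) (h₁ : Coh.IsCoh S.X₁) (h₂ : Coh.IsCoh S.X₂)
  (h₃ : Coh.IsCoh S.X₃)
include hL hS h₁ h₂ h₃

/-- A kernel with small support does not matter. -/
theorem close_mid_right {n : ℕ} (h : topologicalKrullDim (CohB1.support S.X₁) < (n : WithBot ℕ∞)) (i : ℕ) :
    CloseH (hi k i L S.X₂) (hi k i L S.X₃) n := by
  obtain ⟨C, hC⟩ := bdH_of_dim k hL n _ h₁ h i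
  obtain ⟨D, hD⟩ := bdH_of_dim k hL n _ h₁ h (i + 1)
  refine ⟨C + D, fun m => ?_⟩
  have := hi_le_mid k hL hS h₁ h₂ h₃ i m
  have := hi_le_right k hL hS h₁ h₂ h₃ i m
  have := hC m
  have := hD m
  rw [add_mul]
  omega

/-- A cokernel with small support does not matter. -/
theorem close_left_mid {n : ℕ} (h : topologicalKrullDim (CohB1.support S.X₃) < (n : WithBot ℕ∞)) (i : ℕ) :
    CloseH (hi k i L S.X₁) (hi k i L S.X₂) n := by
  obtain ⟨C, hC⟩ := bdH_of_dim k hL n _ h₃ h i
  rcases i with _ | i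
  · refine ⟨C, fun m => ?_⟩
    have := hi_le_left_zero k hL hS h₂ m
    have := hi_le_mid k hL hS h₁ h₂ h₃ 0 m
    have := hC m
    omega
  · obtain ⟨D, hD⟩ := bdH_of_dim k hL n _ h₃ h i
    refine ⟨C + D, fun m => ?_⟩
    have := hi_le_left_succ k hL hS h₁ h₂ h₃ i m
    have := hi_le_mid k hL hS h₁ h₂ h₃ (i + 1) m
    have := hC m
    have := hD m
    rw [add_mul]
    omega

omit hS h₁ h₂ h₃ in
theorem hhatF_eq_of_close {F G : X.Modules} (hG : Coh.IsCoh G) {n : ℕ}
    (hn : topologicalKrullDim X ≤ (n : WithBot ℕ∞)) (i : ℕ) (h : CloseH (hi k i L F) (hi k i L G) n) :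
    W4c5asymptcohfn.hhatF k X n i F L = W4c5asymptcohfn.hhatF k X n i G L :=
  limsup_eq_of_close h (exists_bound_hi k hL G hG hn i)

end Groth.Agent.Var76.Growth

end
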