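import Groth.Agent.Var76.MultiGrowth

/-! Bounds and Lipschitz estimates for asymptotic cohomological functions. -/

set_option autoImplicit false
set_option backward.isDefEq.respectTransparency.types false
universe u

open CategoryTheory CategoryTheory.Limits AlgebraicGeometry TopologicalSpace Filter

noncomputable section

namespace Groth.Agent.Var76.Growth

/-- The limiting Lipschitz factor. -/
def phi : ℕ → ℝ → ℝ
  | 0, _ => 0
  | e + 1, S => S ^ e

theorem tendsto_affine_div (S : ℝ) :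
    Tendsto (fun m : ℕ => ((m : ℝ) * S + 1) / (m : ℝ)) atTop (nhds S) := by
  have h : Tendsto (fun m : ℕ => S + 1 / (m : ℝ)) atTop (nhds (S + 0)) :=
    tendsto_const_nhds.add (tendsto_const_nhds.div_atTop tendsto_natCast_atTop_atTop)
  rw [add_zero] at h
  refine h.congr' ?_
  filter_upwards [eventually_ge_atTop 1] with m hm
  have : (m : ℝ) ≠ 0 := Nat.cast_ne_zero.2 (by omega)
  field_simp

theorem tendsto_phi (n S : ℕ) :
    Tendsto (fun m : ℕ => (m : ℝ) * (w n (m * S) : ℝ) / (m : ℝ) ^ n) atTop (nhds (phi n S)) := by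
  rcases n with _ | e
  · simp [w, phi]
  · refine ((tendsto_affine_div S).pow e).congr' ?_
    filter_upwards [eventually_ge_atTop 1] with m hm
    have : (m : ℝ) ≠ 0 := Nat.cast_ne_zero.2 (by omega)
    simp only [w, Nat.cast_pow, Nat.cast_add, Nat.cast_mul, Nat.cast_one, div_pow, pow_succ']
    field_simp

theorem sz_smul {r : ℕ} (c : Fin r → ℤ) (m : ℕ) : sz (fun j => (m : ℤ) * c j) = m * sz c := by
  simp [sz, Int.natAbs_mul, Finset.mul_sum]

theorem sz_le_norm {r : ℕ} (c : Fin r → ℤ) : (sz c : ℝ) ≤ r * ‖(fun j => ((c j : ℤ) : ℝ))‖ := by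
  rw [sz, Nat.cast_sum]
  refine (Finset.sum_le_card_nsmul _ _ ‖(fun j => ((c j : ℤ) : ℝ))‖ fun j _ => ?_).trans (le_of_eq ?_)
  · refine le_trans (le_of_eq ?_) (norm_le_pi_norm (fun a => ((c a : ℤ) : ℝ)) j)
    simp [Real.norm_eq_abs, Nat.cast_natAbs]
  · simp

variable (k : Type u) [Field k] {X : Scheme.{u}} [X.Over (Spec (CommRingCat.of k))]
  [IsProper (X ↘ (Spec (CommRingCat.of k)))] [IsIntegral X] {r : ℕ} {L M : Fin r → X.Modules}
  (hL : ∀ j, PicF.IsInvertible (L j)) (hM : ∀ j, ClSub.IsInverseOf (L j) (M j))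
  {n : ℕ} (hn : topologicalKrullDim X ≤ (n : WithBot ℕ∞))
include hL hM hn

theorem hhat_ztwist_le (i : ℕ) :
    ∃ D : ℝ, 0 ≤ D ∧ ∀ a : Fin r → ℤ,
      W4c5asymptcohfn.hhat k X n i (W4c5asymptcohfn.ztwist X L M a) ≤ D * (sz a : ℝ) ^ n := by
  obtain ⟨D, hD⟩ := exists_bound_hz k hL hM hn i
  refine ⟨(D : ℝ) * n.factorial, by positivity, fun a => ?_⟩
  have ht : Tendsto (fun m : ℕ => ((D : ℝ) * n.factorial) * (((m : ℝ) * sz a + 1) / (m : ℝ)) ^ n) atTop
      (nhds (((D : ℝ) * n.factorial) * (sz a : ℝ) ^ n)) :=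
    ((tendsto_affine_div (sz a)).pow n).const_mul _
  refine (limsup_le_limsup ?_ (isBoundedUnder_of ⟨0, fun m => by positivity⟩ :
    IsBoundedUnder (· ≥ ·) atTop _).isCoboundedUnder_le ht.isBoundedUnder_le).trans ht.limsup_eq.le
  filter_upwards [eventually_ge_atTop 1] with m hm
  have hm0 : (0 : ℝ) < (m : ℝ) ^ n := pow_pos (by exact_mod_cast hm) n
  rw [hz_pow k hM, div_pow, ← mul_div_assoc]
  refine div_le_div_of_nonneg_right ?_ hm0.le
  have h1 : (hz k i L M (Coh.structureModule X) (fun j => (m : ℤ) * a j) : ℝ) ≤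
      D * ((m : ℝ) * sz a + 1) ^ n := by
    have := hD fun j => (m : ℤ) * a j
    rw [sz_smul] at this
    exact_mod_cast this
  calc _ ≤ ((D : ℝ) * ((m : ℝ) * sz a + 1) ^ n) * n.factorial :=
        mul_le_mul_of_nonneg_right h1 (Nat.cast_nonneg _)
    _ = _ := by ring

theorem isBounded_hhat_seq (i : ℕ) (a : Fin r → ℤ) :
    IsBoundedUnder (· ≤ ·) atTop (fun m : ℕ =>
      (Module.finrank k (Coh.HH X (CohB1.tensorPow (W4c5asymptcohfn.ztwist X L M a) m) i) : ℝ) *
        (n.factorial : ℝ) / (m : ℝ) ^ n) := by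
  obtain ⟨D, hD⟩ := exists_bound_hz k hL hM hn i
  refine isBoundedUnder_of_eventually_le (a := (D : ℝ) * n.factorial * ((sz a : ℝ) + 1) ^ n) ?_
  filter_upwards [eventually_ge_atTop 1] with m hm
  have hm1 : (1 : ℝ) ≤ m := by exact_mod_cast hm
  rw [hz_pow k hM, div_le_iff₀ (by positivity)]
  have h1 : (hz k i L M (Coh.structureModule X) (fun j => (m : ℤ) * a j) : ℝ) ≤
      D * ((m : ℝ) * sz a + 1) ^ n := by
    have := hD fun j => (m : ℤ) * a j
    rw [sz_smul] at this
    exact_mod_cast this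
  have h2 : ((m : ℝ) * sz a + 1) ^ n ≤ (((sz a : ℝ) + 1) * m) ^ n :=
    pow_le_pow_left₀ (by positivity) (by linarith) n
  rw [mul_pow] at h2
  calc _ ≤ ((D : ℝ) * ((((sz a : ℝ) + 1) ^ n) * (m : ℝ) ^ n)) * n.factorial :=
        mul_le_mul_of_nonneg_right (h1.trans (mul_le_mul_of_nonneg_left h2 (Nat.cast_nonneg _))) (Nat.cast_nonneg _)
    _ = _ := by ring

theorem hhat_ztwist_lipschitz (i : ℕ) :
    ∃ C : ℝ, 0 ≤ C ∧ ∀ a b : Fin r → ℤ,
      |W4c5asymptcohfn.hhat k X n i (W4c5asymptcohfn.ztwist X L M a) -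
        W4c5asymptcohfn.hhat k X n i (W4c5asymptcohfn.ztwist X L M b)| ≤
      C * (sz (a - b) : ℝ) * phi n ((sz a + sz b : ℕ) : ℝ) := by
  obtain ⟨C, hC⟩ := exists_lipschitz_hz k hL hM hn i
  refine ⟨(C : ℝ) * n.factorial, by positivity, ?_⟩
  have one : ∀ a b : Fin r → ℤ,
      W4c5asymptcohfn.hhat k X n i (W4c5asymptcohfn.ztwist X L M a) ≤
        W4c5asymptcohfn.hhat k X n i (W4c5asymptcohfn.ztwist X L M b) +
          (C : ℝ) * n.factorial * (sz (a - b) : ℝ) * phi n ((sz a + sz b : ℕ) : ℝ) := by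
    intro a b
    refine le_of_forall_pos_le_add fun ε hε => ?_
    have hT := (tendsto_phi n (sz a + sz b)).const_mul ((C : ℝ) * n.factorial * (sz (a - b) : ℝ))
    set Λ := (C : ℝ) * n.factorial * (sz (a - b) : ℝ) * phi n ((sz a + sz b : ℕ) : ℝ)
    have hb := isBounded_hhat_seq k hL hM hn i b
    have hb0 : IsBoundedUnder (· ≥ ·) atTop (fun m : ℕ =>
        (Module.finrank k (Coh.HH X (CohB1.tensorPow (W4c5asymptcohfn.ztwist X L M b) m) i) : ℝ) *
          (n.factorial : ℝ) / (m : ℝ) ^ n) := isBoundedUnder_of ⟨0, fun m => by positivity⟩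
    rw [add_assoc, W4c5asymptcohfn.hhat, W4c5asymptcohfn.hhat,
      ← limsup_add_const atTop _ (Λ + ε) hb hb0.isCoboundedUnder_le]
    refine limsup_le_limsup ?_ (isBoundedUnder_of ⟨0, fun m => by positivity⟩ :
      IsBoundedUnder (· ≥ ·) atTop _).isCoboundedUnder_le ?_
    · filter_upwards [hT.eventually (Iio_mem_nhds (lt_add_of_pos_right Λ hε)), eventually_ge_atTop 1] with m h1 hm
      have hm0 : (0 : ℝ) < (m : ℝ) ^ n := pow_pos (by exact_mod_cast hm) n
      rw [hz_pow k hM, hz_pow k hM]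
      have h2 := hC (fun j => (m : ℤ) * a j) (fun j => (m : ℤ) * b j)
      rw [show (fun j => (m : ℤ) * a j) - (fun j => (m : ℤ) * b j) = fun j => (m : ℤ) * (a - b) j by
        funext j; simp only [Pi.sub_apply]; ring, sz_smul, sz_smul, sz_smul, ← mul_add] at h2
      have h3 : (hz k i L M (Coh.structureModule X) (fun j => (m : ℤ) * a j) : ℝ) ≤
          hz k i L M (Coh.structureModule X) (fun j => (m : ℤ) * b j) +
            C * ((m : ℝ) * sz (a - b)) * w n (m * (sz a + sz b)) := by exact_mod_cast h2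
      have h4 : (hz k i L M (Coh.structureModule X) (fun j => (m : ℤ) * a j) : ℝ) * n.factorial / (m : ℝ) ^ n ≤
          (hz k i L M (Coh.structureModule X) (fun j => (m : ℤ) * b j) : ℝ) * n.factorial / (m : ℝ) ^ n +
            (C : ℝ) * n.factorial * (sz (a - b) : ℝ) * ((m : ℝ) * (w n (m * (sz a + sz b)) : ℝ) / (m : ℝ) ^ n) := by
        rw [← mul_div_assoc, ← add_div]
        refine div_le_div_of_nonneg_right ?_ hm0.le
        calc _ ≤ _ := mul_le_mul_of_nonneg_right h3 (Nat.cast_nonneg _)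
          _ = _ := by ring
      linarith
    · obtain ⟨B, hB⟩ := hb
      exact isBoundedUnder_of_eventually_le (a := B + (Λ + ε))
        ((eventually_map.1 hB).mono fun m hm => by linarith)
  intro a b
  have h1 := one a b
  have h2 := one b a
  rw [show sz (b - a) = sz (a - b) from Finset.sum_congr rfl fun j _ => by simp only [Pi.sub_apply]; omega,
    show sz b + sz a = sz a + sz b from add_comm _ _] at h2
  exact abs_sub_le_iff.2 ⟨by linarith, by linarith⟩

end Groth.Agent.Var76.Growth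

end
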