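import Groth.Agent.Var76.AsympCompare
import Groth.Agent.Var76.SuppVanish
import Groth.Agent.NefVan72.Basic

/-! Higher cohomology of powers above the dimension of the stable base locus. -/

set_option autoImplicit false
set_option backward.isDefEq.respectTransparency.types false
universe u

open CategoryTheory CategoryTheory.Limits AlgebraicGeometry TopologicalSpace Opposite

noncomputable section

namespace Groth.Agent.Var76.Growth

variable {X : Scheme.{u}}

theorem isClosed_stableBaseLocus (L : X.Modules) : IsClosed (W4c5asymptcohfn.stableBaseLocus X L) := by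
  refine isClosed_iInter fun m => ?_
  have : W4c5asymptcohfn.baseLocus X (CohB1.tensorPow L (m + 1)) =
      ⋂ s : Coh.structureModule X ⟶ CohB1.tensorPow L (m + 1), ((CohB1.genLocus _ s : X.Opens) : Set X)ᶜ := by
    ext x
    simp [W4c5asymptcohfn.baseLocus]
  rw [this]
  exact isClosed_iInter fun s => (CohB1.genLocus _ s).2.isClosed_compl

theorem bijective_stalk_of_mem_genLocus {N : X.Modules} (s : Coh.structureModule X ⟶ N) {y : X}
    (hy : y ∈ CohB1.genLocus N s) : Function.Bijective (QC70.stalkMapM s y) := by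
  haveI : IsIso ((Scheme.Modules.restrictFunctor (CohB1.genLocus N s).ι).map s) :=
    (Amp73.isIso_restrict_map_iff s _).2 ((Amp73.isFrame_iff_le_genLocus s _).2 le_rfl)
  exact (QC70.bijective_stalkMapM_restrict_iff (CohB1.genLocus N s).ι s ⟨y, hy⟩).1
    (QC70.bijective_stalkMapM_of_isIso _ _)

theorem exists_mul_map (G : X.Modules) {N : X.Modules} (s : Coh.structureModule X ⟶ N) {y : X}
    (hy : y ∈ CohB1.genLocus N s) :
    ∃ φ : G ⟶ CohB1.tensorMod G N, Function.Bijective (QC70.stalkMapM φ y) := by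
  have hi : Nonempty (CohB1.tensorMod G (Coh.structureModule X) ≅ G) := ⟨EGA73.tensUnitRight G⟩
  rw [NefVan72.tensor_obj] at hi
  rw [NefVan72.tensor_obj]
  obtain ⟨i⟩ := hi
  have hψ := NefVan72.bijective_stalk_whisker G s y (bijective_stalk_of_mem_genLocus s hy)
  generalize (DCoh.tensorBi.obj G).map s = ψ at hψ
  refine ⟨i.inv ≫ ψ, ?_⟩
  rw [funext (QC70.stalkMapM_comp i.inv ψ y)]
  exact hψ.comp (QC70.bijective_stalkMapM_of_isIso i.inv y)

variable (k : Type u) [Field k] [X.Over (Spec (CommRingCat.of k))]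

theorem hi_shift_pow (i : ℕ) (L F : X.Modules) (q m : ℕ) :
    hi k i L (CohB1.tensorMod F (CohB1.tensorPow L q)) m = hi k i L F (q + m) :=
  (Crv77.hEquiv k (EGA73.tensAssoc' F (CohB1.tensorPow L q) (CohB1.tensorPow L m) ≪≫
    EGA73.tensIso (Iso.refl F) (Amp73.powAdd L q m)) i).finrank_eq

variable [IsProper (X ↘ (Spec (CommRingCat.of k)))] {L : X.Modules} (hL : PicF.IsInvertible L)
include hL

/-- The improved growth predicate in degrees above `d₀`. -/
def BdV (d₀ : ℕ) (L : X.Modules) (e : ℕ) (F : X.Modules) : Prop :=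
  ∀ i : ℕ, d₀ < i → ∃ C : ℕ, ∀ m : ℕ, hi k i L F m ≤ C * w e m

theorem bdV_of_small {d₀ e : ℕ} {F : X.Modules} (hF : Coh.IsCoh F)
    (hd : topologicalKrullDim (CohB1.support F) ≤ (d₀ : WithBot ℕ∞)) : BdV k d₀ L e F := fun i hi => by
  have := Crv77.isNoetherian_of_proper k X
  refine ⟨0, fun m => ?_⟩
  haveI := hF.1
  haveI := hF.2
  have hs := Snapper75.support_twist F (EGA73.isInvertible_tensorPow hL m)
  have : Subsingleton (Coh.HH X (CohB1.tensorMod F (CohB1.tensorPow L m)) i) :=
    Var76.subsingleton_HH_of_support _ (QC70.isClosed_support F)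
      (fun x hx => QC70.notMem_support_iff.1 (fun h => hx (hs.le h))) hd i hi
  exact (Module.finrank_zero_of_subsingleton.trans_le (Nat.zero_le _) :
    Module.finrank k (Coh.HH X (CohB1.tensorMod F (CohB1.tensorPow L m)) i) ≤ _)

theorem bdV_generic [IsNoetherian X] {d₀ e : ℕ} {G : X.Modules} (hG : Coh.IsCoh G) (y : X)
    (hGsupp : CohB1.support G ⊆ closure {y})
    (hd₀ : topologicalKrullDim (W4c5asymptcohfn.stableBaseLocus X L) ≤ (d₀ : WithBot ℕ∞))
    (small : ∀ M : X.Modules, Coh.IsCoh M → CohB1.support M ⊆ closure {y} → y ∉ CohB1.support M →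
      BdV k d₀ L e M) : BdV k d₀ L (e + 1) G := fun i hi₀ => by
  haveI := hG.1
  haveI := hG.2
  by_cases hy : y ∈ W4c5asymptcohfn.stableBaseLocus X L
  · exact bdV_of_small k hL hG ((LC17.dim_mono (hGsupp.trans ((isClosed_stableBaseLocus L).closure_subset_iff.2
      (Set.singleton_subset_iff.2 hy)))).trans hd₀) i hi₀
  obtain ⟨q, hq⟩ : ∃ q, y ∉ W4c5asymptcohfn.baseLocus X (CohB1.tensorPow L (q + 1)) := by
    simpa [W4c5asymptcohfn.stableBaseLocus] using hy
  obtain ⟨s, hs⟩ : ∃ s : Coh.structureModule X ⟶ CohB1.tensorPow L (q + 1),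
      y ∈ CohB1.genLocus _ s := by
    simpa [W4c5asymptcohfn.baseLocus] using hq
  have hN := EGA73.isInvertible_tensorPow hL (q + 1)
  let F' := CohB1.tensorMod G (CohB1.tensorPow L (q + 1))
  have hF' : Coh.IsCoh F' := Amp73.isCoh_tensorMod hG (Amp73.isCoh_of_isInvertible hN)
  haveI := hF'.1
  haveI := hF'.2
  obtain ⟨φ, hφ⟩ := exists_mul_map G s hs
  let K := kernel φ
  let I := Abelian.image φ
  have hC : Coh.IsCoh (cokernel φ) := QC70.isCoh_cokernel φ hG.1 hF'
  haveI := hC.1
  have hI : Coh.IsCoh I := QC70.isCoh_kernel (cokernel.π φ) hF' hC.1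
  haveI := hI.1
  have hK : Coh.IsCoh K := QC70.isCoh_kernel φ hG hF'.1
  have hS₁ : (ShortComplex.mk (Abelian.image.ι φ) (cokernel.π φ) (kernel.condition _)).ShortExact :=
    { exact := ShortComplex.exact_of_f_is_kernel _ (kernelIsKernel (cokernel.π φ)) }
  have hw : kernel.ι φ ≫ Abelian.factorThruImage φ = 0 := by
    rw [← cancel_mono (Abelian.image.ι φ), Category.assoc, Abelian.image.fac, kernel.condition, zero_comp]
  have hS₂ : (ShortComplex.mk (kernel.ι φ) (Abelian.factorThruImage φ) hw).ShortExact :=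
    { exact := ShortComplex.exact_of_f_is_kernel _ (KernelFork.IsLimit.ofι' (kernel.ι φ) hw fun {A} g hg =>
        ⟨kernel.lift φ g (by rw [← Abelian.image.fac φ, ← Category.assoc, hg, zero_comp]), kernel.lift_ι _ _ _⟩) }
  obtain ⟨C, hC'⟩ := small _ hC
    ((QC70.mem_support_of_epi (cokernel.π φ)).trans ((Snapper75.support_twist G hN).le.trans hGsupp))
    (QC70.notMem_support_iff.2 (QC70.subsingleton_stalk_cokernel φ y hφ.2)) i hi₀
  obtain ⟨D, hD⟩ := small _ hK ((QC70.mem_support_of_mono (kernel.ι φ)).trans hGsupp)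
    (QC70.notMem_support_iff.2 (QC70.subsingleton_stalk_kernel φ y hφ.1)) (i + 1) (by omega)
  have step : ∀ m, hi k i L G (q + 1 + m) ≤ hi k i L G m + (C + D) * w e m := fun m => by
    rw [← hi_shift_pow]
    have h1 : hi k i L F' m ≤ hi k i L I m + hi k i L (cokernel φ) m :=
      hi_le_mid k hL (S := ShortComplex.mk (Abelian.image.ι φ) (cokernel.π φ) (kernel.condition _)) hS₁ hI hF' hC i m
    have h2 : hi k i L I m ≤ hi k i L G m + hi k (i + 1) L K m := hi_le_right k hL
      (S := ShortComplex.mk (kernel.ι φ) (Abelian.factorThruImage φ) _) hS₂ hK hG hI i m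
    have := hC' m
    have := hD m
    rw [add_mul]
    show hi k i L F' m ≤ _
    omega
  let H := ∑ t ∈ Finset.range (q + 1), hi k i L G t
  have hbd : ∀ m, hi k i L G m ≤ H + (C + D) * (m * w e m) := by
    intro m
    induction m using Nat.strong_induction_on with
    | _ m ih =>
      by_cases hm : m < q + 1
      · exact (Finset.single_le_sum (fun t _ => Nat.zero_le (hi k i L G t)) (Finset.mem_range.2 hm)).trans
          (Nat.le_add_right _ _)
      · obtain ⟨t, rfl⟩ : ∃ t, m = q + 1 + t := ⟨m - (q + 1), by omega⟩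
        have h1 := step t
        have h2 := ih t (by omega)
        have h3 : w e t ≤ w e (q + 1 + t) := by
          rcases e with _ | e'
          · exact le_rfl
          · exact Nat.pow_le_pow_left (by omega) _
        have h4 : (t + 1) * w e t ≤ (q + 1 + t) * w e (q + 1 + t) := Nat.mul_le_mul (by omega) h3
        have h5 := Nat.mul_le_mul_left (C + D) h4
        rw [add_mul t 1, one_mul, mul_add] at h5
        omega
  exact ⟨H + (C + D), fun m => (hbd m).trans ((add_le_add (Nat.le_mul_of_pos_right _ (pow_pos (Nat.succ_pos _) _))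
    (Nat.mul_le_mul_left _ (mul_w_le e m))).trans (add_mul H (C + D) _).ge)⟩

theorem bdV_left {d₀ e : ℕ} {S : ShortComplex X.Modules} (hS : S.ShortExact) (h₁ : Coh.IsCoh S.X₁)
    (h₂ : Coh.IsCoh S.X₂) (h₃ : Coh.IsCoh S.X₃) (p₂ : BdV k d₀ L e S.X₂) (p₃ : BdH k L e S.X₃) :
    BdV k d₀ L e S.X₁ := fun i hi₀ => by
  obtain ⟨j, rfl⟩ : ∃ j, i = j + 1 := ⟨i - 1, by omega⟩
  obtain ⟨C, hC⟩ := p₂ (j + 1) hi₀
  obtain ⟨D, hD⟩ := p₃ j
  exact ⟨D + C, fun m => (hi_le_left_succ k hL hS h₁ h₂ h₃ j m).trans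
    ((add_le_add (hD m) (hC m)).trans (add_mul D C _).ge)⟩

theorem bdV_root {d₀ e : ℕ} {G : X.Modules} (m : ℕ) (hm : 1 ≤ m) (hc : Coh.IsCoh (∐ fun _ : Fin m => G))
    (h : BdV k d₀ L e (∐ fun _ : Fin m => G)) : BdV k d₀ L e G := fun i hi₀ => by
  obtain ⟨m, rfl⟩ : ∃ m', m = m' + 1 := ⟨m - 1, by omega⟩
  let j : G ⟶ ∐ fun _ : Fin (m + 1) => G := Sigma.ι (fun _ : Fin (m + 1) => G) 0
  let r : (∐ fun _ : Fin (m + 1) => G) ⟶ G := Sigma.desc fun _ => 𝟙 G
  have hjr : j ≫ r = 𝟙 G := Sigma.ι_desc _ _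
  obtain ⟨C, hC⟩ := h i hi₀
  refine ⟨C, fun t => le_trans ?_ (hC t)⟩
  have := finite_twist k hL hc i t
  let T := Crv77.twist (CohB1.tensorPow L t)
  refine LinearMap.finrank_le_finrank_of_injective
    (f := Crv77.hmap k (T.map j) i) fun x y hxy => ?_
  have h2 := congrArg (Crv77.hmap k (T.map r) i) hxy
  have hid : T.map j ≫ T.map r = 𝟙 _ := by rw [← T.map_comp, hjr, T.map_id]
  have h3 : ∀ z : Coh.HH X (T.obj G) i, Crv77.hmap k (T.map r) i (Crv77.hmap k (T.map j) i z) = z :=
    fun z => (Crv77.hmap_comp k _ _ i z).trans (by rw [hid]; exact Crv77.hmap_id k _ i z)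
  exact (h3 x).symm.trans (h2.trans (h3 y))

theorem bdV_idealMul [IsNoetherian X] {d₀ e : ℕ} {G : X.Modules} (hG : Coh.IsCoh G) (J : X.IdealSheafData)
    (p : BdV k d₀ L e G) (hQd : topologicalKrullDim (CohB1.support (QC70.quotSC J G).X₃) < (e : WithBot ℕ∞)) :
    BdV k d₀ L e ((Dual3.idealMul J).obj G) :=
  haveI := hG.1
  bdV_left k hL (S := QC70.quotSC J G) (QC70.quotSC_shortExact J G) (QC70.isCoh_idealMul J hG) hG
    (QC70.isCoh_quot J hG) p (bdH_of_dim k hL e _ (QC70.isCoh_quot J hG) hQd)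

/-- Above the dimension of the stable base locus cohomology grows one degree slower. -/
theorem bdV_of_dim {d₀ : ℕ}
    (hd₀ : topologicalKrullDim (W4c5asymptcohfn.stableBaseLocus X L) ≤ (d₀ : WithBot ℕ∞)) :
    ∀ (e : ℕ) (F : X.Modules), Coh.IsCoh F →
      topologicalKrullDim (CohB1.support F) < ((e + 1 : ℕ) : WithBot ℕ∞) → BdV k d₀ L e F
  | 0, F, hF, hd => bdV_of_small k hL hF ((Snapper75.le_of_lt_succ hd).trans (by exact_mod_cast Nat.zero_le d₀))
  | e + 1, F, hF, hd => by
    have := Crv77.isNoetherian_of_proper k X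
    have IH := bdV_of_dim hd₀ e
    haveI := hF.1
    haveI := hF.2
    refine QC70.devissage (fun M => Coh.IsCoh M → BdV k d₀ L (e + 1) M)
      (fun M N ⟨ι⟩ h hN => ?_)
      (fun M hM _ i _ => ⟨0, fun m => (hi_isZero k hL i hM m).le.trans (by simp)⟩)
      (fun S hS h₁ h₂ h₃ p₁ p₃ _ i hi₀ => ?_)
      (fun G m hG hm hP _ => ?_) (CohB1.support F) (QC70.isClosed_support F) (fun y hy IH' => ?_)
      F hF subset_rfl hF
    · intro i hi₀
      obtain ⟨C, hC⟩ := h (QC70.isCoh_of_iso ι.symm hN) i hi₀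
      exact ⟨C, fun t => (hi_congr k i L ι t).symm.le.trans (hC t)⟩
    · obtain ⟨C, hC⟩ := p₁ h₁ i hi₀
      obtain ⟨C', hC'⟩ := p₃ h₃ i hi₀
      exact ⟨C + C', fun m => (hi_le_mid k hL hS h₁ h₂ h₃ i m).trans
        ((add_le_add (hC m) (hC' m)).trans (add_mul C C' _).ge)⟩
    · exact bdV_root k hL m hm (QC70.isCoh_of_iso (biproduct.isoCoproduct fun _ : Fin m => G)
        (QC70.isCoh_biproduct _ fun _ => hG)) (hP (QC70.isCoh_of_iso (biproduct.isoCoproduct fun _ : Fin m => G)
          (QC70.isCoh_biproduct _ fun _ => hG)))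
    · let Y : Closeds X := ⟨closure {y}, isClosed_closure⟩
      let I := Scheme.IdealSheafData.vanishingIdeal Y
      have hI : (I.support : Set X) = closure {y} := Scheme.IdealSheafData.coe_support_vanishingIdeal Y
      have hO : Coh.IsCoh (Coh.structureModule X) := QC70.isCoh_unit
      haveI := hO.1
      let G := (QC70.quotSC I (Coh.structureModule X)).X₃
      have hG : Coh.IsCoh G := QC70.isCoh_quot I hO
      haveI := hG.1
      have hGy : y ∈ CohB1.support G := CohSerre72.mem_support_quot I hO (hI.ge (subset_closure rfl))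
        (not_subsingleton_iff_nontrivial.2 (QC70.nontrivial_stalk_unit y))
      have hGsupp : CohB1.support G ⊆ closure {y} := (QC70.support_quot_subset_right I _).trans hI.le
      have hdy : topologicalKrullDim (closure ({y} : Set X)) < ((e + 1 + 1 : ℕ) : WithBot ℕ∞) :=
        lt_of_le_of_lt (LC17.dim_mono ((QC70.isClosed_support F).closure_subset_iff.2
          (Set.singleton_subset_iff.2 hy))) hd
      have smallDim : ∀ M : X.Modules, Coh.IsCoh M → CohB1.support M ⊆ closure {y} → y ∉ CohB1.support M →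
          topologicalKrullDim (CohB1.support M) < ((e + 1 : ℕ) : WithBot ℕ∞) := fun M hM hs hyM =>
        haveI := hM.2
        Snapper75.dim_lt_of_notMem (QC70.isClosed_support M) hs hyM hdy
      have hGP : BdV k d₀ L (e + 1) G := bdV_generic k hL hG y hGsupp hd₀
        fun M hM hs hyM => IH M hM (smallDim M hM hs hyM)
      refine ⟨G, hG, not_subsingleton_iff_nontrivial.1 hGy,
        QC70.stalk_killed (Y := Y) rfl fun W a ha t => QC70.smul_quot_eq_zero I _ W ha t, fun J hJ => ?_⟩
      refine ⟨_, 𝟙 _, inferInstance, QC70.isCoh_idealMul J hG, ?_, fun _ => ?_⟩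
      · rw [Category.id_comp]
        exact QC70.bijective_stalk_idealMulι J _ hJ
      · have hQs : CohB1.support (QC70.quotSC J G).X₃ ⊆ closure {y} :=
          (haveI := (QC70.quotSC_shortExact J G).epi_g
          QC70.mem_support_of_epi (QC70.quotSC J G).g).trans hGsupp
        have hQy : y ∉ CohB1.support (QC70.quotSC J G).X₃ := fun hy' => hJ (QC70.support_quot_subset_right J G hy')
        exact bdV_idealMul k hL hG J hGP (smallDim _ (QC70.isCoh_quot J hG) hQs hQy)

theorem hhat_eq_zero_of_stableBase [IsIntegral X] {n : ℕ} (hn : topologicalKrullDim X ≤ (n : WithBot ℕ∞))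
    {d₀ : ℕ} (hd₀ : topologicalKrullDim (W4c5asymptcohfn.stableBaseLocus X L) ≤ (d₀ : WithBot ℕ∞))
    {i : ℕ} (hi₀ : d₀ < i) : W4c5asymptcohfn.hhat k X n i L = 0 := by
  have := Crv77.isNoetherian_of_proper k X
  obtain ⟨C, hC⟩ := bdV_of_dim k hL hd₀ n _ QC70.isCoh_unit (lt_of_le_of_lt
    ((Topology.IsInducing.subtypeVal.topologicalKrullDim_le).trans hn) (by exact_mod_cast Nat.lt_succ_self n)) i hi₀
  refine Filter.Tendsto.limsup_eq (squeeze_zero (fun m => by positivity) (fun m => ?_)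
    (by simpa using (tendsto_w n).const_mul ((C : ℝ) * (n.factorial : ℝ))))
  rw [← (Crv77.hEquiv k (EGA73.tensUnitLeft (CohB1.tensorPow L m)) i).finrank_eq]
  have h : (hi k i L (Coh.structureModule X) m : ℝ) ≤ C * w n m := by exact_mod_cast hC m
  calc _ ≤ ((C : ℝ) * w n m) * n.factorial / (m : ℝ) ^ n := by gcongr; exact h
    _ = _ := by ring

end Groth.Agent.Var76.Growth

end
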