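import Groth.Agent.Snapper75.Main
import Groth.Agent.Crv77.Hopf
import Groth.Agent.Amp73.Powers
import Groth.Agent.ValVan29.Vanish

/-! Sections of twists by powers of an invertible module grow at most like the dimension of the support. -/

set_option autoImplicit false
set_option backward.isDefEq.respectTransparency.types false
universe u

open CategoryTheory CategoryTheory.Limits AlgebraicGeometry TopologicalSpace Opposite

noncomputable section

namespace Groth.Agent.Var76.Growth

variable (k : Type u) [Field k] {X : Scheme.{u}} [X.Over (Spec (CommRingCat.of k))]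

/-- The dimension of the sections of a twist. -/
def h0 (L F : X.Modules) (m : ℕ) : ℕ :=
  Module.finrank k (Coh.HH X (CohB1.tensorMod F (CohB1.tensorPow L m)) 0)

variable [IsProper (X ↘ (Spec (CommRingCat.of k)))]

theorem finite_h0 {M : X.Modules} (hM : Coh.IsCoh M) : Module.Finite k (Coh.HH X M 0) :=
  Serre71.finite_hh_of_isProper k M hM 0

variable {L : X.Modules} (hL : PicF.IsInvertible L)
include hL

theorem isCoh_twist {F : X.Modules} (hF : Coh.IsCoh F) (m : ℕ) :
    Coh.IsCoh (CohB1.tensorMod F (CohB1.tensorPow L m)) :=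
  Amp73.isCoh_tensorMod hF (Amp73.isCoh_of_isInvertible (EGA73.isInvertible_tensorPow hL _))

omit [IsProper (X ↘ (Spec (CommRingCat.of k)))] hL in
theorem h0_congr {F G : X.Modules} (e : F ≅ G) (m : ℕ) : h0 k L F m = h0 k L G m :=
  (Crv77.hEquiv k (EGA73.tensIso e (Iso.refl (CohB1.tensorPow L m))) 0).finrank_eq

omit [IsProper (X ↘ (Spec (CommRingCat.of k)))] hL in
theorem h0_shift (F : X.Modules) (m : ℕ) : h0 k L (CohB1.tensorMod F L) m = h0 k L F (m + 1) :=
  (Crv77.hEquiv k (EGA73.tensAssoc' F L (CohB1.tensorPow L m) ≪≫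
    EGA73.tensIso (Iso.refl F) (EGA73.tensComm L (CohB1.tensorPow L m))) 0).finrank_eq

omit [IsProper (X ↘ (Spec (CommRingCat.of k)))] in
theorem h0_isZero {F : X.Modules} (hF : IsZero F) (m : ℕ) : h0 k L F m = 0 := by
  have : Subsingleton (Coh.HH X (CohB1.tensorMod F (CohB1.tensorPow L m)) 0) :=
    ValVan29.subsingleton_hh_of_isZero
      (ValVan29.isZero_tensorMod hF (EGA73.isInvertible_tensorPow hL _)) 0
  exact Module.finrank_zero_of_subsingleton

theorem h0_subadd {S : ShortComplex X.Modules} (hS : S.ShortExact) (h₂ : Coh.IsCoh S.X₂)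
    (h₃ : Coh.IsCoh S.X₃) (m : ℕ) : h0 k L S.X₂ m ≤ h0 k L S.X₁ m + h0 k L S.X₃ m := by
  obtain ⟨T, hT, e₁, e₂, e₃⟩ := Crv77.shortExact_twist
    (Mero90.isFinLocFreeOfRank_of_isInvertible (EGA73.isInvertible_tensorPow hL m)) hS
  have := finite_h0 k (e₂ ▸ isCoh_twist hL h₂ m : Coh.IsCoh T.X₂)
  have := finite_h0 k (e₃ ▸ isCoh_twist hL h₃ m : Coh.IsCoh T.X₃)
  unfold h0
  rw [← e₁, ← e₂, ← e₃]
  have hker : LinearMap.ker (Crv77.hmap k T.g 0) = LinearMap.range (Crv77.hmap k T.f 0) := by
    ext x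
    exact (Crv77.exact_f_g k hT 0 x)
  have h := LinearMap.finrank_range_add_finrank_ker (Crv77.hmap k T.g 0)
  have h1 := Submodule.finrank_le (LinearMap.range (Crv77.hmap k T.g 0))
  have h2 : Module.finrank k (LinearMap.ker (Crv77.hmap k T.g 0)) = Module.finrank k (Coh.HH X T.X₁ 0) := by
    rw [hker, LinearMap.finrank_range_of_inj (Crv77.injective_f_zero k hT)]
  omega

theorem h0_mono {S : ShortComplex X.Modules} (hS : S.ShortExact) (h₂ : Coh.IsCoh S.X₂) (m : ℕ) :
    h0 k L S.X₁ m ≤ h0 k L S.X₂ m := by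
  obtain ⟨T, hT, e₁, e₂, e₃⟩ := Crv77.shortExact_twist
    (Mero90.isFinLocFreeOfRank_of_isInvertible (EGA73.isInvertible_tensorPow hL m)) hS
  have := finite_h0 k (e₂ ▸ isCoh_twist hL h₂ m : Coh.IsCoh T.X₂)
  unfold h0
  rw [← e₁, ← e₂]
  exact LinearMap.finrank_le_finrank_of_injective (Crv77.injective_f_zero k hT)

/-- The bounding function in dimension below `d`. -/
def w : ℕ → ℕ → ℕ
  | 0, _ => 0
  | e + 1, m => (m + 1) ^ e

omit hL in
theorem w_mono (d m : ℕ) : w d m ≤ w d (m + 1) := by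
  rcases d with _ | e
  · exact le_rfl
  · exact Nat.pow_le_pow_left (by omega) _

omit hL in
theorem mul_w_le (d m : ℕ) : m * w d m ≤ (m + 1) ^ d := by
  rcases d with _ | e
  · simp [w]
  · rw [pow_succ']
    exact Nat.mul_le_mul_right _ (Nat.le_succ m)

/-- The growth predicate. -/
def Bd (L : X.Modules) (d : ℕ) (F : X.Modules) : Prop :=
  ∃ C : ℕ, ∀ m : ℕ, h0 k L F m ≤ C * w d m

theorem bd_isZero (d : ℕ) {F : X.Modules} (hF : IsZero F) : Bd k L d F :=
  ⟨0, fun m => (h0_isZero k hL hF m).le.trans (by simp)⟩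

theorem bd_subadd (d : ℕ) {S : ShortComplex X.Modules} (hS : S.ShortExact) (h₂ : Coh.IsCoh S.X₂)
    (h₃ : Coh.IsCoh S.X₃) (p₁ : Bd k L d S.X₁) (p₃ : Bd k L d S.X₃) : Bd k L d S.X₂ := by
  obtain ⟨C, hC⟩ := p₁
  obtain ⟨C', hC'⟩ := p₃
  exact ⟨C + C', fun m => (h0_subadd k hL hS h₂ h₃ m).trans
    ((add_le_add (hC m) (hC' m)).trans (add_mul C C' _).ge)⟩

theorem bd_mono (d : ℕ) {S : ShortComplex X.Modules} (hS : S.ShortExact) (h₂ : Coh.IsCoh S.X₂)
    (p : Bd k L d S.X₂) : Bd k L d S.X₁ := by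
  obtain ⟨C, hC⟩ := p
  exact ⟨C, fun m => (h0_mono k hL hS h₂ m).trans (hC m)⟩

theorem bd_idealMul (d : ℕ) (J : X.IdealSheafData) {G : X.Modules} (hG : Coh.IsCoh G) (h : Bd k L d G) :
    Bd k L d ((Dual3.idealMul J).obj G) := by
  haveI := hG.1
  exact bd_mono k hL d (S := QC70.quotSC J G) (QC70.quotSC_shortExact J G) hG h

theorem bd_root (d : ℕ) {G : X.Modules} (m : ℕ) (hm : 1 ≤ m) (hc : Coh.IsCoh (∐ fun _ : Fin m => G))
    (h : Bd k L d (∐ fun _ : Fin m => G)) : Bd k L d G := by
  obtain ⟨m, rfl⟩ : ∃ m', m = m' + 1 := ⟨m - 1, by omega⟩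
  let j : G ⟶ ∐ fun _ : Fin (m + 1) => G := Sigma.ι (fun _ : Fin (m + 1) => G) 0
  have hj : Mono j := SplitMono.mono
    { retraction := Sigma.desc fun _ => 𝟙 G
      id := Sigma.ι_desc _ _ }
  have hS : (ShortComplex.mk j (cokernel.π j) (cokernel.condition j)).ShortExact :=
    { exact := ShortComplex.exact_of_g_is_cokernel _ (cokernelIsCokernel j) }
  exact bd_mono k hL d (S := ShortComplex.mk j (cokernel.π j) (cokernel.condition j)) hS hc h

/-- A module of rank one at a point, with a small cokernel against its twist, grows one degree faster. -/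
theorem bd_generic [IsNoetherian X] (d : ℕ) {G : X.Modules} (hG : Coh.IsCoh G) (y : X)
    (hGsupp : CohB1.support G ⊆ closure {y})
    (small : ∀ M : X.Modules, Coh.IsCoh M → CohB1.support M ⊆ closure {y} → y ∉ CohB1.support M → Bd k L d M) :
    Bd k L (d + 1) G := by
  haveI := hG.1
  let F' := CohB1.tensorMod G L
  have hF' : Coh.IsCoh F' := Amp73.isCoh_tensorMod hG (Amp73.isCoh_of_isInvertible hL)
  haveI := hF'.1
  obtain ⟨e⟩ := Snapper75.nonempty_stalk_twist G hL y
  obtain ⟨J, ψ, hyJ, hψm, hψb⟩ := QC70.exists_mono_iso_at hG hF' y e.symm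
  let S := ShortComplex.mk ψ (cokernel.π ψ) (cokernel.condition ψ)
  have hS : S.ShortExact := ShortComplex.ShortExact.mk'
    (ShortComplex.exact_of_g_is_cokernel _ (cokernelIsCokernel _)) hψm
    (inferInstanceAs (Epi (cokernel.π ψ)))
  have hJG := QC70.isCoh_idealMul J hG
  have hC : Coh.IsCoh (cokernel ψ) := QC70.isCoh_cokernel ψ hJG.1 hF'
  obtain ⟨C, hbC⟩ := small _ hC
    ((QC70.mem_support_of_epi (cokernel.π ψ)).trans ((Snapper75.support_twist G hL).le.trans hGsupp))
    (QC70.notMem_support_iff.2 (QC70.subsingleton_stalk_cokernel ψ y hψb.2))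
  have step : ∀ m, h0 k L G (m + 1) ≤ h0 k L G m + C * w d m := fun m => by
    rw [← h0_shift]
    refine (h0_subadd k hL hS hF' hC m).trans (add_le_add ?_ (hbC m))
    exact h0_mono k hL (QC70.quotSC_shortExact J G) hG m
  have hbd : ∀ m, h0 k L G m ≤ h0 k L G 0 + C * (m * w d m) := by
    intro m
    induction m with
    | zero => simp
    | succ m ih =>
      have h1 : (m + 1) * w d m ≤ (m + 1) * w d (m + 1) := Nat.mul_le_mul_left _ (w_mono d m)
      have h2 := Nat.mul_le_mul_left C h1
      rw [add_mul, one_mul, mul_add] at h2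
      have := step m
      omega
  refine ⟨h0 k L G 0 + C, fun m => (hbd m).trans ?_⟩
  rw [add_mul]
  exact add_le_add (Nat.le_mul_of_pos_right _ (pow_pos (Nat.succ_pos _) _))
    (Nat.mul_le_mul_left _ (mul_w_le d m))

/-- Sections of twists grow at most like the dimension of the support. -/
theorem bd_of_dim : ∀ (d : ℕ) (F : X.Modules), Coh.IsCoh F →
    topologicalKrullDim (CohB1.support F) < (d : WithBot ℕ∞) → Bd k L d F
  | 0, F, hF, hd => by
    have hempty : CohB1.support F = ∅ := by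
      by_contra hne
      obtain ⟨x, hx⟩ := Set.nonempty_iff_ne_empty.2 hne
      haveI := hF.2
      have hcl := QC70.isClosed_support F
      have : Nonempty (IrreducibleCloseds (CohB1.support F)) :=
        ⟨⟨closure {⟨x, hx⟩}, isIrreducible_singleton.closure, isClosed_closure⟩⟩
      exact absurd hd (not_lt.2 (Order.krullDim_nonneg_iff.2 this))
    exact bd_isZero k hL 0 (QC70.isZero_of_support_eq_empty hempty)
  | d + 1, F, hF, hd => by
    have := Crv77.isNoetherian_of_proper k X
    have IHd := bd_of_dim d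
    haveI := hF.1
    haveI := hF.2
    refine QC70.devissage (fun M => Coh.IsCoh M → Bd k L (d + 1) M)
      (fun M N ⟨e⟩ h hN => ?_)
      (fun M hM _ => bd_isZero k hL _ hM)
      (fun S hS h₁ h₂ h₃ p₁ p₃ _ => bd_subadd k hL _ hS h₂ h₃ (p₁ h₁) (p₃ h₃))
      (fun G m hG hm hP _ => ?_) (CohB1.support F) (QC70.isClosed_support F) (fun y hy IH => ?_)
      F hF subset_rfl hF
    · obtain ⟨C, hC⟩ := h (QC70.isCoh_of_iso e.symm hN)
      exact ⟨C, fun t => (h0_congr k e t).symm.le.trans (hC t)⟩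
    · have hc : Coh.IsCoh (∐ fun _ : Fin m => G) :=
        QC70.isCoh_of_iso (biproduct.isoCoproduct fun _ : Fin m => G) (QC70.isCoh_biproduct _ fun _ => hG)
      exact bd_root k hL (d + 1) m hm hc (hP hc)
    · let Y : Closeds X := ⟨closure {y}, isClosed_closure⟩
      let I := Scheme.IdealSheafData.vanishingIdeal Y
      have hI : (I.support : Set X) = closure {y} := Scheme.IdealSheafData.coe_support_vanishingIdeal Y
      have hO : Coh.IsCoh (Coh.structureModule X) := QC70.isCoh_unit
      haveI := hO.1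
      let G := (QC70.quotSC I (Coh.structureModule X)).X₃
      have hG : Coh.IsCoh G := QC70.isCoh_quot I hO
      haveI := hG.1
      have hGy : y ∈ CohB1.support G := CohSerre72.mem_support_quot I hO (hI.ge (subset_closure rfl))
        (not_subsingleton_iff_nontrivial.2 (QC70.nontrivial_stalk_unit y))
      have hGsupp : CohB1.support G ⊆ closure {y} := (QC70.support_quot_subset_right I _).trans hI.le
      have hdy : topologicalKrullDim (closure ({y} : Set X)) < ((d + 1 : ℕ) : WithBot ℕ∞) :=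
        lt_of_le_of_lt (LC17.dim_mono ((QC70.isClosed_support F).closure_subset_iff.2
          (Set.singleton_subset_iff.2 hy))) hd
      have small : ∀ M : X.Modules, Coh.IsCoh M → CohB1.support M ⊆ closure {y} → y ∉ CohB1.support M →
          Bd k L d M := fun M hM hs hyM =>
        haveI := hM.2
        IHd M hM (Snapper75.dim_lt_of_notMem (QC70.isClosed_support M) hs hyM hdy)
      have hGP : Bd k L (d + 1) G := bd_generic k hL d hG y hGsupp small
      refine ⟨G, hG, not_subsingleton_iff_nontrivial.1 hGy,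
        QC70.stalk_killed (Y := Y) rfl fun W a ha t => QC70.smul_quot_eq_zero I _ W ha t, fun J hJ => ?_⟩
      refine ⟨_, 𝟙 _, inferInstance, QC70.isCoh_idealMul J hG, ?_,
        fun _ => bd_idealMul k hL _ J hG hGP⟩
      rw [Category.id_comp]
      exact QC70.bijective_stalk_idealMulι J _ hJ

/-- Sections of twists of a coherent module are bounded by a multiple of `(m+1)^d` in dimension `d`. -/
theorem exists_bound (F : X.Modules) (hF : Coh.IsCoh F) {d : ℕ}
    (hd : topologicalKrullDim X ≤ (d : WithBot ℕ∞)) :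
    ∃ C : ℕ, ∀ m : ℕ, h0 k L F m ≤ C * (m + 1) ^ d := by
  have h := bd_of_dim k hL (d + 1) F hF (lt_of_le_of_lt
    ((Topology.IsInducing.subtypeVal.topologicalKrullDim_le).trans hd) (by exact_mod_cast Nat.lt_succ_self d))
  exact h

end Groth.Agent.Var76.Growth

end
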