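import Groth.Agent.Var76.GenSmooth2
import Mathlib.RingTheory.Smooth.StandardSmoothOfFree
import Mathlib.RingTheory.Smooth.StandardSmoothCotangent
import Mathlib.RingTheory.Kaehler.Polynomial
import Mathlib.RingTheory.Etale.Kaehler
import Mathlib.RingTheory.AlgebraicIndependent.TranscendenceBasis
import Mathlib.FieldTheory.SeparablyGenerated

/-! The relative dimension near the generic point. -/

universe u

open scoped TensorProduct
open KaehlerDifferential

namespace Groth.Agent.Var76.GenSmooth

open scoped IntermediateField.algebraAdjoinAdjoin in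
/-- The differentials of a separably generated extension. -/
theorem rank_kaehler_of_separating {K L : Type u} [Field K] [Field L] [Algebra K L] {ι : Type u}
    {v : ι → L} (hv : IsTranscendenceBasis K v)
    [Algebra.IsSeparable (IntermediateField.adjoin K (Set.range v)) L] :
    Module.rank L Ω[L⁄K] = Algebra.trdeg K L := by
  let P := MvPolynomial ι K
  let A0 := Algebra.adjoin K (Set.range v)
  let F := IntermediateField.adjoin K (Set.range v)
  let e : P ≃ₐ[K] A0 := hv.1.aevalEquiv
  let : Algebra P A0 := e.toAlgHom.toRingHom.toAlgebra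
  let : Algebra P L := ((Algebra.adjoin K (Set.range v)).val.comp e.toAlgHom).toRingHom.toAlgebra
  have : IsScalarTower P A0 L := IsScalarTower.of_algebraMap_eq fun _ => rfl
  have : IsScalarTower K P L := IsScalarTower.of_algebraMap_eq fun r =>
    (((Algebra.adjoin K (Set.range v)).val.comp e.toAlgHom).commutes r).symm
  have : Algebra.FormallyEtale P A0 := Algebra.FormallyEtale.of_equiv
    (AlgEquiv.ofBijective (Algebra.ofId P A0) e.bijective)
  have : Algebra.FormallyEtale A0 F := Algebra.FormallyEtale.of_isLocalization (nonZeroDivisors _)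
  have : Algebra.FormallyEtale F L := Algebra.FormallyEtale.of_isSeparable _ L
  have : Algebra.FormallyEtale A0 L := Algebra.FormallyEtale.comp A0 F L
  have : Algebra.FormallyEtale P L := Algebra.FormallyEtale.comp P A0 L
  let b : Module.Basis ι L Ω[L⁄K] :=
    ((mvPolynomialBasis K ι).baseChange L).map (tensorKaehlerEquivOfFormallyEtale K P L)
  rw [← b.mk_eq_rank'', hv.cardinalMk_eq_trdeg]

theorem rank_kaehler {K L : Type u} [Field K] [Field L] [Algebra K L] [PerfectField K]
    [Algebra.EssFiniteType K L] : Module.rank L Ω[L⁄K] = Algebra.trdeg K L := by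
  obtain ⟨s, hs, H⟩ := exists_isTranscendenceBasis_and_isSeparable_of_perfectField K L
  have : Algebra.IsSeparable (↥(IntermediateField.adjoin K (Set.range ((↑) : s → L)))) L := by
    convert! H <;> simp
  exact rank_kaehler_of_separating hs

variable {A B : Type u} [CommRing A] [IsNoetherianRing A] [CommRing B] [IsDomain B] [Algebra A B]
  [Algebra.FiniteType A B]

/-- In characteristic zero a dominant algebra is standard smooth near the generic point, of relative
dimension the transcendence degree. -/
theorem exists_away_standardSmooth (K L : Type u) [Field K] [Field L] [Algebra A K] [IsFractionRing A K]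
    [CharZero K] [Algebra B L] [IsFractionRing B L] [Algebra A L] [IsScalarTower A B L] [Algebra K L]
    [IsScalarTower A K L] (n : ℕ) (hn : Algebra.trdeg K L = n) :
    ∃ g : B, g ≠ 0 ∧ Algebra.IsStandardSmoothOfRelativeDimension n A (Localization.Away g) := by
  have : Algebra.FinitePresentation A B := Algebra.FinitePresentation.of_finiteType.1 ‹_›
  have : Algebra.FormallyEtale A K := Algebra.FormallyEtale.of_isLocalization (nonZeroDivisors A)
  have : Algebra.EssFiniteType A L :=
    have : Algebra.EssFiniteType B L := Algebra.EssFiniteType.of_isLocalization _ (nonZeroDivisors B)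
    Algebra.EssFiniteType.comp A B L
  have : Algebra.EssFiniteType K L := Algebra.EssFiniteType.of_comp A K L
  have : Algebra.FormallySmooth A L := Algebra.FormallySmooth.comp A K L
  have hS : (⊥ : Ideal B).primeCompl = nonZeroDivisors B := by ext x; simp
  have : IsLocalization (⊥ : Ideal B).primeCompl L := hS ▸ (inferInstance : IsLocalization (nonZeroDivisors B) L)
  have hsm : Algebra.IsSmoothAt A (⊥ : Ideal B) :=
    Algebra.FormallySmooth.of_equiv
      ((IsLocalization.algEquiv (⊥ : Ideal B).primeCompl L (Localization.AtPrime (⊥ : Ideal B))).restrictScalars A)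
  obtain ⟨g, hg, hstd⟩ := hsm.exists_notMem_isStandardSmooth
  have hg0 : g ≠ 0 := fun h => hg (h ▸ Ideal.zero_mem _)
  refine ⟨g, hg0, ?_⟩
  let C := Localization.Away g
  have hgn : Submonoid.powers g ≤ nonZeroDivisors B := powers_le_nonZeroDivisors_of_noZeroDivisors hg0
  have : IsDomain C := IsLocalization.isDomain_localization hgn
  let : Algebra C L := (IsLocalization.lift (M := Submonoid.powers g) (g := algebraMap B L)
    (fun y => IsLocalization.map_units L ⟨y.1, hgn y.2⟩)).toAlgebra
  have : IsScalarTower B C L := IsScalarTower.of_algebraMap_eq fun x => (IsLocalization.lift_eq _ x).symm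
  have : IsScalarTower A C L := IsScalarTower.to₁₃₄ A B C L
  have : IsFractionRing C L := IsFractionRing.isFractionRing_of_isDomain_of_isLocalization (Submonoid.powers g) C L
  have : Algebra.FormallyEtale C L := Algebra.FormallyEtale.of_isLocalization (nonZeroDivisors C)
  rw [Algebra.IsStandardSmoothOfRelativeDimension.iff_of_isStandardSmooth]
  obtain ⟨_, _, _, _, ⟨P⟩⟩ := ‹Algebra.IsStandardSmooth A C›
  let b := P.basisKaehler.reindex Equiv.ulift.{u}.symm
  let b' : Module.Basis _ L Ω[L⁄A] := (b.baseChange L).map (tensorKaehlerEquivOfFormallyEtale A C L)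
  have hequiv : Function.Bijective (map A K L L) := by
    refine ⟨?_, map_surjective A K L⟩
    rw [injective_iff_map_eq_zero]
    intro x hx
    obtain ⟨y, rfl⟩ := (exact_mapBaseChange_map A K L x).1 hx
    rw [Subsingleton.elim y 0, map_zero]
  let e : Ω[L⁄A] ≃ₗ[L] Ω[L⁄K] := LinearEquiv.ofBijective (map A K L L) hequiv
  have h2 := rank_kaehler (K := K) (L := L)
  rw [hn, ← e.rank_eq, ← b'.mk_eq_rank''] at h2
  rw [← b.mk_eq_rank'', h2]

end Groth.Agent.Var76.GenSmooth
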