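import Groth.Agent.Var76.H0Growth

/-! Cohomology of twists by powers of an invertible module grows at most like the dimension of the support. -/

set_option autoImplicit false
set_option backward.isDefEq.respectTransparency.types false
universe u

open CategoryTheory CategoryTheory.Limits AlgebraicGeometry TopologicalSpace Opposite

noncomputable section

namespace Groth.Agent.Var76.Growth

theorem finrank_le_add_of_exact {k : Type u} [Field k] {A B C : Type u} [AddCommGroup A] [Module k A]
    [AddCommGroup B] [Module k B] [AddCommGroup C] [Module k C] [Module.Finite k A] [Module.Finite k B]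
    [Module.Finite k C] (f : A →ₗ[k] B) (g : B →ₗ[k] C) (h : Function.Exact f g) :
    Module.finrank k B ≤ Module.finrank k A + Module.finrank k C := by
  have hker : LinearMap.ker g = LinearMap.range f := by
    ext x
    exact h x
  have h1 := LinearMap.finrank_range_add_finrank_ker g
  have h2 := Submodule.finrank_le (LinearMap.range g)
  have h3 := LinearMap.finrank_range_le f
  rw [hker] at h1
  omega

variable (k : Type u) [Field k] {X : Scheme.{u}} [X.Over (Spec (CommRingCat.of k))]

/-- The dimension of the cohomology of a twist. -/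
def hi (i : ℕ) (L F : X.Modules) (m : ℕ) : ℕ :=
  Module.finrank k (Coh.HH X (CohB1.tensorMod F (CohB1.tensorPow L m)) i)

theorem hi_congr (i : ℕ) (L : X.Modules) {F G : X.Modules} (e : F ≅ G) (m : ℕ) :
    hi k i L F m = hi k i L G m :=
  (Crv77.hEquiv k (EGA73.tensIso e (Iso.refl (CohB1.tensorPow L m))) i).finrank_eq

theorem hi_shift (i : ℕ) (L F : X.Modules) (m : ℕ) :
    hi k i L (CohB1.tensorMod F L) m = hi k i L F (m + 1) :=
  (Crv77.hEquiv k (EGA73.tensAssoc' F L (CohB1.tensorPow L m) ≪≫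
    EGA73.tensIso (Iso.refl F) (EGA73.tensComm L (CohB1.tensorPow L m))) i).finrank_eq

variable [IsProper (X ↘ (Spec (CommRingCat.of k)))]
variable {L : X.Modules} (hL : PicF.IsInvertible L)
include hL

theorem finite_twist {F : X.Modules} (hF : Coh.IsCoh F) (i m : ℕ) :
    Module.Finite k (Coh.HH X (CohB1.tensorMod F (CohB1.tensorPow L m)) i) :=
  Serre71.finite_hh_of_isProper k _ (isCoh_twist hL hF m) i

theorem hi_isZero (i : ℕ) {F : X.Modules} (hF : IsZero F) (m : ℕ) : hi k i L F m = 0 := by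
  have : Subsingleton (Coh.HH X (CohB1.tensorMod F (CohB1.tensorPow L m)) i) :=
    ValVan29.subsingleton_hh_of_isZero
      (ValVan29.isZero_tensorMod hF (EGA73.isInvertible_tensorPow hL _)) i
  exact Module.finrank_zero_of_subsingleton

variable {S : ShortComplex X.Modules} (hS : S.ShortExact) (h₁ : Coh.IsCoh S.X₁) (h₂ : Coh.IsCoh S.X₂)
  (h₃ : Coh.IsCoh S.X₃)
include hS h₁ h₂ h₃

/-- The middle term is bounded by the outer ones. -/
theorem hi_le_mid (i m : ℕ) : hi k i L S.X₂ m ≤ hi k i L S.X₁ m + hi k i L S.X₃ m := by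
  obtain ⟨T, hT, e₁, e₂, e₃⟩ := Crv77.shortExact_twist
    (Mero90.isFinLocFreeOfRank_of_isInvertible (EGA73.isInvertible_tensorPow hL m)) hS
  have : Module.Finite k (Coh.HH X T.X₁ i) := by rw [e₁]; exact finite_twist k hL h₁ i m
  have : Module.Finite k (Coh.HH X T.X₂ i) := by rw [e₂]; exact finite_twist k hL h₂ i m
  have : Module.Finite k (Coh.HH X T.X₃ i) := by rw [e₃]; exact finite_twist k hL h₃ i m
  unfold hi
  rw [← e₁, ← e₂, ← e₃]
  exact finrank_le_add_of_exact _ _ (Crv77.exact_f_g k hT i)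

/-- The cokernel is bounded by the middle term and the kernel one degree up. -/
theorem hi_le_right (i m : ℕ) : hi k i L S.X₃ m ≤ hi k i L S.X₂ m + hi k (i + 1) L S.X₁ m := by
  obtain ⟨T, hT, e₁, e₂, e₃⟩ := Crv77.shortExact_twist
    (Mero90.isFinLocFreeOfRank_of_isInvertible (EGA73.isInvertible_tensorPow hL m)) hS
  have : Module.Finite k (Coh.HH X T.X₁ (i + 1)) := by rw [e₁]; exact finite_twist k hL h₁ (i + 1) m
  have : Module.Finite k (Coh.HH X T.X₂ i) := by rw [e₂]; exact finite_twist k hL h₂ i m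
  have : Module.Finite k (Coh.HH X T.X₃ i) := by rw [e₃]; exact finite_twist k hL h₃ i m
  unfold hi
  rw [← e₁, ← e₂, ← e₃]
  exact finrank_le_add_of_exact _ _ (Crv77.exact_g_δ k hT i)

/-- The kernel is bounded by the middle term and the cokernel one degree down. -/
theorem hi_le_left_succ (i m : ℕ) : hi k (i + 1) L S.X₁ m ≤ hi k i L S.X₃ m + hi k (i + 1) L S.X₂ m := by
  obtain ⟨T, hT, e₁, e₂, e₃⟩ := Crv77.shortExact_twist
    (Mero90.isFinLocFreeOfRank_of_isInvertible (EGA73.isInvertible_tensorPow hL m)) hS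
  have : Module.Finite k (Coh.HH X T.X₁ (i + 1)) := by rw [e₁]; exact finite_twist k hL h₁ (i + 1) m
  have : Module.Finite k (Coh.HH X T.X₂ (i + 1)) := by rw [e₂]; exact finite_twist k hL h₂ (i + 1) m
  have : Module.Finite k (Coh.HH X T.X₃ i) := by rw [e₃]; exact finite_twist k hL h₃ i m
  unfold hi
  rw [← e₁, ← e₂, ← e₃]
  exact finrank_le_add_of_exact _ _ (Crv77.exact_δ_f k hT i)

omit h₁ h₃ in
theorem hi_le_left_zero (m : ℕ) : hi k 0 L S.X₁ m ≤ hi k 0 L S.X₂ m :=
  h0_mono k hL hS h₂ m

omit hS h₁ h₂ h₃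

/-- The growth predicate in every degree. -/
def BdH (L : X.Modules) (d : ℕ) (F : X.Modules) : Prop :=
  ∀ i : ℕ, ∃ C : ℕ, ∀ m : ℕ, hi k i L F m ≤ C * w d m

omit hL in
theorem w_le_succ (d m : ℕ) : w d m ≤ w (d + 1) m := by
  rcases d with _ | e
  · simp [w]
  · exact Nat.pow_le_pow_right (Nat.succ_pos m) (Nat.le_succ e)

omit hL in
theorem bdH_succ (d : ℕ) {F : X.Modules} (h : BdH k L d F) : BdH k L (d + 1) F := fun i => by
  obtain ⟨C, hC⟩ := h i
  exact ⟨C, fun m => (hC m).trans (Nat.mul_le_mul_left _ (w_le_succ d m))⟩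

theorem bdH_isZero (d : ℕ) {F : X.Modules} (hF : IsZero F) : BdH k L d F :=
  fun i => ⟨0, fun m => (hi_isZero k hL i hF m).le.trans (by simp)⟩

include hS h₁ h₂ h₃ in
theorem bdH_mid (d : ℕ) (p₁ : BdH k L d S.X₁) (p₃ : BdH k L d S.X₃) : BdH k L d S.X₂ := fun i => by
  obtain ⟨C, hC⟩ := p₁ i
  obtain ⟨C', hC'⟩ := p₃ i
  exact ⟨C + C', fun m => (hi_le_mid k hL hS h₁ h₂ h₃ i m).trans
    ((add_le_add (hC m) (hC' m)).trans (add_mul C C' _).ge)⟩

include hS h₁ h₂ h₃ in
theorem bdH_left (d : ℕ) (p₂ : BdH k L d S.X₂) (p₃ : BdH k L d S.X₃) : BdH k L d S.X₁ := fun i => by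
  obtain ⟨C, hC⟩ := p₂ i
  rcases i with _ | i
  · exact ⟨C, fun m => (hi_le_left_zero k hL hS h₂ m).trans (hC m)⟩
  · obtain ⟨C', hC'⟩ := p₃ i
    exact ⟨C' + C, fun m => (hi_le_left_succ k hL hS h₁ h₂ h₃ i m).trans
      ((add_le_add (hC' m) (hC m)).trans (add_mul C' C _).ge)⟩

omit hL [IsProper (X ↘ (Spec (CommRingCat.of k)))] in
theorem finite_of_hEquiv {M N : X.Modules} (e : M ≅ N) (i : ℕ) [Module.Finite k (Coh.HH X M i)] :
    Module.Finite k (Coh.HH X N i) :=
  Module.Finite.equiv (Crv77.hEquiv k e i)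

theorem bdH_root (d : ℕ) {G : X.Modules} (m : ℕ) (hm : 1 ≤ m) (hc : Coh.IsCoh (∐ fun _ : Fin m => G))
    (h : BdH k L d (∐ fun _ : Fin m => G)) : BdH k L d G := fun i => by
  obtain ⟨m, rfl⟩ : ∃ m', m = m' + 1 := ⟨m - 1, by omega⟩
  let j : G ⟶ ∐ fun _ : Fin (m + 1) => G := Sigma.ι (fun _ : Fin (m + 1) => G) 0
  let r : (∐ fun _ : Fin (m + 1) => G) ⟶ G := Sigma.desc fun _ => 𝟙 G
  have hjr : j ≫ r = 𝟙 G := Sigma.ι_desc _ _
  obtain ⟨C, hC⟩ := h i
  refine ⟨C, fun t => le_trans ?_ (hC t)⟩
  have := finite_twist k hL hc i t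
  let T := Crv77.twist (CohB1.tensorPow L t)
  refine LinearMap.finrank_le_finrank_of_injective
    (f := Crv77.hmap k (T.map j) i) fun x y hxy => ?_
  have h2 := congrArg (Crv77.hmap k (T.map r) i) hxy
  have hid : T.map j ≫ T.map r = 𝟙 _ := by rw [← T.map_comp, hjr, T.map_id]
  have h3 : ∀ z : Coh.HH X (T.obj G) i, Crv77.hmap k (T.map r) i (Crv77.hmap k (T.map j) i z) = z :=
    fun z => (Crv77.hmap_comp k _ _ i z).trans (by rw [hid]; exact Crv77.hmap_id k _ i z)
  exact (h3 x).symm.trans (h2.trans (h3 y))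

/-- A module of rank one at a point, with a small cokernel against its twist, grows one degree faster. -/
theorem bdH_generic [IsNoetherian X] (d : ℕ) {G : X.Modules} (hG : Coh.IsCoh G) (y : X)
    (hGsupp : CohB1.support G ⊆ closure {y})
    (small : ∀ M : X.Modules, Coh.IsCoh M → CohB1.support M ⊆ closure {y} → y ∉ CohB1.support M →
      BdH k L d M) : BdH k L (d + 1) G := by
  haveI := hG.1
  let F' := CohB1.tensorMod G L
  have hF' : Coh.IsCoh F' := Amp73.isCoh_tensorMod hG (Amp73.isCoh_of_isInvertible hL)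
  haveI := hF'.1
  obtain ⟨e⟩ := Snapper75.nonempty_stalk_twist G hL y
  obtain ⟨J, ψ, hyJ, hψm, hψb⟩ := QC70.exists_mono_iso_at hG hF' y e.symm
  let S := ShortComplex.mk ψ (cokernel.π ψ) (cokernel.condition ψ)
  have hS : S.ShortExact := ShortComplex.ShortExact.mk'
    (ShortComplex.exact_of_g_is_cokernel _ (cokernelIsCokernel _)) hψm
    (inferInstanceAs (Epi (cokernel.π ψ)))
  have hJG := QC70.isCoh_idealMul J hG
  have hC : Coh.IsCoh (cokernel ψ) := QC70.isCoh_cokernel ψ hJG.1 hF'
  have hbC : BdH k L d (cokernel ψ) := small _ hC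
    ((QC70.mem_support_of_epi (cokernel.π ψ)).trans ((Snapper75.support_twist G hL).le.trans hGsupp))
    (QC70.notMem_support_iff.2 (QC70.subsingleton_stalk_cokernel ψ y hψb.2))
  let Q := (QC70.quotSC J G).X₃
  have hQ : Coh.IsCoh Q := QC70.isCoh_quot J hG
  have hbQ : BdH k L d Q := small _ hQ ((haveI := (QC70.quotSC_shortExact J G).epi_g
      QC70.mem_support_of_epi (QC70.quotSC J G).g).trans hGsupp)
    fun hy => hyJ (QC70.support_quot_subset_right J G hy)
  intro i
  have main : ∃ C : ℕ, ∀ m, hi k i L G (m + 1) ≤ hi k i L G m + C * w d m := by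
    obtain ⟨C, hC'⟩ := hbC i
    rcases i with _ | j
    · refine ⟨C, fun m => ?_⟩
      rw [← hi_shift]
      refine (hi_le_mid k hL hS hJG hF' hC 0 m).trans (add_le_add ?_ (hC' m))
      exact hi_le_left_zero k hL (QC70.quotSC_shortExact J G) hG m
    · obtain ⟨D, hD⟩ := hbQ j
      refine ⟨D + C, fun m => ?_⟩
      rw [← hi_shift]
      refine (hi_le_mid k hL hS hJG hF' hC (j + 1) m).trans ?_
      have h1 : hi k (j + 1) L S.X₁ m ≤ hi k j L Q m + hi k (j + 1) L G m := hi_le_left_succ k hL (QC70.quotSC_shortExact J G) hJG hG hQ j m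
      have h2 := hD m
      have h3 : hi k (j + 1) L S.X₃ m ≤ C * w d m := hC' m
      rw [add_mul]
      omega
  obtain ⟨C, step⟩ := main
  have hbd : ∀ m, hi k i L G m ≤ hi k i L G 0 + C * (m * w d m) := by
    intro m
    induction m with
    | zero => simp
    | succ m ih =>
      have h1 : (m + 1) * w d m ≤ (m + 1) * w d (m + 1) := Nat.mul_le_mul_left _ (w_mono d m)
      have h2 := Nat.mul_le_mul_left C h1
      rw [add_mul, one_mul, mul_add] at h2
      have := step m
      omega
  refine ⟨hi k i L G 0 + C, fun m => (hbd m).trans ?_⟩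
  rw [add_mul]
  exact add_le_add (Nat.le_mul_of_pos_right _ (pow_pos (Nat.succ_pos _) _))
    (Nat.mul_le_mul_left _ (mul_w_le d m))

/-- Cohomology of twists grows at most like the dimension of the support. -/
theorem bdH_of_dim : ∀ (d : ℕ) (F : X.Modules), Coh.IsCoh F →
    topologicalKrullDim (CohB1.support F) < (d : WithBot ℕ∞) → BdH k L d F
  | 0, F, hF, hd => by
    have hempty : CohB1.support F = ∅ := by
      by_contra hne
      obtain ⟨x, hx⟩ := Set.nonempty_iff_ne_empty.2 hne
      haveI := hF.2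
      have hcl := QC70.isClosed_support F
      have : Nonempty (IrreducibleCloseds (CohB1.support F)) :=
        ⟨⟨closure {⟨x, hx⟩}, isIrreducible_singleton.closure, isClosed_closure⟩⟩
      exact absurd hd (not_lt.2 (Order.krullDim_nonneg_iff.2 this))
    exact bdH_isZero k hL 0 (QC70.isZero_of_support_eq_empty hempty)
  | d + 1, F, hF, hd => by
    have := Crv77.isNoetherian_of_proper k X
    have IHd := bdH_of_dim d
    haveI := hF.1
    haveI := hF.2
    refine QC70.devissage (fun M => Coh.IsCoh M → BdH k L (d + 1) M)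
      (fun M N ⟨e⟩ h hN => ?_)
      (fun M hM _ => bdH_isZero k hL _ hM)
      (fun S hS h₁ h₂ h₃ p₁ p₃ _ => bdH_mid k hL hS h₁ h₂ h₃ _ (p₁ h₁) (p₃ h₃))
      (fun G m hG hm hP _ => ?_) (CohB1.support F) (QC70.isClosed_support F) (fun y hy IH => ?_)
      F hF subset_rfl hF
    · intro i
      obtain ⟨C, hC⟩ := h (QC70.isCoh_of_iso e.symm hN) i
      exact ⟨C, fun t => (hi_congr k i L e t).symm.le.trans (hC t)⟩
    · have hc : Coh.IsCoh (∐ fun _ : Fin m => G) :=
        QC70.isCoh_of_iso (biproduct.isoCoproduct fun _ : Fin m => G) (QC70.isCoh_biproduct _ fun _ => hG)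
      exact bdH_root k hL (d + 1) m hm hc (hP hc)
    · let Y : Closeds X := ⟨closure {y}, isClosed_closure⟩
      let I := Scheme.IdealSheafData.vanishingIdeal Y
      have hI : (I.support : Set X) = closure {y} := Scheme.IdealSheafData.coe_support_vanishingIdeal Y
      have hO : Coh.IsCoh (Coh.structureModule X) := QC70.isCoh_unit
      haveI := hO.1
      let G := (QC70.quotSC I (Coh.structureModule X)).X₃
      have hG : Coh.IsCoh G := QC70.isCoh_quot I hO
      haveI := hG.1
      have hGy : y ∈ CohB1.support G := CohSerre72.mem_support_quot I hO (hI.ge (subset_closure rfl))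
        (not_subsingleton_iff_nontrivial.2 (QC70.nontrivial_stalk_unit y))
      have hGsupp : CohB1.support G ⊆ closure {y} := (QC70.support_quot_subset_right I _).trans hI.le
      have hdy : topologicalKrullDim (closure ({y} : Set X)) < ((d + 1 : ℕ) : WithBot ℕ∞) :=
        lt_of_le_of_lt (LC17.dim_mono ((QC70.isClosed_support F).closure_subset_iff.2
          (Set.singleton_subset_iff.2 hy))) hd
      have small : ∀ M : X.Modules, Coh.IsCoh M → CohB1.support M ⊆ closure {y} → y ∉ CohB1.support M →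
          BdH k L d M := fun M hM hs hyM =>
        haveI := hM.2
        IHd M hM (Snapper75.dim_lt_of_notMem (QC70.isClosed_support M) hs hyM hdy)
      have hGP : BdH k L (d + 1) G := bdH_generic k hL d hG y hGsupp small
      refine ⟨G, hG, not_subsingleton_iff_nontrivial.1 hGy,
        QC70.stalk_killed (Y := Y) rfl fun W a ha t => QC70.smul_quot_eq_zero I _ W ha t, fun J hJ => ?_⟩
      refine ⟨_, 𝟙 _, inferInstance, QC70.isCoh_idealMul J hG, ?_, fun _ => ?_⟩
      · rw [Category.id_comp]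
        exact QC70.bijective_stalk_idealMulι J _ hJ
      · have hQ : Coh.IsCoh (QC70.quotSC J G).X₃ := QC70.isCoh_quot J hG
        exact bdH_left k hL (QC70.quotSC_shortExact J G) (QC70.isCoh_idealMul J hG) hG hQ _ hGP
          (bdH_succ k _ (small _ hQ ((haveI := (QC70.quotSC_shortExact J G).epi_g
              QC70.mem_support_of_epi (QC70.quotSC J G).g).trans hGsupp)
            fun hy' => hJ (QC70.support_quot_subset_right J G hy')))

/-- Cohomology of twists of a coherent module is bounded by a multiple of `(m+1)^d` in dimension `d`. -/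
theorem exists_bound_hi (F : X.Modules) (hF : Coh.IsCoh F) {d : ℕ}
    (hd : topologicalKrullDim X ≤ (d : WithBot ℕ∞)) (i : ℕ) :
    ∃ C : ℕ, ∀ m : ℕ, hi k i L F m ≤ C * (m + 1) ^ d :=
  bdH_of_dim k hL (d + 1) F hF (lt_of_le_of_lt
    ((Topology.IsInducing.subtypeVal.topologicalKrullDim_le).trans hd) (by exact_mod_cast Nat.lt_succ_self d)) i

end Groth.Agent.Var76.Growth

end
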