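import Groth.Agent.Var76.RegPow
import Mathlib.GroupTheory.CosetCover
import Mathlib.RingTheory.Ideal.AssociatedPrime.Finiteness

/-! Multiplication by general linear forms on coherent modules of projective space. -/

universe u

open CategoryTheory Limits AlgebraicGeometry TopologicalSpace Opposite GrTilde

noncomputable section

set_option maxSynthPendingDepth 6

namespace Groth.Agent.Var76.Reg

open LineBundle

section Generic

set_option backward.isDefEq.respectTransparency false

variable {R A : Type u} [CommRing R] [CommRing A] [Algebra R A] {𝒜 : ℕ → Submodule R A} [GradedAlgebra 𝒜]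

theorem mulX_add (g g' : 𝒜 1) {d e : ℤ} (h : e = d + 1) :
    mulX (g + g') h = mulX g h + mulX g' h := by
  refine Scheme.Modules.hom_ext _ _ fun U => ?_
  ext t
  refine sectN_ext fun x => ?_
  refine (mulX_app_apply (g + g') h U t x).trans ?_
  refine Eq.trans ?_ (congrArg₂ (· + ·) (mulX_app_apply g h U t x).symm (mulX_app_apply g' h U t x).symm)
  rw [← mul_add, Localization.add_mk]
  simp [add_comm]

theorem mulX_smul_comp (c : R) (g g' : 𝒜 1) {a b d : ℤ} (h₁ : b = a + 1) (h₂ : d = b + 1) :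
    mulX (c • g) h₁ ≫ mulX g' h₂ = mulX (c • g') h₁ ≫ mulX g h₂ := by
  refine Scheme.Modules.hom_ext _ _ fun U => ?_
  ext t
  refine sectN_ext fun x => ?_
  refine (mulX_app_apply g' h₂ U _ x).trans ?_
  refine (congrArg (· * _) (mulX_app_apply (c • g) h₁ U t x)).trans ?_
  refine Eq.trans ?_ (mulX_app_apply g h₂ U _ x).symm
  refine Eq.trans ?_ (congrArg (· * _) (mulX_app_apply (c • g') h₁ U t x)).symm
  rw [mul_assoc, mul_assoc, Localization.mk_mul, Localization.mk_mul]
  simp only [SetLike.val_smul, smul_mul_assoc, mul_comm (g : A) (g' : A)]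

end Generic

variable {n : ℕ} {k : Type u} [Field k]

/-- Multiplication by a linear form. -/
def lMul (F : (CohB1.ProjSpace n k).Modules) (g : CohB1.polyGrading n k 1) :
    tw n k F (-1) ⟶ tw n k F 0 :=
  twMul (𝒜 := CohB1.polyGrading n k) F g (show (0 : ℤ) = -1 + 1 by norm_num)

/-- Multiplication by a linear form on twisting sheaves. -/
def tMul (g : CohB1.polyGrading n k 1) (d e : ℤ) (h : e = d + 1) :
    Twist.twistProjSpace n k d ⟶ Twist.twistProjSpace n k e :=
  mulX (𝒜 := CohB1.polyGrading n k) g h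

theorem tMul_comm (g g' : CohB1.polyGrading n k 1) {c d e : ℤ} (h₁ : d = c + 1) (h₂ : e = d + 1) :
    tMul g c d h₁ ≫ tMul g' d e h₂ = tMul g' c d h₁ ≫ tMul g d e h₂ :=
  mulX_comm g g' h₁ h₂ h₁ h₂

theorem tMul_xVar (l : Fin (n + 1)) {d e : ℤ} (h : e = d + 1) :
    (tMul (xVar n k l) d e h).app (xOpen n k l) (pSec l d le_rfl) = pSec l e le_rfl := by
  have h1 := mulX_gUnit (𝒜 := CohB1.polyGrading n k) (xVar n k l) h
  have h2 : ∀ a : ℤ, (pSec l a le_rfl : Γ(Twist.twistProjSpace n k a, xOpen n k l)) =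
      (gUnit (𝒜 := CohB1.polyGrading n k) (xVar n k l) a).fwd := fun a =>
    QC70.res_self (M := Twist.twist (CohB1.polyGrading n k) a) _
  rw [h2, h2]
  exact h1

theorem exists_dehom (g : CohB1.polyGrading n k 1) (l : Fin (n + 1)) :
    ∃ β : Γ(CohB1.ProjSpace n k, xOpen n k l),
      (tMul g (-1) 0 (by norm_num)).app (xOpen n k l) (pSec l (-1) le_rfl) = β • pSec l 0 le_rfl := by
  obtain ⟨β, hβ⟩ := (isFrame_pSec (k := k) l 0 (xOpen n k l) le_rfl).2
    ((tMul g (-1) 0 (by norm_num)).app (xOpen n k l) (pSec l (-1) le_rfl))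
  refine ⟨β, hβ.symm.trans ?_⟩
  show β • res _ le_rfl (pSec l 0 le_rfl) = _
  rw [res_pSec]

/-- The dehomogenization of a linear form. -/
def dehom (g : CohB1.polyGrading n k 1) (l : Fin (n + 1)) : Γ(CohB1.ProjSpace n k, xOpen n k l) :=
  (exists_dehom g l).choose

theorem dehom_spec (g : CohB1.polyGrading n k 1) (l : Fin (n + 1)) :
    (tMul g (-1) 0 (by norm_num)).app (xOpen n k l) (pSec l (-1) le_rfl) = dehom g l • pSec l 0 le_rfl :=
  (exists_dehom g l).choose_spec

theorem dehom_unique {l : Fin (n + 1)} {a : ℤ}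
    {b c : Γ(CohB1.ProjSpace n k, xOpen n k l)}
    (h : b • pSec (k := k) l a (le_refl (xOpen n k l)) = c • pSec (k := k) l a (le_refl (xOpen n k l))) : b = c := by
  refine (isFrame_pSec (k := k) l a (xOpen n k l) le_rfl).1 ?_
  show b • res _ le_rfl (pSec l a le_rfl) = c • res _ le_rfl (pSec l a le_rfl)
  rw [res_pSec]
  exact h

theorem dehom_spec_one (g : CohB1.polyGrading n k 1) (l : Fin (n + 1)) :
    (tMul g 0 1 (by norm_num)).app (xOpen n k l) (pSec l 0 le_rfl) = dehom g l • pSec l 1 le_rfl := by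
  have h := congr((Scheme.Modules.Hom.app $(tMul_comm (xVar n k l) g (c := -1) (d := 0) (e := 1) (by norm_num)
    (by norm_num)) (xOpen n k l)) (pSec l (-1) le_rfl))
  have el : (tMul g 0 1 (by norm_num)).app (xOpen n k l)
      ((tMul (xVar n k l) (-1) 0 (by norm_num)).app (xOpen n k l) (pSec l (-1) le_rfl)) =
      (tMul g 0 1 (by norm_num)).app (xOpen n k l) (pSec l 0 le_rfl) :=
    congrArg _ (tMul_xVar l (by norm_num))
  have er : (tMul (xVar n k l) 0 1 (by norm_num)).app (xOpen n k l)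
      ((tMul g (-1) 0 (by norm_num)).app (xOpen n k l) (pSec l (-1) le_rfl)) = dehom g l • pSec l 1 le_rfl :=
    (congrArg _ (dehom_spec g l)).trans ((Scheme.Modules.Hom.app_smul _ _ _).trans
      (congrArg (dehom g l • ·) (tMul_xVar l (by norm_num))))
  exact el.symm.trans (h.trans er)

theorem dehom_xVar (l : Fin (n + 1)) : dehom (xVar n k l) l = 1 := by
  have h1 := dehom_spec (xVar n k l) l
  have h2 := tMul_xVar (k := k) l (d := -1) (e := 0) (by norm_num)
  have h3 := (one_smul Γ(CohB1.ProjSpace n k, xOpen n k l) (pSec (k := k) l 0 (le_refl (xOpen n k l))))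
  exact dehom_unique (h1.symm.trans (h2.trans h3.symm))

theorem tMul_add (g g' : CohB1.polyGrading n k 1) {d e : ℤ} (h : e = d + 1) :
    tMul (g + g') d e h = tMul g d e h + tMul g' d e h :=
  mulX_add g g' h

theorem dehom_add (g g' : CohB1.polyGrading n k 1) (l : Fin (n + 1)) :
    dehom (g + g') l = dehom g l + dehom g' l := by
  refine dehom_unique (l := l) (a := 0) ?_
  rw [← dehom_spec, add_smul, ← dehom_spec, ← dehom_spec, tMul_add]
  rfl

theorem tMul_smul_comp (c : k) (g : CohB1.polyGrading n k 1) (l : Fin (n + 1)) {a b d : ℤ} (h₁ : b = a + 1)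
    (h₂ : d = b + 1) :
    tMul (c • g) a b h₁ ≫ tMul (xVar n k l) b d h₂ = tMul (c • xVar n k l) a b h₁ ≫ tMul g b d h₂ :=
  mulX_smul_comp c g (xVar n k l) h₁ h₂

theorem dehom_smul (c : k) (g : CohB1.polyGrading n k 1) (l : Fin (n + 1)) :
    dehom (c • g) l = dehom (c • xVar n k l) l * dehom g l := by
  refine dehom_unique (l := l) (a := 1) ?_
  have h := congr((Scheme.Modules.Hom.app $(tMul_smul_comp c g l (a := -1) (b := 0) (d := 1) (by norm_num)
    (by norm_num)) (xOpen n k l)) (pSec l (-1) le_rfl))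
  have el : (tMul (xVar n k l) 0 1 (by norm_num)).app (xOpen n k l)
      ((tMul (c • g) (-1) 0 (by norm_num)).app (xOpen n k l) (pSec l (-1) le_rfl)) =
      dehom (c • g) l • pSec l 1 le_rfl :=
    (congrArg _ (dehom_spec (c • g) l)).trans ((Scheme.Modules.Hom.app_smul _ _ _).trans
      (congrArg (dehom (c • g) l • ·) (tMul_xVar l (by norm_num))))
  have er : (tMul g 0 1 (by norm_num)).app (xOpen n k l)
      ((tMul (c • xVar n k l) (-1) 0 (by norm_num)).app (xOpen n k l) (pSec l (-1) le_rfl)) =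
      (dehom (c • xVar n k l) l * dehom g l) • pSec l 1 le_rfl :=
    (congrArg _ (dehom_spec (c • xVar n k l) l)).trans ((Scheme.Modules.Hom.app_smul _ _ _).trans
      ((congrArg (dehom (c • xVar n k l) l • ·) (dehom_spec_one g l)).trans (smul_smul _ _ _)))
  exact el.symm.trans (h.trans er)

theorem injective_lMul_app (F : (CohB1.ProjSpace n k).Modules) (g : CohB1.polyGrading n k 1) (l : Fin (n + 1))
    (h : ∀ m : Γ(F, xOpen n k l), dehom g l • m = 0 → m = 0) (z : Γ(tw n k F (-1), xOpen n k l))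
    (hz : (lMul F g).app (xOpen n k l) z = 0) : z = 0 := by
  obtain ⟨m, rfl⟩ := Amp73.exists_eq_tm_frame (L := F) (isFrame_pSec (k := k) l (-1)) (le_refl (xOpen n k l)) z
  rw [res_pSec] at hz ⊢
  have e : (lMul F g).app (xOpen n k l) (Amp73.tm F _ m (pSec l (-1) le_rfl)) =
      Amp73.tm F _ (dehom g l • m) (pSec l 0 le_rfl) := by
    refine (whiskL_tm F (tMul g (-1) 0 (by norm_num)) m _).trans ?_
    rw [dehom_spec]
    exact (Amp73.tm_smul_right _ _ _).trans (Amp73.tm_smul_left _ _ _).symm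
  rw [e] at hz
  have h0 : Amp73.tm F (Twist.twistProjSpace n k 0) (0 : Γ(F, xOpen n k l)) (pSec l 0 le_rfl) = 0 := by
    rw [← zero_smul Γ(CohB1.ProjSpace n k, xOpen n k l) (0 : Γ(F, xOpen n k l)), Amp73.tm_smul_left, zero_smul]
  have : dehom g l • m = 0 := by
    refine Amp73.tm_frame_injective (L := F) (isFrame_pSec (k := k) l 0) (le_refl (xOpen n k l)) _ _ ?_
    rw [res_pSec, hz, h0]
  rw [h m this, ← zero_smul Γ(CohB1.ProjSpace n k, xOpen n k l) (0 : Γ(F, xOpen n k l)), Amp73.tm_smul_left,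
    zero_smul]

/-- A general linear form is a nonzerodivisor on finitely many coherent modules. -/
theorem exists_lMul_mono [Infinite k] {κ : Type*} [Finite κ] (F : κ → (CohB1.ProjSpace n k).Modules)
    (hF : ∀ j, Coh.IsCoh (F j)) : ∃ g : CohB1.polyGrading n k 1, ∀ j, Mono (lMul (F j) g) := by
  classical
  have hnoeth : ∀ l : Fin (n + 1), IsNoetherianRing Γ(CohB1.ProjSpace n k, xOpen n k l) := fun l =>
    IsLocallyNoetherian.component_noetherian ⟨xOpen n k l, isAffineOpen_xOpen n k l⟩
  have hfin : ∀ l j, Module.Finite Γ(CohB1.ProjSpace n k, xOpen n k l) Γ(F j, xOpen n k l) := fun l j =>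
    haveI := (hF j).1; haveI := (hF j).2
    QC70.finite_sections_of_isFiniteType (F j) (isAffineOpen_xOpen n k l)
  let ass : ∀ l : Fin (n + 1), κ → Set (Ideal Γ(CohB1.ProjSpace n k, xOpen n k l)) := fun l j =>
    associatedPrimes Γ(CohB1.ProjSpace n k, xOpen n k l) Γ(F j, xOpen n k l)
  let T := Σ l : Fin (n + 1), Σ j : κ, ass l j
  have : ∀ l j, Finite (ass l j) := fun l j =>
    haveI := hnoeth l; haveI := hfin l j
    (associatedPrimes.finite Γ(CohB1.ProjSpace n k, xOpen n k l) Γ(F j, xOpen n k l)).to_subtype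
  let W : T → Submodule k (CohB1.polyGrading n k 1) := fun t =>
    { carrier := {g | dehom g t.1 ∈ t.2.2.1}
      add_mem' := fun {a b} ha hb => by
        show dehom (a + b) t.1 ∈ t.2.2.1
        rw [dehom_add]
        exact add_mem ha hb
      zero_mem' := by
        show dehom 0 t.1 ∈ t.2.2.1
        have h0 : dehom (0 : CohB1.polyGrading n k 1) t.1 = 0 := by
          have := dehom_add (0 : CohB1.polyGrading n k 1) 0 t.1
          rw [add_zero] at this
          simpa using this
        rw [h0]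
        exact zero_mem _
      smul_mem' := fun c a ha => by
        show dehom (c • a) t.1 ∈ t.2.2.1
        rw [dehom_smul]
        exact Ideal.mul_mem_left _ _ ha }
  have hW : ∀ t, W t ≠ ⊤ := fun t ht => by
    have h1 : dehom (xVar n k t.1) t.1 ∈ t.2.2.1 := (ht ▸ Submodule.mem_top : xVar n k t.1 ∈ W t)
    rw [dehom_xVar] at h1
    exact (show (t.2.2.1).IsPrime from t.2.2.2.isPrime).ne_top ((Ideal.eq_top_iff_one _).2 h1)
  obtain ⟨g, hg⟩ : ∃ g, ∀ t, g ∉ W t := by
    by_contra h
    push Not at h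
    obtain ⟨t, ht⟩ := Subspace.exists_eq_top_of_iUnion_eq_univ (p := W)
      (Set.eq_univ_of_forall fun g => Set.mem_iUnion.2 (h g))
    exact hW t ht
  refine ⟨g, fun j => ?_⟩
  have hq := (hF j).1
  have := isQCoh_tw n k (F j) hq (-1)
  have := isQCoh_tw n k (F j) hq 0
  refine Preadditive.mono_of_isZero_kernel _ (isZero_of_sections (QC70.isQuasicoherent_kernel (lMul (F j) g))
    (xOpen n k) (isAffineOpen_xOpen n k) (exists_mem_xOpen n k) fun l z => ?_)
  refine QC70.app_injective_of_mono (kernel.ι (lMul (F j) g)) _ ?_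
  refine Eq.trans ?_ (map_zero _).symm
  refine injective_lMul_app (F j) g l (fun m hm => ?_) _
    (congr((Scheme.Modules.Hom.app $(kernel.condition (lMul (F j) g)) (xOpen n k l)) z))
  by_contra hm0
  have := hnoeth l
  have := hfin l j
  have hzd : dehom g l ∈ ⋃ p ∈ ass l j, (p : Set _) := by
    rw [biUnion_associatedPrimes_eq_zero_divisors]
    exact ⟨m, hm0, hm⟩
  obtain ⟨p, hp, hgp⟩ := Set.mem_iUnion₂.1 hzd
  exact hg ⟨l, j, p, hp⟩ hgp

end Groth.Agent.Var76.Reg

end
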