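import Groth.Agent.Var76.GenericCompare
import Groth.Agent.FGA29.IntNumBasic
import Groth.Agent.An92.Ample.Inverse
import Groth.Prelude.Def_W4c5asymptcohfnACF

/-! Cohomology of twists by several invertible modules with integer exponents. -/

set_option autoImplicit false
set_option backward.isDefEq.respectTransparency.types false
universe u

open CategoryTheory CategoryTheory.Limits AlgebraicGeometry TopologicalSpace Opposite
open scoped Groth.Agent.FGA29

noncomputable section

namespace Groth.Agent.Var76.Growth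

theorem zpow_toNat_split {G : Type*} [Group G] (g : G) (c : ℤ) :
    g ^ c = g ^ c.toNat * g⁻¹ ^ (-c).toNat := by
  rw [inv_pow, ← zpow_natCast, ← zpow_natCast, ← zpow_neg, ← zpow_add]
  congr 1
  omega

theorem w_le_of_le (d : ℕ) {a b : ℕ} (h : a ≤ b) : w d a ≤ w d b := by
  rcases d with _ | e
  · exact le_rfl
  · exact Nat.pow_le_pow_left (by omega) _

variable {X : Scheme.{u}}

theorem isInvertible_of_isInverseOf {L M : X.Modules} (hL : PicF.IsInvertible L) (h : ClSub.IsInverseOf L M) :
    PicF.IsInvertible M := by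
  obtain ⟨I, hI, ⟨ε⟩⟩ := An92.InvMod.exists_inverse hL
  obtain ⟨e⟩ := h
  exact EGA73.isInvertible_of_iso ((EGA73.tensUnitRight I).symm ≪≫ EGA73.tensIso (Iso.refl I) e.symm ≪≫
    (EGA73.tensAssoc' I L M).symm ≪≫ EGA73.tensIso ε (Iso.refl M) ≪≫ EGA73.tensUnitLeft M) hI

theorem isInvertible_tensorList : ∀ l : List X.Modules, (∀ M ∈ l, PicF.IsInvertible M) →
    PicF.IsInvertible (FGA.tensorList l)
  | [], _ => EGA73.isInvertible_structureModule
  | M :: l, h => EGA73.isInvertible_tensorMod (h M List.mem_cons_self)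
      (isInvertible_tensorList l fun N hN => h N (List.mem_cons_of_mem _ hN))

/-- The total size of an exponent. -/
def sz {r : ℕ} (c : Fin r → ℤ) : ℕ := ∑ j, (c j).natAbs

theorem sz_single_add {r : ℕ} (c : Fin r → ℤ) (j : Fin r) (ε : ℤ)
    (h : (c j + ε).natAbs = (c j).natAbs + 1) : sz (c + Pi.single j ε) = sz c + 1 := by
  unfold sz
  rw [← Finset.add_sum_erase _ _ (Finset.mem_univ j), ← Finset.add_sum_erase _ (fun a => (c a).natAbs)
    (Finset.mem_univ j), Finset.sum_congr rfl fun a ha => by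
      rw [Pi.add_apply, Pi.single_eq_of_ne (Finset.ne_of_mem_erase ha), add_zero]]
  simp only [Pi.add_apply, Pi.single_eq_same, h]
  omega

variable {r : ℕ} {L M : Fin r → X.Modules}

theorem isInvertible_ztwist (hL : ∀ j, PicF.IsInvertible (L j)) (hM : ∀ j, ClSub.IsInverseOf (L j) (M j))
    (c : Fin r → ℤ) : PicF.IsInvertible (W4c5asymptcohfn.ztwist X L M c) := by
  have hMi := fun j => isInvertible_of_isInverseOf (hL j) (hM j)
  refine EGA73.isInvertible_tensorMod (isInvertible_tensorList _ fun N hN => ?_)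
    (isInvertible_tensorList _ fun N hN => ?_)
  all_goals obtain ⟨j, -, rfl⟩ := List.mem_map.1 hN
  · exact EGA73.isInvertible_tensorPow (hL j) _
  · exact EGA73.isInvertible_tensorPow (hMi j) _

/-- The class of a module with an inverse. -/
def invUnit {L M : X.Modules} (h : ClSub.IsInverseOf L M) : (PicF.Cl X)ˣ where
  val := PicF.cl L
  inv := PicF.cl M
  val_inv := by obtain ⟨e⟩ := h; exact Quot.sound ⟨e⟩
  inv_val := by obtain ⟨e⟩ := h; exact Quot.sound ⟨EGA73.tensComm M L ≪≫ e⟩

theorem cl_ztwist (hM : ∀ j, ClSub.IsInverseOf (L j) (M j)) (c : Fin r → ℤ) :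
    PicF.cl (W4c5asymptcohfn.ztwist X L M c) = ((∏ j, invUnit (hM j) ^ c j : (PicF.Cl X)ˣ) : PicF.Cl X) := by
  rw [W4c5asymptcohfn.ztwist, FGA29.cl_tensor, FGA29.cl_multiTwist, FGA29.cl_multiTwist,
    ← Finset.prod_mul_distrib, Units.coe_prod]
  refine Finset.prod_congr rfl fun j _ => ?_
  rw [zpow_toNat_split, Units.val_mul, Units.val_pow_eq_pow_val, Units.val_pow_eq_pow_val]
  rfl

theorem cl_ztwist_single (hM : ∀ j, ClSub.IsInverseOf (L j) (M j)) (c : Fin r → ℤ) (j : Fin r) (ε : ℤ) :
    PicF.cl (W4c5asymptcohfn.ztwist X L M (c + Pi.single j ε)) =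
      ((invUnit (hM j) ^ ε : (PicF.Cl X)ˣ) : PicF.Cl X) * PicF.cl (W4c5asymptcohfn.ztwist X L M c) := by
  rw [cl_ztwist hM, cl_ztwist hM, ← Units.val_mul]
  congr 1
  simp only [Pi.add_apply, zpow_add]
  rw [Finset.prod_mul_distrib, mul_comm]
  congr 1
  rw [Finset.prod_eq_single j (fun a _ ha => by rw [Pi.single_eq_of_ne ha, zpow_zero])
    (fun h => absurd (Finset.mem_univ j) h), Pi.single_eq_same]

theorem cl_ztwist_pow (hM : ∀ j, ClSub.IsInverseOf (L j) (M j)) (a : Fin r → ℤ) (m : ℕ) :
    PicF.cl (CohB1.tensorPow (W4c5asymptcohfn.ztwist X L M a) m) =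
      PicF.cl (W4c5asymptcohfn.ztwist X L M fun j => (m : ℤ) * a j) := by
  rw [FGA29.cl_tensorPow, cl_ztwist hM, cl_ztwist hM, ← Units.val_pow_eq_pow_val, ← Finset.prod_pow]
  congr 1
  refine Finset.prod_congr rfl fun j _ => ?_
  rw [← zpow_natCast, ← zpow_mul, mul_comm]

variable (k : Type u) [Field k] [X.Over (Spec (CommRingCat.of k))]

/-- The dimension of the cohomology of an integral twist. -/
def hz (i : ℕ) (L M : Fin r → X.Modules) (F : X.Modules) (c : Fin r → ℤ) : ℕ :=
  hi k i (W4c5asymptcohfn.ztwist X L M c) F 1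

theorem hz_shift (i : ℕ) (F P : X.Modules) {c c' : Fin r → ℤ}
    (h : PicF.cl (W4c5asymptcohfn.ztwist X L M c) = PicF.cl P * PicF.cl (W4c5asymptcohfn.ztwist X L M c')) :
    hz k i L M (CohB1.tensorMod F P) c' = hz k i L M F c := by
  obtain ⟨e⟩ := FGA29.nonempty_iso_of_cl
    (L := CohB1.tensorMod (CohB1.tensorMod F P) (CohB1.tensorPow (W4c5asymptcohfn.ztwist X L M c') 1))
    (M := CohB1.tensorMod F (CohB1.tensorPow (W4c5asymptcohfn.ztwist X L M c) 1))
    (by simp only [FGA29.cl_tensor, FGA29.cl_tensorPow, pow_one, h, mul_assoc])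
  exact (Crv77.hEquiv k e i).finrank_eq

theorem hz_unit (i : ℕ) (c : Fin r → ℤ) :
    hz k i L M (Coh.structureModule X) c = Module.finrank k (Coh.HH X (W4c5asymptcohfn.ztwist X L M c) i) :=
  (Crv77.hEquiv k (EGA73.tensUnitLeft _ ≪≫ Amp73.powOne _) i).finrank_eq

theorem hz_pow (hM : ∀ j, ClSub.IsInverseOf (L j) (M j)) (i : ℕ) (a : Fin r → ℤ) (m : ℕ) :
    Module.finrank k (Coh.HH X (CohB1.tensorPow (W4c5asymptcohfn.ztwist X L M a) m) i) =
      hz k i L M (Coh.structureModule X) fun j => (m : ℤ) * a j := by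
  obtain ⟨e⟩ := FGA29.nonempty_iso_of_cl (cl_ztwist_pow hM a m)
  exact (Crv77.hEquiv k e i).finrank_eq.trans (hz_unit k i _).symm

variable [IsProper (X ↘ (Spec (CommRingCat.of k)))]
  (hL : ∀ j, PicF.IsInvertible (L j)) (hM : ∀ j, ClSub.IsInverseOf (L j) (M j))

/-- The growth predicate for several twists. -/
def BdZ (L M : Fin r → X.Modules) (d : ℕ) (F : X.Modules) : Prop :=
  ∀ i : ℕ, ∃ C : ℕ, ∀ c : Fin r → ℤ, hz k i L M F c ≤ C * w d (sz c)

include hL hM

theorem bdZ_isZero (d : ℕ) {F : X.Modules} (hF : IsZero F) : BdZ k L M d F :=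
  fun i => ⟨0, fun c => (hi_isZero k (isInvertible_ztwist hL hM c) i hF 1).le.trans (by simp)⟩

theorem bdZ_mid {S : ShortComplex X.Modules} (hS : S.ShortExact) (h₁ : Coh.IsCoh S.X₁) (h₂ : Coh.IsCoh S.X₂)
    (h₃ : Coh.IsCoh S.X₃) (d : ℕ) (p₁ : BdZ k L M d S.X₁) (p₃ : BdZ k L M d S.X₃) : BdZ k L M d S.X₂ := fun i => by
  obtain ⟨C, hC⟩ := p₁ i
  obtain ⟨C', hC'⟩ := p₃ i
  exact ⟨C + C', fun c => (hi_le_mid k (isInvertible_ztwist hL hM c) hS h₁ h₂ h₃ i 1).trans
    ((add_le_add (hC c) (hC' c)).trans (add_mul C C' _).ge)⟩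

theorem bdZ_left {S : ShortComplex X.Modules} (hS : S.ShortExact) (h₁ : Coh.IsCoh S.X₁) (h₂ : Coh.IsCoh S.X₂)
    (h₃ : Coh.IsCoh S.X₃) (d : ℕ) (p₂ : BdZ k L M d S.X₂) (p₃ : BdZ k L M d S.X₃) : BdZ k L M d S.X₁ := fun i => by
  obtain ⟨C, hC⟩ := p₂ i
  rcases i with _ | i
  · exact ⟨C, fun c => (hi_le_left_zero k (isInvertible_ztwist hL hM c) hS h₂ 1).trans (hC c)⟩
  · obtain ⟨C', hC'⟩ := p₃ i
    exact ⟨C' + C, fun c => (hi_le_left_succ k (isInvertible_ztwist hL hM c) hS h₁ h₂ h₃ i 1).trans
      ((add_le_add (hC' c) (hC c)).trans (add_mul C' C _).ge)⟩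

theorem bdZ_root (d : ℕ) {G : X.Modules} (m : ℕ) (hm : 1 ≤ m) (hc : Coh.IsCoh (∐ fun _ : Fin m => G))
    (h : BdZ k L M d (∐ fun _ : Fin m => G)) : BdZ k L M d G := fun i => by
  obtain ⟨m, rfl⟩ : ∃ m', m = m' + 1 := ⟨m - 1, by omega⟩
  let j : G ⟶ ∐ fun _ : Fin (m + 1) => G := Sigma.ι (fun _ : Fin (m + 1) => G) 0
  let ρ : (∐ fun _ : Fin (m + 1) => G) ⟶ G := Sigma.desc fun _ => 𝟙 G
  have hjr : j ≫ ρ = 𝟙 G := Sigma.ι_desc _ _
  obtain ⟨C, hC⟩ := h i
  refine ⟨C, fun c => le_trans ?_ (hC c)⟩
  have := finite_twist k (isInvertible_ztwist hL hM c) hc i 1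
  let T := Crv77.twist (CohB1.tensorPow (W4c5asymptcohfn.ztwist X L M c) 1)
  refine LinearMap.finrank_le_finrank_of_injective
    (f := Crv77.hmap k (T.map j) i) fun x y hxy => ?_
  have h2 := congrArg (Crv77.hmap k (T.map ρ) i) hxy
  have hid : T.map j ≫ T.map ρ = 𝟙 _ := by rw [← T.map_comp, hjr, T.map_id]
  have h3 : ∀ z : Coh.HH X (T.obj G) i, Crv77.hmap k (T.map ρ) i (Crv77.hmap k (T.map j) i z) = z :=
    fun z => (Crv77.hmap_comp k _ _ i z).trans (by rw [hid]; exact Crv77.hmap_id k _ i z)
  exact (h3 x).symm.trans (h2.trans (h3 y))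

/-- Twisting a module of rank one at a point by an invertible module adds little. -/
theorem exists_twist_le [IsNoetherian X] (d : ℕ) {G : X.Modules} (hG : Coh.IsCoh G) (y : X)
    (hGsupp : CohB1.support G ⊆ closure {y})
    (small : ∀ N : X.Modules, Coh.IsCoh N → CohB1.support N ⊆ closure {y} → y ∉ CohB1.support N →
      BdZ k L M d N) {P : X.Modules} (hP : PicF.IsInvertible P) (i : ℕ) :
    ∃ C : ℕ, ∀ c, hz k i L M (CohB1.tensorMod G P) c ≤ hz k i L M G c + C * w d (sz c) := by
  haveI := hG.1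
  let F' := CohB1.tensorMod G P
  have hF' : Coh.IsCoh F' := Amp73.isCoh_tensorMod hG (Amp73.isCoh_of_isInvertible hP)
  haveI := hF'.1
  obtain ⟨e⟩ := Snapper75.nonempty_stalk_twist G hP y
  obtain ⟨J, ψ, hyJ, hψm, hψb⟩ := QC70.exists_mono_iso_at hG hF' y e.symm
  have hS : (ShortComplex.mk ψ (cokernel.π ψ) (cokernel.condition ψ)).ShortExact := ShortComplex.ShortExact.mk'
    (ShortComplex.exact_of_g_is_cokernel _ (cokernelIsCokernel _)) hψm
    (inferInstanceAs (Epi (cokernel.π ψ)))
  have hJG := QC70.isCoh_idealMul J hG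
  have hC : Coh.IsCoh (cokernel ψ) := QC70.isCoh_cokernel ψ hJG.1 hF'
  obtain ⟨C, hC'⟩ := small _ hC
    ((QC70.mem_support_of_epi (cokernel.π ψ)).trans ((Snapper75.support_twist G hP).le.trans hGsupp))
    (QC70.notMem_support_iff.2 (QC70.subsingleton_stalk_cokernel ψ y hψb.2)) i
  have hQ : Coh.IsCoh (QC70.quotSC J G).X₃ := QC70.isCoh_quot J hG
  have h1 : ∀ c, hz k i L M (CohB1.tensorMod G P) c ≤
      hz k i L M ((Dual3.idealMul J).obj G) c + C * w d (sz c) := fun c =>
    (hi_le_mid k (isInvertible_ztwist hL hM c)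
      (S := ShortComplex.mk ψ (cokernel.π ψ) (cokernel.condition ψ)) hS hJG hF' hC i 1).trans
      (add_le_add le_rfl (hC' c))
  rcases i with _ | j
  · exact ⟨C, fun c => (h1 c).trans (add_le_add (hi_le_left_zero k (isInvertible_ztwist hL hM c)
      (QC70.quotSC_shortExact J G) hG 1) le_rfl)⟩
  · obtain ⟨D, hD⟩ := small _ hQ ((haveI := (QC70.quotSC_shortExact J G).epi_g
      QC70.mem_support_of_epi (QC70.quotSC J G).g).trans hGsupp)
      (fun hy => hyJ (QC70.support_quot_subset_right J G hy)) j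
    refine ⟨D + C, fun c => ?_⟩
    have h2 : hz k (j + 1) L M ((Dual3.idealMul J).obj G) c ≤
        hz k j L M (QC70.quotSC J G).X₃ c + hz k (j + 1) L M G c :=
      hi_le_left_succ k (isInvertible_ztwist hL hM c) (QC70.quotSC_shortExact J G) hJG hG hQ j 1
    have := h1 c
    have := hD c
    rw [add_mul]
    omega

theorem bdZ_generic [IsNoetherian X] (d : ℕ) {G : X.Modules} (hG : Coh.IsCoh G) (y : X)
    (hGsupp : CohB1.support G ⊆ closure {y})
    (small : ∀ N : X.Modules, Coh.IsCoh N → CohB1.support N ⊆ closure {y} → y ∉ CohB1.support N →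
      BdZ k L M d N) : BdZ k L M (d + 1) G := fun i => by
  have hMi := fun j => isInvertible_of_isInverseOf (hL j) (hM j)
  choose CL hCL using fun j => exists_twist_le k hL hM d hG y hGsupp small (hL j) i
  choose CM hCM using fun j => exists_twist_le k hL hM d hG y hGsupp small (hMi j) i
  let C := ∑ j, CL j + ∑ j, CM j
  have hbd : ∀ (n : ℕ) (c : Fin r → ℤ), sz c = n →
      hz k i L M G c ≤ hz k i L M G 0 + C * (n * w d n) := by
    intro n
    induction n with
    | zero =>
      intro c hc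
      have : c = 0 := funext fun j => Int.natAbs_eq_zero.1
        ((Finset.sum_eq_zero_iff.1 hc) j (Finset.mem_univ j))
      simp [this]
    | succ n ih =>
      intro c hc
      obtain ⟨j, hj⟩ : ∃ j, c j ≠ 0 := by
        by_contra h
        push Not at h
        simp [sz, h] at hc
      have hw : C * (n * w d n) ≤ C * (n * w d (n + 1)) :=
        Nat.mul_le_mul_left _ (Nat.mul_le_mul_left _ (w_mono d n))
      have hw' := w_mono d n
      have key : C * ((n + 1) * w d (n + 1)) = C * (n * w d (n + 1)) + C * w d (n + 1) := by ring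
      rcases lt_or_gt_of_ne hj with h | h
      · obtain ⟨c', rfl⟩ : ∃ c', c = c' + Pi.single j (-1 : ℤ) := ⟨c + Pi.single j (1 : ℤ), by
          rw [add_assoc, ← Pi.single_add]; simp⟩
        simp only [Pi.add_apply, Pi.single_eq_same] at h
        have hs : sz c' = n := by
          have := sz_single_add c' j (-1) (by omega)
          omega
        have h1 := hCM j c'
        rw [hz_shift k i G (M j) (c := c' + Pi.single j (-1 : ℤ)) (by
          rw [cl_ztwist_single hM, zpow_neg_one]; rfl), hs] at h1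
        have h2 : CM j * w d n ≤ C * w d (n + 1) := Nat.mul_le_mul
          ((Finset.single_le_sum (fun a _ => Nat.zero_le (CM a)) (Finset.mem_univ j)).trans
            (Nat.le_add_left _ _)) hw'
        have := ih c' hs
        omega
      · obtain ⟨c', rfl⟩ : ∃ c', c = c' + Pi.single j (1 : ℤ) := ⟨c - Pi.single j (1 : ℤ), by simp⟩
        simp only [Pi.add_apply, Pi.single_eq_same] at h
        have hs : sz c' = n := by
          have := sz_single_add c' j 1 (by omega)
          omega
        have h1 := hCL j c'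
        rw [hz_shift k i G (L j) (c := c' + Pi.single j (1 : ℤ)) (by
          rw [cl_ztwist_single hM, zpow_one]; rfl), hs] at h1
        have h2 : CL j * w d n ≤ C * w d (n + 1) := Nat.mul_le_mul
          ((Finset.single_le_sum (fun a _ => Nat.zero_le (CL a)) (Finset.mem_univ j)).trans
            (Nat.le_add_right _ _)) hw'
        have := ih c' hs
        omega
  exact ⟨hz k i L M G 0 + C, fun c => (hbd _ c rfl).trans
    ((add_le_add (Nat.le_mul_of_pos_right _ (pow_pos (Nat.succ_pos _) _))
      (Nat.mul_le_mul_left _ (mul_w_le d _))).trans (add_mul (hz k i L M G 0) C _).ge)⟩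

/-- Cohomology of several twists grows at most like the dimension of the support. -/
theorem bdZ_of_dim : ∀ (d : ℕ) (F : X.Modules), Coh.IsCoh F →
    topologicalKrullDim (CohB1.support F) < (d : WithBot ℕ∞) → BdZ k L M d F
  | 0, F, hF, hd => by
    have hempty : CohB1.support F = ∅ := by
      by_contra hne
      obtain ⟨x, hx⟩ := Set.nonempty_iff_ne_empty.2 hne
      haveI := hF.2
      have hcl := QC70.isClosed_support F
      have : Nonempty (IrreducibleCloseds (CohB1.support F)) :=
        ⟨⟨closure {⟨x, hx⟩}, isIrreducible_singleton.closure, isClosed_closure⟩⟩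
      exact absurd hd (not_lt.2 (Order.krullDim_nonneg_iff.2 this))
    exact bdZ_isZero k hL hM 0 (QC70.isZero_of_support_eq_empty hempty)
  | d + 1, F, hF, hd => by
    have := Crv77.isNoetherian_of_proper k X
    have IHd := bdZ_of_dim d
    haveI := hF.1
    haveI := hF.2
    refine QC70.devissage (fun N => Coh.IsCoh N → BdZ k L M (d + 1) N)
      (fun N N' ⟨e⟩ h hN => ?_)
      (fun N hN _ => bdZ_isZero k hL hM _ hN)
      (fun S hS h₁ h₂ h₃ p₁ p₃ _ => bdZ_mid k hL hM hS h₁ h₂ h₃ _ (p₁ h₁) (p₃ h₃))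
      (fun G m hG hm hP _ => ?_) (CohB1.support F) (QC70.isClosed_support F) (fun y hy IH => ?_)
      F hF subset_rfl hF
    · intro i
      obtain ⟨C, hC⟩ := h (QC70.isCoh_of_iso e.symm hN) i
      exact ⟨C, fun c => (hi_congr k i _ e 1).symm.le.trans (hC c)⟩
    · have hc : Coh.IsCoh (∐ fun _ : Fin m => G) :=
        QC70.isCoh_of_iso (biproduct.isoCoproduct fun _ : Fin m => G) (QC70.isCoh_biproduct _ fun _ => hG)
      exact bdZ_root k hL hM (d + 1) m hm hc (hP hc)
    · let Y : Closeds X := ⟨closure {y}, isClosed_closure⟩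
      let I := Scheme.IdealSheafData.vanishingIdeal Y
      have hI : (I.support : Set X) = closure {y} := Scheme.IdealSheafData.coe_support_vanishingIdeal Y
      have hO : Coh.IsCoh (Coh.structureModule X) := QC70.isCoh_unit
      haveI := hO.1
      let G := (QC70.quotSC I (Coh.structureModule X)).X₃
      have hG : Coh.IsCoh G := QC70.isCoh_quot I hO
      haveI := hG.1
      have hGy : y ∈ CohB1.support G := CohSerre72.mem_support_quot I hO (hI.ge (subset_closure rfl))
        (not_subsingleton_iff_nontrivial.2 (QC70.nontrivial_stalk_unit y))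
      have hGsupp : CohB1.support G ⊆ closure {y} := (QC70.support_quot_subset_right I _).trans hI.le
      have hdy : topologicalKrullDim (closure ({y} : Set X)) < ((d + 1 : ℕ) : WithBot ℕ∞) :=
        lt_of_le_of_lt (LC17.dim_mono ((QC70.isClosed_support F).closure_subset_iff.2
          (Set.singleton_subset_iff.2 hy))) hd
      have small : ∀ N : X.Modules, Coh.IsCoh N → CohB1.support N ⊆ closure {y} → y ∉ CohB1.support N →
          BdZ k L M d N := fun N hN hs hyN =>
        haveI := hN.2
        IHd N hN (Snapper75.dim_lt_of_notMem (QC70.isClosed_support N) hs hyN hdy)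
      have hGP : BdZ k L M (d + 1) G := bdZ_generic k hL hM d hG y hGsupp small
      refine ⟨G, hG, not_subsingleton_iff_nontrivial.1 hGy,
        QC70.stalk_killed (Y := Y) rfl fun W a ha t => QC70.smul_quot_eq_zero I _ W ha t, fun J hJ => ?_⟩
      refine ⟨_, 𝟙 _, inferInstance, QC70.isCoh_idealMul J hG, ?_, fun _ => ?_⟩
      · rw [Category.id_comp]
        exact QC70.bijective_stalk_idealMulι J _ hJ
      · have hQ : Coh.IsCoh (QC70.quotSC J G).X₃ := QC70.isCoh_quot J hG
        refine bdZ_left k hL hM (QC70.quotSC_shortExact J G) (QC70.isCoh_idealMul J hG) hG hQ _ hGP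
          fun i => ?_
        obtain ⟨C, hC⟩ := small _ hQ ((haveI := (QC70.quotSC_shortExact J G).epi_g
          QC70.mem_support_of_epi (QC70.quotSC J G).g).trans hGsupp)
          (fun hy' => hJ (QC70.support_quot_subset_right J G hy')) i
        exact ⟨C, fun c => (hC c).trans (Nat.mul_le_mul_left _ (w_le_succ d _))⟩

variable [IsIntegral X] {n : ℕ} (hn : topologicalKrullDim X ≤ (n : WithBot ℕ∞))
include hn

theorem exists_bound_hz (i : ℕ) :
    ∃ D : ℕ, ∀ c : Fin r → ℤ, hz k i L M (Coh.structureModule X) c ≤ D * (sz c + 1) ^ n := by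
  have := Crv77.isNoetherian_of_proper k X
  exact bdZ_of_dim k hL hM (n + 1) _ QC70.isCoh_unit (lt_of_le_of_lt
    ((Topology.IsInducing.subtypeVal.topologicalKrullDim_le).trans hn) (by exact_mod_cast Nat.lt_succ_self n)) i

/-- Changing one exponent by one changes cohomology little. -/
theorem exists_unit_step (i : ℕ) (j : Fin r) :
    ∃ C : ℕ, ∀ c : Fin r → ℤ,
      hz k i L M (Coh.structureModule X) (c + Pi.single j 1) ≤ hz k i L M (Coh.structureModule X) c + C * w n (sz c) ∧
      hz k i L M (Coh.structureModule X) c ≤ hz k i L M (Coh.structureModule X) (c + Pi.single j 1) + C * w n (sz c) := by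
  have := Crv77.isNoetherian_of_proper k X
  have hO : Coh.IsCoh (Coh.structureModule X) := QC70.isCoh_unit
  haveI := hO.1
  let F' := CohB1.tensorMod (Coh.structureModule X) (L j)
  have hF' : Coh.IsCoh F' := Amp73.isCoh_tensorMod hO (Amp73.isCoh_of_isInvertible (hL j))
  obtain ⟨σ⟩ := Snapper75.nonempty_stalk_twist (Coh.structureModule X) (hL j) (genericPoint X)
  obtain ⟨J, ψ, hJ, hψm, hψb⟩ := QC70.exists_mono_iso_at hO hF' (genericPoint X) σ.symm
  have hJO := QC70.isCoh_idealMul J hO
  have hC : Coh.IsCoh (cokernel ψ) := QC70.isCoh_cokernel ψ hJO.1 hF'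
  have hS : (ShortComplex.mk ψ (cokernel.π ψ) (cokernel.condition ψ)).ShortExact :=
    ShortComplex.ShortExact.mk' (ShortComplex.exact_of_g_is_cokernel _ (cokernelIsCokernel _)) hψm
      (inferInstanceAs (Epi (cokernel.π ψ)))
  have hQ : Coh.IsCoh (QC70.quotSC J (Coh.structureModule X)).X₃ := QC70.isCoh_quot J hO
  have key : ∀ S : ShortComplex X.Modules, S.ShortExact → Coh.IsCoh S.X₁ → Coh.IsCoh S.X₂ → Coh.IsCoh S.X₃ →
      genericPoint X ∉ CohB1.support S.X₃ → ∃ C, ∀ c,
        hz k i L M S.X₁ c ≤ hz k i L M S.X₂ c + C * w n (sz c) ∧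
          hz k i L M S.X₂ c ≤ hz k i L M S.X₁ c + C * w n (sz c) := by
    intro S hS h₁ h₂ h₃ hg
    have hb := bdZ_of_dim k hL hM n _ h₃ (dim_support_lt h₃ hn hg)
    obtain ⟨C, hC⟩ := hb i
    rcases i with _ | i
    · refine ⟨C, fun c => ⟨?_, ?_⟩⟩
      · exact (hi_le_left_zero k (isInvertible_ztwist hL hM c) hS h₂ 1).trans (Nat.le_add_right _ _)
      · exact (hi_le_mid k (isInvertible_ztwist hL hM c) hS h₁ h₂ h₃ 0 1).trans (add_le_add le_rfl (hC c))
    · obtain ⟨D, hD⟩ := hb i
      refine ⟨D + C, fun c => ⟨?_, ?_⟩⟩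
      · have h1 : hz k (i + 1) L M S.X₁ c ≤ hz k i L M S.X₃ c + hz k (i + 1) L M S.X₂ c :=
          hi_le_left_succ k (isInvertible_ztwist hL hM c) hS h₁ h₂ h₃ i 1
        have := hD c
        rw [add_mul]
        omega
      · have h1 : hz k (i + 1) L M S.X₂ c ≤ hz k (i + 1) L M S.X₁ c + hz k (i + 1) L M S.X₃ c :=
          hi_le_mid k (isInvertible_ztwist hL hM c) hS h₁ h₂ h₃ (i + 1) 1
        have := hC c
        rw [add_mul]
        omega
  obtain ⟨A, hA⟩ := key (ShortComplex.mk ψ (cokernel.π ψ) (cokernel.condition ψ)) hS hJO hF' hC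
    (QC70.notMem_support_iff.2 (QC70.subsingleton_stalk_cokernel ψ _ hψb.2))
  obtain ⟨B, hB⟩ := key _ (QC70.quotSC_shortExact J (Coh.structureModule X)) hJO hO hQ
    fun hy => hJ (QC70.support_quot_subset_right J _ hy)
  refine ⟨A + B, fun c => ?_⟩
  have hcl : PicF.cl (W4c5asymptcohfn.ztwist X L M (c + Pi.single j (1 : ℤ))) =
      PicF.cl (L j) * PicF.cl (W4c5asymptcohfn.ztwist X L M c) := by
    rw [cl_ztwist_single hM, zpow_one]; rfl
  rw [← hz_shift k i (Coh.structureModule X) (L j) hcl]
  show hz k i L M F' c ≤ _ ∧ _ ≤ hz k i L M F' c + _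
  have h1 : hz k i L M ((Dual3.idealMul J).obj (Coh.structureModule X)) c ≤
      hz k i L M F' c + A * w n (sz c) := (hA c).1
  have h2 : hz k i L M F' c ≤
      hz k i L M ((Dual3.idealMul J).obj (Coh.structureModule X)) c + A * w n (sz c) := (hA c).2
  have h3 : hz k i L M ((Dual3.idealMul J).obj (Coh.structureModule X)) c ≤
      hz k i L M (Coh.structureModule X) c + B * w n (sz c) := (hB c).1
  have h4 : hz k i L M (Coh.structureModule X) c ≤
      hz k i L M ((Dual3.idealMul J).obj (Coh.structureModule X)) c + B * w n (sz c) := (hB c).2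
  rw [add_mul]
  constructor <;> omega

/-- Cohomology of twists is Lipschitz up to the order below the dimension. -/
theorem exists_lipschitz_hz (i : ℕ) :
    ∃ C : ℕ, ∀ c c' : Fin r → ℤ, hz k i L M (Coh.structureModule X) c ≤
      hz k i L M (Coh.structureModule X) c' + C * sz (c - c') * w n (sz c + sz c') := by
  choose C hC using fun j => exists_unit_step k hL hM hn i j
  let K := ∑ j, C j
  refine ⟨K, fun c₀ c₀' => ?_⟩
  have main : ∀ (D : ℕ) (c c' : Fin r → ℤ), sz (c - c') = D → ∀ β : Fin r → ℕ,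
      (∀ a, (c a).natAbs ≤ β a) → (∀ a, (c' a).natAbs ≤ β a) →
      hz k i L M (Coh.structureModule X) c ≤
        hz k i L M (Coh.structureModule X) c' + K * D * w n (∑ a, β a) := by
    intro D
    induction D with
    | zero =>
      intro c c' h β _ _
      have : c = c' := funext fun a => sub_eq_zero.1 (Int.natAbs_eq_zero.1
        ((Finset.sum_eq_zero_iff.1 h) a (Finset.mem_univ a)))
      simp [this]
    | succ D ih =>
      intro c c' h β hβ hβ'
      obtain ⟨j, hj⟩ : ∃ j, c j ≠ c' j := by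
        by_contra hh
        push Not at hh
        simp [sz, hh] at h
      have hbound : ∀ e : Fin r → ℤ, (∀ a, (e a).natAbs ≤ β a) → C j * w n (sz e) ≤ K * w n (∑ a, β a) :=
        fun e he => Nat.mul_le_mul (Finset.single_le_sum (fun a _ => Nat.zero_le (C a)) (Finset.mem_univ j))
          (w_le_of_le n (Finset.sum_le_sum fun a _ => he a))
      have key : K * (D + 1) * w n (∑ a, β a) = K * D * w n (∑ a, β a) + K * w n (∑ a, β a) := by ring
      rw [key]
      rcases lt_or_gt_of_ne hj with hlt | hgt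
      · let e := c + Pi.single j (1 : ℤ)
        have he : ∀ a, (e a).natAbs ≤ β a := fun a => by
          rcases eq_or_ne a j with rfl | ha
          · have := hβ a; have := hβ' a
            simp only [e, Pi.add_apply, Pi.single_eq_same]; omega
          · simpa [e, Pi.single_eq_of_ne ha] using hβ a
        have hs : sz (e - c') = D := by
          have h2 := sz_single_add (e - c') j (-1) (by
            simp only [e, Pi.sub_apply, Pi.add_apply, Pi.single_eq_same]; omega)
          rw [show e - c' + Pi.single j (-1 : ℤ) = c - c' by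
            funext a; rcases eq_or_ne a j with rfl | ha <;> simp [e, *] <;> ring] at h2
          omega
        have h1 : hz k i L M (Coh.structureModule X) c ≤
            hz k i L M (Coh.structureModule X) e + C j * w n (sz c) := (hC j c).2
        have := ih e c' hs β he hβ'
        have := hbound c hβ
        omega
      · let e := c - Pi.single j (1 : ℤ)
        have he : ∀ a, (e a).natAbs ≤ β a := fun a => by
          rcases eq_or_ne a j with rfl | ha
          · have := hβ a; have := hβ' a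
            simp only [e, Pi.sub_apply, Pi.single_eq_same]; omega
          · simpa [e, Pi.single_eq_of_ne ha] using hβ a
        have hs : sz (e - c') = D := by
          have h2 := sz_single_add (e - c') j 1 (by
            simp only [e, Pi.sub_apply, Pi.single_eq_same]; omega)
          rw [show e - c' + Pi.single j (1 : ℤ) = c - c' by
            funext a; rcases eq_or_ne a j with rfl | ha <;> simp [e, *] <;> ring] at h2
          omega
        have h1 := (hC j e).1
        rw [show e + Pi.single j (1 : ℤ) = c from sub_add_cancel c _] at h1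
        have := ih e c' hs β he hβ'
        have := hbound e he
        omega
  refine (main _ c₀ c₀' rfl (fun a => (c₀ a).natAbs + (c₀' a).natAbs) (fun a => Nat.le_add_right _ _)
    fun a => Nat.le_add_left _ _).trans (le_of_eq ?_)
  rw [Finset.sum_add_distrib]
  rfl

end Groth.Agent.Var76.Growth

end
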