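import Mathlib.RingTheory.Adjoin.FG
import Mathlib.RingTheory.Polynomial.Basic
import Mathlib.Algebra.DirectSum.Module
import Mathlib.RingTheory.Finiteness.Basic

/-! Stable subsystems of finitely generated graded systems of modules are finitely generated. -/

universe u v

open scoped DirectSum IsMulCommutative

namespace Groth.Agent.Var76.Reg

variable {A : Type u} [CommRing A] [IsNoetherianRing A] {N : ℕ → Type v} [∀ p, AddCommGroup (N p)]
  [∀ p, Module A (N p)] {M : ℕ}

/-- The endomorphism of the sum induced by a map of degree one. -/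
noncomputable def shiftEnd (t : ∀ p, N p →ₗ[A] N (p + 1)) : Module.End A (⨁ p, N p) :=
  DirectSum.toModule A ℕ _ fun p => (DirectSum.lof A ℕ N (p + 1)).comp (t p)

omit [IsNoetherianRing A] in
theorem shiftEnd_lof (t : ∀ p, N p →ₗ[A] N (p + 1)) (p : ℕ) (x : N p) :
    shiftEnd t (DirectSum.lof A ℕ N p x) = DirectSum.lof A ℕ N (p + 1) (t p x) := by
  simp [shiftEnd]

theorem exists_fg_of_stable [∀ p, Module.Finite A (N p)] (T : Fin M → ∀ p, N p →ₗ[A] N (p + 1))
    (hcomm : ∀ a b p (x : N p), T b (p + 1) (T a p x) = T a (p + 1) (T b p x))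
    (hfg : ∃ p₀, ∀ p ≥ p₀, ∀ z : N (p + 1), ∃ y : Fin M → N p, z = ∑ t, T t p (y t))
    (K : ∀ p, Submodule A (N p)) (hK : ∀ t p, ∀ x ∈ K p, T t p x ∈ K (p + 1)) :
    ∃ p₁, ∀ p ≥ p₁, ∀ z ∈ K (p + 1), ∃ y : Fin M → K p, z = ∑ t, T t p (y t).1 := by
  classical
  let S : Set (Module.End A (⨁ p, N p)) := Set.range fun t => shiftEnd (T t)
  have hS : ∀ x ∈ S, ∀ y ∈ S, x * y = y * x := by
    rintro _ ⟨a, rfl⟩ _ ⟨b, rfl⟩
    refine DirectSum.linearMap_ext A fun p => LinearMap.ext fun x => ?_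
    simp only [LinearMap.comp_apply, Module.End.mul_apply, shiftEnd_lof, hcomm]
  have := Algebra.isMulCommutative_adjoin A hS
  let φ : MvPolynomial (Fin M) A →ₐ[A] Module.End A (⨁ p, N p) :=
    (Algebra.adjoin A S).val.comp (MvPolynomial.aeval fun t => ⟨shiftEnd (T t), Algebra.subset_adjoin ⟨t, rfl⟩⟩)
  have hφ : ∀ t, φ (MvPolynomial.X t) = shiftEnd (T t) := fun t => by simp [φ]
  let _ : Module (MvPolynomial (Fin M) A) (⨁ p, N p) := Module.compHom _ φ.toRingHom
  have hsmul : ∀ (a : MvPolynomial (Fin M) A) (x : ⨁ p, N p), a • x = φ a x := fun _ _ => rfl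
  have htow : IsScalarTower A (MvPolynomial (Fin M) A) (⨁ p, N p) := ⟨fun a f x => by
    rw [hsmul, hsmul, map_smul, LinearMap.smul_apply]⟩
  obtain ⟨p₀, hp₀⟩ := hfg
  choose g hg using fun p => Module.Finite.exists_fin (R := A) (M := N p)
  choose gen hgen using hg
  have hfin : Module.Finite (MvPolynomial (Fin M) A) (⨁ p, N p) := by
    let G : Submodule (MvPolynomial (Fin M) A) (⨁ p, N p) := Submodule.span _
      (Set.range fun q : Σ p : Fin (p₀ + 1), Fin (g p) => DirectSum.lof A ℕ N q.1 (gen q.1 q.2))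
    have hG : ∀ p (x : N p), DirectSum.lof A ℕ N p x ∈ G := by
      intro p
      induction p using Nat.strong_induction_on with
      | _ p ih =>
        intro x
        by_cases hp : p ≤ p₀
        · obtain ⟨c, rfl⟩ := (Submodule.mem_span_range_iff_exists_fun A).1
            ((hgen p).ge (Submodule.mem_top (x := x)))
          rw [map_sum]
          refine G.sum_mem fun i _ => ?_
          rw [map_smul]
          exact G.smul_of_tower_mem (c i) (Submodule.subset_span ⟨⟨⟨p, by omega⟩, i⟩, rfl⟩)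
        · obtain ⟨q, rfl⟩ : ∃ q, p = q + 1 := ⟨p - 1, by omega⟩
          obtain ⟨y, rfl⟩ := hp₀ q (by omega) x
          rw [map_sum]
          refine G.sum_mem fun t _ => ?_
          rw [← shiftEnd_lof, ← hφ, ← hsmul]
          exact G.smul_mem _ (ih q (by omega) _)
    refine ⟨⟨Finset.univ.image fun q : Σ p : Fin (p₀ + 1), Fin (g p) => DirectSum.lof A ℕ N q.1 (gen q.1 q.2),
      ?_⟩⟩
    rw [Finset.coe_image, Finset.coe_univ, Set.image_univ, eq_top_iff]
    intro x hx
    clear hx
    induction x using DirectSum.induction_on with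
    | zero => exact G.zero_mem
    | of p x => exact hG p x
    | add x y hx hy => exact G.add_mem hx hy
  have hnoe : IsNoetherian (MvPolynomial (Fin M) A) (⨁ p, N p) := isNoetherian_of_isNoetherianRing_of_finite _ _
  -- the chain of submodules generated up to a given degree
  let W : ℕ → Submodule (MvPolynomial (Fin M) A) (⨁ p, N p) := fun b =>
    Submodule.span _ {z | ∃ p ≤ b, ∃ x ∈ K p, DirectSum.lof A ℕ N p x = z}
  have hWmono : Monotone W := fun a b hab => Submodule.span_mono
    fun z ⟨p, hp, h⟩ => ⟨p, hp.trans hab, h⟩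
  obtain ⟨b, hb⟩ := monotone_stabilizes_iff_noetherian.mpr hnoe ⟨W, hWmono⟩
  refine ⟨b, fun p hp z hz => ?_⟩
  have hzW : DirectSum.lof A ℕ N (p + 1) z ∈ W b := by
    have h : W b = W (p + 1) := hb (p + 1) (by omega)
    rw [h]
    exact Submodule.subset_span ⟨p + 1, le_rfl, z, hz, rfl⟩
  -- the components in degree above `b` of elements of `W b` are images from the previous degree
  let P : Set (⨁ p, N p) := {w | ∀ q, (w q ∈ K q) ∧ (b ≤ q → ∃ y : Fin M → K q, w (q + 1) = ∑ t, T t q (y t).1)}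
  have hP0 : (0 : ⨁ p, N p) ∈ P := fun q =>
    ⟨by simp only [DirectSum.zero_apply]; exact (K q).zero_mem, fun _ => ⟨0, by simp⟩⟩
  have hPadd : ∀ {v w}, v ∈ P → w ∈ P → v + w ∈ P := fun {v w} hv hw q => by
    refine ⟨by simp only [DirectSum.add_apply]; exact (K q).add_mem (hv q).1 (hw q).1, fun hq => ?_⟩
    obtain ⟨y, hy⟩ := (hv q).2 hq
    obtain ⟨y', hy'⟩ := (hw q).2 hq
    exact ⟨y + y', by simp [hy, hy', Finset.sum_add_distrib]⟩
  have hPlof : ∀ p x, x ∈ K p → (p ≤ b ∨ ∃ q, b ≤ q ∧ p = q + 1 ∧ ∃ y : Fin M → K q,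
      DirectSum.lof A ℕ N p x = DirectSum.lof A ℕ N (q + 1) (∑ t, T t q (y t).1)) →
      DirectSum.lof A ℕ N p x ∈ P := by
    intro p x hx h q
    refine ⟨?_, fun hq => ?_⟩
    · rcases eq_or_ne p q with rfl | hne
      · rw [DirectSum.lof_apply]; exact hx
      · rw [DirectSum.lof_eq_of, DirectSum.of_eq_of_ne _ _ _ hne.symm]; exact (K q).zero_mem
    · rcases eq_or_ne p (q + 1) with rfl | hne
      · rcases h with h | ⟨q', -, hq', y, hy⟩
        · omega
        · obtain rfl : q' = q := by omega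
          refine ⟨y, ?_⟩
          rw [hy, DirectSum.lof_apply]
      · exact ⟨0, by rw [DirectSum.lof_eq_of, DirectSum.of_eq_of_ne _ _ _ hne.symm]; simp⟩
  have hsupp : ∀ w ∈ P, w = ∑ q ∈ DFinsupp.support w, DirectSum.lof A ℕ N q (w q) := fun w _ =>
    (DirectSum.sum_support_of w).symm
  have hPX : ∀ t, ∀ w ∈ P, φ (MvPolynomial.X t) w ∈ P := fun t w hw => by
    rw [hsupp w hw, map_sum]
    refine Finset.sum_induction _ (· ∈ P) (fun _ _ => hPadd) hP0 fun q _ => ?_
    rw [hφ, shiftEnd_lof]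
    refine hPlof _ _ (hK t q _ (hw q).1) ?_
    rcases Nat.lt_or_ge q b with hq | hq
    · exact Or.inl (by omega)
    · refine Or.inr ⟨q, hq, rfl, Pi.single t ⟨w q, (hw q).1⟩, ?_⟩
      rw [Finset.sum_eq_single t (fun s _ hs => by simp [Pi.single_eq_of_ne hs]) (by simp)]
      simp
  have hPC : ∀ (a : A), ∀ w ∈ P, a • w ∈ P := fun a w hw q => by
    refine ⟨by rw [DirectSum.smul_apply]; exact (K q).smul_mem a (hw q).1, fun hq => ?_⟩
    obtain ⟨y, hy⟩ := (hw q).2 hq
    exact ⟨a • y, by simp [DirectSum.smul_apply, hy, Finset.smul_sum]⟩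
  have hPstab : ∀ f : MvPolynomial (Fin M) A, ∀ w ∈ P, f • w ∈ P := by
    intro f
    induction f using MvPolynomial.induction_on with
    | C a =>
      intro w hw
      rw [← MvPolynomial.algebraMap_eq, algebraMap_smul]
      exact hPC a w hw
    | add f g hf hg => exact fun w hw => by rw [add_smul]; exact hPadd (hf w hw) (hg w hw)
    | mul_X f t hf => exact fun w hw => by rw [mul_smul, hsmul (MvPolynomial.X t)]; exact hf _ (hPX t w hw)
  have hWP : (W b : Set (⨁ p, N p)) ⊆ P := fun w hw => by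
    induction hw using Submodule.span_induction with
    | mem z hz =>
      obtain ⟨p, hp, x, hx, rfl⟩ := hz
      exact hPlof p x hx (Or.inl hp)
    | zero => exact hP0
    | add v w _ _ hv hw => exact hPadd hv hw
    | smul f v _ hv => exact hPstab f v hv
  obtain ⟨y, hy⟩ := (hWP hzW p).2 hp
  exact ⟨y, by rw [DirectSum.lof_apply] at hy; exact hy⟩

end Groth.Agent.Var76.Reg
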