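import Groth.Agent.Var76.RegGrNoeth
import Groth.Agent.Var76.RegMaps
import Groth.Agent.QC70.CohOps
import Groth.Agent.QC70.Closure
import Groth.Agent.QC70.FiniteType

/-! Uniform vanishing for finitely generated graded systems of coherent modules on projective space. -/

universe u

open CategoryTheory Limits AlgebraicGeometry TopologicalSpace Opposite

noncomputable section

set_option maxSynthPendingDepth 6

namespace Groth.Agent.Var76.Reg

open QC70 Crv77

/-- A sequence of modules with commuting maps of degree one. -/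
structure Sys (X : Scheme.{u}) (M : ℕ) where
  /-- the modules -/
  G : ℕ → X.Modules
  /-- the maps -/
  T : Fin M → ∀ p, G p ⟶ G (p + 1)
  comm : ∀ a b p, T a p ≫ T b (p + 1) = T b p ≫ T a (p + 1)

/-- The sections over the members of a cover are generated in bounded degree. -/
def Sys.FG {X : Scheme.{u}} {M : ℕ} (S : Sys X M) {κ : Type*} (U : κ → X.Opens) : Prop :=
  ∃ p₀, ∀ p ≥ p₀, ∀ (j : κ) (z : Γ(S.G (p + 1), U j)),
    ∃ y : Fin M → Γ(S.G p, U j), z = ∑ t, (S.T t p).app (U j) (y t)

theorem isZero_of_sections {X : Scheme.{u}} {G : X.Modules} (hG : Coh.IsQCoh G) {κ : Type*} (U : κ → X.Opens)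
    (hU : ∀ j, IsAffineOpen (U j)) (hcov : ∀ x, ∃ j, x ∈ U j) (h : ∀ j (z : Γ(G, U j)), z = 0) : IsZero G := by
  rw [IsZero.iff_id_eq_zero]
  ext W z
  show z = 0
  refine QC70.section_ext G z 0 fun q hq => ?_
  obtain ⟨j, hj⟩ := hcov q
  obtain ⟨r, hrW, hqr⟩ := (hU j).exists_basicOpen_le ⟨q, hq⟩ hj
  obtain ⟨m, t, ht⟩ := (Amp73.isLocAt hG (hU j)).exists_of r (res G hrW z)
  refine ⟨X.basicOpen r, hrW, hqr, ?_⟩
  rw [h j t] at ht
  have hu : IsUnit (resO X (X.basicOpen_le r) r ^ m) := (RingedSpace.isUnit_res_basicOpen _ r).pow m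
  obtain ⟨c, hc⟩ := hu.exists_left_inv
  simp only [QC70.res, map_zero] at ht ⊢
  calc res G hrW z = c • (resO X (X.basicOpen_le r) r ^ m • res G hrW z) := by rw [smul_smul, hc, one_smul]
    _ = 0 := by rw [← ht, smul_zero]

namespace Sys

variable {X : Scheme.{u}} {M : ℕ} (S : Sys X (M + 1))

/-- The last map. -/
abbrev last (p : ℕ) : S.G p ⟶ S.G (p + 1) := S.T (Fin.last M) p

/-- The kernels of the last map. -/
def kerSys : Sys X M where
  G p := kernel (S.last p)
  T t p := kernel.map (S.last p) (S.last (p + 1)) (S.T t.castSucc p) (S.T t.castSucc (p + 1)) (S.comm _ _ p)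
  comm a b p := by
    rw [← cancel_mono (kernel.ι (S.last (p + 1 + 1)))]
    simp only [kernel.map, Category.assoc, kernel.lift_ι, kernel.lift_ι_assoc, S.comm]

/-- The cokernels of the last map. -/
def cokerSys : Sys X M where
  G p := cokernel (S.last p)
  T t p := cokernel.map (S.last p) (S.last (p + 1)) (S.T t.castSucc p) (S.T t.castSucc (p + 1)) (S.comm _ _ p)
  comm a b p := by
    rw [← cancel_epi (cokernel.π (S.last p))]
    simp only [cokernel.map, cokernel.π_desc_assoc, Category.assoc, cokernel.π_desc]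
    rw [← Category.assoc, S.comm, Category.assoc]

theorem fg_cokerSys (hcoh : ∀ p, Coh.IsCoh (S.G p)) {κ : Type*} {U : κ → X.Opens} (hU : ∀ j, IsAffineOpen (U j))
    (h : S.FG U) : S.cokerSys.FG U := by
  obtain ⟨p₀, hp₀⟩ := h
  refine ⟨p₀, fun p hp j z => ?_⟩
  have := (hcoh (p + 1)).1
  have hπ : ∀ p, Function.Surjective ((cokernel.π (S.last p)).app (U j)) := fun p => by
    have := (hcoh p).1
    have := (hcoh (p + 1)).1
    have hK : (kernel (cokernel.π (S.last p))).IsQuasicoherent := by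
      have := QC70.isQuasicoherent_cokernel (S.last p)
      exact isQuasicoherent_kernel _
    exact app_surjective_of_isAffineOpen (ShortComplex.mk (kernel.ι (cokernel.π (S.last p))) (cokernel.π (S.last p))
      (kernel.condition _)) { exact := ShortComplex.exact_of_f_is_kernel _ (kernelIsKernel _) } (hU j)
  obtain ⟨z', rfl⟩ := hπ (p + 1) z
  obtain ⟨y, rfl⟩ := hp₀ (p + 1) (by omega) j z'
  refine ⟨fun t => (cokernel.π (S.last p)).app (U j) (y t.castSucc), ?_⟩
  rw [map_sum, Fin.sum_univ_castSucc]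
  have h0 : (cokernel.π (S.last (p + 1))).app (U j) ((S.last (p + 1)).app (U j) (y (Fin.last M))) = 0 :=
    congr((Scheme.Modules.Hom.app $(cokernel.condition (S.last (p + 1))) (U j)) (y (Fin.last M)))
  rw [show (S.T (Fin.last M) (p + 1)) = S.last (p + 1) from rfl, h0, add_zero]
  refine Finset.sum_congr rfl fun t _ => ?_
  exact (congr((Scheme.Modules.Hom.app $(cokernel.π_desc (S.last p)
    (S.T t.castSucc (p + 1) ≫ cokernel.π (S.last (p + 1))) (by
      rw [← Category.assoc, S.comm, Category.assoc, cokernel.condition, comp_zero])) (U j)) (y t.castSucc))).symm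

theorem fg_kerSys [IsLocallyNoetherian X] (hcoh : ∀ p, Coh.IsCoh (S.G p)) {κ : Type*} [Finite κ] {U : κ → X.Opens}
    (hU : ∀ j, IsAffineOpen (U j)) (h : S.FG U) : S.kerSys.FG U := by
  classical
  obtain ⟨p₀, hp₀⟩ := h
  have key : ∀ j, ∃ p₁, ∀ p ≥ p₁, ∀ (z : Γ(S.kerSys.G (p + 1), U j)),
      ∃ y : Fin M → Γ(S.kerSys.G p, U j), z = ∑ t, (S.kerSys.T t p).app (U j) (y t) := fun j => by
    have hnoe : IsNoetherianRing Γ(X, U j) := IsLocallyNoetherian.component_noetherian ⟨U j, hU j⟩
    have hfin : ∀ p, Module.Finite Γ(X, U j) Γ(S.G p, U j) := fun p =>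
      have := (hcoh p).1; have := (hcoh p).2; finite_sections_of_isFiniteType (S.G p) (hU j)
    let T' : Fin (M + 1) → ∀ p, Γ(S.G p, U j) →ₗ[Γ(X, U j)] Γ(S.G (p + 1), U j) := fun t p =>
      { toFun := (S.T t p).app (U j)
        map_add' := map_add _
        map_smul' := fun a x => Scheme.Modules.Hom.app_smul _ a x }
    let K : ∀ p, Submodule Γ(X, U j) Γ(S.G p, U j) := fun p => LinearMap.ker (T' (Fin.last M) p)
    obtain ⟨p₁, hp₁⟩ := exists_fg_of_stable (A := Γ(X, U j)) T'
      (fun a b p x => congr((Scheme.Modules.Hom.app $(S.comm a b p) (U j)) x))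
      ⟨p₀, fun p hp z => hp₀ p hp j z⟩ K
      (fun t p x hx => by
        show (S.T (Fin.last M) (p + 1)).app (U j) ((S.T t p).app (U j) x) = 0
        refine (congr((Scheme.Modules.Hom.app $(S.comm t (Fin.last M) p) (U j)) x)).trans ?_
        show (S.T t (p + 1)).app (U j) ((S.T (Fin.last M) p).app (U j) x) = 0
        rw [show (S.T (Fin.last M) p).app (U j) x = 0 from hx, map_zero])
    refine ⟨p₁, fun p hp z => ?_⟩
    obtain ⟨y, hy⟩ := hp₁ p hp ((kernel.ι (S.last (p + 1))).app (U j) z)
      (congr((Scheme.Modules.Hom.app $(kernel.condition (S.last (p + 1))) (U j)) z))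
    choose y' hy' using fun t => exists_kernel_app_eq (S.last p) (U j) (y t).1 (y t).2
    refine ⟨fun t => y' t.castSucc, app_injective_of_mono (kernel.ι (S.last (p + 1))) (U j) ?_⟩
    refine Eq.trans ?_ (map_sum ((kernel.ι (S.last (p + 1))).app (U j)).hom _ _).symm
    rw [hy, Fin.sum_univ_castSucc]
    have hl : T' (Fin.last M) p (y (Fin.last M)).1 = 0 := (y (Fin.last M)).2
    rw [hl, add_zero]
    refine Finset.sum_congr rfl fun t _ => ?_
    refine Eq.trans ?_ (congr((Scheme.Modules.Hom.app $(kernel.lift_ι (S.last (p + 1))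
      (kernel.ι (S.last p) ≫ S.T t.castSucc p) (by
        rw [Category.assoc, S.comm, kernel.condition_assoc, zero_comp])) (U j)) (y' t.castSucc))).symm
    exact congrArg ((S.T t.castSucc p).app (U j)) (hy' t.castSucc).symm
  choose p₁ hp₁ using key
  cases nonempty_fintype κ
  exact ⟨Finset.univ.sup p₁, fun p hp j z => hp₁ j p ((Finset.le_sup (Finset.mem_univ j)).trans hp) z⟩

end Sys

variable {n : ℕ} {k : Type u} [Field k]

/-- Uniform vanishing of the higher cohomology of the twists of a finitely generated system. -/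
theorem exists_uniform_vanish {κ : Type*} [Finite κ] {U : κ → (CohB1.ProjSpace n k).Opens}
    (hU : ∀ j, IsAffineOpen (U j)) (hcov : ∀ x, ∃ j, x ∈ U j) : ∀ (M : ℕ) (S : Sys (CohB1.ProjSpace n k) M),
    (∀ p, Coh.IsCoh (S.G p)) → S.FG U → ∃ a₀ : ℤ, ∀ a : ℤ, a₀ ≤ a → ∀ (p i : ℕ), 1 ≤ i →
      Subsingleton (Coh.HH (CohB1.ProjSpace n k) (tw n k (S.G p) a) i) := by
  intro M
  induction M with
  | zero =>
    intro S hcoh ⟨p₀, hp₀⟩
    choose J hJ using fun p => exists_vanish (S.G p) (hcoh p)
    refine ⟨((Finset.range (p₀ + 1)).image J).max' ⟨J 0, Finset.mem_image_of_mem _ (by simp)⟩,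
      fun a ha p i hi => ?_⟩
    rcases le_or_gt p p₀ with hp | hp
    · exact hJ p a ((Finset.le_max' _ _ (Finset.mem_image_of_mem _ (Finset.mem_range.2 (by omega)))).trans ha) i hi
    · obtain ⟨q, rfl⟩ : ∃ q, p = q + 1 := ⟨p - 1, by omega⟩
      refine ValVan29.subsingleton_hh_of_isZero (ValVan29.isZero_tensorMod ?_ (isInvertible_twist a)) i
      refine isZero_of_sections (hcoh _).1 U hU hcov fun j z => ?_
      obtain ⟨y, hy⟩ := hp₀ q (by omega) j z
      simpa using hy
  | succ M ih =>
    intro S hcoh hfg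
    have hQ : ∀ p, Coh.IsCoh (cokernel (S.last p)) := fun p => QC70.isCoh_cokernel _ (hcoh p).1 (hcoh (p + 1))
    have hK : ∀ p, Coh.IsCoh (kernel (S.last p)) := fun p => QC70.isCoh_kernel _ (hcoh p) (hcoh (p + 1)).1
    obtain ⟨aQ, haQ⟩ := ih S.cokerSys hQ (S.fg_cokerSys hcoh hU hfg)
    obtain ⟨aK, haK⟩ := ih S.kerSys hK (S.fg_kerSys hcoh hU hfg)
    obtain ⟨J, hJ⟩ := exists_vanish (S.G 0) (hcoh 0)
    refine ⟨max J (max aQ aK), fun a ha p => ?_⟩
    induction p with
    | zero => exact fun i hi => hJ a ((le_max_left _ _).trans ha) i hi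
    | succ p ihp =>
      intro i hi
      let f := S.last p
      have h1 : Subsingleton (Coh.HH (CohB1.ProjSpace n k) (tw n k (Abelian.image f) a) i) := by
        refine sub_tw_X₃ (KData.kernel_shortExact (Abelian.factorThruImage f)) (ihp i hi) ?_
        exact ValVan29.subsingleton_hh_of_iso (EGA73.tensIso (((kernelCompMono (Abelian.factorThruImage f)
          (Abelian.image.ι f)).symm ≪≫ kernelIsoOfEq (Abelian.image.fac f)).symm) (Iso.refl _)) _
          (haK a ((le_max_right _ _).trans' (le_max_right _ _) |>.trans ha) p (i + 1) (by omega))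
      exact sub_tw_X₂ (KData.kernel_shortExact (cokernel.π f)) h1
        (haQ a ((le_max_right _ _).trans' (le_max_left _ _) |>.trans ha) p i hi)

end Groth.Agent.Var76.Reg

end
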